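import Mathlib
import Cfsg.Prelude.Def_Transfer
import Cfsg.Agent.Lib.Helper24.CYCDefs

/-!
Generic tools for helper61's pieces of the lemma server "CYC" (helper24, row S4016).
-/

set_option autoImplicit false
set_option linter.unusedSectionVars false

namespace Cfsg.Agent.Helper61.CYC

open Subgroup Cfsg.Agent.Helper24.CYC

universe u

variable {G : Type u} [Group G] [Finite G] {p : ℕ} [Fact p.Prime]

/-- elements of an `r`-subgroup are `p'`-elements for `r ≠ p` -/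
theorem h61_coprime_of_mem {r : ℕ} [Fact r.Prime] (hrp : r ≠ p) (R : Subgroup G) (hR : IsPGroup r R)
    (y : G) (hy : y ∈ R) : (orderOf y).Coprime p := by
  obtain ⟨k, hk⟩ := (IsPGroup.iff_orderOf.mp hR) ⟨y, hy⟩
  rw [Subgroup.orderOf_mk] at hk
  rw [hk]
  exact Nat.Coprime.pow_left k ((Nat.coprime_primes Fact.out Fact.out).mpr hrp)

/-- an `r`-subgroup has order prime to `p` for `r ≠ p` -/
theorem h61_not_dvd_card {r : ℕ} [Fact r.Prime] (hrp : r ≠ p) (R : Subgroup G) (hR : IsPGroup r R) :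
    ¬ p ∣ Nat.card R := by
  obtain ⟨n, hn⟩ := IsPGroup.iff_card.mp hR
  rw [hn]
  intro h
  have h1 := Nat.Prime.dvd_of_dvd_pow (Fact.out : p.Prime) h
  exact hrp ((Nat.prime_dvd_prime_iff_eq Fact.out Fact.out).mp h1).symm

/-- the cyclic group generated by a `p`-element is a `p`-group -/
theorem h61_zpowers_pgroup (w : G) (k : ℕ) (hw : w ^ p ^ k = 1) : IsPGroup p (zpowers w) := by
  have hdvd : orderOf w ∣ p ^ k := orderOf_dvd_of_pow_eq_one hw
  obtain ⟨j, -, hj⟩ := (Nat.dvd_prime_pow Fact.out).mp hdvd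
  exact IsPGroup.of_card (n := j) (by rw [Nat.card_zpowers, hj])

/-- a `p`-element normalising a Sylow `p`-subgroup lies in it -/
theorem h61_mem_sylow_of_mem_normalizer (P : Sylow p G) (w : G) (hw : w ∈ NP P) (k : ℕ) (hwk : w ^ p ^ k = 1) :
    w ∈ P := by
  have h1 : IsPGroup p (zpowers w) := h61_zpowers_pgroup w k hwk
  have h2 : zpowers w ≤ normalizer ((P : Subgroup G) : Set G) := by
    rw [zpowers_le]; exact hw
  have h3 : IsPGroup p ((P : Subgroup G) ⊔ zpowers w : Subgroup G) := IsPGroup.to_sup_of_normal_left' P.2 h1 h2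
  have h4 := P.is_maximal' h3 le_sup_left
  have h5 : w ∈ (P : Subgroup G) ⊔ zpowers w := (le_sup_right : zpowers w ≤ _) (mem_zpowers w)
  rw [h4] at h5
  exact h5

/-- a `p`-element lies in some Sylow `p`-subgroup -/
theorem h61_exists_sylow_mem (w : G) (k : ℕ) (hwk : w ^ p ^ k = 1) : ∃ P : Sylow p G, w ∈ P := by
  obtain ⟨Q, hQ⟩ := (h61_zpowers_pgroup (p := p) w k hwk).exists_le_sylow
  exact ⟨Q, hQ (mem_zpowers w)⟩

/-- some `p`-power of `y` is a `p'`-element -/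
theorem h61_pow_coprime (y : G) : ∃ k m : ℕ, orderOf y = p ^ k * m ∧ m.Coprime p ∧ (orderOf (y ^ p ^ k)).Coprime p := by
  have ho : orderOf y ≠ 0 := (orderOf_pos y).ne'
  obtain ⟨k, m, hm, hkm⟩ := Nat.exists_eq_pow_mul_and_not_dvd ho p (Fact.out : p.Prime).ne_one
  have hcop : Nat.Coprime m p := ((Nat.Prime.coprime_iff_not_dvd Fact.out).mpr hm).symm
  refine ⟨k, m, hkm, hcop, ?_⟩
  have h1 : orderOf (y ^ p ^ k) ∣ m := by
    apply orderOf_dvd_of_pow_eq_one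
    rw [← pow_mul, ← hkm, pow_orderOf_eq_one]
  exact Nat.Coprime.coprime_dvd_left h1 hcop

/-- if all `p'`-elements of `N` lie in `A` and `N ≰ A`, some `p`-element of `N` is outside `A` -/
theorem h61_exists_pelem (N A : Subgroup G) (hp' : ∀ y ∈ N, (orderOf y).Coprime p → y ∈ A) (y : G) (hyN : y ∈ N)
    (hyA : y ∉ A) : ∃ d ∈ N, d ∉ A ∧ ∃ k : ℕ, d ^ p ^ k = 1 := by
  obtain ⟨k, m, hkm, hcop, hc⟩ := h61_pow_coprime (p := p) y
  have h1 : y ^ p ^ k ∈ A := hp' _ (N.pow_mem hyN _) hc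
  refine ⟨y ^ m, N.pow_mem hyN _, ?_, k, ?_⟩
  · intro h2
    apply hyA
    have hg : Nat.gcd m (p ^ k) = 1 := Nat.Coprime.pow_right k hcop
    have hb := Nat.gcd_eq_gcd_ab m (p ^ k)
    rw [hg] at hb
    have h3 : y = (y ^ m) ^ (Nat.gcdA m (p ^ k)) * (y ^ p ^ k) ^ (Nat.gcdB m (p ^ k)) := by
      rw [← zpow_natCast y m, ← zpow_natCast y (p ^ k), ← zpow_mul, ← zpow_mul, ← zpow_add, ← hb]
      simp
    rw [h3]
    exact A.mul_mem (A.zpow_mem h2 _) (A.zpow_mem h1 _)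
  · rw [← pow_mul, mul_comm, ← hkm, pow_orderOf_eq_one]

/-- if `y ∈ R` normalises `Q ∋ w`, `w` normalises `R` and `Q ⊓ R = ⊥` then `y w = w y`. -/
theorem h61_comm_of_disjoint (Q R : Subgroup G) (hd : Disjoint Q R) (y w : G) (hyR : y ∈ R) (hwQ : w ∈ Q)
    (hy : y ∈ nrm Q) (hw : w ∈ nrm R) : y * w = w * y := by
  have h1 : y * w * y⁻¹ * w⁻¹ ∈ Q := Q.mul_mem ((mem_normalizer_iff.mp hy w).mp hwQ) (Q.inv_mem hwQ)
  have h2 : y * w * y⁻¹ * w⁻¹ ∈ R := by
    have h3 : w * y⁻¹ * w⁻¹ ∈ R := (mem_normalizer_iff.mp hw y⁻¹).mp (R.inv_mem hyR)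
    have h4 := R.mul_mem hyR h3
    have h5 : y * (w * y⁻¹ * w⁻¹) = y * w * y⁻¹ * w⁻¹ := by group
    rwa [h5] at h4
  have h3 : y * w * y⁻¹ * w⁻¹ = 1 := Subgroup.disjoint_def.mp hd h1 h2
  calc y * w = (y * w * y⁻¹ * w⁻¹) * (w * y) := by group
    _ = w * y := by rw [h3, one_mul]

/-- an element of order `p` is a `p`-element and is `≠ 1` -/
theorem h61_of_order_p (u : G) (hu : orderOf u = p) : u ^ p ^ 1 = 1 ∧ u ≠ 1 := by
  refine ⟨by rw [pow_one, ← hu, pow_orderOf_eq_one], ?_⟩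
  intro h
  rw [h, orderOf_one] at hu
  exact (Fact.out : p.Prime).one_lt.ne hu

end Cfsg.Agent.Helper61.CYC
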