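import Mathlib
import Cfsg.Prelude.Def_Transfer
import Cfsg.Agent.Lib.Helper24.CYCDefs
import Cfsg.Agent.Lib.Helper61.CYCTools

/-!
Lemma server "CYC" (helper24, row S4016), piece (E1) `centS_coprime`.
-/

set_option autoImplicit false

namespace Cfsg.Agent.Helper61.CYC

open Subgroup Cfsg.Agent.Helper24.CYC

universe u

variable {G : Type u} [Group G] [Finite G] {p : ℕ} [Fact p.Prime]

/-- (E1) `C_G(S)` is a `p'`-group. -/
theorem centS_coprime (hC : Core p G) (S : Sylow 2 G) (hS : (S : Subgroup G) ≠ ⊥) :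
    ¬ p ∣ Nat.card (ctr (S : Subgroup G)) := by
  intro hdvd
  have hp2 : (2 : ℕ) ≠ p := fun h => hC.c1.podd h.symm
  obtain ⟨u', hu'⟩ := exists_prime_orderOf_dvd_card' p hdvd
  obtain ⟨u, huA, hu⟩ : ∃ u ∈ ctr (S : Subgroup G), orderOf u = p :=
    ⟨(u' : G), u'.2, by rw [Subgroup.orderOf_coe]; exact hu'⟩
  obtain ⟨hup, hu1⟩ := h61_of_order_p u hu
  obtain ⟨P₁, hP₁⟩ := h61_exists_sylow_mem u 1 hup
  have hSc : ∀ s ∈ S, (orderOf s).Coprime p := fun s hs => h61_coprime_of_mem hp2 (S : Subgroup G) S.2 s hs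
  have hsu : ∀ s ∈ S, s * u = u * s := fun s hs => mem_centralizer_iff.mp huA s hs
  have hSCP : ∀ s ∈ S, s ∈ CP P₁ := by
    intro s hs
    have h1 : s ∈ NP P₁ := hC.c1.centp P₁ u hP₁ hu1 (mem_centralizer_singleton_iff.mpr (hsu s hs))
    exact hC.c1.fpf P₁ s u h1 (hSc s hs) hP₁ hu1 (hsu s hs)
  have hkey : ∀ t ∈ S, t ≠ 1 → centralizer {t} = NP P₁ :=
    fun t ht ht1 => hC.key P₁ u t hP₁ hu1 ht1 (hSc t ht) (hsu t ht).symm
  have hburn := hC.c1.burn 2 S hS
  obtain ⟨y, hyN, hyA⟩ := SetLike.not_le_iff_exists.mp hburn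
  have hpc := hC.c1.pcent S (h61_not_dvd_card hp2 (S : Subgroup G) S.2)
  obtain ⟨d, hdN, hdA, k, hdk⟩ :=
    h61_exists_pelem (nrm (S : Subgroup G)) (ctr (S : Subgroup G)) hpc y hyN hyA
  have hdNP : d ∉ NP P₁ := by
    intro h
    have hdP : d ∈ P₁ := h61_mem_sylow_of_mem_normalizer P₁ d h k hdk
    apply hdA
    rw [mem_centralizer_iff]
    intro s hs
    exact (mem_centralizer_iff.mp (hSCP s hs) d hdP).symm
  apply hdNP
  obtain ⟨t, htS⟩ := (Subgroup.ne_bot_iff_exists_ne_one.mp hS)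
  have ht' : d * t * d⁻¹ ∈ S := (mem_normalizer_iff.mp hdN t).mp t.2
  have ht1' : (t : G) ≠ 1 := fun h => htS (Subtype.ext h)
  have ht'1 : d * t * d⁻¹ ≠ 1 := by
    intro h
    apply ht1'
    have h2 : (t : G) = d⁻¹ * (d * t * d⁻¹) * d := by group
    rw [h2, h]; group
  have h1 := hkey t t.2 ht1'
  have h2 := hkey _ ht' ht'1
  have h3 : d ∈ normalizer ((NP P₁ : Subgroup G) : Set G) := by
    rw [mem_normalizer_iff]
    intro n
    have e1 : n ∈ NP P₁ ↔ n * t = t * n := by rw [← h1, mem_centralizer_singleton_iff]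
    have e2 : d * n * d⁻¹ ∈ NP P₁ ↔ (d * n * d⁻¹) * (d * t * d⁻¹) = (d * t * d⁻¹) * (d * n * d⁻¹) := by
      rw [← h2, mem_centralizer_singleton_iff]
    rw [e1, e2]
    constructor
    · intro h
      calc d * n * d⁻¹ * (d * t * d⁻¹) = d * (n * t) * d⁻¹ := by group
        _ = d * (t * n) * d⁻¹ := by rw [h]
        _ = _ := by group
    · intro h
      calc n * t = d⁻¹ * (d * n * d⁻¹ * (d * t * d⁻¹)) * d := by group
        _ = d⁻¹ * ((d * t * d⁻¹) * (d * n * d⁻¹)) * d := by rw [h]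
        _ = t * n := by group
  have h4 : d ∈ normalizer ((normalizer ((P₁ : Subgroup G) : Set G) : Subgroup G) : Set G) := h3
  have h5 : normalizer ((normalizer ((P₁ : Subgroup G) : Set G) : Subgroup G) : Set G) =
      normalizer ((P₁ : Subgroup G) : Set G) := Sylow.normalizer_normalizer P₁
  rw [h5] at h4
  exact h4

end Cfsg.Agent.Helper61.CYC
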