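import Mathlib
import Cfsg.Prelude.Def_Transfer
import Cfsg.Agent.Lib.Helper24.CYCDefs
import Cfsg.Agent.Lib.Helper61.CYCTools

/-!
Lemma server "CYC" (helper24, row S4016), piece (E2) `normS`.
-/

set_option autoImplicit false

namespace Cfsg.Agent.Helper61.CYC

open Subgroup Cfsg.Agent.Helper24.CYC

universe u

variable {G : Type u} [Group G] [Finite G] {p : ℕ} [Fact p.Prime]

/-- generic: `A ≤ N`, `A` normalised by `N`, all `p'`-elements of `N` in `A`, `p ∤ |A|`: a Sylow `p`-subgroup `D` of `N`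
has `|A| |D| = |N|`. -/
theorem e2_generic (N A : Subgroup G) (hAN : A ≤ N) (hnorm : ∀ n ∈ N, ∀ a ∈ A, n * a * n⁻¹ ∈ A)
    (hp' : ∀ y ∈ N, (orderOf y).Coprime p → y ∈ A) (hA : ¬ p ∣ Nat.card A) :
    ∃ D : Subgroup G, D ≤ N ∧ IsPGroup p D ∧ Nat.card A * Nat.card D = Nat.card N := by
  have hnormal : (A.subgroupOf N).Normal := by
    constructor
    intro a ha n
    rw [mem_subgroupOf] at ha ⊢
    exact hnorm n n.2 a ha
  have hq : IsPGroup p (↥N ⧸ A.subgroupOf N) := by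
    intro g
    induction g using QuotientGroup.induction_on with
    | H y =>
      obtain ⟨k, m, -, -, hc⟩ := h61_pow_coprime (p := p) (y : G)
      refine ⟨k, ?_⟩
      rw [← QuotientGroup.mk_pow, QuotientGroup.eq_one_iff, mem_subgroupOf]
      exact hp' _ (N.pow_mem y.2 _) hc
  obtain ⟨n, hn⟩ := IsPGroup.iff_card.mp hq
  have hcardA : Nat.card (A.subgroupOf N) = Nat.card A :=
    Nat.card_congr (Subgroup.subgroupOfEquivOfLe hAN).toEquiv
  have hNcard : Nat.card N = p ^ n * Nat.card A := by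
    rw [Subgroup.card_eq_card_quotient_mul_card_subgroup (A.subgroupOf N), hn, hcardA]
  obtain ⟨D'⟩ : Nonempty (Sylow p ↥N) := inferInstance
  obtain ⟨j, hj⟩ := IsPGroup.iff_card.mp D'.2
  have hcop : Nat.Coprime (p ^ j) (Nat.card A) :=
    Nat.Coprime.pow_left j ((Nat.Prime.coprime_iff_not_dvd Fact.out).mpr hA)
  have h1 : p ^ j ∣ p ^ n := by
    have h2 : p ^ j ∣ Nat.card N := by rw [← hj]; exact Subgroup.card_subgroup_dvd_card _
    rw [hNcard] at h2
    exact hcop.dvd_of_dvd_mul_right h2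
  have h2 : p ^ n ∣ p ^ j := by
    rw [← hj]
    apply D'.pow_dvd_card_of_pow_dvd_card
    rw [hNcard]; exact dvd_mul_right _ _
  have hD' : Nat.card D' = p ^ n := by rw [hj]; exact Nat.dvd_antisymm h1 h2
  refine ⟨(D' : Subgroup N).map N.subtype, Subgroup.map_subtype_le _, IsPGroup.map D'.2 _, ?_⟩
  rw [Subgroup.card_map_of_injective N.subtype_injective, hD', hNcard, mul_comm]

/-- (E2) `N_G(S) = A D`, `D ≠ 1` a `p`-group. -/
theorem normS (hC : Core p G) (S : Sylow 2 G) (hS : (S : Subgroup G) ≠ ⊥) (hA : ¬ p ∣ Nat.card (ctr (S : Subgroup G))) :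
    ∃ D : Subgroup G, D ≤ nrm (S : Subgroup G) ∧ IsPGroup p D ∧ D ≠ ⊥ ∧
      Nat.card (ctr (S : Subgroup G)) * Nat.card D = Nat.card (nrm (S : Subgroup G)) := by
  have hp2 : (2 : ℕ) ≠ p := fun h => hC.c1.podd h.symm
  have hAN : ctr (S : Subgroup G) ≤ nrm (S : Subgroup G) := centralizer_le_normalizer _
  have hpc := hC.c1.pcent (S : Subgroup G) (h61_not_dvd_card hp2 (S : Subgroup G) S.2)
  have hnorm : ∀ n ∈ nrm (S : Subgroup G), ∀ a ∈ ctr (S : Subgroup G), n * a * n⁻¹ ∈ ctr (S : Subgroup G) := by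
    intro n hn a ha
    rw [mem_centralizer_iff] at ha ⊢
    intro s hs
    have h1 : n⁻¹ * s * n⁻¹⁻¹ ∈ (S : Subgroup G) :=
      (mem_normalizer_iff.mp (inv_mem hn) s).mp hs
    have h2 := ha _ h1
    calc s * (n * a * n⁻¹) = n * ((n⁻¹ * s * n⁻¹⁻¹) * a) * n⁻¹ := by group
      _ = n * (a * (n⁻¹ * s * n⁻¹⁻¹)) * n⁻¹ := by rw [h2]
      _ = n * a * n⁻¹ * s := by group
  obtain ⟨D, hDN, hDp, hcard⟩ := e2_generic (nrm (S : Subgroup G)) (ctr (S : Subgroup G)) hAN hnorm hpc hA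
  refine ⟨D, hDN, hDp, ?_, hcard⟩
  rintro rfl
  rw [Subgroup.card_bot, mul_one] at hcard
  have h1 : ctr (S : Subgroup G) = nrm (S : Subgroup G) :=
    Subgroup.eq_of_le_of_card_ge hAN hcard.symm.le
  exact hC.c1.burn 2 S hS h1.symm.le

end Cfsg.Agent.Helper61.CYC
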