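import Mathlib
import Cfsg.Prelude.Def_Transfer
import Cfsg.Agent.Lib.Helper24.CYCDefs
import Cfsg.Agent.Lib.Helper61.CYCTools

/-!
Lemma server "CYC" (helper24, row S4016), piece (E3) `fpf_on_S`.
-/

set_option autoImplicit false

namespace Cfsg.Agent.Helper61.CYC

open Subgroup Cfsg.Agent.Helper24.CYC

universe u

variable {G : Type u} [Group G] [Finite G] {p : ℕ} [Fact p.Prime]

/-- (E3) elements of order `p` of `N_G(S)` act fixed-point-freely on `S`. -/
theorem fpf_on_S (hC : Core p G) (S : Sylow 2 G) (hA : ¬ p ∣ Nat.card (ctr (S : Subgroup G)))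
    (u : G) (hu : orderOf u = p) (huS : u ∈ nrm (S : Subgroup G)) (t : G) (ht : t ∈ S) (htu : t * u = u * t) : t = 1 := by
  by_contra ht1
  have hp2 : (2 : ℕ) ≠ p := fun h => hC.c1.podd h.symm
  obtain ⟨hup, hu1⟩ := h61_of_order_p u hu
  obtain ⟨P', hP'⟩ := h61_exists_sylow_mem u 1 hup
  have htc : (orderOf t).Coprime p := h61_coprime_of_mem hp2 (S : Subgroup G) S.2 t ht
  have hkey := hC.key P' u t hP' hu1 ht1 htc htu.symm
  have hSab := hC.c1.min.ab S (h61_not_dvd_card hp2 (S : Subgroup G) S.2)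
  have hSN : (S : Subgroup G) ≤ NP P' := by
    intro s hs
    rw [← hkey, mem_centralizer_singleton_iff]
    exact hSab s hs t ht
  have hdis : Disjoint (P' : Subgroup G) (S : Subgroup G) :=
    IsPGroup.disjoint_of_ne p 2 hp2.symm _ _ P'.2 S.2
  have huc : u ∈ ctr (S : Subgroup G) := by
    rw [mem_centralizer_iff]
    intro s hs
    exact h61_comm_of_disjoint (P' : Subgroup G) (S : Subgroup G) hdis s u hs hP' (hSN hs) huS
  apply hA
  rw [← hu]
  exact Subgroup.orderOf_dvd_natCard _ huc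

end Cfsg.Agent.Helper61.CYC
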