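import Mathlib
import Cfsg.Prelude.Def_Transfer
import Cfsg.Agent.Lib.Helper24.CYCDefs
import Cfsg.Agent.Lib.Helper61.CYCTools

/-!
Lemma server "CYC" (helper24, row S4016), piece (OB2) `odd_exists_v`.
-/

set_option autoImplicit false

namespace Cfsg.Agent.Helper61.CYC

open Subgroup Cfsg.Agent.Helper24.CYC

universe u

variable {G : Type u} [Group G] [Finite G] {p : ℕ} [Fact p.Prime]

/-- (OB2) an element `v` of order `p` of `N_G(R)` none of whose nontrivial powers normalises `P`. -/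
theorem odd_exists_v (hC : Core p G) (P : Sylow p G) (r : ℕ) (hr : r.Prime) (hrp : r ≠ p) (R : Sylow r G)
    (hRN : (R : Subgroup G) ≤ NP P) (hg : ∃ g ∈ R, g ≠ 1 ∧ g ∈ CP P) (hRC : ¬ (R : Subgroup G) ≤ CP P) :
    ∃ v : G, orderOf v = p ∧ v ∈ nrm (R : Subgroup G) ∧ ∀ i : ℕ, 0 < i → i < p → v ^ i ∉ NP P := by
  have : Fact r.Prime := ⟨hr⟩
  have hRbot : (R : Subgroup G) ≠ ⊥ := by
    obtain ⟨g, hgR, hg1, -⟩ := hg
    intro h
    have h1 : g ∈ (R : Subgroup G) := hgR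
    rw [h, mem_bot] at h1
    exact hg1 h1
  have hpc := hC.c1.pcent (R : Subgroup G) (h61_not_dvd_card hrp (R : Subgroup G) R.2)
  have hburn := hC.c1.burn r R hRbot
  obtain ⟨y, hyN, hyA⟩ := SetLike.not_le_iff_exists.mp hburn
  obtain ⟨d, hdN, hdA, k, hdk⟩ :=
    h61_exists_pelem (nrm (R : Subgroup G)) (ctr (R : Subgroup G)) hpc y hyN hyA
  have hclaim : ∀ w : G, w ∈ nrm (R : Subgroup G) → (∃ k : ℕ, w ^ p ^ k = 1) → w ≠ 1 → w ∉ NP P := by
    rintro w hwR ⟨k, hwk⟩ hw1 hwN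
    have hwP : w ∈ P := h61_mem_sylow_of_mem_normalizer P w hwN k hwk
    have hdis : Disjoint (P : Subgroup G) (R : Subgroup G) :=
      IsPGroup.disjoint_of_ne p r hrp.symm _ _ P.2 R.2
    apply hRC
    intro y hy
    have hyw : y * w = w * y :=
      h61_comm_of_disjoint (P : Subgroup G) (R : Subgroup G) hdis y w hy hwP (hRN hy) hwR
    exact hC.c1.fpf P y w (hRN hy) (h61_coprime_of_mem hrp (R : Subgroup G) R.2 y hy) hwP hw1 hyw
  have hd1 : d ≠ 1 := by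
    rintro rfl
    exact hdA (one_mem _)
  have hdo : orderOf d ∣ p ^ k := orderOf_dvd_of_pow_eq_one hdk
  obtain ⟨j, -, hj⟩ := (Nat.dvd_prime_pow Fact.out).mp hdo
  have hj0 : j ≠ 0 := by
    rintro rfl
    rw [pow_zero, orderOf_eq_one_iff] at hj
    exact hd1 hj
  obtain ⟨j', rfl⟩ := Nat.exists_eq_succ_of_ne_zero hj0
  have hpp : 0 < p := (Fact.out : p.Prime).pos
  have hvo : orderOf (d ^ p ^ j') = p := by
    rw [orderOf_pow_of_dvd (pow_pos hpp j').ne' (by rw [hj]; exact pow_dvd_pow p (Nat.le_succ j')), hj,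
      Nat.succ_eq_add_one, pow_succ, Nat.mul_div_cancel_left _ (pow_pos hpp j')]
  refine ⟨d ^ p ^ j', hvo, pow_mem hdN _, ?_⟩
  intro i hi0 hip
  apply hclaim (((d ^ p ^ j')) ^ i) (pow_mem (pow_mem hdN _) _) ⟨1, ?_⟩ ?_
  · rw [pow_one, ← pow_mul, mul_comm, pow_mul]
    have h1 : (d ^ p ^ j') ^ p = 1 := by
      have h2 := pow_orderOf_eq_one (d ^ p ^ j')
      rwa [hvo] at h2
    rw [h1, one_pow]
  · intro h
    have h1 : orderOf (d ^ p ^ j') ∣ i := orderOf_dvd_of_pow_eq_one h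
    rw [hvo] at h1
    exact absurd (Nat.le_of_dvd hi0 h1) (not_le.mpr hip)

end Cfsg.Agent.Helper61.CYC
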