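import Mathlib
import Cfsg.Agent.Lib.Helper62.SUO0

/-!
# SUO piece (M2) `seed` (helper62 server, S2282); self-contained (the needed parts of A3 / M0 are proved inline)
-/

set_option autoImplicit false
set_option linter.unusedSectionVars false
set_option linter.unusedVariables false
set_option quotPrecheck false

namespace Cfsg.Agent.Helper61.SUO

open Matrix Cfsg Cfsg.Agent.Helper13 Cfsg.Agent.Helper87.PsuA Cfsg.Agent.Helper62.SUO

section M
variable {F : Type*} [Field F] [Fintype F] {q n : ℕ} (hF : Fintype.card F = q ^ 2)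
  {Hs : Subgroup ↥(Cfsg.SU n F q)} {u l : ↥(Cfsg.SU n F q)} {e0 e1 p : Fin n → F} {c γ : F}

local notation "V" => Fin n → F
local notation "G" => ↥(Cfsg.SU n F q)
local notation "H" => Cfsg.hermForm n F q

include hF

/-- the action of a unitary transvection `eich v 0 a` -/
theorem h61_tv_act {v : V} {a : F} (hvv : H v v = 0) (ha : a + a ^ q = 0) (x : V) :
    actv (eich hF v 0 a) x = x + (a * H x v) • v := by
  rw [eich_act hF hvv (H_zero_right hF v) (by rw [H_zero_right hF]; linear_combination ha),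
    H_zero_right hF]
  module

/-- conjugates of transvections in `Hs` with centre in the orbit -/
theorem h61_tv_conj_mem {e0 : V} (h00 : H e0 e0 = 0) {a : F} (ha : a + a ^ q = 0)
    (hmem : eich hF e0 0 a ∈ Hs) {g : G} (hg : g ∈ Hs) : eich hF (actv g e0) 0 a ∈ Hs := by
  have h := eich_conj hF h00 (H_zero_right hF e0)
    (by rw [H_zero_right hF]; linear_combination ha : a + a ^ q + H (0 : V) 0 = 0) g
  rw [actv_zero] at h
  rw [← h]
  exact Hs.mul_mem (Hs.mul_mem hg hmem) (Hs.inv_mem hg)

/-- (M2) -/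
theorem seed (hyp : Hyp hF Hs u l e0 e1 p c γ) {m : F} (hm : m ∈ MM hF Hs e0) :
    m • e1 ∈ QQ hF Hs e0 := by
  obtain ⟨hm1, hmHs⟩ := hm
  have hmq : m ^ q = -m := by linear_combination hm1
  have h00 := hyp.e0e0
  have h01 := hyp.e0e1
  have h10 : H e1 e0 = 0 := H_symm_zero hF h01
  have h11 : H e1 e1 = 0 := by rw [← hyp.le0, H_actv]; exact h00
  have hx1 : H (e1 + e0) (e1 + e0) = 0 := by
    rw [hermForm_add_left, hermForm_add_right hF, hermForm_add_right hF, h11, h10, h01, h00]
    ring
  have hnm : -m + (-m) ^ q = 0 := by rw [frob_neg hF]; linear_combination -hm1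
  -- the two transvections lie in `Hs`
  have hA : eich hF (e1 + e0) 0 m ∈ Hs := by
    have h := h61_tv_conj_mem hF h00 hm1 hmHs (Hs.mul_mem hyp.hu hyp.hl)
    rwa [actv_mul, hyp.le0, hyp.ue1] at h
  have hinv : eich hF e0 0 (-m) ∈ Hs := by
    have h := eich_inv hF h00 (H_zero_right hF e0)
      (by rw [H_zero_right hF]; linear_combination hm1 : m + m ^ q + H (0 : V) 0 = 0)
    rw [neg_zero, hmq] at h
    rw [← h]
    exact Hs.inv_mem hmHs
  have hB : eich hF e1 0 (-m) ∈ Hs := by
    have h := h61_tv_conj_mem hF h00 hnm hinv hyp.hl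
    rwa [hyp.le0] at h
  -- the conditions for `eich e0 (m • e1) m`
  have c2 : H e0 (m • e1) = 0 := by rw [hermForm_smul_right, h01, mul_zero]
  have c3 : m + m ^ q + H (m • e1) (m • e1) = 0 := by
    rw [hermForm_smul_left, hermForm_smul_right, h11]
    linear_combination hm1
  refine ⟨c2, m, c3, ?_⟩
  have key : eich hF (e1 + e0) 0 m * eich hF e1 0 (-m) = eich hF e0 (m • e1) m := by
    apply G_ext
    intro x
    rw [actv_mul, h61_tv_act hF h11 hnm, h61_tv_act hF hx1 hm1, eich_act hF h00 c2 c3]
    simp only [hermForm_add_left, hermForm_smul_left, hermForm_add_right hF, hermForm_smul_right,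
      h11, h10, hmq]
    module
  rw [← key]
  exact Hs.mul_mem hA hB

end M

end Cfsg.Agent.Helper61.SUO
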