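import Mathlib
import Cfsg.Agent.Lib.Helper62.SUO0
import Cfsg.Agent.Lib.Helper61.SUOM2

/-!
# SUO piece (M1) `MM_of_S` (helper62 server, S2282)
-/

set_option autoImplicit false
set_option linter.unusedSectionVars false
set_option linter.unusedVariables false
set_option quotPrecheck false

namespace Cfsg.Agent.Helper61.SUO

open Matrix Cfsg Cfsg.Agent.Helper13 Cfsg.Agent.Helper87.PsuA Cfsg.Agent.Helper62.SUO

section M
variable {F : Type*} [Field F] [Fintype F] {q n : ℕ} (hF : Fintype.card F = q ^ 2)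
  {Hs : Subgroup ↥(Cfsg.SU n F q)} {u l : ↥(Cfsg.SU n F q)} {e0 e1 p : Fin n → F} {c γ : F}

local notation "V" => Fin n → F
local notation "G" => ↥(Cfsg.SU n F q)
local notation "H" => Cfsg.hermForm n F q

include hF

/-- (M1) -/
theorem MM_of_S (hyp : Hyp hF Hs u l e0 e1 p c γ) {a : F} (ha : a • e1 ∈ QQ hF Hs e0) :
    a - a ^ q ∈ MM hF Hs e0 := by
  obtain ⟨hw0, α, hα, hE⟩ := ha
  have h00 := hyp.e0e0
  have h01 := hyp.e0e1
  have h10 : H e1 e0 = 0 := H_symm_zero hF h01
  have h11 : H e1 e1 = 0 := by rw [← hyp.le0, H_actv]; exact h00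
  have hαq : α ^ q = -α := by
    rw [hermForm_smul_left, hermForm_smul_right, h11] at hα
    linear_combination hα
  have hcc : (a - a ^ q) + (a - a ^ q) ^ q = 0 := by
    rw [frob_sub hF, frob_frob hF]
    ring
  refine ⟨hcc, ?_⟩
  -- the conjugate and the inverse
  have c1 : H e0 (a • (e1 + e0)) = 0 := by
    rw [hermForm_smul_right, hermForm_add_right hF, h01, h00]
    ring
  have c2 : α + α ^ q + H (a • (e1 + e0)) (a • (e1 + e0)) = 0 := by
    rw [hermForm_smul_left, hermForm_smul_right, hermForm_add_left, hermForm_add_right hF,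
      hermForm_add_right hF, h11, h10, h01, h00, hαq]
    ring
  have c3 : H e0 (-(a • e1)) = 0 := by
    rw [H_neg_right hF, hw0, neg_zero]
  have c4 : α ^ q + (α ^ q) ^ q + H (-(a • e1)) (-(a • e1)) = 0 := by
    rw [frob_frob hF, H_neg_left hF, H_neg_right hF, hermForm_smul_left, hermForm_smul_right, h11,
      hαq]
    ring
  have hconj : u * eich hF e0 (a • e1) α * u⁻¹ = eich hF e0 (a • (e1 + e0)) α := by
    rw [eich_conj hF h00 hw0 hα, hyp.ue0, actv_smul, hyp.ue1]
  have hinv : (eich hF e0 (a • e1) α)⁻¹ = eich hF e0 (-(a • e1)) (α ^ q) :=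
    eich_inv hF h00 hw0 hα
  have key : eich hF e0 (a • (e1 + e0)) α * eich hF e0 (-(a • e1)) (α ^ q) =
      eich hF e0 0 (a - a ^ q) := by
    apply G_ext
    intro x
    rw [actv_mul, eich_act hF h00 c3 c4, eich_act hF h00 c1 c2, h61_tv_act hF h00 hcc]
    simp only [hermForm_add_left, H_sub_left hF, hermForm_smul_left, hermForm_add_right hF,
      hermForm_smul_right, H_neg_left hF, H_neg_right hF, h11, h10, h01, h00, hαq]
    module
  rw [← key, ← hconj, ← hinv]
  exact Hs.mul_mem (Hs.mul_mem (Hs.mul_mem hyp.hu hE) (Hs.inv_mem hyp.hu)) (Hs.inv_mem hE)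

end M

end Cfsg.Agent.Helper61.SUO
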