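import Mathlib
import Cfsg.Agent.Lib.Helper32.C3Defs

/-!
# C3 project (S4415), piece M0, part a: linear algebra of commuting involutions over `F_3`
and the abstract "monomial basis" packaging lemma.
-/

set_option autoImplicit false
set_option linter.unusedVariables false
set_option linter.unusedSectionVars false

namespace Cfsg.Agent.Helper61.C3

open Cfsg.Agent.Helper32.C3

universe u v

section LA

variable {V : Type v} [AddCommGroup V] [Module (ZMod 3) V]

theorem h61_invol_semisimple (f : Module.End (ZMod 3) V) (hf : f * f = 1) : f.IsSemisimple := by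
  apply Module.End.isSemisimple_of_squarefree_aeval_eq_zero
    (p := (Polynomial.X ^ 2 - Polynomial.C 1 : Polynomial (ZMod 3)))
  · apply Polynomial.Separable.squarefree
    apply Polynomial.separable_X_pow_sub_C
    · decide
    · exact one_ne_zero
  · simp [pow_two, hf]

theorem h61_invol_eigen (f : Module.End (ZMod 3) V) (hf : f * f = 1) (μ : ZMod 3) :
    f.maxGenEigenspace μ = f.eigenspace μ :=
  (h61_invol_semisimple f hf).isFinitelySemisimple.maxGenEigenspace_eq_eigenspace μ

theorem h61_invol_top (f : Module.End (ZMod 3) V) (hf : f * f = 1) :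
    ⨆ μ, f.maxGenEigenspace μ = ⊤ := by
  rw [eq_top_iff]
  intro v _
  have hff : f (f v) = v := by
    have := LinearMap.congr_fun hf v
    simpa using this
  have h1 : v + f v ∈ f.maxGenEigenspace 1 := by
    rw [h61_invol_eigen f hf, Module.End.mem_eigenspace_iff, map_add, one_smul, hff, add_comm]
  have h2 : v - f v ∈ f.maxGenEigenspace (-1) := by
    rw [h61_invol_eigen f hf, Module.End.mem_eigenspace_iff, map_sub, hff, neg_smul, one_smul,
      neg_sub]
  have h3 : v = (2 : ZMod 3) • (v + f v) + (2 : ZMod 3) • (v - f v) := by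
    rw [← smul_add]
    have h4 : v + f v + (v - f v) = (2 : ZMod 3) • v := by
      rw [two_smul]; abel
    rw [h4, smul_smul]
    have h5 : (2 * 2 : ZMod 3) = 1 := by decide
    rw [h5, one_smul]
  rw [h3]
  apply Submodule.add_mem
  · exact Submodule.smul_mem _ _ (Submodule.mem_iSup_of_mem 1 h1)
  · exact Submodule.smul_mem _ _ (Submodule.mem_iSup_of_mem (-1) h2)

end LA

section Pack

variable {G : Type u} [Group G] {V : Type v} [AddCommGroup V] [Module (ZMod 3) V]

theorem h61_basis_unique {ι : Type*} (e : Module.Basis ι (ZMod 3) V) (c c' : (ZMod 3)ˣ)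
    (j j' : ι) (h : ((c : (ZMod 3)ˣ) : ZMod 3) • e j = ((c' : (ZMod 3)ˣ) : ZMod 3) • e j') :
    j = j' := by
  classical
  by_contra hne
  have h1 := congrArg (fun x => e.repr x j) h
  simp only [map_smul, Module.Basis.repr_self, Finsupp.smul_apply, Finsupp.single_eq_same,
    smul_eq_mul, mul_one] at h1
  rw [Finsupp.single_eq_of_ne hne] at h1
  simp at h1

/-- packaging: a basis permuted up to signs gives `IsMono` -/
theorem h61_isMono_of_basis [Finite V] (ρ : Representation (ZMod 3) G V) {ι : Type*} [Fintype ι]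
    (e : Module.Basis ι (ZMod 3) V)
    (hmon : ∀ (g : G) (i : ι), ∃ j : ι, ∃ c : (ZMod 3)ˣ,
      ρ g (e i) = ((c : (ZMod 3)ˣ) : ZMod 3) • e j) :
    IsMono ρ (Module.finrank (ZMod 3) V) := by
  classical
  have hn : Fintype.card ι = Module.finrank (ZMod 3) V :=
    (Module.finrank_eq_card_basis e).symm
  obtain ⟨n, hn'⟩ : ∃ n, n = Module.finrank (ZMod 3) V := ⟨_, rfl⟩
  rw [← hn']
  rw [← hn'] at hn
  let σ : ι ≃ Fin n := Fintype.equivFinOfCardEq hn
  choose j c hjc using hmon
  have hone : ∀ i, j 1 i = i := by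
    intro i
    have h1 := hjc 1 i
    rw [map_one, Module.End.one_apply] at h1
    have h2 : ((1 : (ZMod 3)ˣ) : ZMod 3) • e i = ((c 1 i : (ZMod 3)ˣ) : ZMod 3) • e (j 1 i) := by
      rw [Units.val_one, one_smul]; exact h1
    exact (h61_basis_unique e _ _ _ _ h2).symm
  have hmul : ∀ g h i, j (g * h) i = j g (j h i) := by
    intro g h i
    have h1 := hjc (g * h) i
    rw [map_mul, Module.End.mul_apply, hjc h i, map_smul, hjc g (j h i), smul_smul] at h1
    have h2 : (((c h i * c g (j h i) : (ZMod 3)ˣ)) : ZMod 3) • e (j g (j h i)) =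
        ((c (g * h) i : (ZMod 3)ˣ) : ZMod 3) • e (j (g * h) i) := by
      rw [Units.val_mul]; exact h1
    exact (h61_basis_unique e _ _ _ _ h2).symm
  let F : G →* Function.End ι :=
    { toFun := fun g => j g
      map_one' := funext hone
      map_mul' := fun g h => funext (hmul g h) }
  let π₀ : G →* Equiv.Perm ι := MonoidHom.toHomPerm F
  have hπ₀ : ∀ g i, π₀ g i = j g i := fun g i => rfl
  refine ⟨e.reindex σ, (σ.permCongrHom.toMonoidHom).comp π₀, fun g k => c g (σ.symm k), ?_⟩
  intro g k
  rw [Module.Basis.reindex_apply, hjc g (σ.symm k), Module.Basis.reindex_apply]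
  congr 2
  simp [hπ₀]

end Pack

end Cfsg.Agent.Helper61.C3
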