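import Mathlib
import Cfsg.Agent.Lib.Helper32.C3Defs
import Cfsg.Agent.Lib.Helper61.C3M0a

/-!
# C3 project (S4415), piece M0, part b: weight spaces of a normal elementary abelian 2-subgroup.
-/

set_option autoImplicit false
set_option linter.unusedVariables false
set_option linter.unusedSectionVars false

namespace Cfsg.Agent.Helper61.C3

open Cfsg.Agent.Helper32.C3

universe u v

section Indep

theorem h61_indep3 {R : Type*} {M : Type*} [Ring R] [AddCommGroup M] [Module R M] {ι : Type*}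
    (p : ι → Submodule R M) (hp : iSupIndep p) {i j k : ι} (hij : i ≠ j) (hik : i ≠ k)
    (hjk : j ≠ k) {x y z : M} (hx : x ∈ p i) (hy : y ∈ p j) (hz : z ∈ p k)
    (h : x + y + z = 0) : x = 0 ∧ y = 0 ∧ z = 0 := by
  have hx0 : x = 0 := by
    have h1 : x = -(y + z) := by
      rw [add_assoc] at h
      exact eq_neg_of_add_eq_zero_left h
    have h2 : y + z ∈ ⨆ (l) (_ : l ≠ i), p l := by
      apply Submodule.add_mem
      · exact (le_iSup₂ (f := fun l (_ : l ≠ i) => p l) j hij.symm) hy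
      · exact (le_iSup₂ (f := fun l (_ : l ≠ i) => p l) k hik.symm) hz
    have h3 : x ∈ ⨆ (l) (_ : l ≠ i), p l := by
      rw [h1]; exact Submodule.neg_mem _ h2
    exact (Submodule.disjoint_def.mp (hp i)) x hx h3
  subst hx0
  rw [zero_add] at h
  have hy0 : y = 0 := by
    have h1 : y = -z := eq_neg_of_add_eq_zero_left h
    have h2 : y ∈ p k := by rw [h1]; exact Submodule.neg_mem _ hz
    exact (Submodule.disjoint_def.mp (hp.pairwiseDisjoint hjk)) y hy h2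
  subst hy0
  rw [zero_add] at h
  exact ⟨rfl, rfl, h⟩

end Indep

section W

variable {G : Type u} [Group G] {V : Type v} [AddCommGroup V] [Module (ZMod 3) V]
  (ρ : Representation (ZMod 3) G V) (A : Subgroup G)

/-- the simultaneous eigenspace of `A` of weight `χ` -/
def wsp (χ : ↥A → ZMod 3) : Submodule (ZMod 3) V where
  carrier := {v | ∀ a : ↥A, ρ (a : G) v = χ a • v}
  add_mem' := by
    intro x y hx hy a
    rw [map_add, hx a, hy a, smul_add]
  zero_mem' := by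
    intro a
    rw [map_zero, smul_zero]
  smul_mem' := by
    intro c x hx a
    rw [map_smul, hx a, smul_comm]

theorem mem_wsp (χ : ↥A → ZMod 3) (v : V) :
    v ∈ wsp ρ A χ ↔ ∀ a : ↥A, ρ (a : G) v = χ a • v := Iff.rfl

theorem wsp_eq_iInf (hsq : ∀ a ∈ A, a * a = 1) (χ : ↥A → ZMod 3) :
    wsp ρ A χ = ⨅ a : ↥A, Module.End.maxGenEigenspace (ρ (a : G)) (χ a) := by
  have hinv : ∀ a : ↥A, ρ (a : G) * ρ (a : G) = 1 := by
    intro a
    rw [← map_mul, hsq a a.2, map_one]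
  ext v
  rw [Submodule.mem_iInf, mem_wsp]
  constructor
  · intro h a
    rw [h61_invol_eigen _ (hinv a), Module.End.mem_eigenspace_iff]
    exact h a
  · intro h a
    have := h a
    rw [h61_invol_eigen _ (hinv a), Module.End.mem_eigenspace_iff] at this
    exact this

/-- the action of `G` on weights -/
def tw [hA : A.Normal] (g : G) (χ : ↥A → ZMod 3) : ↥A → ZMod 3 :=
  fun a => χ ⟨g⁻¹ * a * g, by
    have := hA.conj_mem a.1 a.2 g⁻¹
    rwa [inv_inv] at this⟩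

theorem tw_one [hA : A.Normal] (χ : ↥A → ZMod 3) : tw A 1 χ = χ := by
  funext a
  show χ ⟨_, _⟩ = χ a
  congr 1
  apply Subtype.ext
  simp

theorem tw_mul [hA : A.Normal] (g h : G) (χ : ↥A → ZMod 3) :
    tw A (g * h) χ = tw A g (tw A h χ) := by
  funext a
  show χ ⟨_, _⟩ = χ ⟨_, _⟩
  congr 1
  apply Subtype.ext
  show (g * h)⁻¹ * (a : G) * (g * h) = h⁻¹ * (g⁻¹ * (a : G) * g) * h
  group

theorem tw_inv_tw [hA : A.Normal] (g : G) (χ : ↥A → ZMod 3) :
    tw A g⁻¹ (tw A g χ) = χ := by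
  rw [← tw_mul, inv_mul_cancel, tw_one]

theorem tw_tw_inv [hA : A.Normal] (g : G) (χ : ↥A → ZMod 3) :
    tw A g (tw A g⁻¹ χ) = χ := by
  rw [← tw_mul, mul_inv_cancel, tw_one]

theorem rho_inv_rho (g : G) (v : V) : ρ g⁻¹ (ρ g v) = v := by
  rw [← Module.End.mul_apply, ← map_mul, inv_mul_cancel, map_one, Module.End.one_apply]

theorem rho_rho_inv (g : G) (v : V) : ρ g (ρ g⁻¹ v) = v := by
  rw [← Module.End.mul_apply, ← map_mul, mul_inv_cancel, map_one, Module.End.one_apply]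

theorem map_mem_wsp [hA : A.Normal] (g : G) (χ : ↥A → ZMod 3) {v : V} (hv : v ∈ wsp ρ A χ) :
    ρ g v ∈ wsp ρ A (tw A g χ) := by
  intro a
  have hmem : g⁻¹ * (a : G) * g ∈ A := by
    have := hA.conj_mem a.1 a.2 g⁻¹
    rwa [inv_inv] at this
  have h1 : (a : G) * g = g * (g⁻¹ * (a : G) * g) := by group
  have h2 := hv ⟨g⁻¹ * (a : G) * g, hmem⟩
  calc ρ (a : G) (ρ g v) = ρ ((a : G) * g) v := by rw [map_mul]; rfl
    _ = ρ (g * (g⁻¹ * (a : G) * g)) v := by rw [← h1]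
    _ = ρ g (ρ (g⁻¹ * (a : G) * g) v) := by rw [map_mul]; rfl
    _ = ρ g (χ ⟨g⁻¹ * (a : G) * g, hmem⟩ • v) := by rw [h2]
    _ = tw A g χ a • ρ g v := by rw [map_smul]; rfl

theorem wsp_tw_ne_bot [hA : A.Normal] (g : G) (χ : ↥A → ZMod 3) (h : wsp ρ A χ ≠ ⊥) :
    wsp ρ A (tw A g χ) ≠ ⊥ := by
  obtain ⟨v, hv, hv0⟩ := (Submodule.ne_bot_iff _).mp h
  apply (Submodule.ne_bot_iff _).mpr
  refine ⟨ρ g v, map_mem_wsp ρ A g χ hv, ?_⟩
  intro h0
  apply hv0
  rw [← rho_inv_rho ρ g v, h0, map_zero]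

/-- `wsp χ` is a line -/
def IsLn (χ : ↥A → ZMod 3) : Prop :=
  ∃ v ∈ wsp ρ A χ, v ≠ 0 ∧ ∀ w ∈ wsp ρ A χ, ∃ c : ZMod 3, w = c • v

theorem isLn_tw [hA : A.Normal] (g : G) (χ : ↥A → ZMod 3) (h : IsLn ρ A χ) :
    IsLn ρ A (tw A g χ) := by
  obtain ⟨v, hv, hv0, hgen⟩ := h
  refine ⟨ρ g v, map_mem_wsp ρ A g χ hv, ?_, ?_⟩
  · intro h0
    apply hv0
    rw [← rho_inv_rho ρ g v, h0, map_zero]
  · intro w hw
    have h1 : ρ g⁻¹ w ∈ wsp ρ A χ := by
      have := map_mem_wsp ρ A g⁻¹ _ hw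
      rwa [tw_inv_tw] at this
    obtain ⟨c, hc⟩ := hgen _ h1
    refine ⟨c, ?_⟩
    rw [← map_smul, ← hc, rho_rho_inv]

end W

end Cfsg.Agent.Helper61.C3
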