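import Mathlib
import Cfsg.Agent.Lib.Helper32.C3Defs
import Cfsg.Agent.Lib.Helper61.C3M0a
import Cfsg.Agent.Lib.Helper61.C3M0b

/-!
# C3 project (S4415), piece M0 `mono_of_caseM`.
-/

set_option autoImplicit false
set_option linter.unusedVariables false
set_option linter.unusedSectionVars false
set_option linter.style.haveILetI false

namespace Cfsg.Agent.Helper61.C3

open Cfsg.Agent.Helper32.C3

universe u v

section Main

variable {G : Type u} [Group G] [Finite G] {V : Type v} [AddCommGroup V]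
    [Module (ZMod 3) V] [Finite V]

/-- a weight space moved by `b` is a line (rank of `b - 1` is `2`) -/
theorem h61_line_of_moved (ρ : Representation (ZMod 3) G V) (A : Subgroup G) [hA : A.Normal]
    (hindep : iSupIndep (fun χ : ↥A → ZMod 3 => wsp ρ A χ)) (b : G) (hb3 : b ^ 3 = 1)
    (hcub : Cubic ρ b) (χ : ↥A → ZMod 3) (hne : wsp ρ A χ ≠ ⊥) (hmv : tw A b χ ≠ χ) :
    IsLn ρ A χ := by
  have h01 : χ ≠ tw A b χ := fun h => hmv h.symm
  have h12 : tw A b χ ≠ tw A b (tw A b χ) := by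
    intro h
    apply hmv
    have := congrArg (tw A b⁻¹) h
    rw [tw_inv_tw, tw_inv_tw] at this
    exact this.symm
  have h02 : χ ≠ tw A b (tw A b χ) := by
    intro h
    apply hmv
    have h1 := congrArg (tw A b) h
    rw [← tw_mul, ← tw_mul] at h1
    have h2 : b * b * b = 1 := by rw [← hb3, pow_succ, pow_two]
    rw [h2, tw_one] at h1
    exact h1
  -- the injective map
  let Φ₀ : (↥(wsp ρ A χ) × ↥(wsp ρ A χ)) →ₗ[ZMod 3] V :=
    (dl ρ b).comp (LinearMap.coprod (wsp ρ A χ).subtype ((ρ b).comp (wsp ρ A χ).subtype))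
  let Φ : (↥(wsp ρ A χ) × ↥(wsp ρ A χ)) →ₗ[ZMod 3] ↥(LinearMap.range (dl ρ b)) :=
    Φ₀.codRestrict (LinearMap.range (dl ρ b)) (fun x => LinearMap.mem_range_self _ _)
  have hΦinj : Function.Injective Φ := by
    rw [injective_iff_map_eq_zero]
    rintro ⟨⟨v, hv⟩, ⟨w, hw⟩⟩ h0
    have h1 : Φ₀ (⟨v, hv⟩, ⟨w, hw⟩) = 0 := by
      have := congrArg Subtype.val h0
      simpa [Φ] using this
    have h2 : (-v) + (ρ b v - ρ b w) + ρ b (ρ b w) = 0 := by
      have h3 : Φ₀ (⟨v, hv⟩, ⟨w, hw⟩) = ρ b (v + ρ b w) - (v + ρ b w) := by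
        simp [Φ₀, dl_apply]
      rw [h3, map_add] at h1
      rw [← h1]; abel
    have h4 := h61_indep3 (fun χ : ↥A → ZMod 3 => wsp ρ A χ) hindep h01 h02 h12
      (Submodule.neg_mem _ hv)
      (Submodule.sub_mem _ (map_mem_wsp ρ A b χ hv) (map_mem_wsp ρ A b χ hw))
      (map_mem_wsp ρ A b _ (map_mem_wsp ρ A b χ hw)) h2
    obtain ⟨h5, -, h6⟩ := h4
    have hv0 : v = 0 := neg_eq_zero.mp h5
    have hw0 : w = 0 := by
      rw [← rho_inv_rho ρ b w, ← rho_inv_rho ρ b (ρ b w), h6, map_zero, map_zero]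
    subst hv0; subst hw0
    rfl
  have hfr : Module.finrank (ZMod 3) ↥(wsp ρ A χ) ≤ 1 := by
    have h1 := LinearMap.finrank_le_finrank_of_injective hΦinj
    rw [Module.finrank_prod, hcub.1] at h1
    omega
  obtain ⟨v₀, hv₀⟩ := finrank_le_one_iff.mp hfr
  refine ⟨v₀.1, v₀.2, ?_, ?_⟩
  · intro h0
    apply hne
    rw [Submodule.eq_bot_iff]
    intro w hw
    obtain ⟨c, hc⟩ := hv₀ ⟨w, hw⟩
    have := congrArg Subtype.val hc
    simp only [Submodule.coe_smul, h0, smul_zero] at this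
    exact this.symm
  · intro w hw
    obtain ⟨c, hc⟩ := hv₀ ⟨w, hw⟩
    refine ⟨c, ?_⟩
    have := congrArg Subtype.val hc
    simp only [Submodule.coe_smul] at this
    exact this.symm

/-- **M0.** Case (M) gives a monomial structure. -/
theorem mono_of_caseM {G : Type u} [Group G] [Finite G] {V : Type v} [AddCommGroup V]
    [Module (ZMod 3) V] [Finite V] (ρ : Representation (ZMod 3) G V) (R Q : Subgroup G) (b : G)
    (h : Cfg ρ R Q b) (hM : CaseM ρ R) : IsMono ρ (Module.finrank (ZMod 3) V) := by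
  classical
  obtain ⟨A, hAn, hAR, hsq, a0, ha0, ha1, ha2⟩ := hM
  haveI := hAn
  have hinv : ∀ a : ↥A, ρ (a : G) * ρ (a : G) = 1 := by
    intro a
    rw [← map_mul, hsq a a.2, map_one]
  have hcomm : ∀ a a' : ↥A, Commute (ρ (a : G)) (ρ (a' : G)) := by
    intro a a'
    have h1 := hsq ((a : G) * a') (A.mul_mem a.2 a'.2)
    have ha : (a : G)⁻¹ = a := inv_eq_of_mul_eq_one_right (hsq a a.2)
    have ha' : (a' : G)⁻¹ = a' := inv_eq_of_mul_eq_one_right (hsq a' a'.2)
    have hab : ((a : G) * a')⁻¹ = a * a' := inv_eq_of_mul_eq_one_right h1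
    rw [mul_inv_rev, ha, ha'] at hab
    show ρ (a : G) * ρ (a' : G) = ρ (a' : G) * ρ (a : G)
    rw [← map_mul, ← map_mul, hab]
  let f : ↥A → Module.End (ZMod 3) V := fun a => ρ (a : G)
  have hW : ∀ χ : ↥A → ZMod 3, wsp ρ A χ = ⨅ a : ↥A, (f a).maxGenEigenspace (χ a) :=
    fun χ => wsp_eq_iInf ρ A hsq χ
  have hindep : iSupIndep (fun χ : ↥A → ZMod 3 => wsp ρ A χ) := by
    have h1 := Module.End.independent_iInf_maxGenEigenspace_of_forall_mapsTo f
      (fun i j φ => Module.End.mapsTo_maxGenEigenspace_of_comm (hcomm j i) φ)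
    have h2 : (fun χ : ↥A → ZMod 3 => wsp ρ A χ) =
        fun χ : ↥A → ZMod 3 => ⨅ a : ↥A, (f a).maxGenEigenspace (χ a) := funext hW
    rw [h2]
    exact h1
  have htop : ⨆ χ : ↥A → ZMod 3, wsp ρ A χ = ⊤ := by
    have h1 := Module.End.iSup_iInf_maxGenEigenspace_eq_top_of_iSup_maxGenEigenspace_eq_top_of_commute
      f (fun i j _ => hcomm i j) (fun a => h61_invol_top _ (hinv a))
    have h2 : (fun χ : ↥A → ZMod 3 => wsp ρ A χ) =
        fun χ : ↥A → ZMod 3 => ⨅ a : ↥A, (f a).maxGenEigenspace (χ a) := funext hW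
    rw [h2]
    exact h1
  -- (iii) `b` moves some nonzero weight space
  have hmoved : ∃ χ : ↥A → ZMod 3, wsp ρ A χ ≠ ⊥ ∧ tw A b χ ≠ χ := by
    by_contra hcon
    push Not at hcon
    let N : Subgroup G :=
      { carrier := {g | ∀ χ : ↥A → ZMod 3, wsp ρ A χ ≠ ⊥ → tw A g χ = χ}
        one_mem' := fun χ _ => tw_one A χ
        mul_mem' := by
          intro x y hx hy χ hχ
          rw [tw_mul, hy χ hχ, hx χ hχ]
        inv_mem' := by
          intro x hx χ hχ
          have := tw_inv_tw A x χ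
          rw [hx χ hχ] at this
          exact this }
    have hNn : N.Normal := by
      constructor
      intro n hn g χ hχ
      rw [tw_mul, tw_mul, hn _ (wsp_tw_ne_bot ρ A g⁻¹ χ hχ), tw_tw_inv]
    have hbN : b ∈ N := fun χ hχ => hcon χ hχ
    have hRN : R ≤ N := by
      have h1 : ⁅R, Subgroup.zpowers b⁆ ≤ ⁅R, N⁆ :=
        Subgroup.commutator_mono le_rfl ((Subgroup.zpowers_le).mpr hbN)
      have h2 : ⁅R, N⁆ ≤ N := Subgroup.commutator_le_right R N
      rw [h.comm] at h1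
      exact le_trans h1 h2
    have hN : ∀ g : G, g ∈ N := by
      intro g
      obtain ⟨r, hr, i, rfl⟩ := h.RB g
      exact N.mul_mem (hRN hr) (N.pow_mem hbN i)
    have hInv : ∀ χ : ↥A → ZMod 3, Inv ρ ⊤ (wsp ρ A χ) := by
      intro χ g _ v hv
      by_cases hχ : wsp ρ A χ = ⊥
      · rw [hχ] at hv ⊢
        rw [(Submodule.mem_bot _).mp hv, map_zero]
        exact Submodule.zero_mem _
      · have := map_mem_wsp ρ A g χ hv
        rwa [hN g χ hχ] at this
    obtain ⟨v, hv⟩ : ∃ v : V, ρ a0 v ≠ v := by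
      by_contra hcon2
      push Not at hcon2
      apply ha1
      apply LinearMap.ext
      intro v
      rw [hcon2 v, Module.End.one_apply]
    obtain ⟨χ, hχ⟩ : ∃ χ : ↥A → ZMod 3, wsp ρ A χ ≠ ⊥ := by
      by_contra hcon2
      push Not at hcon2
      have h1 : (⨆ χ : ↥A → ZMod 3, wsp ρ A χ) = ⊥ := by
        rw [iSup_eq_bot]; exact hcon2
      rw [htop] at h1
      have h2 : ∀ w : V, w = 0 := by
        intro w
        have : w ∈ (⊤ : Submodule (ZMod 3) V) := Submodule.mem_top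
        rw [h1] at this
        exact (Submodule.mem_bot _).mp this
      apply hv
      rw [h2 v, map_zero]
    have hχtop : wsp ρ A χ = ⊤ := (h.irred _ (hInv χ)).resolve_left hχ
    have hact : ∀ w : V, ρ a0 w = χ ⟨a0, ha0⟩ • w := by
      intro w
      have : w ∈ wsp ρ A χ := by rw [hχtop]; exact Submodule.mem_top
      exact this ⟨a0, ha0⟩
    have h3 : ∀ x : ZMod 3, x = 0 ∨ x = 1 ∨ x = -1 := by decide
    rcases h3 (χ ⟨a0, ha0⟩) with h4 | h4 | h4
    · apply hv
      have h5 : ∀ w : V, w = 0 := by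
        intro w
        have h6 := rho_inv_rho ρ a0 w
        rw [hact w, h4, zero_smul, map_zero] at h6
        exact h6.symm
      rw [h5 v, map_zero]
    · apply ha1
      apply LinearMap.ext
      intro w
      rw [hact w, h4, one_smul, Module.End.one_apply]
    · apply ha2
      apply LinearMap.ext
      intro w
      rw [hact w, h4, neg_smul, one_smul]
      rfl
  obtain ⟨χ₀, hχ₀, hmv⟩ := hmoved
  have hline₀ : IsLn ρ A χ₀ := h61_line_of_moved ρ A hindep b h.b3 h.cubic χ₀ hχ₀ hmv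
  -- (v) all nonzero weight spaces are lines
  have hline : ∀ μ : ↥A → ZMod 3, wsp ρ A μ ≠ ⊥ → IsLn ρ A μ := by
    intro μ hμ
    by_contra hnl
    let L : Submodule (ZMod 3) V := ⨆ χ : {χ : ↥A → ZMod 3 // IsLn ρ A χ}, wsp ρ A χ.1
    have hLinv : Inv ρ ⊤ L := by
      intro g _ v hv
      refine Submodule.iSup_induction (fun χ : {χ : ↥A → ZMod 3 // IsLn ρ A χ} => wsp ρ A χ.1)
        (motive := fun v => ρ g v ∈ L) hv ?_ ?_ ?_
      · intro χ w hw
        have h1 := map_mem_wsp ρ A g χ.1 hw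
        exact (le_iSup (fun χ : {χ : ↥A → ZMod 3 // IsLn ρ A χ} => wsp ρ A χ.1)
          ⟨tw A g χ.1, isLn_tw ρ A g χ.1 χ.2⟩) h1
      · rw [map_zero]; exact Submodule.zero_mem _
      · intro x y hx hy
        rw [map_add]; exact Submodule.add_mem _ hx hy
    have hLne : L ≠ ⊥ := by
      intro h0
      apply hχ₀
      rw [eq_bot_iff, ← h0]
      exact le_iSup (fun χ : {χ : ↥A → ZMod 3 // IsLn ρ A χ} => wsp ρ A χ.1) ⟨χ₀, hline₀⟩
    have hLtop : L = ⊤ := (h.irred _ hLinv).resolve_left hLne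
    have hLle : L ≤ ⨆ (j) (_ : j ≠ μ), wsp ρ A j := by
      apply iSup_le
      intro χ
      have hne : χ.1 ≠ μ := by
        intro h0
        apply hnl
        rw [← h0]; exact χ.2
      exact le_iSup₂ (f := fun j (_ : j ≠ μ) => wsp ρ A j) χ.1 hne
    have hdis := hindep μ
    rw [hLtop] at hLle
    have h1 : (⨆ (j) (_ : j ≠ μ), wsp ρ A j) = ⊤ := top_le_iff.mp hLle
    rw [h1] at hdis
    exact hμ (disjoint_top.mp hdis)
  -- (vi) the basis
  let ι := {χ : ↥A → ZMod 3 // wsp ρ A χ ≠ ⊥}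
  haveI : Fintype ι := Fintype.ofFinite ι
  choose e he hene hegen using (fun i : ι => hline i.1 i.2)
  have hli : LinearIndependent (ZMod 3) e :=
    iSupIndep.linearIndependent (fun i : ι => wsp ρ A i.1)
      (hindep.comp Subtype.val_injective) he hene
  have hsp : ⊤ ≤ Submodule.span (ZMod 3) (Set.range e) := by
    rw [← htop]
    apply iSup_le
    intro χ
    by_cases hχ : wsp ρ A χ = ⊥
    · rw [hχ]; exact bot_le
    · intro w hw
      obtain ⟨c, rfl⟩ := hegen ⟨χ, hχ⟩ w hw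
      exact Submodule.smul_mem _ _ (Submodule.subset_span ⟨⟨χ, hχ⟩, rfl⟩)
  let B : Module.Basis ι (ZMod 3) V := Module.Basis.mk hli hsp
  have hB : ∀ i, B i = e i := fun i => Module.Basis.mk_apply hli hsp i
  apply h61_isMono_of_basis ρ B
  intro g i
  have h1 : ρ g (e i) ∈ wsp ρ A (tw A g i.1) := map_mem_wsp ρ A g i.1 (he i)
  have h2 : wsp ρ A (tw A g i.1) ≠ ⊥ := wsp_tw_ne_bot ρ A g i.1 i.2
  obtain ⟨c, hc⟩ := hegen ⟨tw A g i.1, h2⟩ _ h1
  have hc0 : c ≠ 0 := by
    intro h0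
    apply hene i
    rw [← rho_inv_rho ρ g (e i), hc, h0, zero_smul, map_zero]
  refine ⟨⟨tw A g i.1, h2⟩, Units.mk0 c hc0, ?_⟩
  rw [hB, hB, hc]
  rfl

end Main

end Cfsg.Agent.Helper61.C3
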