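import Mathlib
import Cfsg.Agent.S1017

/-!
# O4320 project (S0977), piece B2a `b2_setup`.
-/

set_option autoImplicit false
set_option linter.unusedVariables false
set_option linter.unusedSectionVars false
set_option linter.style.haveILetI false

namespace Cfsg.Agent.Helper61.O4320

open Cfsg MulAction

universe u

section GT2

variable {G : Type u} [Group G] [Finite G] [IsSimpleGroup G]

/-- (B2a) `|N(R)| = 20`, `C(R) = R = zpowers y`; all `y^k` are conjugate to `y`, and an involution
`t` of `N(R)` inverts `y`. -/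
theorem b2_setup (hG : Nat.card G = 4320) (h216 : Nat.card (Sylow 5 G) = 216) (R : Sylow 5 G)
    (hC : Nat.card (Subgroup.centralizer ((R : Subgroup G) : Set G)) = 5) :
    ∃ y t : G, orderOf y = 5 ∧ Nat.card (Subgroup.centralizer ({y} : Set G)) = 5 ∧
      (∀ k : ℕ, 0 < k → k < 5 → IsConj y (y ^ k)) ∧ orderOf t = 2 ∧ t * y * t⁻¹ = y⁻¹ := by
  classical
  haveI : Fact (Nat.Prime 5) := ⟨by norm_num⟩
  haveI : Fact (Nat.Prime 2) := ⟨by norm_num⟩
  have hR5 : Nat.card (R : Subgroup G) = 5 := by
    have := Cfsg.Agent.S1017.sylow_card_eq R 1 864 (by rw [hG]; norm_num) (by norm_num)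
    simpa using this
  have hN20 : Nat.card (Subgroup.normalizer ((R : Subgroup G) : Set G)) = 20 := by
    have := Cfsg.Agent.S1017.card_sylow_mul_card_normalizer R
    rw [h216, hG] at this
    omega
  -- a generator of `R`
  have hRne : (R : Subgroup G) ≠ ⊥ := by
    rw [← Subgroup.one_lt_card_iff_ne_bot, hR5]; norm_num
  obtain ⟨⟨y, hyR⟩, hy1'⟩ := (Subgroup.ne_bot_iff_exists_ne_one).mp hRne
  have hy1 : y ≠ 1 := fun h => hy1' (Subtype.ext h)
  obtain ⟨hzp, hy5⟩ := Cfsg.Agent.S1017.zpowers_eq_of_card_prime (R : Subgroup G) hR5 y hyR hy1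
  have hy5' : y ^ 5 = 1 := by rw [← hy5]; exact pow_orderOf_eq_one y
  -- `C({y}) = C(R)`
  have hCy : Subgroup.centralizer ({y} : Set G) =
      Subgroup.centralizer ((R : Subgroup G) : Set G) := by
    ext g
    rw [Subgroup.mem_centralizer_iff, Subgroup.mem_centralizer_iff]
    constructor
    · intro h x hx
      have hx' : x ∈ Subgroup.zpowers y := by rw [hzp]; exact hx
      obtain ⟨k, rfl⟩ := Subgroup.mem_zpowers_iff.mp hx'
      have h1 : Commute y g := h y rfl
      exact (h1.zpow_left k).eq
    · intro h x hx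
      rw [Set.mem_singleton_iff] at hx
      subst hx
      exact h x hyR
  have hCN : Subgroup.centralizer ((R : Subgroup G) : Set G) ≤
      Subgroup.normalizer ((R : Subgroup G) : Set G) := Subgroup.centralizer_le_normalizer _
  -- the map `N(R) → Aut R` is onto
  let φ := (R : Subgroup G).normalizerMonoidHom
  have hcyc : IsCyclic ↥(R : Subgroup G) := isCyclic_of_prime_card hR5
  have hAut : Nat.card (MulAut ↥(R : Subgroup G)) = 4 := by
    rw [hcyc.card_mulAut, hR5]; decide
  haveI : Finite (MulAut ↥(R : Subgroup G)) := Nat.finite_of_card_ne_zero (by rw [hAut]; norm_num)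
  have hker : Nat.card φ.ker = 5 := by
    rw [Subgroup.normalizerMonoidHom_ker]
    exact (Nat.card_congr (Subgroup.subgroupOfEquivOfLe hCN).toEquiv).trans hC
  have hrange : Nat.card φ.range = 4 := by
    have h1 := Subgroup.card_mul_index φ.ker
    rw [Subgroup.index_ker, hker, hN20] at h1
    omega
  have hsurj : Function.Surjective φ := by
    rw [← MonoidHom.range_eq_top]
    apply Subgroup.eq_top_of_card_eq
    rw [hrange, hAut]
  have hcommR : ∀ a b : ↥(R : Subgroup G), a * b = b * a := by
    intro a b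
    letI := hcyc.commGroup
    exact mul_comm a b
  refine ⟨y, ?_⟩
  -- conjugacy of the powers
  have hconj : ∀ k : ℕ, 0 < k → k < 5 → IsConj y (y ^ k) := by
    intro k hk0 hk5
    let pk : ↥(R : Subgroup G) →* ↥(R : Subgroup G) :=
      { toFun := fun x => x ^ k
        map_one' := one_pow k
        map_mul' := fun a b => (show Commute a b from hcommR a b).mul_pow k }
    have hinj : Function.Injective pk := by
      rw [injective_iff_map_eq_one]
      intro a ha
      have h1 : a ^ k = 1 := ha
      have h2 : a ^ 5 = 1 := by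
        have := pow_card_eq_one' (G := ↥(R : Subgroup G)) (x := a)
        rwa [hR5] at this
      have h3 : orderOf a ∣ k := orderOf_dvd_of_pow_eq_one h1
      have h4 : orderOf a ∣ 5 := orderOf_dvd_of_pow_eq_one h2
      have h5 : orderOf a ∣ Nat.gcd k 5 := Nat.dvd_gcd h3 h4
      have h6 : Nat.gcd k 5 = 1 := by
        interval_cases k <;> decide
      rw [h6, Nat.dvd_one, orderOf_eq_one_iff] at h5
      exact h5
    haveI : Finite ↥(R : Subgroup G) := inferInstance
    let σ : MulAut ↥(R : Subgroup G) :=
      MulEquiv.ofBijective pk ⟨hinj, Finite.surjective_of_injective hinj⟩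
    obtain ⟨n, hn⟩ := hsurj σ
    rw [isConj_iff]
    refine ⟨(n : G), ?_⟩
    have h1 : ((φ n ⟨y, hyR⟩ : ↥(R : Subgroup G)) : G) = (n : G) * y * (n : G)⁻¹ := rfl
    rw [← h1, hn]
    rfl
  -- the involution
  obtain ⟨t, ht2⟩ := exists_prime_orderOf_dvd_card' (G := ↥(Subgroup.normalizer ((R : Subgroup G) : Set G)))
    2 (by rw [hN20]; norm_num)
  have ht2' : orderOf (t : G) = 2 := by
    rw [← ht2]; exact (Subgroup.orderOf_coe t)
  have htt : (t : G) * (t : G) = 1 := by
    have := pow_orderOf_eq_one (t : G)
    rwa [ht2', pow_two] at this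
  have htinv : (t : G)⁻¹ = (t : G) := inv_eq_of_mul_eq_one_right htt
  have htC : (t : G) ∉ Subgroup.centralizer ((R : Subgroup G) : Set G) := by
    intro hmem
    have h1 := orderOf_dvd_natCard
      (⟨(t : G), hmem⟩ : ↥(Subgroup.centralizer ((R : Subgroup G) : Set G)))
    rw [hC, Subgroup.orderOf_mk, ht2'] at h1
    omega
  have htyR : (t : G) * y * (t : G)⁻¹ ∈ (R : Subgroup G) := by
    have := (Subgroup.mem_normalizer_iff.mp t.2 y).mp hyR
    exact this
  have htyp : (t : G) * y * (t : G)⁻¹ ∈ Submonoid.powers y := by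
    rw [mem_powers_iff_mem_zpowers, hzp]; exact htyR
  rw [mem_powers_iff_mem_range_orderOf, hy5] at htyp
  obtain ⟨j, hj5, hj⟩ := Finset.mem_image.mp htyp
  rw [Finset.mem_range] at hj5
  have hj' : (t : G) * y * (t : G)⁻¹ = y ^ j := hj.symm
  -- conjugating twice
  have hjj : y = y ^ (j * j) := by
    have h1 : (t : G) * (y ^ j) * (t : G)⁻¹ = ((t : G) * y * (t : G)⁻¹) ^ j := by
      rw [conj_pow]
    rw [hj', ← pow_mul] at h1
    have h2 : (t : G) * ((t : G) * y * (t : G)⁻¹) * (t : G)⁻¹ = y := by
      rw [htinv]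
      calc (t : G) * ((t : G) * y * (t : G)) * (t : G)
          = ((t : G) * (t : G)) * y * ((t : G) * (t : G)) := by group
        _ = y := by rw [htt, one_mul, mul_one]
    rw [hj'] at h2
    rw [← h1]; exact h2.symm
  have hdiv : 5 ∣ j * j - 1 ∨ j = 0 := by
    by_cases hj0 : j = 0
    · right; exact hj0
    · left
      have h1 : y ^ (j * j - 1) = 1 := by
        have hpos : 1 ≤ j * j := Nat.one_le_iff_ne_zero.mpr (Nat.mul_ne_zero hj0 hj0)
        have h2 : y ^ (j * j - 1) * y = y := by
          rw [← pow_succ, Nat.sub_add_cancel hpos]; exact hjj.symm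
        exact mul_eq_right.mp h2
      rw [← hy5]; exact orderOf_dvd_of_pow_eq_one h1
  refine ⟨(t : G), hy5, ?_, hconj, ht2', ?_⟩
  · rw [hCy]; exact hC
  · interval_cases j
    · exfalso
      rw [pow_zero] at hj'
      apply hy1
      have : y = (t : G)⁻¹ * 1 * (t : G) := by rw [← hj']; group
      rw [this]; group
    · exfalso
      apply htC
      rw [← hCy, Subgroup.mem_centralizer_iff]
      intro x hx
      rw [Set.mem_singleton_iff] at hx
      subst hx
      rw [pow_one] at hj'
      have : (t : G) * x = x * (t : G) := by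
        calc (t : G) * x = ((t : G) * x * (t : G)⁻¹) * (t : G) := by group
          _ = x * (t : G) := by rw [hj']
      exact this.symm
    · exfalso
      rcases hdiv with h | h
      · omega
      · omega
    · exfalso
      rcases hdiv with h | h
      · omega
      · omega
    · rw [hj']
      apply eq_inv_of_mul_eq_one_left
      rw [← pow_succ]; exact hy5'

end GT2

end Cfsg.Agent.Helper61.O4320
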