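import Mathlib
import Cfsg.Agent.Lib.Helper52.FCDefs

/-!
# FC project (S3816), piece R2-FIN, part a: element identities.
-/

set_option autoImplicit false
set_option linter.unusedVariables false
set_option linter.unusedSectionVars false

namespace Cfsg.Agent.Helper61.FC

open Subgroup Cfsg.Agent.Helper52.FC
open scoped commutatorElement

universe u

variable {G : Type u} [Group G]

theorem h61_zz_comm_H {a : G} {H : Subgroup G} {z : G} (hz : z ∈ ZZ a H) {h : G} (hh : h ∈ H) :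
    h * z = z * h := by
  have h1 : z ∈ Subgroup.centralizer (H : Set G) := hz.2
  exact (Subgroup.mem_centralizer_iff.mp h1) h hh

theorem h61_zz_comm_a {a : G} {H : Subgroup G} {z : G} (hz : z ∈ ZZ a H) : a * z = z * a := by
  have h1 : z ∈ Fix a := hz.1.2
  exact (Subgroup.mem_centralizer_iff.mp h1) a rfl

theorem h61_zz_mem_H {a : G} {H : Subgroup G} {z : G} (hz : z ∈ ZZ a H) : z ∈ H := hz.1.1

theorem h61_zz_conj_pow {a : G} {H : Subgroup G} {z : G} (hz : z ∈ ZZ a H) (i : ℕ) :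
    a ^ i * z * (a ^ i)⁻¹ = z := by
  have h1 : Commute a z := h61_zz_comm_a hz
  have h2 : Commute (a ^ i) z := h1.pow_left i
  rw [h2.eq, mul_inv_cancel_right]

/-- `[n n', y] = [n, y] [n', y]` when `[n', y]` is central -/
theorem h61_comm_mul_left {a : G} {H : Subgroup G} {n n' y : G} (hn : n ∈ H) (hy : y ∈ H)
    (hz' : n' * y * n'⁻¹ * y⁻¹ ∈ ZZ a H) :
    (n * n') * y * (n * n')⁻¹ * y⁻¹ = (n * y * n⁻¹ * y⁻¹) * (n' * y * n'⁻¹ * y⁻¹) := by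
  obtain ⟨z, hz⟩ : ∃ z, z = n' * y * n'⁻¹ * y⁻¹ := ⟨_, rfl⟩
  rw [← hz] at hz' ⊢
  have h1 : n * z = z * n := h61_zz_comm_H hz' hn
  have h2 : (n * y * n⁻¹ * y⁻¹) * z = z * (n * y * n⁻¹ * y⁻¹) :=
    h61_zz_comm_H hz' (H.mul_mem (H.mul_mem (H.mul_mem hn hy) (H.inv_mem hn)) (H.inv_mem hy))
  have h3 : (n * n') * y * (n * n')⁻¹ * y⁻¹ = n * z * (y * n⁻¹ * y⁻¹) := by
    rw [hz]; group
  rw [h3, h1, h2]
  group

/-- `[n, y y'] = [n, y] [n, y']` when `[n, y']` is central -/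
theorem h61_comm_mul_right {a : G} {H : Subgroup G} {n y y' : G} (hy : y ∈ H)
    (hz' : n * y' * n⁻¹ * y'⁻¹ ∈ ZZ a H) :
    n * (y * y') * n⁻¹ * (y * y')⁻¹ = (n * y * n⁻¹ * y⁻¹) * (n * y' * n⁻¹ * y'⁻¹) := by
  obtain ⟨z, hz⟩ : ∃ z, z = n * y' * n⁻¹ * y'⁻¹ := ⟨_, rfl⟩
  rw [← hz] at hz' ⊢
  have h1 : y * z = z * y := h61_zz_comm_H hz' hy
  have h3 : n * (y * y') * n⁻¹ * (y * y')⁻¹ = (n * y * n⁻¹ * y⁻¹) * (y * z * y⁻¹) := by
    rw [hz]; group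
  rw [h3, h1, mul_inv_cancel_right]

end Cfsg.Agent.Helper61.FC
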