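import Mathlib
import Cfsg.Agent.Lib.Helper52.FCDefs
import Cfsg.Agent.Lib.Helper61.FCR2FINa

/-!
# FC project (S3816), piece R2-FIN, part b: generic lemmas (trace argument, multiplicative form
of (ALG) with (ALG) itself as a hypothesis).
-/

set_option autoImplicit false
set_option linter.unusedVariables false
set_option linter.unusedSectionVars false
set_option linter.style.haveILetI false

namespace Cfsg.Agent.Helper61.FC

open Subgroup Cfsg.Agent.Helper52.FC
open scoped commutatorElement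

universe u

/-- the statement of (ALG) in universe `u` -/
def AlgHyp : Prop :=
  ∀ {U W Z : Type u} [AddCommGroup U] [AddCommGroup W] [AddCommGroup Z] [Finite W] (p : ℕ)
    (hp : p.Prime) (hp2 : p ≠ 2)
    (α : AddMonoid.End U) (β : AddMonoid.End W) (hβ : β ^ p = 1) (hfix : ∀ w : W, β w = w → w = 0)
    (B : U →+ W →+ Z) (hinv : ∀ u w, B (α u) (β w) = B u w)
    (hsym : ∀ (i j : ℕ) u w, B ((α ^ i) u - u) ((β ^ j) w - w) = B ((α ^ j) u - u) ((β ^ i) w - w)),
    ∀ u w, B u w = 0

/-- fixed-point-freeness from `β ^ p = 1`, the trace and coprimality (multiplicative form) -/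
theorem h61_fix_trivial_mul {W : Type*} [CommGroup W] [Finite W] (p : ℕ)
    (hcop : (Nat.card W).Coprime p) (β : W →* W) (hβ : ∀ w, (⇑β)^[p] w = w)
    (S : Set W) (hS : Subgroup.closure S = ⊤)
    (hgen : ∀ s ∈ S, ∃ (i : ℕ) (w : W), s = (⇑β)^[i] w / w) :
    ∀ w : W, β w = w → w = 1 := by
  classical
  obtain ⟨T, hT⟩ : ∃ T : W → W, T = fun w => ∏ i ∈ Finset.range p, (⇑β)^[i] w := ⟨_, rfl⟩
  have hT_mul : ∀ x y, T (x * y) = T x * T y := by
    intro x y
    simp only [hT]
    rw [← Finset.prod_mul_distrib]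
    exact Finset.prod_congr rfl fun i _ => iterate_map_mul β i x y
  have hT_inv : ∀ x, T x⁻¹ = (T x)⁻¹ := by
    intro x
    simp only [hT]
    rw [← Finset.prod_inv_distrib]
    exact Finset.prod_congr rfl fun i _ => iterate_map_inv β i x
  have hT_one : T 1 = 1 := by
    simp only [hT]
    exact Finset.prod_eq_one fun i _ => iterate_map_one β i
  have hT_β : ∀ w, T (β w) = T w := by
    intro w
    simp only [hT]
    have h1 := Finset.prod_range_succ' (fun i => (⇑β)^[i] w) p
    have h2 := Finset.prod_range_succ (fun i => (⇑β)^[i] w) p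
    rw [h1] at h2
    simp only [Function.iterate_zero, id_eq, hβ w] at h2
    have h3 := mul_right_cancel h2
    rw [← h3]
    exact Finset.prod_congr rfl fun i _ => (Function.iterate_succ_apply (⇑β) i w).symm
  have hT_pow : ∀ (i : ℕ) w, T ((⇑β)^[i] w) = T w := by
    intro i
    induction i with
    | zero => intro w; rfl
    | succ k ih => intro w; rw [Function.iterate_succ_apply', hT_β, ih]
  have hT_S : ∀ s ∈ S, T s = 1 := by
    intro s hs
    obtain ⟨i, w, rfl⟩ := hgen s hs
    rw [div_eq_mul_inv, hT_mul, hT_inv, hT_pow, mul_inv_cancel]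
  have hT_all : ∀ x, T x = 1 := by
    intro x
    have hx : x ∈ Subgroup.closure S := by rw [hS]; exact Subgroup.mem_top x
    induction hx using Subgroup.closure_induction with
    | mem x hx => exact hT_S x hx
    | one => exact hT_one
    | mul x y _ _ hx hy => rw [hT_mul, hx, hy, one_mul]
    | inv x _ hx => rw [hT_inv, hx, inv_one]
  intro w hw
  have h1 : T w = w ^ p := by
    simp only [hT]
    rw [Finset.prod_congr rfl fun i _ => Function.iterate_fixed hw i, Finset.prod_const,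
      Finset.card_range]
  have h2 : w ^ p = 1 := by rw [← h1]; exact hT_all w
  have h3 : orderOf w ∣ p := orderOf_dvd_of_pow_eq_one h2
  have h4 : orderOf w ∣ Nat.card W := orderOf_dvd_natCard w
  have h5 : orderOf w ∣ Nat.gcd (Nat.card W) p := Nat.dvd_gcd h4 h3
  rw [Nat.Coprime.gcd_eq_one hcop] at h5
  exact orderOf_eq_one_iff.mp (Nat.dvd_one.mp h5)

/-- (ALG) in multiplicative form -/
theorem h61_alg_mul (hALG : AlgHyp.{u}) {U W Z : Type u} [CommGroup U] [CommGroup W] [CommGroup Z]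
    [Finite W] (p : ℕ) (hp : p.Prime) (hp2 : p ≠ 2) (α : U →* U) (β : W →* W)
    (hβ : ∀ w, (⇑β)^[p] w = w) (hfix : ∀ w, β w = w → w = 1)
    (B : U → W → Z) (hB1 : ∀ u u' w, B (u * u') w = B u w * B u' w)
    (hB2 : ∀ u w w', B u (w * w') = B u w * B u w')
    (hinv : ∀ u w, B (α u) (β w) = B u w)
    (hsym : ∀ (i j : ℕ) u w, B ((⇑α)^[i] u / u) ((⇑β)^[j] w / w)
      = B ((⇑α)^[j] u / u) ((⇑β)^[i] w / w)) :
    ∀ u w, B u w = 1 := by
  obtain ⟨α', hα'⟩ : ∃ α' : AddMonoid.End (Additive U), α' = MonoidHom.toAdditive α := ⟨_, rfl⟩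
  obtain ⟨β', hβ'⟩ : ∃ β' : AddMonoid.End (Additive W), β' = MonoidHom.toAdditive β := ⟨_, rfl⟩
  have hαpow : ∀ (i : ℕ) (x : Additive U),
      (α' ^ i) x = Additive.ofMul ((⇑α)^[i] (Additive.toMul x)) := by
    intro i
    induction i with
    | zero => intro x; rfl
    | succ k ih =>
      intro x
      rw [pow_succ', AddMonoid.End.coe_mul, Function.comp_apply, ih, Function.iterate_succ_apply',
        hα']
      rfl
  have hβpow : ∀ (i : ℕ) (x : Additive W),
      (β' ^ i) x = Additive.ofMul ((⇑β)^[i] (Additive.toMul x)) := by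
    intro i
    induction i with
    | zero => intro x; rfl
    | succ k ih =>
      intro x
      rw [pow_succ', AddMonoid.End.coe_mul, Function.comp_apply, ih, Function.iterate_succ_apply',
        hβ']
      rfl
  obtain ⟨B', hB'⟩ : ∃ B' : Additive U →+ Additive W →+ Additive Z,
      ∀ x y, B' x y = Additive.ofMul (B (Additive.toMul x) (Additive.toMul y)) :=
    ⟨AddMonoidHom.mk' (fun x => AddMonoidHom.mk'
        (fun y => Additive.ofMul (B (Additive.toMul x) (Additive.toMul y)))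
        (fun y y' => hB2 _ _ _)) (fun x x' => AddMonoidHom.ext fun y => hB1 _ _ _),
      fun x y => rfl⟩
  haveI : Finite (Additive W) := (inferInstance : Finite W)
  have key := @hALG (Additive U) (Additive W) (Additive Z) _ _ _ _ p hp hp2 α' β' ?_ ?_ B' ?_ ?_
  · intro x y
    have := key (Additive.ofMul x) (Additive.ofMul y)
    rw [hB'] at this
    exact this
  · ext x
    rw [hβpow]
    exact hβ _
  · intro x hx
    rw [hβ'] at hx
    exact hfix _ hx
  · intro x y
    rw [hB', hB', hα', hβ']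
    exact hinv _ _
  · intro i j x y
    rw [hB', hB', hαpow, hαpow, hβpow, hβpow]
    exact hsym i j _ _

variable {G : Type u} [Group G]

theorem h61_inv_pow {a : G} {X : Subgroup G} (hX : Inv a X) (i : ℕ) {x : G} (hx : x ∈ X) :
    a ^ i * x * (a ^ i)⁻¹ ∈ X := by
  induction i with
  | zero => simpa using hx
  | succ k ih =>
    have := hX _ ih
    have h2 : a ^ (k + 1) * x * (a ^ (k + 1))⁻¹ = a * (a ^ k * x * (a ^ k)⁻¹) * a⁻¹ := by
      rw [pow_succ']; group
    rw [h2]; exact this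

theorem h61_inv_inv {a : G} {X : Subgroup G} (hX : Inv a X) {p : ℕ} (hp : 0 < p)
    (hap : a ^ p = 1) : Inv a⁻¹ X := by
  intro x hx
  have h1 : a ^ (p - 1) = a⁻¹ := by
    apply eq_inv_of_mul_eq_one_left
    rw [← pow_succ, Nat.sub_add_cancel hp, hap]
  have := h61_inv_pow hX (p - 1) hx
  rw [h1] at this
  exact this

/-- the key identity: `[a⁻¹ n a, y] = [n, a y a⁻¹]` if the latter is central and fixed by `a` -/
theorem h61_key_conj {a : G} {H : Subgroup G} {n y : G}
    (hz : n * (a * y * a⁻¹) * n⁻¹ * (a * y * a⁻¹)⁻¹ ∈ ZZ a H) :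
    (a⁻¹ * n * a⁻¹⁻¹) * y * (a⁻¹ * n * a⁻¹⁻¹)⁻¹ * y⁻¹
      = n * (a * y * a⁻¹) * n⁻¹ * (a * y * a⁻¹)⁻¹ := by
  obtain ⟨z, hzz⟩ : ∃ z, z = n * (a * y * a⁻¹) * n⁻¹ * (a * y * a⁻¹)⁻¹ := ⟨_, rfl⟩
  have h2 : (a⁻¹ * n * a⁻¹⁻¹) * y * (a⁻¹ * n * a⁻¹⁻¹)⁻¹ * y⁻¹ = a⁻¹ * z * a := by
    rw [hzz]; group
  rw [← hzz] at hz ⊢
  have h1 : a * z = z * a := h61_zz_comm_a hz
  rw [h2, mul_assoc, ← h1, inv_mul_cancel_left]

end Cfsg.Agent.Helper61.FC
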