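import Mathlib
import Cfsg.Agent.Lib.Helper52.FCDefs
import Cfsg.Agent.Lib.Helper61.FCR2FINa
import Cfsg.Agent.Lib.Helper61.FCR2FINb

/-!
# FC project (S3816), piece R2-FIN, part c: the concrete pairing `N × L/C_L(N) → ZZ a H`
and the core of (R2-FIN), with (ALG) as a hypothesis.
-/

set_option autoImplicit false
set_option linter.unusedVariables false
set_option linter.unusedSectionVars false
set_option linter.style.haveILetI false

namespace Cfsg.Agent.Helper61.FC

open Subgroup Cfsg.Agent.Helper52.FC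
open scoped commutatorElement IsMulCommutative

universe u

variable {G : Type u} [Group G]

/-- conjugation by `b` on a `b`-invariant subgroup -/
def h61Conj (b : G) (X : Subgroup G) (hX : Inv b X) : ↥X →* ↥X :=
  MonoidHom.mk' (fun x => ⟨b * x * b⁻¹, hX x x.2⟩)
    (fun x y => Subtype.ext (by
      show b * ((x : G) * (y : G)) * b⁻¹ = (b * (x : G) * b⁻¹) * (b * (y : G) * b⁻¹)
      group))

theorem h61Conj_coe (b : G) (X : Subgroup G) (hX : Inv b X) (x : ↥X) :
    ((h61Conj b X hX x : ↥X) : G) = b * x * b⁻¹ := rfl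

theorem h61Conj_iter_coe (b : G) (X : Subgroup G) (hX : Inv b X) (i : ℕ) (x : ↥X) :
    (((⇑(h61Conj b X hX))^[i] x : ↥X) : G) = b ^ i * x * (b ^ i)⁻¹ := by
  induction i with
  | zero => simp
  | succ k ih =>
    rw [Function.iterate_succ_apply', h61Conj_coe, ih, pow_succ']
    group

/-- the data of (R2-FIN) -/
structure R2Data (a : G) (H N L : Subgroup G) : Prop where
  hNH : N ≤ H
  hLH : L ≤ H
  hNa : Inv a N
  hNai : Inv a⁻¹ N
  hLa : Inv a L
  hc : ∀ n ∈ N, ∀ y ∈ L, n * y * n⁻¹ * y⁻¹ ∈ ZZ a H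

section core

variable {a : G} {H N L : Subgroup G}

/-- `n ↦ [n, y]` -/
def h61Theta0 (D : R2Data a H N L) (y : ↥L) : ↥N →* ↥(ZZ a H) :=
  MonoidHom.mk' (fun n => ⟨n * y * (n : G)⁻¹ * (y : G)⁻¹, D.hc n n.2 y y.2⟩)
    (fun n n' => Subtype.ext
      (h61_comm_mul_left (D.hNH n.2) (D.hLH y.2) (D.hc n' n'.2 y y.2)))

theorem h61Theta0_coe (D : R2Data a H N L) (y : ↥L) (n : ↥N) :
    ((h61Theta0 D y n : ↥(ZZ a H)) : G) = n * y * (n : G)⁻¹ * (y : G)⁻¹ := rfl

variable [hZc : IsMulCommutative ↥(ZZ a H)]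

/-- `y ↦ (n ↦ [n, y])` -/
def h61Theta (D : R2Data a H N L) : ↥L →* (↥N →* ↥(ZZ a H)) :=
  MonoidHom.mk' (h61Theta0 D)
    (fun y y' => MonoidHom.ext fun n => Subtype.ext
      (h61_comm_mul_right (D.hLH y.2) (D.hc n n.2 y' y'.2)))

theorem h61Theta_coe (D : R2Data a H N L) (y : ↥L) (n : ↥N) :
    ((h61Theta D y n : ↥(ZZ a H)) : G) = n * y * (n : G)⁻¹ * (y : G)⁻¹ := rfl

/-- precomposition with conjugation by `a⁻¹` -/
def h61Phi (D : R2Data a H N L) : (↥N →* ↥(ZZ a H)) →* (↥N →* ↥(ZZ a H)) :=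
  MonoidHom.compHom' (h61Conj a⁻¹ N D.hNai)

theorem h61Phi_apply (D : R2Data a H N L) (w : ↥N →* ↥(ZZ a H)) (n : ↥N) :
    h61Phi D w n = w (h61Conj a⁻¹ N D.hNai n) := rfl

theorem h61Phi_theta (D : R2Data a H N L) (y : ↥L) :
    h61Phi D (h61Theta D y) = h61Theta D (h61Conj a L D.hLa y) := by
  ext n
  rw [h61Phi_apply, h61Theta_coe, h61Theta_coe, h61Conj_coe, h61Conj_coe]
  exact h61_key_conj (D.hc n n.2 _ (D.hLa y y.2))

/-- the action on the range of `θ` -/
def h61Beta (D : R2Data a H N L) : ↥(h61Theta D).range →* ↥(h61Theta D).range :=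
  ((h61Phi D).comp (h61Theta D).range.subtype).codRestrict (h61Theta D).range (fun w => by
    obtain ⟨y, hy⟩ := w.2
    show h61Phi D (w : ↥N →* ↥(ZZ a H)) ∈ (h61Theta D).range
    rw [← hy, h61Phi_theta]
    exact ⟨_, rfl⟩)

theorem h61Beta_coe (D : R2Data a H N L) (w : ↥(h61Theta D).range) :
    ((h61Beta D w : ↥(h61Theta D).range) : ↥N →* ↥(ZZ a H)) = h61Phi D w := rfl

theorem h61Beta_rr (D : R2Data a H N L) (y : ↥L) :
    h61Beta D ((h61Theta D).rangeRestrict y) = (h61Theta D).rangeRestrict (h61Conj a L D.hLa y) := by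
  apply Subtype.ext
  rw [h61Beta_coe]
  exact h61Phi_theta D y

theorem h61Beta_iter_rr (D : R2Data a H N L) (j : ℕ) (y : ↥L) :
    (⇑(h61Beta D))^[j] ((h61Theta D).rangeRestrict y)
      = (h61Theta D).rangeRestrict ((⇑(h61Conj a L D.hLa))^[j] y) := by
  induction j with
  | zero => rfl
  | succ k ih =>
    rw [Function.iterate_succ_apply', Function.iterate_succ_apply', ih, h61Beta_rr]

end core

end Cfsg.Agent.Helper61.FC
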