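import Mathlib
import Cfsg.Agent.Lib.Helper52.FCDefs
import Cfsg.Agent.Lib.Helper61.FCR2FINa
import Cfsg.Agent.Lib.Helper61.FCR2FINb
import Cfsg.Agent.Lib.Helper61.FCR2FINc

/-!
# FC project (S3816), piece R2-FIN, part d: the core of (R2-FIN), with (ALG) as a hypothesis.
-/

set_option autoImplicit false
set_option linter.unusedVariables false
set_option linter.unusedSectionVars false
set_option linter.style.haveILetI false

namespace Cfsg.Agent.Helper61.FC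

open Subgroup Cfsg.Agent.Helper52.FC
open scoped commutatorElement IsMulCommutative

universe u

variable {G : Type u} [Group G]

theorem h61_r2_final_core (hALG : AlgHyp.{u}) [Finite G] {p : ℕ} (hp : p.Prime) (hp2 : p ≠ 2)
    {a : G} {H : Subgroup G} (hyp : Hyp p a H)
    (N : Subgroup G) (hNH : N ≤ H) (hNa : Inv a N) (hNab : Ab N)
    (L : Subgroup G) (hLH : L ≤ H) (hLa : Inv a L) (hLc : comm a L = L)
    (hc : ∀ n ∈ N, ∀ y ∈ L, n * y * n⁻¹ * y⁻¹ ∈ ZZ a H)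
    (hid : ∀ n ∈ N, ∀ l ∈ L, ∀ i j : ℕ,
      ⁅n⁻¹ * (a ^ i * n * (a ^ i)⁻¹), l⁻¹ * (a ^ j * l * (a ^ j)⁻¹)⁆ =
      ⁅n⁻¹ * (a ^ j * n * (a ^ j)⁻¹), l⁻¹ * (a ^ i * l * (a ^ i)⁻¹)⁆) :
    ∀ n ∈ N, ∀ y ∈ L, n * y = y * n := by
  classical
  haveI hNc : IsMulCommutative ↥N := ⟨⟨fun x y => Subtype.ext (hNab x x.2 y y.2)⟩⟩
  haveI hZc : IsMulCommutative ↥(ZZ a H) :=
    ⟨⟨fun x y => Subtype.ext (h61_zz_comm_H y.2 (h61_zz_mem_H x.2))⟩⟩
  have D : R2Data a H N L := ⟨hNH, hLH, hNa, h61_inv_inv hNa hp.pos hyp.pow, hLa, hc⟩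
  haveI : Finite ↥(h61Theta D).range :=
    Finite.of_surjective _ (h61Theta D).rangeRestrict_surjective
  have hsurj := (h61Theta D).rangeRestrict_surjective
  -- `β ^ p = 1`
  have hβ : ∀ w : ↥(h61Theta D).range, (⇑(h61Beta D))^[p] w = w := by
    intro w
    obtain ⟨y, rfl⟩ := hsurj w
    rw [h61Beta_iter_rr]
    congr 1
    apply Subtype.ext
    rw [h61Conj_iter_coe, hyp.pow]
    simp
  -- coprimality
  have hcop : (Nat.card ↥(h61Theta D).range).Coprime p := by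
    have h1 : Nat.card ↥(h61Theta D).range ∣ Nat.card ↥L := Subgroup.card_range_dvd (h61Theta D)
    have h2 : Nat.card ↥L ∣ Nat.card ↥H := Subgroup.card_dvd_of_le hLH
    exact Nat.Coprime.coprime_dvd_left (h1.trans h2) hyp.cop
  -- generation
  obtain ⟨S, hSdef⟩ : ∃ S : Set ↥(h61Theta D).range,
      S = {s | ∃ (i : ℕ) (w : ↥(h61Theta D).range), s = (⇑(h61Beta D))^[i] w / w} := ⟨_, rfl⟩
  have hS : Subgroup.closure S = ⊤ := by
    rw [eq_top_iff]
    intro w _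
    obtain ⟨y, rfl⟩ := hsurj w
    have hle : comm a L ≤
        ((Subgroup.closure S).comap (h61Theta D).rangeRestrict).map L.subtype := by
      unfold Cfsg.Agent.Helper52.FC.comm
      rw [Subgroup.closure_le]
      rintro c ⟨h, hh, i, rfl⟩
      refine ⟨(⟨h, hh⟩ : ↥L)⁻¹ * (⇑(h61Conj a L D.hLa))^[i] ⟨h, hh⟩, ?_, ?_⟩
      · show (h61Theta D).rangeRestrict _ ∈ Subgroup.closure S
        apply Subgroup.subset_closure
        rw [hSdef]
        refine ⟨i, (h61Theta D).rangeRestrict ⟨h, hh⟩, ?_⟩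
        rw [map_mul, map_inv, h61Beta_iter_rr, div_eq_mul_inv, mul_comm]
      · show (((⟨h, hh⟩ : ↥L)⁻¹ * (⇑(h61Conj a L D.hLa))^[i] ⟨h, hh⟩ : ↥L) : G) = _
        rw [Subgroup.coe_mul, Subgroup.coe_inv, h61Conj_iter_coe]
    have hy : (y : G) ∈ comm a L := by rw [hLc]; exact y.2
    obtain ⟨k, hk, hky⟩ := hle hy
    have hky' : k = y := Subtype.ext hky
    rw [← hky']
    exact hk
  have hfix : ∀ w : ↥(h61Theta D).range, h61Beta D w = w → w = 1 :=
    h61_fix_trivial_mul p hcop (h61Beta D) hβ S hS (fun s hs => by rw [hSdef] at hs; exact hs)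
  -- the pairing
  obtain ⟨B, hB⟩ : ∃ B : ↥N → ↥(h61Theta D).range → ↥(ZZ a H),
      ∀ n w, B n w = (w : ↥N →* ↥(ZZ a H)) n := ⟨fun n w => w.1 n, fun _ _ => rfl⟩
  have hB1 : ∀ u u' w, B (u * u') w = B u w * B u' w := by
    intro u u' w
    rw [hB, hB, hB, map_mul]
  have hB2 : ∀ u w w', B u (w * w') = B u w * B u w' := by
    intro u w w'
    rw [hB, hB, hB]
    rfl
  have hinv : ∀ u w, B (h61Conj a N D.hNa u) (h61Beta D w) = B u w := by
    intro u w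
    rw [hB, hB, h61Beta_coe, h61Phi_apply]
    congr 1
    apply Subtype.ext
    rw [h61Conj_coe, h61Conj_coe]
    group
  have hF : ∀ (i j : ℕ) (u : ↥N) (y : ↥L),
      ((B ((⇑(h61Conj a N D.hNa))^[i] u / u)
        ((⇑(h61Beta D))^[j] ((h61Theta D).rangeRestrict y) / (h61Theta D).rangeRestrict y)
          : ↥(ZZ a H)) : G)
      = ⁅(u : G)⁻¹ * (a ^ i * u * (a ^ i)⁻¹), (y : G)⁻¹ * (a ^ j * y * (a ^ j)⁻¹)⁆ := by
    intro i j u y
    have e1 : (⇑(h61Conj a N D.hNa))^[i] u / u = u⁻¹ * (⇑(h61Conj a N D.hNa))^[i] u := by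
      rw [div_eq_mul_inv, mul_comm']
    have e2 : (⇑(h61Beta D))^[j] ((h61Theta D).rangeRestrict y) / (h61Theta D).rangeRestrict y
        = (h61Theta D).rangeRestrict (y⁻¹ * (⇑(h61Conj a L D.hLa))^[j] y) := by
      rw [h61Beta_iter_rr, div_eq_mul_inv, mul_comm, map_mul, map_inv]
    rw [e1, e2, hB]
    show ((h61Theta D (y⁻¹ * (⇑(h61Conj a L D.hLa))^[j] y)
      (u⁻¹ * (⇑(h61Conj a N D.hNa))^[i] u) : ↥(ZZ a H)) : G) = _
    rw [h61Theta_coe, commutatorElement_def, Subgroup.coe_mul, Subgroup.coe_mul,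
      Subgroup.coe_inv, Subgroup.coe_inv, h61Conj_iter_coe, h61Conj_iter_coe]
  have hsym : ∀ (i j : ℕ) u w,
      B ((⇑(h61Conj a N D.hNa))^[i] u / u) ((⇑(h61Beta D))^[j] w / w)
        = B ((⇑(h61Conj a N D.hNa))^[j] u / u) ((⇑(h61Beta D))^[i] w / w) := by
    intro i j u w
    obtain ⟨y, rfl⟩ := hsurj w
    apply Subtype.ext
    rw [hF, hF]
    exact hid u u.2 y y.2 i j
  have key := h61_alg_mul hALG p hp hp2 (h61Conj a N D.hNa) (h61Beta D) hβ hfix B hB1 hB2 hinv hsym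
  intro n hn y hy
  have h1 := congrArg Subtype.val (key ⟨n, hn⟩ ((h61Theta D).rangeRestrict ⟨y, hy⟩))
  rw [hB] at h1
  have h2 : n * y * n⁻¹ * y⁻¹ = 1 := h1
  rw [mul_inv_eq_one, mul_inv_eq_iff_eq_mul] at h2
  exact h2

end Cfsg.Agent.Helper61.FC
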