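import Mathlib
import Cfsg.Agent.Lib.Helper52.FCDefs
import Cfsg.Agent.Lib.Helper78.FCALG
import Cfsg.Agent.Lib.Helper61.FCR2FINd

/-!
# FC project (S3816), piece (R2-FIN) `r2_final`, verbatim from `tools/fc_sigs_helper52.lean.txt`.
Uses (ALG) `alg_biadd` (helper78).
-/

set_option autoImplicit false
set_option linter.unusedVariables false
set_option linter.unusedSectionVars false

namespace Cfsg.Agent.Helper61.FC

open Subgroup Cfsg.Agent.Helper52.FC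
open scoped commutatorElement

universe u

variable {G : Type u} [Group G]

/-- (R2-FIN) -/
theorem r2_final [Finite G] {p : ℕ} (hp : p.Prime) (hp2 : p ≠ 2) {a : G} {H : Subgroup G} (hyp : Hyp p a H)
    (N : Subgroup G) (hNH : N ≤ H) (hNa : Inv a N) (hNab : Ab N)
    (L : Subgroup G) (hLH : L ≤ H) (hLa : Inv a L) (hLc : comm a L = L)
    (hc : ∀ n ∈ N, ∀ y ∈ L, n * y * n⁻¹ * y⁻¹ ∈ ZZ a H)
    (hid : ∀ n ∈ N, ∀ l ∈ L, ∀ i j : ℕ, ⁅n⁻¹ * (a ^ i * n * (a ^ i)⁻¹), l⁻¹ * (a ^ j * l * (a ^ j)⁻¹)⁆ =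
      ⁅n⁻¹ * (a ^ j * n * (a ^ j)⁻¹), l⁻¹ * (a ^ i * l * (a ^ i)⁻¹)⁆) :
    ∀ n ∈ N, ∀ y ∈ L, n * y = y * n :=
  h61_r2_final_core
    (fun {U W Z} _ _ _ _ p hp hp2 α β hβ hfix B hinv hsym =>
      Cfsg.Agent.Helper78.FC.alg_biadd p hp hp2 α β hβ hfix B hinv hsym)
    hp hp2 hyp N hNH hNa hNab L hLH hLa hLc hc hid

end Cfsg.Agent.Helper61.FC
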