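import Mathlib

set_option autoImplicit false

/-!
# Minimal normal subgroups of finite groups are direct powers of a simple group
-/

namespace Cfsg.Agent.Helper61

open scoped Pointwise

variable {H : Type*} [Group H]

/-- `X` is a subgroup of `N` normalised by `N`. -/
def NInv (N X : Subgroup H) : Prop := X ≤ N ∧ ∀ n ∈ N, MulAut.conj n • X = X

/-- `X` is minimal among the nontrivial subgroups of `N` normalised by `N`. -/
def IsMinInv (N X : Subgroup H) : Prop :=
  NInv N X ∧ X ≠ ⊥ ∧ ∀ Y : Subgroup H, NInv N Y → Y ≤ X → Y = ⊥ ∨ Y = X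

lemma NInv.self (N : Subgroup H) : NInv N N :=
  ⟨le_rfl, fun _ hn => Subgroup.conj_smul_eq_self_of_mem hn⟩

lemma NInv.sup {N X Y : Subgroup H} (hX : NInv N X) (hY : NInv N Y) : NInv N (X ⊔ Y) :=
  ⟨sup_le hX.1 hY.1, fun n hn => by rw [Subgroup.smul_sup, hX.2 n hn, hY.2 n hn]⟩

lemma NInv.inf {N X Y : Subgroup H} (hX : NInv N X) (hY : NInv N Y) : NInv N (X ⊓ Y) :=
  ⟨inf_le_left.trans hX.1, fun n hn => by rw [Subgroup.smul_inf, hX.2 n hn, hY.2 n hn]⟩

lemma NInv.conj_mem {N X : Subgroup H} (hX : NInv N X) {n x : H} (hn : n ∈ N) (hx : x ∈ X) :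
    n * x * n⁻¹ ∈ X := by
  have := Subgroup.smul_mem_pointwise_smul x (MulAut.conj n) X hx
  rw [hX.2 n hn] at this
  simpa [MulAut.smul_def] using this

lemma NInv.conj {N X : Subgroup H} [hN : N.Normal] (hX : NInv N X) (g : H) :
    NInv N (MulAut.conj g • X) := by
  constructor
  · have := Subgroup.pointwise_smul_le_pointwise_smul_iff (a := MulAut.conj g) |>.mpr hX.1
    rwa [Subgroup.Normal.conj_smul_eq_self g N] at this
  · intro n hn
    have hmem : g⁻¹ * n * g ∈ N := by
      have := hN.conj_mem n hn g⁻¹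
      simpa using this
    have : MulAut.conj n * MulAut.conj g = MulAut.conj g * MulAut.conj (g⁻¹ * n * g) := by
      rw [← map_mul, ← map_mul]
      congr 1
      group
    rw [smul_smul, this, ← smul_smul, hX.2 _ hmem]

lemma IsMinInv.conj {N X : Subgroup H} [hN : N.Normal] (hX : IsMinInv N X) (g : H) :
    IsMinInv N (MulAut.conj g • X) := by
  refine ⟨hX.1.conj g, ?_, ?_⟩
  · intro h
    apply hX.2.1
    have := congrArg (fun Y => (MulAut.conj g)⁻¹ • Y) h
    simpa using this
  · intro Y hY hle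
    have h1 : NInv N ((MulAut.conj g)⁻¹ • Y) := by
      have := hY.conj g⁻¹
      simpa using this
    have h2 : (MulAut.conj g)⁻¹ • Y ≤ X := Subgroup.subset_pointwise_smul_iff.mp hle
    rcases hX.2.2 _ h1 h2 with h | h
    · left
      rw [inv_smul_eq_iff] at h
      rw [h, Subgroup.smul_bot]
    · right
      rwa [inv_smul_eq_iff] at h

/-- two `N`-invariant subgroups with trivial intersection commute elementwise -/
lemma NInv.commute {N X Y : Subgroup H} (hX : NInv N X) (hY : NInv N Y) (hXY : X ⊓ Y = ⊥)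
    {x y : H} (hx : x ∈ X) (hy : y ∈ Y) : Commute x y := by
  have h1 : x * y * x⁻¹ * y⁻¹ ∈ X ⊓ Y := by
    constructor
    · have : y * x⁻¹ * y⁻¹ ∈ X := hX.conj_mem (hY.1 hy) (X.inv_mem hx)
      have := X.mul_mem hx this
      simpa [mul_assoc] using this
    · have : x * y * x⁻¹ ∈ Y := hY.conj_mem (hX.1 hx) hy
      exact Y.mul_mem this (Y.inv_mem hy)
  rw [hXY, Subgroup.mem_bot] at h1
  have : x * y = y * x := by
    have := congrArg (fun z => z * y * x) h1
    simpa [mul_assoc] using this
  exact this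

/-- internal direct product of two commuting subgroups with trivial intersection -/
noncomputable def supEquivProd (X Y : Subgroup H) (hXY : X ⊓ Y = ⊥)
    (hc : ∀ x ∈ X, ∀ y ∈ Y, Commute x y) : (X ⊔ Y : Subgroup H) ≃* X × Y := by
  have hcomm : ∀ (m : X) (n : Y), Commute (X.subtype m) (Y.subtype n) := fun m n => hc m m.2 n n.2
  have hinj : Function.Injective (MonoidHom.noncommCoprod X.subtype Y.subtype hcomm) := by
    apply (MonoidHom.noncommCoprod_injective _ _ _).mpr
    refine ⟨X.subtype_injective, Y.subtype_injective, ?_⟩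
    rw [Subgroup.range_subtype, Subgroup.range_subtype, disjoint_iff, hXY]
  have hrange : (MonoidHom.noncommCoprod X.subtype Y.subtype hcomm).range = X ⊔ Y := by
    rw [MonoidHom.noncommCoprod_range, Subgroup.range_subtype, Subgroup.range_subtype]
  exact ((MonoidHom.ofInjective hinj).trans (MulEquiv.subgroupCongr hrange)).symm

/-- `(Fin k → S) × S ≃* (Fin (k+1) → S)` -/
def piSuccEquiv (S : Type*) [Group S] (k : ℕ) : (Fin k → S) × S ≃* (Fin (k + 1) → S) where
  toFun p := Fin.cons p.2 p.1
  invFun f := (Fin.tail f, f 0)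
  left_inv p := by simp
  right_inv f := by simp
  map_mul' p q := by
    ext i
    refine Fin.cases ?_ (fun j => ?_) i <;> simp

lemma exists_isMinInv [Finite H] (N : Subgroup H) (hN : N ≠ ⊥) : ∃ S, IsMinInv N S := by
  classical
  let s : Set (Subgroup H) := {X | NInv N X ∧ X ≠ ⊥}
  have hne : s.Nonempty := ⟨N, NInv.self N, hN⟩
  obtain ⟨S, hS, hmin⟩ := WellFounded.has_min (measure (fun X : Subgroup H => Nat.card X)).wf s hne
  refine ⟨S, hS.1, hS.2, fun Y hY hle => ?_⟩
  by_cases hY0 : Y = ⊥
  · exact Or.inl hY0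
  · right
    have h1 : ¬ (Nat.card Y < Nat.card S) := hmin Y ⟨hY, hY0⟩
    exact Subgroup.eq_of_le_of_card_ge hle (by omega)

/-- the join of all conjugates of a nontrivial subgroup of a minimal normal subgroup `N` is `N` -/
lemma iSup_conj_eq {N S : Subgroup H} [hN : N.Normal]
    (hmin : ∀ M : Subgroup H, M.Normal → M ≤ N → M = ⊥ ∨ M = N) (hS : S ≤ N) (hS0 : S ≠ ⊥) :
    (⨆ g : H, MulAut.conj g • S) = N := by
  have hnorm : (⨆ g : H, MulAut.conj g • S).Normal := by
    apply Subgroup.Normal.of_conjugate_fixed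
    intro h
    apply le_antisymm
    · rw [Subgroup.pointwise_smul_subset_iff]
      apply iSup_le
      intro g
      rw [← Subgroup.pointwise_smul_subset_iff, smul_smul, ← map_mul]
      exact le_iSup (fun g : H => MulAut.conj g • S) (h * g)
    · apply iSup_le
      intro g
      have : MulAut.conj g • S = MulAut.conj h • (MulAut.conj (h⁻¹ * g) • S) := by
        rw [smul_smul, ← map_mul]; congr 2; group
      rw [this]
      apply Subgroup.pointwise_smul_le_pointwise_smul_iff.mpr
      exact le_iSup (fun g : H => MulAut.conj g • S) (h⁻¹ * g)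
  have hle : (⨆ g : H, MulAut.conj g • S) ≤ N := by
    apply iSup_le
    intro g
    have := Subgroup.pointwise_smul_le_pointwise_smul_iff (a := MulAut.conj g) |>.mpr hS
    rwa [Subgroup.Normal.conj_smul_eq_self g N] at this
  rcases hmin _ hnorm hle with h | h
  · exfalso
    apply hS0
    have : MulAut.conj (1 : H) • S ≤ ⨆ g : H, MulAut.conj g • S :=
      le_iSup (fun g : H => MulAut.conj g • S) 1
    rw [h, map_one, one_smul] at this
    exact le_bot_iff.mp this
  · exact h

/-- the main induction: growing a direct power of `S` inside `N` until it is all of `N` -/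
lemma exists_equiv_pi [Finite H] {N S : Subgroup H} [hN : N.Normal]
    (hmin : ∀ M : Subgroup H, M.Normal → M ≤ N → M = ⊥ ∨ M = N) (hS : IsMinInv N S) :
    ∀ D : Subgroup H, NInv N D → S ≤ D → D ≤ S ⊔ Subgroup.centralizer (S : Set H) →
      (∃ k : ℕ, 0 < k ∧ Nonempty (D ≃* (Fin k → S))) →
      N ≤ S ⊔ Subgroup.centralizer (S : Set H) ∧ ∃ k : ℕ, 0 < k ∧ Nonempty (N ≃* (Fin k → S)) := by
  intro D
  induction D using WellFoundedGT.induction with
  | ind D ih =>
    intro hD hSD hDC hiso
    by_cases hDN : D = N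
    · subst hDN
      exact ⟨hDC, hiso⟩
    · -- some conjugate of S is not inside D
      have hex : ∃ g : H, ¬ (MulAut.conj g • S ≤ D) := by
        by_contra hcon
        push Not at hcon
        apply hDN
        apply le_antisymm hD.1
        rw [← iSup_conj_eq hmin hS.1.1 hS.2.1]
        exact iSup_le hcon
      obtain ⟨g, hg⟩ := hex
      have hX : IsMinInv N (MulAut.conj g • S) := hS.conj g
      set X := MulAut.conj g • S with hXdef
      have hXD : X ⊓ D = ⊥ := by
        rcases hX.2.2 (X ⊓ D) (hX.1.inf hD) inf_le_left with h | h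
        · exact h
        · exact absurd (h ▸ inf_le_right) hg
      have hXS : X ⊓ S = ⊥ := by
        apply le_bot_iff.mp
        calc X ⊓ S ≤ X ⊓ D := inf_le_inf_left X hSD
          _ = ⊥ := hXD
      have hXC : X ≤ Subgroup.centralizer (S : Set H) := by
        intro x hx
        rw [Subgroup.mem_centralizer_iff]
        intro s hs
        exact (hX.1.commute hS.1 hXS hx hs).symm.eq
      have hlt : D < D ⊔ X := by
        apply lt_of_le_of_ne le_sup_left
        intro h
        apply hg
        rw [h]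
        exact le_sup_right
      have hDX : D ⊓ X = ⊥ := by rw [inf_comm]; exact hXD
      obtain ⟨k, hk, ⟨e⟩⟩ := hiso
      have e1 : (D ⊔ X : Subgroup H) ≃* D × X :=
        supEquivProd D X hDX (fun d hd x hx => hD.commute hX.1 hDX hd hx)
      have e2 : X ≃* S := (Subgroup.equivSMul (MulAut.conj g) S).symm
      have e3 : (D ⊔ X : Subgroup H) ≃* (Fin (k + 1) → S) :=
        (e1.trans (MulEquiv.prodCongr e e2)).trans (piSuccEquiv S k)
      exact ih (D ⊔ X) hlt (hD.sup hX.1) (hSD.trans le_sup_left)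
        (sup_le hDC (hXC.trans le_sup_right)) ⟨k + 1, Nat.succ_pos k, ⟨e3⟩⟩

lemma conj_smul_eq_of_forall {A X : Subgroup H} (h : ∀ a ∈ A, ∀ x ∈ X, a * x * a⁻¹ ∈ X) :
    ∀ a ∈ A, MulAut.conj a • X = X := by
  have key : ∀ a ∈ A, MulAut.conj a • X ≤ X := by
    intro a ha y hy
    rw [Subgroup.mem_smul_pointwise_iff_exists] at hy
    obtain ⟨x, hx, rfl⟩ := hy
    simpa [MulAut.smul_def] using h a ha x hx
  intro a ha
  apply le_antisymm (key a ha)
  rw [Subgroup.subset_pointwise_smul_iff, ← map_inv]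
  exact key a⁻¹ (A.inv_mem ha)

lemma isSimpleGroup_of_isMinInv {N S : Subgroup H} (hS : IsMinInv N S)
    (hNC : N ≤ S ⊔ Subgroup.centralizer (S : Set H)) : IsSimpleGroup S := by
  rw [Subgroup.isSimpleGroup_iff]
  refine ⟨hS.2.1, fun K hK hKn => ?_⟩
  apply hS.2.2 K _ hK
  refine ⟨hK.trans hS.1.1, ?_⟩
  -- the subgroup of elements normalising K
  have hle : S ⊔ Subgroup.centralizer (S : Set H) ≤ Subgroup.normalizer (K : Set H) := by
    apply sup_le
    · intro s hs
      rw [Subgroup.mem_normalizer_iff]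
      intro x
      constructor
      · intro hx
        have := hKn.conj_mem ⟨x, hK hx⟩ (Subgroup.mem_subgroupOf.mpr hx) ⟨s, hs⟩
        rw [Subgroup.mem_subgroupOf] at this
        simpa using this
      · intro hx
        have := hKn.conj_mem ⟨s * x * s⁻¹, hK hx⟩ (Subgroup.mem_subgroupOf.mpr hx) ⟨s, hs⟩⁻¹
        rw [Subgroup.mem_subgroupOf] at this
        simpa [mul_assoc] using this
    · intro c hc
      rw [Subgroup.mem_centralizer_iff] at hc
      rw [Subgroup.mem_normalizer_iff]
      intro x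
      constructor
      · intro hx
        have := hc x (hK hx)
        rw [← this, mul_inv_cancel_right]
        exact hx
      · intro hx
        have h2 : c * x * c⁻¹ ∈ S := hK hx
        have := hc _ h2
        have h3 : c * x * c⁻¹ = x := by
          have h4 : c * x * c⁻¹ * c = c * (c * x * c⁻¹) := this
          have h5 : c * x = c * (c * x * c⁻¹) := by simpa [mul_assoc] using h4
          exact (mul_left_cancel h5).symm
        rwa [h3] at hx
  have h1 : ∀ a ∈ S ⊔ Subgroup.centralizer (S : Set H), ∀ x ∈ K, a * x * a⁻¹ ∈ K := by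
    intro a ha x hx
    exact (Subgroup.mem_normalizer_iff.mp (hle ha) x).mp hx
  exact fun n hn => conj_smul_eq_of_forall h1 n (hNC hn)

lemma exists_type_mulEquiv (S : Type*) [Group S] [Finite S] :
    ∃ (T : Type) (_ : Group T), Nonempty (T ≃* S) :=
  ⟨Shrink.{0} S, inferInstance, ⟨Shrink.mulEquiv⟩⟩

/-- A minimal normal subgroup of a finite group is isomorphic to a direct power of a simple group. -/
theorem minNormal_equiv_pi [Finite H] (N : Subgroup H) [N.Normal] (hN : N ≠ ⊥)
    (hmin : ∀ M : Subgroup H, M.Normal → M ≤ N → M = ⊥ ∨ M = N) :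
    ∃ (T : Type) (_ : Group T) (m : ℕ), IsSimpleGroup T ∧ 0 < m ∧ Nonempty (N ≃* (Fin m → T)) := by
  obtain ⟨S, hS⟩ := exists_isMinInv N hN
  obtain ⟨hNC, k, hk, ⟨e⟩⟩ := exists_equiv_pi hmin hS S hS.1 le_rfl le_sup_left
    ⟨1, Nat.one_pos, ⟨(MulEquiv.funUnique (Fin 1) S).symm⟩⟩
  have hsimple := isSimpleGroup_of_isMinInv hS hNC
  obtain ⟨T, hT, ⟨f⟩⟩ := exists_type_mulEquiv S
  refine ⟨T, hT, k, f.isSimpleGroup, hk, ⟨e.trans (MulEquiv.piCongrRight fun _ => f.symm)⟩⟩

end Cfsg.Agent.Helper61
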