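import Mathlib

/-!
# Block-diagonal subgroup of `GL (p ⊕ q) F` as the centralizer of `diag(1, -1)` (helper61)
-/

set_option autoImplicit false

namespace Cfsg.Agent.Helper61.BlockGL

open Matrix

variable {F : Type*} [Field F] {p q : Type*} [Fintype p] [Fintype q] [DecidableEq p]
  [DecidableEq q]

/-- block-diagonal embedding on matrices -/
def blockHom (F p q : Type*) [Field F] [Fintype p] [Fintype q] [DecidableEq p] [DecidableEq q] :
    Matrix p p F × Matrix q q F →* Matrix (p ⊕ q) (p ⊕ q) F where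
  toFun x := fromBlocks x.1 0 0 x.2
  map_one' := fromBlocks_one
  map_mul' x y := by simp [fromBlocks_multiply]

/-- block-diagonal embedding `GL_p × GL_q → GL_{p+q}` -/
def Phi (F p q : Type*) [Field F] [Fintype p] [Fintype q] [DecidableEq p] [DecidableEq q] :
    GL p F × GL q F →* GL (p ⊕ q) F :=
  (Units.map (blockHom F p q)).comp MulEquiv.prodUnits.symm.toMonoidHom

theorem Phi_coe (x : GL p F × GL q F) :
    ((Phi F p q x : GL (p ⊕ q) F) : Matrix (p ⊕ q) (p ⊕ q) F) =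
      fromBlocks (x.1 : Matrix p p F) 0 0 (x.2 : Matrix q q F) := rfl

/-- the involution `diag(1, -1)` -/
def tt (F p q : Type*) [Field F] [Fintype p] [Fintype q] [DecidableEq p] [DecidableEq q] :
    GL (p ⊕ q) F := Phi F p q (1, -1)

theorem tt_coe : ((tt F p q : GL (p ⊕ q) F) : Matrix (p ⊕ q) (p ⊕ q) F) =
    fromBlocks 1 0 0 (-1) := by
  rw [tt, Phi_coe]
  simp

theorem eq_zero_of_neg_eq (h2 : (2 : F) ≠ 0) {r s : Type*} (X : Matrix r s F) (hX : -X = X) :
    X = 0 := by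
  ext i j
  have h := congrFun (congrFun hX i) j
  simp only [Matrix.neg_apply] at h
  have h3 : (2 : F) * X i j = 0 := by linear_combination -h
  rcases mul_eq_zero.1 h3 with h4 | h4
  · exact absurd h4 h2
  · simpa using h4

theorem mem_range_of_commute (h2 : (2 : F) ≠ 0) (g : GL (p ⊕ q) F)
    (hg : g * tt F p q = tt F p q * g) : ∃ x, Phi F p q x = g := by
  have hM : (g : Matrix (p ⊕ q) (p ⊕ q) F) * fromBlocks 1 0 0 (-1) =
      fromBlocks 1 0 0 (-1) * (g : Matrix (p ⊕ q) (p ⊕ q) F) := by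
    have := congrArg Units.val hg
    rw [Units.val_mul, Units.val_mul, tt_coe] at this
    exact this
  set M := (g : Matrix (p ⊕ q) (p ⊕ q) F) with hMdef
  rw [← fromBlocks_toBlocks M, fromBlocks_multiply, fromBlocks_multiply] at hM
  simp only [Matrix.mul_one, Matrix.one_mul, Matrix.mul_neg, Matrix.neg_mul, Matrix.mul_zero,
    Matrix.zero_mul, add_zero, zero_add, fromBlocks_inj] at hM
  obtain ⟨-, h12, h21, -⟩ := hM
  have e12 : M.toBlocks₁₂ = 0 := eq_zero_of_neg_eq h2 _ h12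
  have e21 : M.toBlocks₂₁ = 0 := eq_zero_of_neg_eq h2 _ h21.symm
  have hMeq : M = fromBlocks M.toBlocks₁₁ 0 0 M.toBlocks₂₂ := by
    conv_lhs => rw [← fromBlocks_toBlocks M, e12, e21]
  have hdet : M.det = M.toBlocks₁₁.det * M.toBlocks₂₂.det := by
    conv_lhs => rw [hMeq, det_fromBlocks_zero₂₁]
  have hu : IsUnit M.det := (Matrix.isUnit_iff_isUnit_det M).1 g.isUnit
  have hne : M.det ≠ 0 := hu.ne_zero
  rw [hdet] at hne
  have h11 : M.toBlocks₁₁.det ≠ 0 := left_ne_zero_of_mul hne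
  have h22 : M.toBlocks₂₂.det ≠ 0 := right_ne_zero_of_mul hne
  refine ⟨(Matrix.GeneralLinearGroup.mkOfDetNeZero _ h11,
    Matrix.GeneralLinearGroup.mkOfDetNeZero _ h22), ?_⟩
  apply Units.ext
  rw [Phi_coe]
  exact hMeq.symm

/-- embedding of `SL_p` in the first block -/
def phi (F p q : Type*) [Field F] [Fintype p] [Fintype q] [DecidableEq p] [DecidableEq q] :
    SpecialLinearGroup p F →* GL (p ⊕ q) F :=
  (Phi F p q).comp ((MonoidHom.inl _ _).comp SpecialLinearGroup.toGL)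

theorem phi_coe (A : SpecialLinearGroup p F) :
    ((phi F p q A : GL (p ⊕ q) F) : Matrix (p ⊕ q) (p ⊕ q) F) =
      fromBlocks (A : Matrix p p F) 0 0 1 := rfl

theorem phi_comm (A : SpecialLinearGroup p F) :
    phi F p q A * tt F p q = tt F p q * phi F p q A := by
  apply Units.ext
  rw [Units.val_mul, Units.val_mul, tt_coe, phi_coe, fromBlocks_multiply, fromBlocks_multiply]
  simp

theorem phi_norm (h2 : (2 : F) ≠ 0) (g : GL (p ⊕ q) F)
    (hg : g * tt F p q = tt F p q * g) (A : SpecialLinearGroup p F) :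
    ∃ B, g * phi F p q A * g⁻¹ = phi F p q B := by
  obtain ⟨⟨B, b⟩, rfl⟩ := mem_range_of_commute h2 g hg
  have hdet : Matrix.GeneralLinearGroup.det (B * SpecialLinearGroup.toGL A * B⁻¹) = 1 := by
    rw [map_mul, map_mul, map_inv, mul_comm, ← mul_assoc, inv_mul_cancel, one_mul]
    ext
    simp
  have hdet' : (↑(B * SpecialLinearGroup.toGL A * B⁻¹) : Matrix p p F).det = 1 := by
    have := congrArg Units.val hdet
    rw [Matrix.GeneralLinearGroup.val_det_apply] at this
    exact this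
  refine ⟨⟨_, hdet'⟩, ?_⟩
  have e : (SpecialLinearGroup.toGL (⟨_, hdet'⟩ : SpecialLinearGroup p F) : GL p F) =
      B * SpecialLinearGroup.toGL A * B⁻¹ := Units.ext rfl
  change _ = Phi F p q (SpecialLinearGroup.toGL (⟨_, hdet'⟩ : SpecialLinearGroup p F), 1)
  rw [e]
  change Phi F p q (B, b) * Phi F p q (SpecialLinearGroup.toGL A, 1) * (Phi F p q (B, b))⁻¹ = _
  rw [← map_inv, ← map_mul, ← map_mul]
  congr 1
  ext <;> simp

theorem orderOf_tt [Nonempty q] (h2 : (2 : F) ≠ 0) : orderOf (tt F p q) = 2 := by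
  apply orderOf_eq_prime
  · rw [tt, ← map_pow]
    have : ((1, -1) : GL p F × GL q F) ^ 2 = 1 := by
      ext <;> simp
    rw [this, map_one]
  · intro h
    obtain ⟨j⟩ := ‹Nonempty q›
    have h1 := congrArg (fun u : GL (p ⊕ q) F => (u : Matrix (p ⊕ q) (p ⊕ q) F) (Sum.inr j) (Sum.inr j)) h
    simp only [tt_coe, fromBlocks_apply₂₂, Units.val_one, one_apply_eq, Matrix.neg_apply] at h1
    apply h2
    linear_combination -h1

theorem tt_not_mem_center [Nonempty p] [Nonempty q] (h2 : (2 : F) ≠ 0) :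
    tt F p q ∉ Subgroup.center (GL (p ⊕ q) F) := by
  intro h
  obtain ⟨i⟩ := ‹Nonempty p›
  obtain ⟨j⟩ := ‹Nonempty q›
  rw [Subgroup.mem_center_iff] at h
  have hij : (Sum.inl i : p ⊕ q) ≠ Sum.inr j := Sum.inl_ne_inr
  obtain ⟨x, hx⟩ := mem_range_of_commute h2
    (SpecialLinearGroup.toGL (SpecialLinearGroup.transvection hij (1 : F))) (h _)
  have h1 := congrArg (fun u : GL (p ⊕ q) F => (u : Matrix (p ⊕ q) (p ⊕ q) F) (Sum.inl i) (Sum.inr j)) hx
  simp only [Phi_coe, fromBlocks_apply₁₂, Matrix.zero_apply] at h1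
  have h3 : ((SpecialLinearGroup.toGL (SpecialLinearGroup.transvection hij (1 : F)) : GL (p ⊕ q) F) :
      Matrix (p ⊕ q) (p ⊕ q) F) (Sum.inl i) (Sum.inr j) = 1 := by
    simp [SpecialLinearGroup.transvection_coe, Matrix.one_apply_ne hij]
  rw [h3] at h1
  exact zero_ne_one h1

/-- an involution in `SL_p`, `|p| ≥ 2` -/
def zz (F : Type*) [Field F] {p : Type*} [Fintype p] [DecidableEq p] (i₀ i₁ : p) (h : i₀ ≠ i₁) :
    SpecialLinearGroup p F :=
  ⟨diagonal (fun i => if i = i₀ ∨ i = i₁ then (-1 : F) else 1), by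
    rw [det_diagonal, Finset.prod_eq_mul i₀ i₁ h]
    · simp
    · intro c _ hc
      simp [hc.1, hc.2]
    · intro h; exact absurd (Finset.mem_univ _) h
    · intro h; exact absurd (Finset.mem_univ _) h⟩

theorem phi_zz_ne_one (h2 : (2 : F) ≠ 0) (i₀ i₁ : p) (h : i₀ ≠ i₁) :
    phi F p q (zz F i₀ i₁ h) ≠ 1 := by
  intro h0
  have h1 := congrArg (fun u : GL (p ⊕ q) F => (u : Matrix (p ⊕ q) (p ⊕ q) F) (Sum.inl i₀) (Sum.inl i₀)) h0
  simp only [phi_coe, fromBlocks_apply₁₁, Units.val_one, one_apply_eq] at h1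
  simp [zz] at h1
  apply h2
  linear_combination -h1

theorem phi_zz_sq (i₀ i₁ : p) (h : i₀ ≠ i₁) :
    phi F p q (zz F i₀ i₁ h) ^ 2 = 1 := by
  rw [← map_pow]
  have : zz F i₀ i₁ h ^ 2 = 1 := by
    have h3 : ((zz F i₀ i₁ h ^ 2 : SpecialLinearGroup p F) : Matrix p p F) =
        ((1 : SpecialLinearGroup p F) : Matrix p p F) := by
      change (diagonal (fun i => if i = i₀ ∨ i = i₁ then (-1 : F) else 1)) ^ 2 = 1
      rw [diagonal_pow, ← diagonal_one]
      congr 1
      ext i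
      by_cases hi : i = i₀ ∨ i = i₁ <;> simp [hi]
    exact Subtype.ext h3
  rw [this, map_one]

end Cfsg.Agent.Helper61.BlockGL
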