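import Mathlib
import Cfsg.Prelude.Def_Transfer
import Cfsg.Agent.Lib.Helper24.CYCDefs
import Cfsg.Agent.Lib.Helper61.CYCTools

/-!
Lemma server "CYC" (helper24, row S4016), piece (E6a) `inv_count`: the structure of `Ivs P`.
`N_G(P) = P K` (unique decomposition), `Ivs P = P · J` with `J = K ∩ Ivs P`; two elements `b k`, `b' k'` of `Ivs P` commute
iff `b = b'`; `J` is empty or a coset of the elementary abelian 2-group `{c ∈ K ∩ C_G(P) | c² = 1}`.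
-/

set_option autoImplicit false
set_option linter.unusedSectionVars false

namespace Cfsg.Agent.Helper61.CYC

open Subgroup Cfsg.Agent.Helper24.CYC

universe u

variable {G : Type u} [Group G] [Finite G] {p : ℕ} [Fact p.Prime]

/-- the data extracted from `Core` for (E6a) -/
structure E6aData (P : Sylow p G) (K : Subgroup G) : Prop where
  hKN : K ≤ NP P
  hdisj : ∀ x, x ∈ P → x ∈ K → x = 1
  hsurj : ∀ x ∈ NP P, ∃ b ∈ P, ∃ k ∈ K, x = b * k
  hKab : ∀ a ∈ K, ∀ b ∈ K, a * b = b * a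
  hPC : ∀ b ∈ P, b ∈ CP P
  hinv : ∀ s ∈ Ivs P, ∀ b ∈ P, s * b * s⁻¹ = b⁻¹
  hodd : ∀ b ∈ P, b * b = 1 → b = 1

/-- `J = K ∩ Ivs P` -/
def e6aJ (P : Sylow p G) (K : Subgroup G) : Set G := {k | k ∈ K ∧ k ∈ Ivs P}

theorem e6a_sq_mul (a b : G) (hab : a * b = b * a) (ha : a * a = 1) (hb : b * b = 1) : a * b * (a * b) = 1 := by
  calc a * b * (a * b) = a * (b * a) * b := by group
    _ = a * (a * b) * b := by rw [hab]
    _ = (a * a) * (b * b) := by group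
    _ = 1 := by rw [ha, hb, one_mul]

/-- `{c ∈ K ∩ C | c² = 1}` as a subgroup, `K` abelian -/
def e6aOmega (K C : Subgroup G) (hab : ∀ a ∈ K, ∀ b ∈ K, a * b = b * a) : Subgroup G where
  carrier := {k | k ∈ K ∧ k ∈ C ∧ k * k = 1}
  one_mem' := ⟨K.one_mem, C.one_mem, by simp⟩
  mul_mem' := by
    rintro a b ⟨ha, hac, ha2⟩ ⟨hb, hbc, hb2⟩
    exact ⟨K.mul_mem ha hb, C.mul_mem hac hbc, e6a_sq_mul a b (hab a ha b hb) ha2 hb2⟩
  inv_mem' := by
    rintro a ⟨ha, hac, ha2⟩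
    have h1 : a⁻¹ = a := inv_eq_of_mul_eq_one_right ha2
    rw [h1]
    exact ⟨ha, hac, ha2⟩

theorem e6a_unique {P : Sylow p G} {K : Subgroup G} (hdisj : ∀ x, x ∈ P → x ∈ K → x = 1) (b k b' k' : G)
    (hb : b ∈ P) (hk : k ∈ K) (hb' : b' ∈ P) (hk' : k' ∈ K) (h : b * k = b' * k') : b = b' ∧ k = k' := by
  have h1 : b'⁻¹ * b = k' * k⁻¹ := by
    calc b'⁻¹ * b = b'⁻¹ * (b * k) * k⁻¹ := by group
      _ = b'⁻¹ * (b' * k') * k⁻¹ := by rw [h]
      _ = k' * k⁻¹ := by group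
  have h2 : b'⁻¹ * b = 1 :=
    hdisj _ ((P : Subgroup G).mul_mem (inv_mem hb') hb) (by rw [h1]; exact K.mul_mem hk' (inv_mem hk))
  have hbb : b = b' := (inv_mul_eq_one.mp h2).symm
  refine ⟨hbb, ?_⟩
  subst hbb
  exact mul_left_cancel h

theorem e6a_mem_iff {P : Sylow p G} {K : Subgroup G} (D : E6aData P K) (b k : G) (hb : b ∈ P) (hk : k ∈ K) :
    b * k ∈ Ivs P ↔ k ∈ Ivs P := by
  have hbN : b ∈ NP P := Subgroup.le_normalizer hb
  have hkN : k ∈ NP P := D.hKN hk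
  constructor
  · rintro ⟨h1, h2, h3⟩
    have hkC : k ∉ CP P := fun h => h3 ((CP P).mul_mem (D.hPC b hb) h)
    refine ⟨?_, hkN, hkC⟩
    have hb' : b * (k * b * k⁻¹) ∈ P :=
      (P : Subgroup G).mul_mem hb ((mem_normalizer_iff.mp hkN b).mp hb)
    have h4 : k * k = (b * (k * b * k⁻¹))⁻¹ := by
      have h5 : b * (k * b * k⁻¹) * (k * k) = 1 := by rw [← h1]; group
      exact eq_inv_of_mul_eq_one_right h5
    apply D.hdisj
    · rw [h4]; exact inv_mem hb'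
    · exact K.mul_mem hk hk
  · rintro ⟨h1, h2, h3⟩
    have hi := D.hinv k ⟨h1, h2, h3⟩ b hb
    refine ⟨?_, (NP P).mul_mem hbN hkN, ?_⟩
    · calc b * k * (b * k) = b * (k * b * k⁻¹) * (k * k) := by group
        _ = 1 := by rw [hi, h1]; group
    · intro h
      apply h3
      have h4 : k = b⁻¹ * (b * k) := by group
      rw [h4]
      exact (CP P).mul_mem (inv_mem (D.hPC b hb)) h

theorem e6a_comm_iff {P : Sylow p G} {K : Subgroup G} (D : E6aData P K) (b k b' k' : G) (hb : b ∈ P) (hk : k ∈ K)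
    (hb' : b' ∈ P) (hk' : k' ∈ K) (hkI : k ∈ Ivs P) (hkI' : k' ∈ Ivs P) :
    (b * k) * (b' * k') = (b' * k') * (b * k) ↔ b = b' := by
  have h1 : k * b' = b'⁻¹ * k := by
    have h := D.hinv k hkI b' hb'
    calc k * b' = (k * b' * k⁻¹) * k := by group
      _ = b'⁻¹ * k := by rw [h]
  have h2 : k' * b = b⁻¹ * k' := by
    have h := D.hinv k' hkI' b hb
    calc k' * b = (k' * b * k'⁻¹) * k' := by group
      _ = b⁻¹ * k' := by rw [h]
  have e1 : (b * k) * (b' * k') = (b * b'⁻¹) * (k * k') := by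
    calc (b * k) * (b' * k') = b * (k * b') * k' := by group
      _ = b * (b'⁻¹ * k) * k' := by rw [h1]
      _ = _ := by group
  have e2 : (b' * k') * (b * k) = (b' * b⁻¹) * (k * k') := by
    calc (b' * k') * (b * k) = b' * (k' * b) * k := by group
      _ = b' * (b⁻¹ * k') * k := by rw [h2]
      _ = b' * b⁻¹ * (k' * k) := by group
      _ = _ := by rw [D.hKab k' hk' k hk]
  rw [e1, e2]
  constructor
  · intro h
    have h3 : b * b'⁻¹ = b' * b⁻¹ := mul_right_cancel h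
    have hx : b * b'⁻¹ ∈ P := (P : Subgroup G).mul_mem hb (inv_mem hb')
    have h4 : (b * b'⁻¹) * (b * b'⁻¹) = 1 := by
      nth_rewrite 2 [h3]
      group
    exact mul_inv_eq_one.mp (D.hodd _ hx h4)
  · rintro rfl
    rfl

theorem e6a_card {P : Sylow p G} {K : Subgroup G} (D : E6aData P K) :
    Nat.card (Ivs P) = Nat.card (P : Subgroup G) * Nat.card (e6aJ P K) := by
  rw [← Nat.card_prod]
  symm
  let f : ↥(P : Subgroup G) × ↥(e6aJ P K) → ↥(Ivs P) := fun bk =>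
    ⟨bk.1.1 * bk.2.1, (e6a_mem_iff D _ _ bk.1.2 bk.2.2.1).mpr bk.2.2.2⟩
  apply Nat.card_eq_of_bijective f
  constructor
  · rintro ⟨⟨b, hb⟩, ⟨k, hk, hkI⟩⟩ ⟨⟨b', hb'⟩, ⟨k', hk', hkI'⟩⟩ h
    have h1 : b * k = b' * k' := congrArg Subtype.val h
    obtain ⟨e1, e2⟩ := e6a_unique D.hdisj b k b' k' hb hk hb' hk' h1
    subst e1; subst e2; rfl
  · rintro ⟨s, hs⟩
    obtain ⟨b, hb, k, hk, rfl⟩ := D.hsurj s hs.2.1
    exact ⟨⟨⟨b, hb⟩, ⟨k, hk, (e6a_mem_iff D b k hb hk).mp hs⟩⟩, rfl⟩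

theorem e6a_comm_count {P : Sylow p G} {K : Subgroup G} (D : E6aData P K) (s : G) (hs : s ∈ Ivs P) :
    Nat.card {t : G // t ∈ Ivs P ∧ s * t = t * s} = Nat.card (e6aJ P K) := by
  obtain ⟨b, hb, k, hk, rfl⟩ := D.hsurj s hs.2.1
  have hkI : k ∈ Ivs P := (e6a_mem_iff D b k hb hk).mp hs
  symm
  let f : ↥(e6aJ P K) → {t : G // t ∈ Ivs P ∧ (b * k) * t = t * (b * k)} := fun k' =>
    ⟨b * k'.1, (e6a_mem_iff D b _ hb k'.2.1).mpr k'.2.2,
      (e6a_comm_iff D b k b k'.1 hb hk hb k'.2.1 hkI k'.2.2).mpr rfl⟩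
  apply Nat.card_eq_of_bijective f
  constructor
  · rintro ⟨k1, h1⟩ ⟨k2, h2⟩ h
    have h3 : b * k1 = b * k2 := congrArg Subtype.val h
    exact Subtype.ext (mul_left_cancel h3)
  · rintro ⟨t, ht, hst⟩
    obtain ⟨b', hb', k', hk', rfl⟩ := D.hsurj t ht.2.1
    have hkI' := (e6a_mem_iff D b' k' hb' hk').mp ht
    have hbb := (e6a_comm_iff D b k b' k' hb hk hb' hk' hkI hkI').mp hst
    subst hbb
    exact ⟨⟨k', hk', hkI'⟩, rfl⟩

theorem e6a_mul_mem_J {P : Sylow p G} {K : Subgroup G} (D : E6aData P K) (k₁ c : G) (hk₁ : k₁ ∈ e6aJ P K)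
    (hc : c ∈ e6aOmega K (CP P) D.hKab) : k₁ * c ∈ e6aJ P K := by
  obtain ⟨hk, h1, h2, h3⟩ := hk₁
  obtain ⟨hcK, hcC, hc2⟩ := hc
  refine ⟨K.mul_mem hk hcK, e6a_sq_mul k₁ c (D.hKab k₁ hk c hcK) h1 hc2, (NP P).mul_mem h2 (D.hKN hcK), ?_⟩
  intro h
  apply h3
  have h4 : k₁ = (k₁ * c) * c⁻¹ := by group
  rw [h4]
  exact (CP P).mul_mem h (inv_mem hcC)

theorem e6a_mul_mem_Omega {P : Sylow p G} {K : Subgroup G} (D : E6aData P K) (k₁ k : G) (hk₁ : k₁ ∈ e6aJ P K)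
    (hk : k ∈ e6aJ P K) : k₁ * k ∈ e6aOmega K (CP P) D.hKab := by
  obtain ⟨hk₁K, hk₁I⟩ := hk₁
  obtain ⟨hkK, hkI⟩ := hk
  refine ⟨K.mul_mem hk₁K hkK, ?_, e6a_sq_mul k₁ k (D.hKab k₁ hk₁K k hkK) hk₁I.1 hkI.1⟩
  rw [mem_centralizer_iff]
  intro b hb
  have h1 : k * b = b⁻¹ * k := by
    have h := D.hinv k hkI b hb
    calc k * b = (k * b * k⁻¹) * k := by group
      _ = b⁻¹ * k := by rw [h]
  have h2 : k₁ * b⁻¹ = b * k₁ := by
    have h := D.hinv k₁ hk₁I b⁻¹ (inv_mem hb)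
    calc k₁ * b⁻¹ = (k₁ * b⁻¹ * k₁⁻¹) * k₁ := by group
      _ = b * k₁ := by rw [h, inv_inv]
  calc b * (k₁ * k) = (b * k₁) * k := by group
    _ = (k₁ * b⁻¹) * k := by rw [h2]
    _ = k₁ * (b⁻¹ * k) := by group
    _ = k₁ * (k * b) := by rw [h1]
    _ = k₁ * k * b := by group

theorem e6a_pow_two {P : Sylow p G} {K : Subgroup G} (D : E6aData P K) :
    Nat.card (e6aJ P K) = 0 ∨ ∃ m : ℕ, Nat.card (e6aJ P K) = 2 ^ m := by
  by_cases hne : (e6aJ P K).Nonempty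
  · right
    obtain ⟨k₁, hk₁⟩ := hne
    have hΩ : IsPGroup 2 (e6aOmega K (CP P) D.hKab) := by
      rintro ⟨g, hg⟩
      refine ⟨1, Subtype.ext ?_⟩
      have h1 : g * g = 1 := hg.2.2
      simp only [pow_one, Subgroup.coe_pow, Subgroup.coe_one]
      rw [pow_two]; exact h1
    obtain ⟨m, hm⟩ := IsPGroup.iff_card.mp hΩ
    refine ⟨m, ?_⟩
    rw [← hm]
    symm
    let f : ↥(e6aOmega K (CP P) D.hKab) → ↥(e6aJ P K) := fun c =>
      ⟨k₁ * c.1, e6a_mul_mem_J D k₁ c.1 hk₁ c.2⟩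
    apply Nat.card_eq_of_bijective f
    constructor
    · rintro ⟨c1, h1⟩ ⟨c2, h2⟩ h
      have h3 : k₁ * c1 = k₁ * c2 := congrArg Subtype.val h
      exact Subtype.ext (mul_left_cancel h3)
    · rintro ⟨k, hk⟩
      refine ⟨⟨k₁ * k, e6a_mul_mem_Omega D k₁ k hk₁ hk⟩, Subtype.ext ?_⟩
      show k₁ * (k₁ * k) = k
      have h1 : k₁ * k₁ = 1 := hk₁.2.1
      calc k₁ * (k₁ * k) = (k₁ * k₁) * k := by group
        _ = k := by rw [h1, one_mul]
  · left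
    rw [Set.not_nonempty_iff_eq_empty] at hne
    rw [hne]
    simp

theorem e6a_data (hC : Core p G) (P : Sylow p G) : ∃ K : Subgroup G, E6aData P K := by
  obtain ⟨K, hKN, hKp, hcard, hKC⟩ := hC.c1.compl P
  have hKab := hC.c1.min.ab K hKp
  have hcyc := hC.c1.min.cyc P
  have hp2 : (2 : ℕ) ≠ p := fun h => hC.c1.podd h.symm
  obtain ⟨n, hn⟩ := IsPGroup.iff_card.mp P.2
  have hPab : ∀ a ∈ P, ∀ b ∈ P, a * b = b * a := by
    intro a ha b hb
    obtain ⟨g, hg⟩ := hcyc.exists_generator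
    obtain ⟨i, hi⟩ := Subgroup.mem_zpowers_iff.mp (hg ⟨a, ha⟩)
    obtain ⟨j, hj⟩ := Subgroup.mem_zpowers_iff.mp (hg ⟨b, hb⟩)
    have ha' : a = (g : G) ^ i := by
      have h := congrArg Subtype.val hi
      simpa using h.symm
    have hb' : b = (g : G) ^ j := by
      have h := congrArg Subtype.val hj
      simpa using h.symm
    rw [ha', hb']
    exact (Commute.refl (g : G)).zpow_zpow i j
  have hdisj : ∀ x, x ∈ P → x ∈ K → x = 1 := by
    intro x hxP hxK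
    have h1 : orderOf x ∣ p ^ n := by rw [← hn]; exact Subgroup.orderOf_dvd_natCard _ hxP
    have h2 : orderOf x ∣ Nat.card K := Subgroup.orderOf_dvd_natCard _ hxK
    have hcop : Nat.Coprime (p ^ n) (Nat.card K) :=
      Nat.Coprime.pow_left n ((Nat.Prime.coprime_iff_not_dvd Fact.out).mpr hKp)
    exact orderOf_eq_one_iff.mp (Nat.eq_one_of_dvd_coprimes hcop h1 h2)
  have hsurj : ∀ x ∈ NP P, ∃ b ∈ P, ∃ k ∈ K, x = b * k := by
    let f : ↥(P : Subgroup G) × ↥K → ↥(NP P) := fun bk =>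
      ⟨bk.1.1 * bk.2.1, (NP P).mul_mem (Subgroup.le_normalizer bk.1.2) (hKN bk.2.2)⟩
    have hinj : Function.Injective f := by
      rintro ⟨⟨b, hb⟩, ⟨k, hk⟩⟩ ⟨⟨b', hb'⟩, ⟨k', hk'⟩⟩ h
      have h1 : b * k = b' * k' := congrArg Subtype.val h
      obtain ⟨e1, e2⟩ := e6a_unique hdisj b k b' k' hb hk hb' hk' h1
      subst e1; subst e2; rfl
    have hc : Nat.card (↥(P : Subgroup G) × ↥K) = Nat.card ↥(NP P) := by
      rw [Nat.card_prod, mul_comm]; exact hcard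
    have hbij := (Nat.bijective_iff_injective_and_card f).mpr ⟨hinj, hc⟩
    intro x hx
    obtain ⟨⟨⟨b, hb⟩, ⟨k, hk⟩⟩, hbk⟩ := hbij.2 ⟨x, hx⟩
    exact ⟨b, hb, k, hk, (congrArg Subtype.val hbk).symm⟩
  refine ⟨K, hKN, hdisj, hsurj, hKab, ?_, hC.invert P, ?_⟩
  · intro b hb
    rw [mem_centralizer_iff]
    intro h hh
    exact hPab h hh b hb
  · intro b hb hbb
    have h1 : orderOf b ∣ p ^ n := by rw [← hn]; exact Subgroup.orderOf_dvd_natCard _ hb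
    have h2 : orderOf b ∣ 2 := orderOf_dvd_of_pow_eq_one (by rw [pow_two]; exact hbb)
    have hcop : Nat.Coprime (p ^ n) 2 :=
      Nat.Coprime.pow_left n ((Nat.coprime_primes Fact.out Nat.prime_two).mpr hp2.symm)
    exact orderOf_eq_one_iff.mp (Nat.eq_one_of_dvd_coprimes hcop h1 h2)

/-- (E6a) structure of `Ivs P`. -/
theorem inv_count (hC : Core p G) (P : Sylow p G) :
    ∃ j : ℕ, (j = 0 ∨ ∃ m : ℕ, j = 2 ^ m) ∧ Nat.card (Ivs P) = Nat.card P * j ∧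
      ∀ s ∈ Ivs P, Nat.card {t : G // t ∈ Ivs P ∧ s * t = t * s} = j := by
  obtain ⟨K, D⟩ := e6a_data hC P
  exact ⟨Nat.card (e6aJ P K), e6a_pow_two D, e6a_card D, fun s hs => e6a_comm_count D s hs⟩

end Cfsg.Agent.Helper61.CYC
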