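import Mathlib
import Cfsg.Prelude.Def_CaseTheorems
import Cfsg.Agent.Lib.Helper21.PGen

/-!
# A criterion for `C(t)/O(C(t))` to have a component (helper61)
-/

set_option autoImplicit false

namespace Cfsg.Agent.Helper61.CompData

open Cfsg

/-- If a quasisimple group `Q` maps into `C_G(t)` with image normalized by `C_G(t)` and containing
an involution, then `C_G(t)/O(C_G(t))` has a component. -/
theorem hasComponent_of_data {G : Type*} [Group G] [Finite G] (t : G) {Q : Type*} [Group Q]
    (hQ : IsQuasisimple Q) (φ : Q →* G) (hc : ∀ x, φ x * t = t * φ x)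
    (hn : ∀ g, g * t = t * g → ∀ x, ∃ y, g * φ x * g⁻¹ = φ y)
    (z : Q) (hz1 : φ z ≠ 1) (hz2 : φ z ^ 2 = 1) :
    HasComponent (↥(Subgroup.centralizer ({t} : Set G)) ⧸
      oddCore ↥(Subgroup.centralizer ({t} : Set G))) := by
  set C := Subgroup.centralizer ({t} : Set G) with hC
  have hmemC : ∀ g : G, g ∈ C ↔ g * t = t * g := by
    intro g
    rw [hC, Subgroup.mem_centralizer_singleton_iff]
  let φC : Q →* C := φ.codRestrict C (fun x => (hmemC _).2 (hc x))
  let ψ : Q →* (C ⧸ oddCore C) := (QuotientGroup.mk' (oddCore C)).comp φC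
  refine ⟨ψ.range, ?_, ?_⟩
  · apply Subgroup.Normal.isSubnormal
    refine ⟨fun k hk g => ?_⟩
    obtain ⟨x, rfl⟩ := hk
    obtain ⟨c, rfl⟩ := QuotientGroup.mk'_surjective (oddCore C) g
    obtain ⟨y, hy⟩ := hn c.1 ((hmemC _).1 c.2) x
    refine ⟨y, ?_⟩
    change QuotientGroup.mk' (oddCore C) (φC y) =
      QuotientGroup.mk' (oddCore C) c * QuotientGroup.mk' (oddCore C) (φC x) *
        (QuotientGroup.mk' (oddCore C) c)⁻¹
    rw [← map_inv, ← map_mul, ← map_mul]
    congr 1
    apply Subtype.ext
    simp only [Subgroup.coe_mul, Subgroup.coe_inv]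
    exact hy.symm
  · have hnt : Nontrivial ↥ψ.range := by
      refine ⟨⟨⟨ψ z, z, rfl⟩, 1, ?_⟩⟩
      intro h
      have h1 : ψ z = 1 := congrArg Subtype.val h
      have h2 : φC z ∈ oddCore C := by
        rw [← QuotientGroup.eq_one_iff]
        exact h1
      have h3 : orderOf (φC z) = 2 := by
        apply orderOf_eq_prime
        · apply Subtype.ext
          simp only [Subgroup.coe_pow, Subgroup.coe_one]
          exact hz2
        · intro h4
          apply hz1
          exact congrArg Subtype.val h4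
      have h4 : orderOf (φC z) ∣ Nat.card (oddCore C) := Subgroup.orderOf_dvd_natCard _ h2
      have h5 : (Nat.card (oddCore C)).Coprime 2 := Cfsg.Agent.Helper30.pPrimeCore_coprime 2
      rw [h3] at h4
      have := Nat.Coprime.eq_one_of_dvd h5.symm h4
      omega
    exact Cfsg.Agent.Helper21.isQuasisimple_of_surjective ψ.rangeRestrict
      ψ.rangeRestrict_surjective hQ hnt

end Cfsg.Agent.Helper61.CompData
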