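import Mathlib
import Cfsg.Prelude.Def_GeometricClasses
import Cfsg.Agent.Lib.Helper97.ESDefs

/-!
# ES (A5b) `eq_bound`, piece of helper97's server for S5877, written by helper61
-/

set_option autoImplicit false

namespace Cfsg.Agent.Helper61.ES

open Cfsg Cfsg.Geo Cfsg.Agent.Helper97.ES
open scoped MatrixGroups commutatorElement

section lin

variable {F : Type*} [Field F]

/-- eigenspaces for distinct eigenvalues: the dimensions add up -/
theorem a5b_range_sup {V : Type*} [AddCommGroup V] [Module F V] [FiniteDimensional F V]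
    (T : Module.End F V) (μ : ℕ → F) (r d : ℕ)
    (hμ : ∀ i j, i < j → j < r → μ i ≠ μ j)
    (hd : ∀ i, i < r → d ≤ Module.finrank F (Module.End.eigenspace T (μ i))) :
    ∀ j, j ≤ r → j * d ≤ Module.finrank F
      (((Finset.range j).sup fun i => Module.End.eigenspace T (μ i) : Submodule F V)) := by
  intro j
  induction j with
  | zero => intro _; simp
  | succ j ih =>
    intro hj
    have hj' : j < r := hj
    have ih' := ih (Nat.le_of_lt hj')
    rw [Finset.range_add_one, Finset.sup_insert]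
    have hdisj : Disjoint (Module.End.eigenspace T (μ j))
        ((Finset.range j).sup fun i => Module.End.eigenspace T (μ i)) := by
      have hind := Module.End.eigenspaces_iSupIndep T
      refine (hind (μ j)).mono_right ?_
      apply Finset.sup_le
      intro i hi
      rw [Finset.mem_range] at hi
      exact le_iSup₂_of_le (μ i) (hμ i j hi hj') le_rfl
    have h1 := Submodule.finrank_sup_add_finrank_inf_eq (Module.End.eigenspace T (μ j))
      ((Finset.range j).sup fun i => Module.End.eigenspace T (μ i))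
    rw [hdisj.eq_bot, finrank_bot, add_zero] at h1
    rw [h1, Nat.succ_mul, add_comm]
    exact Nat.add_le_add (hd j hj') ih'

/-- (EQD), one step -/
theorem a5b_eig_le {V : Type*} [AddCommGroup V] [Module F V] [FiniteDimensional F V]
    (T Y : Module.End F V) (hY : Function.Injective Y) (ξ : F) (h : T * Y = ξ • (Y * T)) (μ : F) :
    Module.finrank F (Module.End.eigenspace T μ) ≤
      Module.finrank F (Module.End.eigenspace T (ξ * μ)) := by
  have hmaps : ∀ v ∈ Module.End.eigenspace T μ, Y v ∈ Module.End.eigenspace T (ξ * μ) := by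
    intro v hv
    rw [Module.End.mem_eigenspace_iff] at hv ⊢
    have h2 : T (Y v) = ξ • Y (T v) := by
      have := LinearMap.congr_fun h v
      simpa using this
    rw [h2, hv, map_smul, smul_smul]
  exact LinearMap.finrank_le_finrank_of_injective (f := Y.restrict hmaps) (by
    intro a b hab
    apply Subtype.ext
    apply hY
    have := congrArg Subtype.val hab
    simpa using this)

variable {n : ℕ}

theorem a5b_toLin_inj (a : GL (Fin n) F) :
    Function.Injective (Matrix.toLin' (a : Matrix (Fin n) (Fin n) F)) := by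
  apply Function.LeftInverse.injective
    (g := Matrix.toLin' ((a⁻¹ : GL (Fin n) F) : Matrix (Fin n) (Fin n) F))
  intro v
  have h : ((a⁻¹ : GL (Fin n) F) : Matrix (Fin n) (Fin n) F) * (a : Matrix (Fin n) (Fin n) F) = 1 := by
    rw [← Units.val_mul, inv_mul_cancel, Units.val_one]
  rw [← LinearMap.comp_apply, ← Matrix.toLin'_mul, h, Matrix.toLin'_one, LinearMap.id_apply]

/-- (EQD): if `g y = ξ y g` with `ξ` a primitive `r`-th root of unity then `r * eDim g c ≤ n` -/
theorem a5b_eqd {r : ℕ} (g y : GL (Fin n) F) (ξ : F) (hξ : IsPrimitiveRoot ξ r)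
    (h : (g : Matrix (Fin n) (Fin n) F) * (y : Matrix (Fin n) (Fin n) F) =
      ξ • ((y : Matrix (Fin n) (Fin n) F) * (g : Matrix (Fin n) (Fin n) F))) (c : F) :
    r * eDim g c ≤ n := by
  obtain ⟨T, hT⟩ : ∃ T : Module.End F (Fin n → F),
      T = Matrix.toLin' (g : Matrix (Fin n) (Fin n) F) := ⟨_, rfl⟩
  obtain ⟨Y, hY⟩ : ∃ Y : Module.End F (Fin n → F),
      Y = Matrix.toLin' (y : Matrix (Fin n) (Fin n) F) := ⟨_, rfl⟩
  have hTY : T * Y = ξ • (Y * T) := by
    rw [Module.End.mul_eq_comp, Module.End.mul_eq_comp, hT, hY, ← Matrix.toLin'_mul,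
      ← Matrix.toLin'_mul, h, map_smul]
  have hTinj : Function.Injective T := hT ▸ a5b_toLin_inj g
  have hYinj : Function.Injective Y := hY ▸ a5b_toLin_inj y
  have hE : eDim g c = Module.finrank F (Module.End.eigenspace T c) := by
    rw [hT]; rfl
  rw [hE]
  by_cases hc : c = 0
  · rw [hc, Module.End.eigenspace_zero, LinearMap.ker_eq_bot.mpr hTinj, finrank_bot, mul_zero]
    exact Nat.zero_le n
  · have hd : ∀ i : ℕ, Module.finrank F (Module.End.eigenspace T c) ≤
        Module.finrank F (Module.End.eigenspace T (ξ ^ i * c)) := by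
      intro i
      induction i with
      | zero => rw [pow_zero, one_mul]
      | succ i ih =>
        refine ih.trans ?_
        have := a5b_eig_le T Y hYinj ξ hTY (ξ ^ i * c)
        rwa [← mul_assoc, ← pow_succ'] at this
    have hμ : ∀ i j, i < j → j < r → ξ ^ i * c ≠ ξ ^ j * c := by
      intro i j hij hj heq
      have h1 : ξ ^ i = ξ ^ j := mul_right_cancel₀ hc heq
      have := hξ.pow_inj (hij.trans hj) hj h1
      omega
    have h2 := a5b_range_sup T (fun i => ξ ^ i * c) r _ hμ (fun i _ => hd i) r le_rfl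
    refine h2.trans ?_
    have h3 := Submodule.finrank_le
      ((Finset.range r).sup fun i => Module.End.eigenspace T (ξ ^ i * c))
    rwa [Module.finrank_fin_fun] at h3

theorem a5b_scalar_comm (s : GL (Fin n) F) (hs : s ∈ scalars (Fin n) F) (h : GL (Fin n) F) :
    s * h = h * s := by
  obtain ⟨c, hc⟩ := (mem_scalars_iff s).1 hs
  apply Units.ext
  rw [Units.val_mul, Units.val_mul, hc, Matrix.smul_mul, Matrix.mul_smul, one_mul, mul_one]

theorem a5b_smul_one_inj (hn : 0 < n) {a b : F}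
    (h : a • (1 : Matrix (Fin n) (Fin n) F) = b • 1) : a = b := by
  have := congrFun (congrFun h ⟨0, hn⟩) ⟨0, hn⟩
  simpa using this

end lin

section grp

variable {F : Type*} [Field F] [Finite F] {n r : ℕ} {R : Subgroup (GL (Fin n) F)}

theorem a5b_pow_r (S : Setup r R) (hr5 : 5 ≤ r) (x : GL (Fin n) F) (hx : x ∈ R) : x ^ r = 1 := by
  have hr := S.hr
  rcases S.hexp with h | h
  · have h1 := Monoid.pow_exponent_eq_one (⟨x, hx⟩ : R)
    rw [h] at h1
    have h2 := congrArg Subtype.val h1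
    simpa using h2
  · have h4 := Monoid.pow_exponent_eq_one (⟨x, hx⟩ : R)
    rw [h] at h4
    obtain ⟨k, hk⟩ := S.hR ⟨x, hx⟩
    have hco : Nat.Coprime 4 (r ^ k) := by
      apply Nat.Coprime.pow_right
      have h2 : Nat.Coprime 2 r := (Nat.coprime_primes Nat.prime_two hr).2 (by omega)
      exact (Nat.Coprime.pow_left 2 h2 : Nat.Coprime (2 ^ 2) r)
    have h1 : (⟨x, hx⟩ : R) = 1 := by
      have h5 := pow_gcd_eq_one.2 ⟨h4, hk⟩
      rwa [hco, pow_one] at h5
    have hx1 : x = 1 := congrArg Subtype.val h1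
    rw [hx1, one_pow]

theorem a5b_center_scalar (S : Setup r R) (z : GL (Fin n) F)
    (hc : ∀ x ∈ R, x * z = z * x) : ∃ c : F, (z : Matrix (Fin n) (Fin n) F) = c • 1 := by
  apply S.hirr.2
  rintro s ⟨x, hx, rfl⟩
  have h1 := congrArg Units.val (hc x hx)
  rw [Units.val_mul, Units.val_mul] at h1
  exact h1.symm

theorem a5b_exists_zeta (S : Setup r R) (hr5 : 5 ≤ r) : ∃ ζ : F, IsPrimitiveRoot ζ r ∧ 0 < n := by
  have hr := S.hr
  haveI : Fact r.Prime := ⟨hr⟩
  have hcard : Nat.card (Subgroup.center R) = r := S.hZ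
  have hex : ∃ z : Subgroup.center R, z ≠ 1 := by
    by_contra hcon
    push Not at hcon
    haveI : Subsingleton (Subgroup.center R) := ⟨fun a b => (hcon a).trans (hcon b).symm⟩
    have h1 := Nat.card_of_subsingleton (1 : Subgroup.center R)
    rw [hcard] at h1
    exact hr.one_lt.ne' h1
  obtain ⟨z, hz⟩ := hex
  have hzne : ((z : R) : GL (Fin n) F) ≠ 1 := by
    intro h
    apply hz
    apply Subtype.ext
    apply Subtype.ext
    exact h
  have hn : 0 < n := by
    rcases Nat.eq_zero_or_pos n with h0 | h0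
    · exfalso
      subst h0
      apply hzne
      apply Units.ext
      exact Subsingleton.elim _ _
    · exact h0
  have hzc : ∀ x ∈ R, x * ((z : R) : GL (Fin n) F) = ((z : R) : GL (Fin n) F) * x := by
    intro x hx
    have h1 := (Subgroup.mem_center_iff.1 z.2) ⟨x, hx⟩
    exact congrArg Subtype.val h1
  obtain ⟨ζ, hζ⟩ := a5b_center_scalar S _ hzc
  refine ⟨ζ, ?_, hn⟩
  have hzr : ((z : R) : GL (Fin n) F) ^ r = 1 := a5b_pow_r S hr5 _ (z : R).2
  have hζr : ζ ^ r = 1 := by
    have h1 := congrArg Units.val hzr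
    rw [Units.val_pow_eq_pow_val, hζ, smul_pow, one_pow, Units.val_one,
      ← one_smul F (1 : Matrix (Fin n) (Fin n) F), smul_smul, mul_one] at h1
    exact a5b_smul_one_inj hn h1
  have hζ1 : ζ ≠ 1 := by
    intro h
    apply hzne
    apply Units.ext
    rw [hζ, h, one_smul, Units.val_one]
  have ho : orderOf ζ = r := orderOf_eq_prime hζr hζ1
  have := IsPrimitiveRoot.orderOf ζ
  rwa [ho] at this

/-- **(A5b) r = ϖ ≥ 5: glue.** -/
theorem eq_bound (S : Setup r R) (hr5 : 5 ≤ r) (g : GL (Fin n) F)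
    (hg : g ∈ subgroupNormalizer (HZ R)) (hnt : ¬ Triv R g) (hpow : g ^ r = 1)
    (hK1 : ∀ y ∈ HZ R, y ∉ scalars (Fin n) F → ∀ c : F, r * eDim y c ≤ n)
    (hex : ∃ x ∈ R, ∃ y ∈ HZ R, y ∉ scalars (Fin n) F ∧ g * x * g⁻¹ = y * x ∧
      g * y * g⁻¹ * y⁻¹ ∈ scalars (Fin n) F)
    (hgrid : ∀ (ρ x : GL (Fin n) F) (ζ : F), IsPrimitiveRoot ζ r → ρ ^ r = 1 → g * ρ = ρ * g →
      ∀ e k : ℕ,
      (ρ : Matrix (Fin n) (Fin n) F) * (x : Matrix (Fin n) (Fin n) F) =
        ζ ^ e • ((x : Matrix (Fin n) (Fin n) F) * (ρ : Matrix (Fin n) (Fin n) F)) →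
      (g : Matrix (Fin n) (Fin n) F) * (x : Matrix (Fin n) (Fin n) F) =
        ζ ^ k • ((ρ : Matrix (Fin n) (Fin n) F) * (x : Matrix (Fin n) (Fin n) F) *
          (g : Matrix (Fin n) (Fin n) F)) →
      (∀ b : ℕ, r * eDim ρ (ζ ^ b) ≤ n) → ∀ c : F, 2 * eDim g c ≤ n)
    (c : F) : 2 * eDim g c ≤ n := by
  have hr := S.hr
  haveI : Fact r.Prime := ⟨hr⟩
  haveI : NeZero r := ⟨hr.ne_zero⟩
  obtain ⟨ζ, hζ, hn⟩ := a5b_exists_zeta S hr5
  obtain ⟨x, hxR, y, hyHZ, hyns, hgx, hgy⟩ := hex
  obtain ⟨s, hs⟩ : ∃ s : GL (Fin n) F, s = g * y * g⁻¹ * y⁻¹ := ⟨_, rfl⟩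
  rw [← hs] at hgy
  obtain ⟨ξ₀, hξ₀⟩ := (mem_scalars_iff s).1 hgy
  have hconj : ∀ j : ℕ, g ^ j * y * (g ^ j)⁻¹ = s ^ j * y := by
    intro j
    induction j with
    | zero => simp
    | succ j ih =>
      have e1 : g ^ (j + 1) * y * (g ^ (j + 1))⁻¹ = g * (g ^ j * y * (g ^ j)⁻¹) * g⁻¹ := by
        rw [pow_succ']; group
      rw [e1, ih]
      have e2 : g * y * g⁻¹ = s * y := by rw [hs]; group
      have hsj : s ^ j * g = g * s ^ j :=
        a5b_scalar_comm (s ^ j) (Subgroup.pow_mem _ hgy j) g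
      calc g * (s ^ j * y) * g⁻¹ = (g * s ^ j) * y * g⁻¹ := by group
        _ = s ^ j * (g * y * g⁻¹) := by rw [← hsj]; group
        _ = s ^ (j + 1) * y := by rw [e2, pow_succ]; group
  have hsr : s ^ r = 1 := by
    have h1 := hconj r
    rw [hpow, one_mul, inv_one, mul_one] at h1
    have h2 : s ^ r * y = 1 * y := by rw [one_mul]; exact h1.symm
    exact mul_right_cancel h2
  have hξr : (ξ₀ : F) ^ r = 1 := by
    have h1 := congrArg Units.val hsr
    rw [Units.val_pow_eq_pow_val, hξ₀, smul_pow, one_pow, Units.val_one,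
      ← one_smul F (1 : Matrix (Fin n) (Fin n) F), smul_smul, mul_one] at h1
    exact a5b_smul_one_inj hn h1
  have hgys : g * y = s * (y * g) := by rw [hs]; group
  by_cases h1 : (ξ₀ : F) = 1
  · -- `g` commutes with `y`
    have hs1 : s = 1 := by
      apply Units.ext
      rw [hξ₀, h1, one_smul, Units.val_one]
    rw [hs1, one_mul] at hgys
    have hy' : y ∈ ((R ⊔ scalars (Fin n) F : Subgroup (GL (Fin n) F)) : Set (GL (Fin n) F)) := hyHZ
    rw [Subgroup.mul_normal] at hy'
    obtain ⟨ρ, hρR, z, hz, hρz⟩ := Set.mem_mul.1 hy'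
    have hρR' : ρ ∈ R := hρR
    have hz' : z ∈ scalars (Fin n) F := hz
    have hzc := a5b_scalar_comm z hz'
    have hρns : ρ ∉ scalars (Fin n) F := by
      intro h
      apply hyns
      rw [← hρz]
      exact Subgroup.mul_mem _ h hz'
    have hcomm : g * ρ = ρ * g := by
      have h2 : g * ρ * z = ρ * g * z := by
        calc g * ρ * z = g * (ρ * z) := by group
          _ = ρ * z * g := by rw [hρz, hgys]
          _ = ρ * (z * g) := by group
          _ = ρ * (g * z) := by rw [hzc g]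
          _ = ρ * g * z := by group
      exact mul_right_cancel h2
    have hρr : ρ ^ r = 1 := a5b_pow_r S hr5 ρ hρR'
    have hxr : x ^ r = 1 := a5b_pow_r S hr5 x hxR
    have hρxr : (ρ * x) ^ r = 1 := a5b_pow_r S hr5 _ (R.mul_mem hρR' hxR)
    have hzr : z ^ r = 1 := by
      have h2 : (g * x * g⁻¹) ^ r = 1 := by rw [conj_pow, hxr]; group
      rw [hgx, ← hρz] at h2
      have h3 : ρ * z * x = z * (ρ * x) := by
        rw [← hzc ρ]; group
      rw [h3, (show Commute z (ρ * x) from hzc (ρ * x)).mul_pow, hρxr, mul_one] at h2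
      exact h2
    obtain ⟨c₀, hc₀⟩ := (mem_scalars_iff z).1 hz'
    have hc₀r : (c₀ : F) ^ r = 1 := by
      have h2 := congrArg Units.val hzr
      rw [Units.val_pow_eq_pow_val, hc₀, smul_pow, one_pow, Units.val_one,
        ← one_smul F (1 : Matrix (Fin n) (Fin n) F), smul_smul, mul_one] at h2
      exact a5b_smul_one_inj hn h2
    obtain ⟨k, -, hk⟩ := hζ.eq_pow_of_pow_eq_one hc₀r
    -- the commutator of `ρ` and `x`
    obtain ⟨w, hw⟩ : ∃ w : GL (Fin n) F, w = ρ * x * ρ⁻¹ * x⁻¹ := ⟨_, rfl⟩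
    have hwR : w ∈ R := by
      rw [hw]
      exact R.mul_mem (R.mul_mem (R.mul_mem hρR' hxR) (R.inv_mem hρR')) (R.inv_mem hxR)
    have hwc : ∀ a ∈ R, a * w = w * a := by
      intro a ha
      have h2 : ⁅(⟨ρ, hρR'⟩ : R), (⟨x, hxR⟩ : R)⁆ ∈ commutator R := by
        rw [commutator_def]
        exact Subgroup.commutator_mem_commutator (Subgroup.mem_top _) (Subgroup.mem_top _)
      rw [S.hext] at h2
      have h3 := (Subgroup.mem_center_iff.1 h2) ⟨a, ha⟩
      have h4 := congrArg Subtype.val h3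
      rw [hw]
      simpa [commutatorElement_def] using h4
    obtain ⟨cw, hcw⟩ := a5b_center_scalar S w hwc
    have hwr : w ^ r = 1 := a5b_pow_r S hr5 w hwR
    have hcwr : cw ^ r = 1 := by
      have h2 := congrArg Units.val hwr
      rw [Units.val_pow_eq_pow_val, hcw, smul_pow, one_pow, Units.val_one,
        ← one_smul F (1 : Matrix (Fin n) (Fin n) F), smul_smul, mul_one] at h2
      exact a5b_smul_one_inj hn h2
    obtain ⟨e, -, he⟩ := hζ.eq_pow_of_pow_eq_one hcwr
    have hρx : (ρ : Matrix (Fin n) (Fin n) F) * (x : Matrix (Fin n) (Fin n) F) =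
        ζ ^ e • ((x : Matrix (Fin n) (Fin n) F) * (ρ : Matrix (Fin n) (Fin n) F)) := by
      have h2 : ρ * x = w * (x * ρ) := by rw [hw]; group
      have h3 := congrArg Units.val h2
      rw [Units.val_mul, Units.val_mul, Units.val_mul, hcw, Matrix.smul_mul, one_mul, ← he] at h3
      exact h3
    have hgx' : (g : Matrix (Fin n) (Fin n) F) * (x : Matrix (Fin n) (Fin n) F) =
        ζ ^ k • ((ρ : Matrix (Fin n) (Fin n) F) * (x : Matrix (Fin n) (Fin n) F) *
          (g : Matrix (Fin n) (Fin n) F)) := by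
      have h2 : g * x = z * (ρ * x * g) := by
        have h3 : g * x = (g * x * g⁻¹) * g := by group
        rw [h3, hgx, ← hρz, ← hzc ρ]; group
      have h3 := congrArg Units.val h2
      rw [Units.val_mul, Units.val_mul, Units.val_mul, Units.val_mul, hc₀, Matrix.smul_mul,
        one_mul, ← hk] at h3
      exact h3
    have hK : ∀ b : ℕ, r * eDim ρ (ζ ^ b) ≤ n := fun b =>
      hK1 ρ (Subgroup.mem_sup_left hρR') hρns (ζ ^ b)
    exact hgrid ρ x ζ hζ hρr hcomm e k hρx hgx' hK c
  · -- `ξ₀` is a primitive `r`-th root of unity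
    have ho : orderOf (ξ₀ : F) = r := orderOf_eq_prime hξr h1
    have hprim : IsPrimitiveRoot (ξ₀ : F) r := by
      have := IsPrimitiveRoot.orderOf (ξ₀ : F)
      rwa [ho] at this
    have hmat : (g : Matrix (Fin n) (Fin n) F) * (y : Matrix (Fin n) (Fin n) F) =
        (ξ₀ : F) • ((y : Matrix (Fin n) (Fin n) F) * (g : Matrix (Fin n) (Fin n) F)) := by
      have h3 := congrArg Units.val hgys
      rw [Units.val_mul, Units.val_mul, Units.val_mul, hξ₀, Matrix.smul_mul, one_mul] at h3
      exact h3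
    have h2 := a5b_eqd g y (ξ₀ : F) hprim hmat c
    have h3 : 2 * eDim g c ≤ r * eDim g c := Nat.mul_le_mul_right _ (by omega)
    exact h3.trans h2

end grp

end Cfsg.Agent.Helper61.ES
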