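import Mathlib
import Cfsg.Prelude.Def_GeometricClasses
import Cfsg.Agent.Lib.Helper97.ESDefs
import Cfsg.Agent.Lib.Helper61.ESA5b

/-!
# ES (G3) `card_fixed`, piece of helper97's server for S5877, written by helper61
-/

set_option autoImplicit false

namespace Cfsg.Agent.Helper61.ES

open Cfsg Cfsg.Geo Cfsg.Agent.Helper97.ES
open scoped MatrixGroups commutatorElement

section gen

/-- commutators are not changed by central factors -/
theorem g3_comm_central {G : Type*} [Group G] (u v z w : G) (hz : ∀ h : G, z * h = h * z)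
    (hw : ∀ h : G, w * h = h * w) :
    (u * z) * (w * v) * (u * z)⁻¹ * (w * v)⁻¹ = u * v * u⁻¹ * v⁻¹ := by
  have hz' : ∀ h : G, z * h * z⁻¹ = h := fun h => mul_inv_eq_iff_eq_mul.2 (hz h)
  have hw' : ∀ h : G, w * h * w⁻¹ = h := fun h => mul_inv_eq_iff_eq_mul.2 (hw h)
  calc (u * z) * (w * v) * (u * z)⁻¹ * (w * v)⁻¹
      = u * (z * (w * v) * z⁻¹) * u⁻¹ * v⁻¹ * w⁻¹ := by group
    _ = u * (w * v) * u⁻¹ * v⁻¹ * w⁻¹ := by rw [hz']
    _ = (u * w) * v * u⁻¹ * v⁻¹ * w⁻¹ := by group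
    _ = (w * u) * v * u⁻¹ * v⁻¹ * w⁻¹ := by rw [hw u]
    _ = w * (u * v * u⁻¹ * v⁻¹) * w⁻¹ := by group
    _ = u * v * u⁻¹ * v⁻¹ := hw' _

theorem g3_li {F ι V : Type*} [Field F] [AddCommGroup V] [Module F V] {v : ι → V}
    (h : LinearIndependent F v) {t s : ι} {a b : F} (ha : a ≠ 0) (hab : a • v t = b • v s) :
    t = s := by
  have h1 : Finsupp.single t a = Finsupp.single s b := by
    apply h
    rw [Finsupp.linearCombination_single, Finsupp.linearCombination_single]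
    exact hab
  rcases (Finsupp.single_eq_single_iff _ _ _ _).1 h1 with h2 | h2
  · exact h2.1
  · exact absurd h2.1 ha

end gen

section defs

variable {F : Type*} [Field F] {n : ℕ}

/-- the elements of `R` which `g` centralises modulo scalars -/
def g3C (R : Subgroup (GL (Fin n) F)) (g : GL (Fin n) F) : Subgroup (GL (Fin n) F) where
  carrier := {y | y ∈ R ∧ g * y * g⁻¹ * y⁻¹ ∈ scalars (Fin n) F}
  one_mem' := ⟨R.one_mem, by
    have h : g * 1 * g⁻¹ * (1 : GL (Fin n) F)⁻¹ = 1 := by group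
    rw [h]
    exact Subgroup.one_mem _⟩
  mul_mem' := by
    rintro a b ⟨haR, ha⟩ ⟨hbR, hb⟩
    refine ⟨R.mul_mem haR hbR, ?_⟩
    have h : g * (a * b) * g⁻¹ * (a * b)⁻¹ =
        (g * a * g⁻¹ * a⁻¹) * (a * (g * b * g⁻¹ * b⁻¹) * a⁻¹) := by group
    rw [h]
    exact Subgroup.mul_mem _ ha (Subgroup.Normal.conj_mem inferInstance _ hb a)
  inv_mem' := by
    rintro a ⟨haR, ha⟩
    refine ⟨R.inv_mem haR, ?_⟩
    have h : g * a⁻¹ * g⁻¹ * (a⁻¹)⁻¹ = a⁻¹ * (g * a * g⁻¹ * a⁻¹)⁻¹ * (a⁻¹)⁻¹ := by group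
    rw [h]
    exact Subgroup.Normal.conj_mem inferInstance _ (Subgroup.inv_mem _ ha) a⁻¹

theorem g3_mem_C {R : Subgroup (GL (Fin n) F)} {g y : GL (Fin n) F} :
    y ∈ g3C R g ↔ y ∈ R ∧ g * y * g⁻¹ * y⁻¹ ∈ scalars (Fin n) F := Iff.rfl

theorem g3_C_le (R : Subgroup (GL (Fin n) F)) (g : GL (Fin n) F) : g3C R g ≤ R :=
  fun _ hy => hy.1

theorem g3_inf_le_C (R : Subgroup (GL (Fin n) F)) (g : GL (Fin n) F) :
    R ⊓ scalars (Fin n) F ≤ g3C R g := by
  rintro y ⟨hyR, hyZ⟩
  refine ⟨hyR, ?_⟩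
  exact Subgroup.mul_mem _ (Subgroup.Normal.conj_mem inferInstance _ hyZ g)
    (Subgroup.inv_mem _ hyZ)

/-- an invertible matrix which is a multiple of the identity is in `scalars` -/
theorem g3_scalar_of_matrix (w : GL (Fin n) F) (c : F)
    (h : (w : Matrix (Fin n) (Fin n) F) = c • 1) : w ∈ scalars (Fin n) F := by
  by_cases hc : c = 0
  · have h0 : (w : Matrix (Fin n) (Fin n) F) = 0 := by rw [h, hc, zero_smul]
    have h1 : (1 : Matrix (Fin n) (Fin n) F) = 0 := by
      have h2 : ((w⁻¹ : GL (Fin n) F) : Matrix (Fin n) (Fin n) F) *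
          (w : Matrix (Fin n) (Fin n) F) = 1 := by
        rw [← Units.val_mul, inv_mul_cancel, Units.val_one]
      rw [← h2, h0, mul_zero]
    have h3 : w = 1 := by
      apply Units.ext
      rw [h0, Units.val_one, h1]
    rw [h3]
    exact Subgroup.one_mem _
  · exact (mem_scalars_iff w).2 ⟨Units.mk0 c hc, h⟩

end defs

section grp

variable {F : Type*} [Field F] [Finite F] {n r : ℕ} {R : Subgroup (GL (Fin n) F)}

/-- (B2) commutators of elements of `R` are scalar -/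
theorem g3_comm_mem (S : Setup r R) (a b : GL (Fin n) F) (ha : a ∈ R) (hb : b ∈ R) :
    a * b * a⁻¹ * b⁻¹ ∈ scalars (Fin n) F := by
  have hwc : ∀ u ∈ R, u * (a * b * a⁻¹ * b⁻¹) = (a * b * a⁻¹ * b⁻¹) * u := by
    intro u hu
    have h2 : ⁅(⟨a, ha⟩ : R), (⟨b, hb⟩ : R)⁆ ∈ commutator R := by
      rw [commutator_def]
      exact Subgroup.commutator_mem_commutator (Subgroup.mem_top _) (Subgroup.mem_top _)
    rw [S.hext] at h2
    have h3 := (Subgroup.mem_center_iff.1 h2) ⟨u, hu⟩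
    have h4 := congrArg Subtype.val h3
    simpa [commutatorElement_def] using h4
  obtain ⟨c, hc⟩ := a5b_center_scalar S _ hwc
  exact g3_scalar_of_matrix _ c hc

/-- the heart of (G3): the index of `C` in `R` is not `r` -/
theorem g3_not_index_r (S : Setup r R) (g : GL (Fin n) F)
    (hg : g ∈ subgroupNormalizer (HZ R)) (ϖ : ℕ) (hϖ : ϖ.Prime) (hne : ϖ ≠ r)
    (hpow : g ^ ϖ = 1) (hidx : (g3C R g).relIndex R = r) : False := by
  have hr := S.hr
  have hZc : ∀ s ∈ scalars (Fin n) F, ∀ h : GL (Fin n) F, s * h = h * s :=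
    fun s hs h => a5b_scalar_comm s hs h
  -- an element outside `C`
  have hex : ∃ a ∈ R, a ∉ g3C R g := by
    by_contra hcon
    push Not at hcon
    have h1 : R ≤ g3C R g := fun a ha => hcon a ha
    rw [Subgroup.relIndex_eq_one.2 h1] at hidx
    exact hr.one_lt.ne hidx
  obtain ⟨a, haR, haC⟩ := hex
  -- `g a g⁻¹ = a' z`
  have hga : g * a * g⁻¹ ∈ HZ R :=
    (Subgroup.mem_normalizer_iff.1 hg a).1 (Subgroup.mem_sup_left haR)
  have hga' : g * a * g⁻¹ ∈
      ((R ⊔ scalars (Fin n) F : Subgroup (GL (Fin n) F)) : Set (GL (Fin n) F)) := hga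
  rw [Subgroup.mul_normal] at hga'
  obtain ⟨a', ha'R, z, hz, ha'z⟩ := Set.mem_mul.1 hga'
  have ha'R' : a' ∈ R := ha'R
  have hz' : z ∈ scalars (Fin n) F := hz
  obtain ⟨d, hd⟩ : ∃ d : GL (Fin n) F, d = a⁻¹ * a' := ⟨_, rfl⟩
  have hdR : d ∈ R := by rw [hd]; exact R.mul_mem (R.inv_mem haR) ha'R'
  have hgad : g * a * g⁻¹ = a * d * z := by rw [← ha'z, hd]; group
  -- (1) `d` commutes with `C`
  have h1 : ∀ c ∈ g3C R g, c * d = d * c := by
    intro c hc
    obtain ⟨hcR, hcZ⟩ := hc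
    have hs : a * c * a⁻¹ * c⁻¹ ∈ scalars (Fin n) F := g3_comm_mem S a c haR hcR
    have e1 : (g * a * g⁻¹) * (g * c * g⁻¹) * (g * a * g⁻¹)⁻¹ * (g * c * g⁻¹)⁻¹ =
        g * (a * c * a⁻¹ * c⁻¹) * g⁻¹ := by group
    have e2 : g * (a * c * a⁻¹ * c⁻¹) * g⁻¹ = a * c * a⁻¹ * c⁻¹ := by
      rw [← hZc _ hs g]; group
    have e3 : g * c * g⁻¹ = (g * c * g⁻¹ * c⁻¹) * c := by group
    have e4 : (g * a * g⁻¹) * (g * c * g⁻¹) * (g * a * g⁻¹)⁻¹ * (g * c * g⁻¹)⁻¹ =
        a' * c * a'⁻¹ * c⁻¹ := by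
      rw [← ha'z, e3]
      exact g3_comm_central a' c z _ (hZc z hz') (hZc _ hcZ)
    have e5 : a' * c * a'⁻¹ * c⁻¹ = a * c * a⁻¹ * c⁻¹ := by rw [← e4, e1, e2]
    have e6 : a' * c * a'⁻¹ = a * c * a⁻¹ := mul_right_cancel e5
    -- `a⁻¹ a' c = c a⁻¹ a'`
    rw [hd]
    have e7 : a' * c = a * c * a⁻¹ * a' := by rw [← e6]; group
    calc c * (a⁻¹ * a') = a⁻¹ * (a * c * a⁻¹ * a') := by group
      _ = a⁻¹ * (a' * c) := by rw [e7]
      _ = a⁻¹ * a' * c := by group
  -- (2) `d ∉ C`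
  have h2 : d ∉ g3C R g := by
    intro hdC
    obtain ⟨-, hdZ⟩ := hdC
    -- work modulo scalars
    let π := QuotientGroup.mk' (scalars (Fin n) F)
    have hπz : ∀ s ∈ scalars (Fin n) F, π s = 1 := fun s hs =>
      (QuotientGroup.eq_one_iff s).2 hs
    have hπa : π g * π a * (π g)⁻¹ = π a * π d := by
      have h3 := congrArg π hgad
      simpa [hπz z hz'] using h3
    have hπd : π g * π d * (π g)⁻¹ = π d := by
      have h3 : π (g * d * g⁻¹ * d⁻¹) = 1 := hπz _ hdZ
      have h4 : π g * π d * (π g)⁻¹ * (π d)⁻¹ = 1 := by simpa using h3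
      exact mul_inv_eq_one.1 h4
    have hk : ∀ k : ℕ, π g ^ k * π a * (π g ^ k)⁻¹ = π a * π d ^ k := by
      intro k
      induction k with
      | zero => simp
      | succ k ih =>
        have e1 : π g ^ (k + 1) * π a * (π g ^ (k + 1))⁻¹ =
            π g * (π g ^ k * π a * (π g ^ k)⁻¹) * (π g)⁻¹ := by
          rw [pow_succ']; group
        rw [e1, ih]
        have e2 : π g * (π a * π d ^ k) * (π g)⁻¹ =
            (π g * π a * (π g)⁻¹) * (π g * π d * (π g)⁻¹) ^ k := by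
          rw [conj_pow]; group
        rw [e2, hπa, hπd, pow_succ']; group
    have hdϖ : π d ^ ϖ = 1 := by
      have h3 := hk ϖ
      have h4 : π g ^ ϖ = 1 := by rw [← map_pow, hpow, map_one]
      rw [h4, one_mul, inv_one, mul_one] at h3
      have h5 : π a * π d ^ ϖ = π a * 1 := by rw [mul_one]; exact h3.symm
      exact mul_left_cancel h5
    obtain ⟨m, hm⟩ := S.hR ⟨d, hdR⟩
    have hdm : π d ^ r ^ m = 1 := by
      have h3 : d ^ r ^ m = 1 := by
        have := congrArg Subtype.val hm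
        simpa using this
      rw [← map_pow, h3, map_one]
    have hco : Nat.Coprime ϖ (r ^ m) :=
      Nat.Coprime.pow_right m ((Nat.coprime_primes hϖ hr).2 hne)
    have hd1 : π d = 1 := by
      have h5 := pow_gcd_eq_one.2 ⟨hdϖ, hdm⟩
      rwa [hco, pow_one] at h5
    have hdZ' : d ∈ scalars (Fin n) F := (QuotientGroup.eq_one_iff d).1 hd1
    apply haC
    refine ⟨haR, ?_⟩
    have e1 : g * a * g⁻¹ * a⁻¹ = a * (d * z) * a⁻¹ := by rw [hgad]; group
    rw [e1]
    exact Subgroup.Normal.conj_mem inferInstance _ (Subgroup.mul_mem _ hdZ' hz') a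
  -- (3) `R = C ⊔ ⟨d⟩` centralises `d`
  have hCK : g3C R g ≤ g3C R g ⊔ Subgroup.zpowers d := le_sup_left
  have hKR : g3C R g ⊔ Subgroup.zpowers d ≤ R :=
    sup_le (g3_C_le R g) (Subgroup.zpowers_le.2 hdR)
  have hmul := Subgroup.relIndex_mul_relIndex _ _ _ hCK hKR
  rw [hidx] at hmul
  have hRK : R ≤ g3C R g ⊔ Subgroup.zpowers d := by
    rcases hr.eq_one_or_self_of_dvd _ (Dvd.intro _ hmul) with h3 | h3
    · exfalso
      apply h2
      exact Subgroup.relIndex_eq_one.1 h3 (Subgroup.mem_sup_right (Subgroup.mem_zpowers d))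
    · rw [h3] at hmul
      have h4 : (g3C R g ⊔ Subgroup.zpowers d).relIndex R = 1 := by
        have := Nat.eq_of_mul_eq_mul_left hr.pos (hmul.trans (mul_one r).symm)
        exact this
      exact Subgroup.relIndex_eq_one.1 h4
  have hKc : g3C R g ⊔ Subgroup.zpowers d ≤ Subgroup.centralizer {d} := by
    apply sup_le
    · intro c hc
      rw [Subgroup.mem_centralizer_iff]
      intro h hh
      rw [Set.mem_singleton_iff] at hh
      rw [hh]
      exact (h1 c hc).symm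
    · rw [Subgroup.zpowers_le, Subgroup.mem_centralizer_iff]
      intro h hh
      rw [Set.mem_singleton_iff] at hh
      rw [hh]
  have hdc : ∀ u ∈ R, u * d = d * u := by
    intro u hu
    have h3 := hKc (hRK hu)
    rw [Subgroup.mem_centralizer_iff] at h3
    exact (h3 d rfl).symm
  obtain ⟨c, hc⟩ := a5b_center_scalar S d hdc
  exact h2 (g3_inf_le_C R g ⟨hdR, g3_scalar_of_matrix d c hc⟩)

/-- **(G3) the fixed points of σ: their number f = r^j divides n*n = r^(i+j) with i ≥ 2.** -/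
theorem card_fixed (S : Setup r R) (x : Fin (n * n) → Matrix (Fin n) (Fin n) F)
    (hx : NiceBasis R x) (g : GL (Fin n) F) (hg : g ∈ subgroupNormalizer (HZ R))
    (hnt : ¬ Triv R g) (ϖ : ℕ) (hϖ : ϖ.Prime) (hne : ϖ ≠ r) (hpow : g ^ ϖ = 1)
    (σ : Equiv.Perm (Fin (n * n))) (μ : Fin (n * n) → F)
    (hσ : ∀ t, conjLin g (x t) = μ t • x (σ t)) :
    ∃ i j : ℕ, 2 ≤ i ∧ n * n = r ^ i * r ^ j ∧
      (Finset.univ.filter (fun t => σ t = t)).card = r ^ j := by
  classical
  have hr := S.hr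
  haveI : Fact r.Prime := ⟨hr⟩
  choose y hyR hy using hx.mem
  -- the matrix of a unit is not zero (when there is an index `t`)
  have hne0 : ∀ (t : Fin (n * n)) (w : GL (Fin n) F), (w : Matrix (Fin n) (Fin n) F) ≠ 0 := by
    intro t w h0
    have hn : 0 < n := by
      rcases Nat.eq_zero_or_pos n with h | h
      · subst h; exact t.elim0
      · exact h
    have h2 : ((w⁻¹ : GL (Fin n) F) : Matrix (Fin n) (Fin n) F) *
        (w : Matrix (Fin n) (Fin n) F) = 1 := by
      rw [← Units.val_mul, inv_mul_cancel, Units.val_one]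
    rw [h0, mul_zero] at h2
    have h3 := congrFun (congrFun h2 ⟨0, hn⟩) ⟨0, hn⟩
    simp at h3
  -- the quotient of `R` by its scalars
  obtain ⟨N, hN⟩ : ∃ N : Subgroup R, N = (scalars (Fin n) F).subgroupOf R := ⟨_, rfl⟩
  haveI hNn : N.Normal := by rw [hN]; infer_instance
  have hmemN : ∀ w : R, w ∈ N ↔ (w : GL (Fin n) F) ∈ scalars (Fin n) F := by
    intro w; rw [hN, Subgroup.mem_subgroupOf]
  obtain ⟨f, hf⟩ : ∃ f : Fin (n * n) → R ⧸ N,
      f = fun t => (QuotientGroup.mk (⟨y t, hyR t⟩ : R) : R ⧸ N) := ⟨_, rfl⟩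
  -- proportional matrices
  have hprop : ∀ (u w : R), (QuotientGroup.mk u : R ⧸ N) = QuotientGroup.mk w ↔
      ∃ c : Fˣ, ((w : GL (Fin n) F) : Matrix (Fin n) (Fin n) F) =
        (c : F) • ((u : GL (Fin n) F) : Matrix (Fin n) (Fin n) F) := by
    intro u w
    rw [QuotientGroup.eq, hmemN, mem_scalars_iff]
    constructor
    · rintro ⟨c, hc⟩
      refine ⟨c, ?_⟩
      have h1 : ((w : GL (Fin n) F) : Matrix (Fin n) (Fin n) F) =
          ((u : GL (Fin n) F) : Matrix (Fin n) (Fin n) F) *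
            (((u⁻¹ * w : R) : GL (Fin n) F) : Matrix (Fin n) (Fin n) F) := by
        rw [← Units.val_mul]
        congr 1
        simp
      rw [h1, hc, Matrix.mul_smul, mul_one]
    · rintro ⟨c, hc⟩
      refine ⟨c, ?_⟩
      have h1 : (((u⁻¹ * w : R) : GL (Fin n) F) : Matrix (Fin n) (Fin n) F) =
          (((u : GL (Fin n) F)⁻¹ : GL (Fin n) F) : Matrix (Fin n) (Fin n) F) *
            ((w : GL (Fin n) F) : Matrix (Fin n) (Fin n) F) := by
        rw [← Units.val_mul]
        congr 1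
      rw [h1, hc, Matrix.mul_smul, ← Units.val_mul, inv_mul_cancel, Units.val_one]
  have hfinj : Function.Injective f := by
    intro t s hts
    rw [hf] at hts
    obtain ⟨c, hc⟩ := (hprop _ _).1 hts
    simp only [hy] at hc
    have h1 : (1 : F) • x s = (c : F) • x t := by rw [one_smul]; exact hc
    exact (g3_li hx.li one_ne_zero h1).symm
  have hfsurj : Function.Surjective f := by
    intro q
    induction q using QuotientGroup.induction_on with
    | H w =>
      obtain ⟨t, c, hc⟩ := hx.cover (w : GL (Fin n) F) (Subgroup.mem_sup_left w.2)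
      have hc0 : c ≠ 0 := by
        intro h0
        apply hne0 t (w : GL (Fin n) F)
        rw [hc, h0, zero_smul]
      refine ⟨t, ?_⟩
      rw [hf]
      apply (hprop _ _).2
      refine ⟨Units.mk0 c hc0, ?_⟩
      simp only [hy]
      exact hc
  have hfbij : Function.Bijective f := ⟨hfinj, hfsurj⟩
  have hcardQ : Nat.card (R ⧸ N) = n * n := by
    rw [← Nat.card_congr (Equiv.ofBijective f hfbij), Nat.card_fin]
  -- the subgroup `C`
  obtain ⟨C', hC'⟩ : ∃ C' : Subgroup R, C' = (g3C R g).subgroupOf R := ⟨_, rfl⟩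
  have hmemC' : ∀ w : R, w ∈ C' ↔ (w : GL (Fin n) F) ∈ g3C R g := by
    intro w; rw [hC', Subgroup.mem_subgroupOf]
  have hNC' : N ≤ C' := by
    intro w hw
    rw [hmemC']
    exact g3_inf_le_C R g ⟨w.2, (hmemN w).1 hw⟩
  obtain ⟨Cb, hCb⟩ : ∃ Cb : Subgroup (R ⧸ N), Cb = C'.map (QuotientGroup.mk' N) := ⟨_, rfl⟩
  have hmemCb : ∀ w : R, (QuotientGroup.mk w : R ⧸ N) ∈ Cb ↔ (w : GL (Fin n) F) ∈ g3C R g := by
    intro w
    rw [hCb]
    constructor
    · intro h
      obtain ⟨c, hc, hcw⟩ := Subgroup.mem_map.1 h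
      have h1 : c⁻¹ * w ∈ N := QuotientGroup.eq.1 hcw
      have h2 : w = c * (c⁻¹ * w) := by group
      rw [← hmemC', h2]
      exact C'.mul_mem hc (hNC' h1)
    · intro h
      exact Subgroup.mem_map_of_mem _ ((hmemC' w).2 h)
  -- fixed points of `σ`
  have hfix : ∀ t, σ t = t ↔ f t ∈ Cb := by
    intro t
    rw [hf]
    show σ t = t ↔ (QuotientGroup.mk (⟨y t, hyR t⟩ : R) : R ⧸ N) ∈ Cb
    rw [hmemCb]
    show σ t = t ↔ y t ∈ g3C R g
    have hσt := hσ t
    rw [conjLin_apply, ← hy t] at hσt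
    constructor
    · intro h
      refine ⟨hyR t, ?_⟩
      apply g3_scalar_of_matrix _ (μ t)
      rw [Units.val_mul, Units.val_mul, Units.val_mul, hσt, h, ← hy t, Matrix.smul_mul,
        ← Units.val_mul, mul_inv_cancel, Units.val_one]
    · rintro ⟨-, hZ⟩
      obtain ⟨c, hc⟩ := (mem_scalars_iff _).1 hZ
      have h1 : ((g : GL (Fin n) F) : Matrix (Fin n) (Fin n) F) *
          ((y t : GL (Fin n) F) : Matrix (Fin n) (Fin n) F) *
          ((g⁻¹ : GL (Fin n) F) : Matrix (Fin n) (Fin n) F) = (c : F) • x t := by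
        have h2 : g * y t * g⁻¹ = (g * y t * g⁻¹ * (y t)⁻¹) * y t := by group
        have h3 := congrArg Units.val h2
        rw [Units.val_mul (g * y t * g⁻¹ * (y t)⁻¹), hc, Matrix.smul_mul, one_mul, hy t,
          Units.val_mul, Units.val_mul] at h3
        exact h3
      rw [h1] at hσt
      exact (g3_li hx.li c.ne_zero hσt).symm
  have hcardfix : (Finset.univ.filter (fun t => σ t = t)).card = Nat.card Cb := by
    rw [← Fintype.card_subtype, ← Nat.card_eq_fintype_card]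
    exact Nat.card_congr (Equiv.subtypeEquiv (Equiv.ofBijective f hfbij) hfix)
  -- orders
  have hQp : IsPGroup r (R ⧸ N) := S.hR.to_quotient N
  obtain ⟨m, hm⟩ := IsPGroup.iff_card.1 hQp
  have hmul := Subgroup.card_mul_index Cb
  rw [hm] at hmul
  obtain ⟨j, -, hj⟩ := (Nat.dvd_prime_pow hr).1 (Dvd.intro _ hmul)
  obtain ⟨i, -, hi⟩ := (Nat.dvd_prime_pow hr).1 (Dvd.intro_left _ hmul)
  have hidx : Cb.index = C'.index := by
    rw [hCb]
    apply Subgroup.index_map_eq _ (QuotientGroup.mk'_surjective N)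
    rw [QuotientGroup.ker_mk']
    exact hNC'
  refine ⟨i, j, ?_, ?_, ?_⟩
  · -- `2 ≤ i`
    rw [hidx] at hi
    rcases Nat.lt_or_ge i 2 with hlt | hge
    · exfalso
      interval_cases i
      · -- index one: `g` is trivial on `R` modulo scalars
        rw [pow_zero, Subgroup.index_eq_one] at hi
        apply hnt
        intro w hw
        have h1 : (⟨w, hw⟩ : R) ∈ C' := by rw [hi]; exact Subgroup.mem_top _
        exact ((hmemC' _).1 h1).2
      · rw [pow_one] at hi
        have h1 : (g3C R g).relIndex R = r := by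
          rw [← hi, hC']
          rfl
        exact g3_not_index_r S g hg ϖ hϖ hne hpow h1
    · exact hge
  · rw [← hcardQ, hm, ← hmul, hj, hi, mul_comm]
  · rw [hcardfix, hj]

end grp

end Cfsg.Agent.Helper61.ES
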