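import Mathlib
import Cfsg.Prelude.Def_Local
import Cfsg.Agent.Lib.Helper55.Cores
import Cfsg.Agent.Lib.Helper76.PSolvable
import Cfsg.Agent.Lib.Helper76.SolvPSolv
import Cfsg.Agent.Lib.Helper48.CoprimeGen
import Cfsg.Agent.Lib.Helper19.Klein
import Cfsg.Agent.S0144
import Cfsg.Agent.S0635
import Cfsg.Agent.Lib.Helper63.PLen

set_option autoImplicit false

/-!
# Groups of exponent dividing 6: the `3`-length is at most one

Hall–Higman's argument for exponent `6`, in elementary form.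
-/

namespace Cfsg.Agent.Helper61.ExpSix

open Subgroup Cfsg

universe u

variable {G : Type u} [Group G]

/-- exponent dividing `6` -/
def E6 (G : Type u) [Group G] : Prop := ∀ x : G, x ^ 6 = 1

theorem E6.quotient (h : E6 G) (N : Subgroup G) [N.Normal] : E6 (G ⧸ N) := by
  intro x
  obtain ⟨g, rfl⟩ := QuotientGroup.mk_surjective x
  rw [← QuotientGroup.mk_pow, h g, QuotientGroup.mk_one]

theorem E6.prime_dvd [Finite G] (h : E6 G) (r : ℕ) (hr : r.Prime) (hd : r ∣ Nat.card G) :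
    r = 2 ∨ r = 3 := by
  have : Fact r.Prime := ⟨hr⟩
  obtain ⟨x, hx⟩ := exists_prime_orderOf_dvd_card' (G := G) r hd
  have h1 : r ∣ 6 := by rw [← hx]; exact orderOf_dvd_of_pow_eq_one (h x)
  have h2 : r ∣ 2 * 3 := h1
  rcases (Nat.Prime.dvd_mul hr).mp h2 with h3 | h3
  · left; exact (Nat.prime_dvd_prime_iff_eq hr Nat.prime_two).mp h3
  · right; exact (Nat.prime_dvd_prime_iff_eq hr Nat.prime_three).mp h3

theorem E6.isSolvable [Finite G] (h : E6 G) : Group.IsSolvable G :=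
  Cfsg.Agent.S0144.aux 2 3 Nat.prime_two Nat.prime_three _ G rfl (fun r hr hd => h.prime_dvd r hr hd)

/-- a `3`-element has cube one -/
theorem E6.cube_eq_one (h : E6 G) {x : G} {k : ℕ} (hx : x ^ (3 ^ k) = 1) : x ^ 3 = 1 := by
  have h1 : orderOf x ∣ 3 ^ k := orderOf_dvd_of_pow_eq_one hx
  have h2 : orderOf x ∣ 2 * 3 := orderOf_dvd_of_pow_eq_one (h x)
  have h3 : (orderOf x).Coprime 2 :=
    Nat.Coprime.coprime_dvd_left h1 (Nat.Coprime.pow_left k (by norm_num))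
  exact orderOf_dvd_iff_pow_eq_one.mp (h3.dvd_of_dvd_mul_left h2)

/-- a `2`-element has square one -/
theorem E6.sq_eq_one (h : E6 G) {x : G} {k : ℕ} (hx : x ^ (2 ^ k) = 1) : x ^ 2 = 1 := by
  have h1 : orderOf x ∣ 2 ^ k := orderOf_dvd_of_pow_eq_one hx
  have h2 : orderOf x ∣ 2 * 3 := orderOf_dvd_of_pow_eq_one (h x)
  have h3 : (orderOf x).Coprime 3 :=
    Nat.Coprime.coprime_dvd_left h1 (Nat.Coprime.pow_left k (by norm_num))
  exact orderOf_dvd_iff_pow_eq_one.mp (h3.dvd_of_dvd_mul_right h2)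

theorem eq_one_of_sq_of_cube {x : G} (h2 : x ^ 2 = 1) (h3 : x ^ 3 = 1) : x = 1 := by
  have : x ^ 3 = x ^ 2 * x := pow_succ x 2
  rw [h3, h2, one_mul] at this
  exact this.symm

theorem cube_of_mem_isPGroup (h : E6 G) {R : Subgroup G} (hR : IsPGroup 3 R) {x : G}
    (hx : x ∈ R) : x ^ 3 = 1 := by
  obtain ⟨k, hk⟩ := hR ⟨x, hx⟩
  have hk' : x ^ (3 ^ k) = 1 := by
    have := congrArg Subtype.val hk
    simpa using this
  exact h.cube_eq_one hk'

theorem sq_of_mem_isPGroup (h : E6 G) {T : Subgroup G} (hT : IsPGroup 2 T) {x : G}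
    (hx : x ∈ T) : x ^ 2 = 1 := by
  obtain ⟨k, hk⟩ := hT ⟨x, hx⟩
  have hk' : x ^ (2 ^ k) = 1 := by
    have := congrArg Subtype.val hk
    simpa using this
  exact h.sq_eq_one hk'

theorem comm_of_sq {x y : G} (hx : x ^ 2 = 1) (hy : y ^ 2 = 1) (hxy : (x * y) ^ 2 = 1) :
    x * y = y * x := by
  have hx' : x⁻¹ = x := by
    rw [inv_eq_iff_mul_eq_one, ← pow_two]; exact hx
  have hy' : y⁻¹ = y := by
    rw [inv_eq_iff_mul_eq_one, ← pow_two]; exact hy
  have h3 : (x * y)⁻¹ = x * y := by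
    rw [inv_eq_iff_mul_eq_one, ← pow_two]; exact hxy
  rw [mul_inv_rev, hx', hy'] at h3
  exact h3.symm

/-- the final computation: `u` centralizes `v` and inverts `b`, `a`, with `b a v = 1` and
`a³ = b³ = 1`; then `v = 1`. -/
theorem key_computation {u v a b : G} (hz : b * a * v = 1) (huv : u * v * u⁻¹ = v)
    (hub : u * b * u⁻¹ = b⁻¹) (hua : u * a * u⁻¹ = a⁻¹) (ha3 : a ^ 3 = 1) (hb3 : b ^ 3 = 1) :
    v = 1 := by
  have h1 : b⁻¹ * a⁻¹ * v = 1 := by
    have : u * (b * a * v) * u⁻¹ = (u * b * u⁻¹) * (u * a * u⁻¹) * (u * v * u⁻¹) := by group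
    rw [hz, hub, hua, huv] at this
    rw [← this]; group
  have hv1 : v = a * b := by
    have := eq_inv_of_mul_eq_one_right h1
    rw [this]; group
  have hv2 : v = a⁻¹ * b⁻¹ := by
    have := eq_inv_of_mul_eq_one_right hz
    rw [this]; group
  have h2 : a * b = a⁻¹ * b⁻¹ := hv1.symm.trans hv2
  have h3 : a * a = b⁻¹ * b⁻¹ := by
    have : a * (a * b) * b⁻¹ = a * (a⁻¹ * b⁻¹) * b⁻¹ := by rw [h2]
    calc a * a = a * (a * b) * b⁻¹ := by group
      _ = a * (a⁻¹ * b⁻¹) * b⁻¹ := this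
      _ = b⁻¹ * b⁻¹ := by group
  have h4 : a * a = a⁻¹ := by
    rw [eq_inv_iff_mul_eq_one]
    have : a ^ 3 = a * a * a := by rw [pow_succ, pow_two]
    rw [← this]; exact ha3
  have h5 : b⁻¹ * b⁻¹ = b := by
    have h6 : b ^ 3 = b * b * b := by rw [pow_succ, pow_two]
    rw [h6] at hb3
    calc b⁻¹ * b⁻¹ = b⁻¹ * b⁻¹ * (b * b * b) := by rw [hb3, mul_one]
      _ = b := by group
  have h7 : a⁻¹ = b := by rw [← h4, h3, h5]
  rw [hv1, ← h7, mul_inv_cancel]

theorem inv_eq_self_of_sq {x : G} (hx : x ^ 2 = 1) : x⁻¹ = x := by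
  rw [inv_eq_iff_mul_eq_one, ← pow_two]; exact hx

/-- **Core of the argument.** A `3`-element `y` normalizing an elementary abelian `2`-subgroup `T`
and acting nontrivially on it, where `R` is a normal self-centralizing `3`-subgroup. -/
theorem core_contradiction [Finite G] (h : E6 G) (R : Subgroup G) [hRn : R.Normal]
    (hR : IsPGroup 3 R) (hCR : centralizer (R : Set G) ≤ R) (T : Subgroup G)
    (hT : ∀ x ∈ T, x ^ 2 = 1) (y : G) (hyT : ∀ x ∈ T, y * x * y⁻¹ ∈ T) (hy3 : y ^ 3 = 1)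
    (t : G) (htT : t ∈ T) (hne : y * t * y⁻¹ ≠ t) : False := by
  have hTc : ∀ a ∈ T, ∀ b ∈ T, a * b = b * a := fun a ha b hb =>
    comm_of_sq (hT a ha) (hT b hb) (hT _ (T.mul_mem ha hb))
  have hy3' : y * y * y = 1 := by rw [← hy3, pow_succ, pow_two]
  have hyinv : y⁻¹ * y⁻¹ = y := by
    calc y⁻¹ * y⁻¹ = y⁻¹ * y⁻¹ * (y * y * y) := by rw [hy3', mul_one]
      _ = y := by group
  obtain ⟨b, hb⟩ : ∃ b, b = y * t * y⁻¹ := ⟨_, rfl⟩
  obtain ⟨c, hc⟩ : ∃ c, c = y * b * y⁻¹ := ⟨_, rfl⟩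
  have hbT : b ∈ T := by rw [hb]; exact hyT _ htT
  have hcT : c ∈ T := by rw [hc]; exact hyT _ hbT
  have hyc : y * c * y⁻¹ = t := by
    rw [hc, hb]
    calc y * (y * (y * t * y⁻¹) * y⁻¹) * y⁻¹ = (y * y * y) * t * (y * y * y)⁻¹ := by group
      _ = t := by rw [hy3']; group
  have hbt : b ≠ t := by rw [hb]; exact hne
  obtain ⟨u, hu⟩ : ∃ u, u = t * b := ⟨_, rfl⟩
  obtain ⟨w, hw⟩ : ∃ w, w = b * c := ⟨_, rfl⟩
  have huT : u ∈ T := by rw [hu]; exact T.mul_mem htT hbT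
  have hwT : w ∈ T := by rw [hw]; exact T.mul_mem hbT hcT
  have hyu : y * u * y⁻¹ = w := by
    rw [hu, hw, hb, hc, hb]; group
  have huw_eq : u * w = t * c := by
    rw [hu, hw]
    have hbb : b * b = 1 := by rw [← pow_two]; exact hT b hbT
    calc t * b * (b * c) = t * (b * b) * c := by group
      _ = t * c := by rw [hbb, mul_one]
  have hyw : y * w * y⁻¹ = u * w := by
    rw [huw_eq, hTc t htT c hcT, hw]
    calc y * (b * c) * y⁻¹ = (y * b * y⁻¹) * (y * c * y⁻¹) := by group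
      _ = c * t := by rw [← hc, hyc]
  have huu : u * u = 1 := by rw [← pow_two]; exact hT u huT
  have hww : w * w = 1 := by rw [← pow_two]; exact hT w hwT
  have huwc : u * w = w * u := hTc u huT w hwT
  have hyuw : y * (u * w) * y⁻¹ = u := by
    calc y * (u * w) * y⁻¹ = (y * u * y⁻¹) * (y * w * y⁻¹) := by group
      _ = w * (u * w) := by rw [hyu, hyw]
      _ = u * (w * w) := by rw [← mul_assoc, ← huwc, mul_assoc]
      _ = u := by rw [hww, mul_one]
  have hu1 : u ≠ 1 := by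
    intro h1
    rw [hu] at h1
    have : t = b⁻¹ := eq_inv_of_mul_eq_one_left h1
    rw [inv_eq_self_of_sq (hT b hbT)] at this
    exact hbt this.symm
  have hw1 : w ≠ 1 := by
    intro h1
    rw [← hyu] at h1
    have : u = y⁻¹ * (y * u * y⁻¹) * y := by group
    rw [h1] at this
    apply hu1
    rw [this]; group
  have huw_ne : u ≠ w := by
    intro h1
    rw [hu, hw, hTc t htT b hbT] at h1
    have h2 : t = c := mul_left_cancel h1
    have h3 : y * t * y⁻¹ = y * c * y⁻¹ := by rw [← h2]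
    rw [hyc, ← hb] at h3
    exact hbt h3
  -- the four-group
  obtain ⟨U, hU⟩ : ∃ U, U = Cfsg.Agent.Helper19.kleinFour u w huu hww huwc := ⟨_, rfl⟩
  have hUmem : ∀ g, g ∈ U ↔ g = 1 ∨ g = u ∨ g = w ∨ g = u * w := by
    intro g; rw [hU]; exact Cfsg.Agent.Helper19.mem_kleinFour
  have huU : u ∈ U := (hUmem u).mpr (Or.inr (Or.inl rfl))
  have hwU : w ∈ U := (hUmem w).mpr (Or.inr (Or.inr (Or.inl rfl)))
  have hUc : ∀ x ∈ U, ∀ z ∈ U, x * z = z * x := by
    rw [hU]; exact Cfsg.Agent.Helper19.kleinFour_comm huu hww huwc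
  have hUsq : ∀ x ∈ U, x ^ 2 = 1 := by
    rw [hU]; exact Cfsg.Agent.Helper19.kleinFour_sq huu hww huwc
  have hUcard : 2 ^ 2 ≤ Nat.card U := by
    rw [hU]; exact Cfsg.Agent.Helper19.kleinFour_card huu hww huwc hu1 hw1 huw_ne
  -- `y⁻¹` normalizes `U`
  have hyinvU : ∀ g ∈ U, y⁻¹ * g * y ∈ U := by
    intro g hg
    rcases (hUmem g).mp hg with h1 | h1 | h1 | h1
    · rw [hUmem, h1]; left; group
    · rw [hUmem, h1]; right; right; right
      calc y⁻¹ * u * y = y⁻¹ * (y * (u * w) * y⁻¹) * y := by rw [hyuw]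
        _ = u * w := by group
    · rw [hUmem, h1]; right; left
      calc y⁻¹ * w * y = y⁻¹ * (y * u * y⁻¹) * y := by rw [hyu]
        _ = u := by group
    · rw [hUmem, h1]; right; right; left
      calc y⁻¹ * (u * w) * y = y⁻¹ * (y * w * y⁻¹) * y := by rw [hyw]
        _ = w := by group
  obtain ⟨K, hK⟩ : ∃ K, K = R ⊓ centralizer (U : Set G) := ⟨_, rfl⟩
  -- transport of the hypothesis of the generation lemma along conjugation by `y`
  have htrans : ∀ x : G, R ⊓ centralizer ({x} : Set G) ≤ K →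
      R ⊓ centralizer ({y * x * y⁻¹} : Set G) ≤ K := by
    intro x hx z hz
    rw [mem_inf, mem_centralizer_iff] at hz
    obtain ⟨hzR, hzc⟩ := hz
    have hz' : y⁻¹ * z * y ∈ R ⊓ centralizer ({x} : Set G) := by
      rw [mem_inf, mem_centralizer_iff]
      refine ⟨?_, ?_⟩
      · have := hRn.conj_mem z hzR y⁻¹
        rwa [inv_inv] at this
      · intro g hg
        rw [Set.mem_singleton_iff.mp hg]
        have h1 := hzc (y * x * y⁻¹) rfl
        calc x * (y⁻¹ * z * y) = y⁻¹ * ((y * x * y⁻¹) * z) * y := by group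
          _ = y⁻¹ * (z * (y * x * y⁻¹)) * y := by rw [h1]
          _ = y⁻¹ * z * y * x := by group
    have h2 := hx hz'
    rw [hK, mem_inf, mem_centralizer_iff] at h2 ⊢
    refine ⟨hzR, ?_⟩
    intro g hg
    have h3 := h2.2 (y⁻¹ * g * y) (hyinvU g hg)
    calc g * z = y * ((y⁻¹ * g * y) * (y⁻¹ * z * y)) * y⁻¹ := by group
      _ = y * ((y⁻¹ * z * y) * (y⁻¹ * g * y)) * y⁻¹ := by rw [h3]
      _ = z * g := by group
  have hRcop : (Nat.card R).Coprime 2 := by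
    obtain ⟨k, hk⟩ := IsPGroup.iff_card.mp hR
    rw [hk]; exact Nat.Coprime.pow_left k (by norm_num)
  have hnot : ¬ (R ⊓ centralizer ({u} : Set G) ≤ K) := by
    intro hx
    have hxw : R ⊓ centralizer ({w} : Set G) ≤ K := by
      have := htrans u hx; rwa [hyu] at this
    have hxuw : R ⊓ centralizer ({u * w} : Set G) ≤ K := by
      have := htrans w hxw; rwa [hyw] at this
    have : Fact (Nat.Prime 2) := ⟨Nat.prime_two⟩
    have hRK : R ≤ K := by
      apply Cfsg.Agent.Helper48.le_of_forall_inf_centralizer_le (p := 2) U R K hUc hUsq hUcard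
        (by rw [normalizer_eq_top]; exact le_top) hRcop
      intro c hc hc1
      rcases (hUmem c).mp hc with rfl | rfl | rfl | rfl
      · exact absurd rfl hc1
      · exact hx
      · exact hxw
      · exact hxuw
    have huC : u ∈ centralizer (R : Set G) := by
      rw [mem_centralizer_iff]
      intro r hr
      have h1 := hRK hr
      rw [hK, mem_inf, mem_centralizer_iff] at h1
      exact (h1.2 u huU).symm
    have huR : u ∈ R := hCR huC
    exact hu1 (eq_one_of_sq_of_cube (hT u huT) (cube_of_mem_isPGroup h hR huR))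
  obtain ⟨v₀, hv₀, hv₀K⟩ := SetLike.not_le_iff_exists.mp hnot
  rw [mem_inf, mem_centralizer_iff] at hv₀
  obtain ⟨hv₀R, hv₀u⟩ := hv₀
  have huv₀ : u * v₀ = v₀ * u := hv₀u u rfl
  have hwv₀ : w * v₀ ≠ v₀ * w := by
    intro hcomm
    apply hv₀K
    rw [hK, mem_inf, mem_centralizer_iff]
    refine ⟨hv₀R, ?_⟩
    intro g hg
    rcases (hUmem g).mp hg with rfl | rfl | rfl | rfl
    · rw [one_mul, mul_one]
    · exact huv₀
    · exact hcomm
    · rw [mul_assoc, hcomm, ← mul_assoc, huv₀, mul_assoc]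
  obtain ⟨v, hv⟩ : ∃ v, v = v₀⁻¹ * (w * v₀ * w⁻¹) := ⟨_, rfl⟩
  have hvR : v ∈ R := by
    rw [hv]; exact R.mul_mem (R.inv_mem hv₀R) (hRn.conj_mem v₀ hv₀R w)
  have hv1 : v ≠ 1 := by
    intro h1
    rw [hv] at h1
    apply hwv₀
    have h2 : w * v₀ * w⁻¹ = v₀ := by
      have := eq_inv_of_mul_eq_one_right h1
      rw [this, inv_inv]
    calc w * v₀ = (w * v₀ * w⁻¹) * w := by group
      _ = v₀ * w := by rw [h2]
  have hwinv : w⁻¹ = w := inv_eq_self_of_sq (hT w hwT)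
  have huinv : u⁻¹ = u := inv_eq_self_of_sq (hT u huT)
  have huv : u * v * u⁻¹ = v := by
    rw [hv]
    have h1 : u * v₀⁻¹ = v₀⁻¹ * u := by
      calc u * v₀⁻¹ = v₀⁻¹ * (v₀ * u) * v₀⁻¹ := by group
        _ = v₀⁻¹ * (u * v₀) * v₀⁻¹ := by rw [huv₀]
        _ = v₀⁻¹ * u := by group
    calc u * (v₀⁻¹ * (w * v₀ * w⁻¹)) * u⁻¹ = (u * v₀⁻¹) * w * v₀ * w⁻¹ * u⁻¹ := by group
      _ = v₀⁻¹ * (u * w) * v₀ * w⁻¹ * u⁻¹ := by rw [h1]; group
      _ = v₀⁻¹ * (w * u) * v₀ * w⁻¹ * u⁻¹ := by rw [huwc]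
      _ = v₀⁻¹ * w * (u * v₀) * w⁻¹ * u⁻¹ := by group
      _ = v₀⁻¹ * w * (v₀ * u) * w⁻¹ * u⁻¹ := by rw [huv₀]
      _ = v₀⁻¹ * w * v₀ * (u * w⁻¹) * u⁻¹ := by group
      _ = v₀⁻¹ * w * v₀ * (w⁻¹ * u) * u⁻¹ := by rw [hwinv, huwc]
      _ = v₀⁻¹ * (w * v₀ * w⁻¹) := by group
  have hwv : w * v * w⁻¹ = v⁻¹ := by
    rw [hv]
    calc w * (v₀⁻¹ * (w * v₀ * w⁻¹)) * w⁻¹ = (w * v₀⁻¹ * w⁻¹) * ((w * w) * v₀ * (w⁻¹ * w⁻¹)) := by
          group
      _ = (w * v₀⁻¹ * w⁻¹) * v₀ := by rw [hwinv, hww]; group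
      _ = (v₀⁻¹ * (w * v₀ * w⁻¹))⁻¹ := by group
  have huwv : (u * w) * v * (u * w)⁻¹ = v⁻¹ := by
    calc (u * w) * v * (u * w)⁻¹ = u * (w * v * w⁻¹) * u⁻¹ := by group
      _ = u * v⁻¹ * u⁻¹ := by rw [hwv]
      _ = (u * v * u⁻¹)⁻¹ := by group
      _ = v⁻¹ := by rw [huv]
  obtain ⟨b', hb'⟩ : ∃ b', b' = y * v * y⁻¹ := ⟨_, rfl⟩
  obtain ⟨a', ha'⟩ : ∃ a', a' = y * b' * y⁻¹ := ⟨_, rfl⟩
  have hb'R : b' ∈ R := by rw [hb']; exact hRn.conj_mem v hvR y
  have ha'R : a' ∈ R := by rw [ha']; exact hRn.conj_mem b' hb'R y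
  have hub : u * b' * u⁻¹ = b'⁻¹ := by
    rw [hb']
    calc u * (y * v * y⁻¹) * u⁻¹
        = (y * (u * w) * y⁻¹) * (y * v * y⁻¹) * (y * (u * w) * y⁻¹)⁻¹ := by rw [hyuw]
      _ = y * ((u * w) * v * (u * w)⁻¹) * y⁻¹ := by group
      _ = y * v⁻¹ * y⁻¹ := by rw [huwv]
      _ = (y * v * y⁻¹)⁻¹ := by group
  have hyyw : y * (y * w * y⁻¹) * y⁻¹ = u := by rw [hyw, hyuw]
  have hua : u * a' * u⁻¹ = a'⁻¹ := by
    rw [ha', hb']
    calc u * (y * (y * v * y⁻¹) * y⁻¹) * u⁻¹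
        = (y * (y * w * y⁻¹) * y⁻¹) * (y * (y * v * y⁻¹) * y⁻¹) * (y * (y * w * y⁻¹) * y⁻¹)⁻¹ := by
          rw [hyyw]
      _ = y * (y * (w * v * w⁻¹) * y⁻¹) * y⁻¹ := by group
      _ = y * (y * v⁻¹ * y⁻¹) * y⁻¹ := by rw [hwv]
      _ = (y * (y * v * y⁻¹) * y⁻¹)⁻¹ := by simp [mul_assoc]
  -- `(y v)³ = b' a' v`
  have hz : b' * a' * v = 1 := by
    have h1 : b' * a' * v = (y * v) ^ 3 := by
      rw [ha', hb']
      calc y * v * y⁻¹ * (y * (y * v * y⁻¹) * y⁻¹) * v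
          = y * v * y * v * (y⁻¹ * y⁻¹) * v := by group
        _ = y * v * y * v * y * v := by rw [hyinv]
        _ = (y * v) ^ 3 := by rw [pow_succ, pow_two]; group
    have h2 : (b' * a' * v) ^ 2 = 1 := by
      rw [h1, ← pow_mul]; exact h (y * v)
    have h3 : (b' * a' * v) ^ 3 = 1 :=
      cube_of_mem_isPGroup h hR (R.mul_mem (R.mul_mem hb'R ha'R) hvR)
    exact eq_one_of_sq_of_cube h2 h3
  exact hv1 (key_computation hz huv hub hua (cube_of_mem_isPGroup h hR ha'R)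
    (cube_of_mem_isPGroup h hR hb'R))

/-- `O_p(G / O_p(G)) = 1`. -/
theorem pCore_quotient_pCore_eq_bot (p : ℕ) [Fact p.Prime] :
    pCore p (G ⧸ pCore p G) = ⊥ := by
  have hRn : (pCore p G).Normal := inferInstance
  have hNn : ((pCore p (G ⧸ pCore p G)).comap (QuotientGroup.mk' (pCore p G))).Normal :=
    inferInstance
  have hNp : IsPGroup p ((pCore p (G ⧸ pCore p G)).comap (QuotientGroup.mk' (pCore p G))) := by
    intro x
    have hx : QuotientGroup.mk' (pCore p G) (x : G) ∈ pCore p (G ⧸ pCore p G) := x.2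
    obtain ⟨k, hk⟩ := (Helper55.isPGroup_pCore (G := G ⧸ pCore p G) (p := p)) ⟨_, hx⟩
    have hk' : (QuotientGroup.mk' (pCore p G) (x : G)) ^ (p ^ k) = 1 := by
      have := congrArg Subtype.val hk
      simpa using this
    rw [← map_pow, QuotientGroup.mk'_apply, QuotientGroup.eq_one_iff] at hk'
    obtain ⟨j, hj⟩ := (Helper55.isPGroup_pCore (G := G) (p := p)) ⟨_, hk'⟩
    have hj' : ((x : G) ^ (p ^ k)) ^ (p ^ j) = 1 := by
      have := congrArg Subtype.val hj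
      simpa using this
    refine ⟨k + j, ?_⟩
    apply Subtype.ext
    rw [Subgroup.coe_pow, pow_add, pow_mul, hj']
    rfl
  have hle := Helper55.le_pCore hNn hNp
  rw [eq_bot_iff]
  intro q hq
  obtain ⟨g, rfl⟩ := QuotientGroup.mk_surjective q
  have hg : g ∈ (pCore p (G ⧸ pCore p G)).comap (QuotientGroup.mk' (pCore p G)) := hq
  rw [mem_bot, QuotientGroup.eq_one_iff]
  exact hle hg

/-- **Hall–Higman for exponent 6.** If `O_{3'}(G) = 1` then every element with `y³ = 1` lies in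
`O_3(G)`. -/
theorem mem_pCore_of_cube [Finite G] (h : E6 G) (hcore : pPrimeCore 3 G = ⊥) (y : G)
    (hy : y ^ 3 = 1) : y ∈ pCore 3 G := by
  have hf2 : Fact (Nat.Prime 2) := ⟨Nat.prime_two⟩
  have hf3 : Fact (Nat.Prime 3) := ⟨Nat.prime_three⟩
  have hsolv : Group.IsSolvable G := h.isSolvable
  have hps3 : IsPSolvable 3 G := Helper76.isPSolvable_of_isSolvable' 3
  have hCR := Helper76.centralizer_pCore_le hps3 hcore
  have hRn : (pCore 3 G).Normal := inferInstance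
  have hRp : IsPGroup 3 (pCore 3 G) := Helper55.isPGroup_pCore
  by_contra hyR
  -- the quotient
  have hQ6 : E6 (G ⧸ pCore 3 G) := h.quotient _
  have ha : pCore 3 (G ⧸ pCore 3 G) = ⊥ := pCore_quotient_pCore_eq_bot 3
  have hb : pPrimeCore 2 (G ⧸ pCore 3 G) = ⊥ := by
    have hMn : (pPrimeCore 2 (G ⧸ pCore 3 G)).Normal := inferInstance
    have hMc := Helper55.pPrimeCore_coprime (G := G ⧸ pCore 3 G) 2
    have hMp : IsPGroup 3 (pPrimeCore 2 (G ⧸ pCore 3 G)) := by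
      intro x
      refine ⟨1, ?_⟩
      have h1 : orderOf x ∣ Nat.card (pPrimeCore 2 (G ⧸ pCore 3 G)) := orderOf_dvd_natCard x
      have h2 : (orderOf x).Coprime 2 := Nat.Coprime.coprime_dvd_left h1 hMc
      have h3 : orderOf x ∣ 2 * 3 := by
        apply orderOf_dvd_of_pow_eq_one
        apply Subtype.ext
        rw [Subgroup.coe_pow]
        exact hQ6 _
      rw [pow_one]
      exact orderOf_dvd_iff_pow_eq_one.mp (h2.dvd_of_dvd_mul_left h3)
    have := Helper55.le_pCore hMn hMp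
    rw [ha] at this
    exact eq_bot_iff.mpr this
  have hps2 : IsPSolvable 2 (G ⧸ pCore 3 G) := Helper76.isPSolvable_of_isSolvable' 2
  have hCT := Helper76.centralizer_pCore_le hps2 hb
  have hTbp : IsPGroup 2 (pCore 2 (G ⧸ pCore 3 G)) := Helper55.isPGroup_pCore
  have hπs : Function.Surjective (QuotientGroup.mk' (pCore 3 G)) :=
    QuotientGroup.mk'_surjective _
  have hTsn : ((pCore 2 (G ⧸ pCore 3 G)).comap (QuotientGroup.mk' (pCore 3 G))).Normal :=
    inferInstance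
  -- a Sylow 2-subgroup of the preimage of `O_2(G / O_3(G))`
  obtain ⟨T₀⟩ : Nonempty (Sylow 2 ↥((pCore 2 (G ⧸ pCore 3 G)).comap
    (QuotientGroup.mk' (pCore 3 G)))) := inferInstance
  have hfrat := Sylow.normalizer_sup_eq_top T₀
  obtain ⟨T, hTdef⟩ : ∃ T : Subgroup G, T = (T₀ : Subgroup _).map
    ((pCore 2 (G ⧸ pCore 3 G)).comap (QuotientGroup.mk' (pCore 3 G))).subtype := ⟨_, rfl⟩
  rw [← hTdef] at hfrat
  have hT2 : IsPGroup 2 T := by
    rw [hTdef]; exact T₀.isPGroup'.map _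
  have hTsq : ∀ x ∈ T, x ^ 2 = 1 := fun x hx => sq_of_mem_isPGroup h hT2 hx
  -- `T` maps onto `O_2(G / O_3(G))`
  have hsurj : ∀ q ∈ pCore 2 (G ⧸ pCore 3 G), ∃ t ∈ T, QuotientGroup.mk' (pCore 3 G) t = q := by
    intro q hq
    have hf : Function.Surjective ((QuotientGroup.mk' (pCore 3 G)).subgroupComap
        (pCore 2 (G ⧸ pCore 3 G))) :=
      MonoidHom.subgroupComap_surjective_of_surjective _ _ hπs
    have htop : ((T₀.mapSurjective hf : Sylow 2 ↥(pCore 2 (G ⧸ pCore 3 G))) :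
        Subgroup ↥(pCore 2 (G ⧸ pCore 3 G))) = ⊤ := by
      have hp2' : IsPGroup 2 (⊤ : Subgroup ↥(pCore 2 (G ⧸ pCore 3 G))) := hTbp.to_subgroup ⊤
      exact ((T₀.mapSurjective hf).is_maximal' hp2' le_top).symm
    have hmem : (⟨q, hq⟩ : ↥(pCore 2 (G ⧸ pCore 3 G))) ∈
        ((T₀.mapSurjective hf : Sylow 2 ↥(pCore 2 (G ⧸ pCore 3 G))) :
        Subgroup ↥(pCore 2 (G ⧸ pCore 3 G))) := by rw [htop]; exact mem_top _
    rw [Sylow.coe_mapSurjective] at hmem
    obtain ⟨x, hx, hxq⟩ := hmem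
    refine ⟨(x : G), ?_, ?_⟩
    · rw [hTdef]; exact ⟨x, hx, rfl⟩
    · have := congrArg Subtype.val hxq
      exact this
  -- decompose `y = n * r` with `n ∈ N(T)`, `r ∈ O_3(G)`
  have hytop : y ∈ normalizer (T : Set G) ⊔
      (pCore 2 (G ⧸ pCore 3 G)).comap (QuotientGroup.mk' (pCore 3 G)) := by
    rw [hfrat]; exact mem_top y
  obtain ⟨n, hn, s, hs, hns⟩ := mem_sup_of_normal_right.mp hytop
  obtain ⟨t', ht', hts⟩ := hsurj _ hs
  have hr : t'⁻¹ * s ∈ pCore 3 G := by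
    rw [← QuotientGroup.eq_one_iff, ← QuotientGroup.mk'_apply, map_mul, map_inv, hts,
      inv_mul_cancel]
  obtain ⟨n', hn'⟩ : ∃ n', n' = n * t' := ⟨_, rfl⟩
  have hn'N : n' ∈ normalizer (T : Set G) := by
    rw [hn']; exact (normalizer (T : Set G)).mul_mem hn (le_normalizer ht')
  have hπy : QuotientGroup.mk' (pCore 3 G) y = QuotientGroup.mk' (pCore 3 G) n' := by
    have : y = n' * (t'⁻¹ * s) := by rw [hn', ← hns]; group
    have hr1 : QuotientGroup.mk' (pCore 3 G) (t'⁻¹ * s) = 1 := by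
      rw [QuotientGroup.mk'_apply]; exact (QuotientGroup.eq_one_iff _).mpr hr
    rw [this, map_mul, hr1, mul_one]
  obtain ⟨y', hy'⟩ : ∃ y', y' = n' ^ 4 := ⟨_, rfl⟩
  have hy'N : y' ∈ normalizer (T : Set G) := by
    rw [hy']; exact (normalizer (T : Set G)).pow_mem hn'N 4
  have hy'3 : y' ^ 3 = 1 := by
    rw [hy', ← pow_mul]
    have : n' ^ (4 * 3) = (n' ^ 6) ^ 2 := by rw [← pow_mul]
    rw [this, h n', one_pow]
  have hπy' : QuotientGroup.mk' (pCore 3 G) y' = QuotientGroup.mk' (pCore 3 G) y := by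
    rw [hy', map_pow, ← hπy, ← map_pow]
    have : y ^ 4 = y := by
      rw [pow_succ, hy, one_mul]
    rw [this]
  have hy'T : ∀ x ∈ T, y' * x * y'⁻¹ ∈ T := by
    intro x hx
    exact (mem_normalizer_iff.mp hy'N x).mp hx
  -- `y'` acts nontrivially on `T`
  have hex : ∃ t ∈ T, y' * t * y'⁻¹ ≠ t := by
    by_contra hcon
    push Not at hcon
    apply hyR
    have hcent : QuotientGroup.mk' (pCore 3 G) y ∈
        centralizer ((pCore 2 (G ⧸ pCore 3 G) : Subgroup (G ⧸ pCore 3 G)) : Set (G ⧸ pCore 3 G)) := by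
      rw [mem_centralizer_iff]
      intro q hq
      obtain ⟨t, ht, rfl⟩ := hsurj q hq
      rw [← hπy', ← map_mul, ← map_mul]
      congr 1
      have := hcon t ht
      calc t * y' = (y' * t * y'⁻¹) * y' := by rw [this]
        _ = y' * t := by group
    have hyT := hCT hcent
    have h2 : (QuotientGroup.mk' (pCore 3 G) y) ^ 2 = 1 := sq_of_mem_isPGroup hQ6 hTbp hyT
    have h3 : (QuotientGroup.mk' (pCore 3 G) y) ^ 3 = 1 := by
      rw [← map_pow, hy, map_one]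
    have := eq_one_of_sq_of_cube h2 h3
    rw [QuotientGroup.mk'_apply, QuotientGroup.eq_one_iff] at this
    exact this
  obtain ⟨t, ht, hne⟩ := hex
  exact core_contradiction h (pCore 3 G) hRp hCR T hTsq y' hy'T hy'3 t ht hne

theorem index_pCore_coprime [Finite G] (h : E6 G) (hcore : pPrimeCore 3 G = ⊥) :
    ((pCore 3 G).index).Coprime 3 := by
  have hf3 : Fact (Nat.Prime 3) := ⟨Nat.prime_three⟩
  obtain ⟨P⟩ : Nonempty (Sylow 3 G) := inferInstance
  have h1 : pCore 3 G ≤ (P : Subgroup G) := Helper55.pCore_le_sylow P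
  have h2 : (P : Subgroup G) ≤ pCore 3 G := by
    intro x hx
    apply mem_pCore_of_cube h hcore
    exact cube_of_mem_isPGroup h P.isPGroup' hx
  have h3 : pCore 3 G = (P : Subgroup G) := le_antisymm h1 h2
  rw [h3]
  exact ((Nat.Prime.coprime_iff_not_dvd Nat.prime_three).mpr P.not_dvd_index).symm

theorem plength_three [Finite G] (h : E6 G) : PLengthLE 3 1 G := by
  have hf3 : Fact (Nat.Prime 3) := ⟨Nat.prime_three⟩
  apply Helper63.PLengthLE_of_PL 3
  have hKn : (pPrimeCore 3 G).Normal := inferInstance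
  have hbot : pPrimeCore 3 (G ⧸ pPrimeCore 3 G) = ⊥ := Helper55.pPrimeCore_quotient_eq_bot 3
  have hidx := index_pCore_coprime (h.quotient (pPrimeCore 3 G)) hbot
  have hBn : ((pCore 3 (G ⧸ pPrimeCore 3 G)).comap (QuotientGroup.mk' (pPrimeCore 3 G))).Normal :=
    inferInstance
  refine Helper63.PL.step 0 ⊥ (pPrimeCore 3 G)
    ((pCore 3 (G ⧸ pPrimeCore 3 G)).comap (QuotientGroup.mk' (pPrimeCore 3 G))) ⊤
    (Helper63.PL.base ⊥ _ bot_le inferInstance hKn ?_) ?_ le_top hBn inferInstance ?_ ?_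
  · rw [relIndex_bot_left]; exact Helper55.pPrimeCore_coprime 3
  · intro x hx
    rw [mem_comap, QuotientGroup.mk'_apply, (QuotientGroup.eq_one_iff x).mpr hx]
    exact one_mem _
  · have h1 := Subgroup.relIndex_ker (QuotientGroup.mk' (pPrimeCore 3 G))
      (K := (pCore 3 (G ⧸ pPrimeCore 3 G)).comap (QuotientGroup.mk' (pPrimeCore 3 G)))
    rw [QuotientGroup.ker_mk'] at h1
    rw [h1, Subgroup.map_comap_eq_self_of_surjective (QuotientGroup.mk'_surjective _)]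
    exact IsPGroup.iff_card.mp Helper55.isPGroup_pCore
  · rw [relIndex_top_right, Subgroup.index_comap_of_surjective _
      (QuotientGroup.mk'_surjective _)]
    exact hidx

theorem plength_two [Finite G] (h : E6 G) : PLengthLE 2 1 G := by
  have hf2 : Fact (Nat.Prime 2) := ⟨Nat.prime_two⟩
  have hsolv : Group.IsSolvable G := h.isSolvable
  have hps2 : IsPSolvable 2 G := Helper76.isPSolvable_of_isSolvable' 2
  obtain ⟨S⟩ : Nonempty (Sylow 2 G) := inferInstance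
  have h1 := Cfsg.Agent.S0635.result hps2 S
  have hnil : Group.IsNilpotent ↥(S : Subgroup G) := S.isPGroup'.isNilpotent
  have hcomm : IsMulCommutative ↥(S : Subgroup G) := by
    constructor
    constructor
    intro a b
    apply Subtype.ext
    have ha := sq_of_mem_isPGroup h S.isPGroup' a.2
    have hb := sq_of_mem_isPGroup h S.isPGroup' b.2
    have hab := sq_of_mem_isPGroup h S.isPGroup' (a * b).2
    exact comm_of_sq ha hb hab
  have hle : Group.nilpotencyClass ↥(S : Subgroup G) ≤ 1 :=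
    Group.IsNilpotent.nilpotencyClass_le_one_iff.mpr hcomm
  exact Helper63.PLengthLE_of_PL 2 ((Helper63.PL_of_PLengthLE 2 h1).mono hle)

theorem main [Finite G] (h : E6 G) : PLengthLE 2 1 G ∧ PLengthLE 3 1 G :=
  ⟨plength_two h, plength_three h⟩

end Cfsg.Agent.Helper61.ExpSix
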