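import Mathlib
import Cfsg.Prelude.Def_ChevG2
import Cfsg.Agent.Lib.Helper92.G24Defs

/-!
# G24 pieces (XE) `xMat_eq_table` and (X0) `xMat_zero` (helper92 server for S1679)

The frozen root matrices `x_r(t)` of `chevG2` over helper72's `F4` are the tables `XT r t` of
`Cfsg.Agent.Helper92.G24`, and `x_r(0) = 1`; both by kernel evaluation (decidable equality of
matrices over the computable field).
-/

set_option autoImplicit false
set_option maxRecDepth 100000

namespace Cfsg.Agent.Helper61.G24

open Cfsg.Agent.Helper92.G24

set_option maxHeartbeats 4000000 in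
theorem h61_xe_one : ∀ r : Fin D.nroots, D.xMat F r (fc 1) = XT r.val 1 := by
  decide +kernel

set_option maxHeartbeats 4000000 in
theorem h61_xe_two : ∀ r : Fin D.nroots, D.xMat F r (fc 2) = XT r.val 2 := by
  decide +kernel

set_option maxHeartbeats 4000000 in
theorem h61_xe_three : ∀ r : Fin D.nroots, D.xMat F r (fc 3) = XT r.val 3 := by
  decide +kernel

set_option maxHeartbeats 4000000 in
theorem h61_x_zero : ∀ r : Fin D.nroots, D.xMat F r 0 = 1 := by
  decide +kernel

/-- (XE) the frozen matrices `xMat r (fc t)` are the tables `XT r t`. -/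
theorem xMat_eq_table (r : Fin D.nroots) (t : ℕ) (h1 : 1 ≤ t) (h3 : t ≤ 3) :
    D.xMat F r (fc t) = XT r.val t := by
  interval_cases t
  · exact h61_xe_one r
  · exact h61_xe_two r
  · exact h61_xe_three r

/-- (X0) `x_r(0) = 1` for the frozen matrices of `chevG2` over `F4`. -/
theorem xMat_zero (r : Fin D.nroots) : D.xMat F r 0 = 1 :=
  h61_x_zero r

end Cfsg.Agent.Helper61.G24
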