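import Mathlib
import Cfsg.Agent.Lib.Helper14.GLIDefs

/-!
# GLI project (S5958), piece NONPOW, core form: (CYCB) and (MONO) enter as hypotheses.
-/

set_option autoImplicit false
set_option linter.unusedVariables false
set_option linter.unusedSectionVars false

namespace Cfsg.Agent.Helper61.GLI

open Module Polynomial Cfsg.Agent.Helper14.GLI

/-- the conclusion of (MONO), as a hypothesis on `x` -/
def MonoHyp {F V : Type*} [Field F] [AddCommGroup V] [Module F V] (x : V →ₗ[F] V) : Prop :=
  ∀ {ι : Type} [Fintype ι] (b : Basis ι F V)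
    (π : Equiv.Perm ι) (lam : ι → F) (hlam : ∀ i, lam i ≠ 0)
    (hx : ∀ i, x (b i) = lam i • b (π i))
    {t : ℕ} (a : ℕ) (β : ι → Fin t)
    (hβ : ∀ j, (Finset.univ.filter (fun i => β i = j)).card = a)
    (τ : Equiv.Perm (Fin t)) (hτ : ∀ i, β (π i) = τ (β i)),
    ∃ D : Fin t → Submodule F V, IsIndepFam ⊤ D ∧ (∀ j, finrank F (D j) = a) ∧
      ∀ j, (D j).map x = D (τ j)

/-- the action of `x` on the cyclic basis -/
theorem h61_cyc_step {F V : Type*} [Field F] [AddCommGroup V] [Module F V]
    (x : V →ₗ[F] V) (m : ℕ) (z : F) (hxr : x ^ (m + 1) = z • 1)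
    {n₁ : ℕ} (e : Fin n₁ → V) (b : Basis (Fin n₁ × Fin (m + 1)) F V)
    (hb : ∀ (k : Fin n₁) (j : Fin (m + 1)), b (k, j) = (x ^ (j : ℕ)) (e k))
    (k : Fin n₁) (j : Fin (m + 1)) :
    x (b (k, j)) = (if (j : ℕ) + 1 = m + 1 then z else 1) • b (k, finRotate (m + 1) j) := by
  by_cases h : (j : ℕ) + 1 = m + 1
  · rw [if_pos h]
    have hj : j = Fin.last m := by
      apply Fin.ext
      simp only [Fin.val_last]
      omega
    rw [hj, finRotate_last, hb, hb]
    simp only [Fin.val_last, Fin.val_zero, pow_zero, Module.End.one_apply]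
    rw [← Module.End.mul_apply, ← pow_succ', hxr]
    simp
  · rw [if_neg h, one_smul]
    have hj : j ≠ Fin.last m := by
      intro h0
      apply h
      rw [h0]
      simp
    rw [hb, hb, coe_finRotate_of_ne_last hj, pow_succ', Module.End.mul_apply]

/-- (NONPOW), core: from the conclusions of (CYCB) and (MONO) -/
theorem h61_nonpow_core {F V : Type*} [Field F] [AddCommGroup V] [Module F V]
    [FiniteDimensional F V] (x : V →ₗ[F] V) (r : ℕ) [Fact r.Prime] (z : F)
    (hz : ∀ w : F, w ^ r ≠ z) (hxr : x ^ r = z • 1)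
    (hCYCB : ∃ (n₁ : ℕ) (e : Fin n₁ → V) (b : Basis (Fin n₁ × Fin r) F V),
      ∀ (k : Fin n₁) (j : Fin r), b (k, j) = (x ^ (j : ℕ)) (e k))
    (hMONO : MonoHyp x)
    (a t : ℕ) (ha : 0 < a) (hat : finrank F V = a * t) :
    ∃ D : Fin t → Submodule F V, IsIndepFam ⊤ D ∧ (∀ j, finrank F (D j) = a) ∧
      ∃ σ : Equiv.Perm (Fin t), ∀ j, (D j).map x = D (σ j) := by
  classical
  have hrp : r.Prime := Fact.out
  have hz0 : z ≠ 0 := by
    intro h0
    apply hz 0
    rw [h0, zero_pow hrp.ne_zero]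
  obtain ⟨m, rfl⟩ : ∃ m, r = m + 1 := ⟨r - 1, by have := hrp.pos; omega⟩
  obtain ⟨n₁, e, b, hb⟩ := hCYCB
  have hstep := h61_cyc_step x m z hxr e b hb
  have hcard : n₁ * (m + 1) = a * t := by
    rw [← hat, Module.finrank_eq_card_basis b, Fintype.card_prod, Fintype.card_fin,
      Fintype.card_fin]
  have hlam0 : ∀ j : Fin (m + 1), (if (j : ℕ) + 1 = m + 1 then z else (1 : F)) ≠ 0 := by
    intro j
    split_ifs
    · exact hz0
    · exact one_ne_zero
  by_cases hra : (m + 1) ∣ a
  · -- case 1: `a = r * a'`, blocks `k / a'`, `τ = 1`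
    obtain ⟨a', rfl⟩ := hra
    have hn1 : n₁ = t * a' := by
      have h1 : n₁ * (m + 1) = (t * a') * (m + 1) := by rw [hcard]; ring
      exact Nat.eq_of_mul_eq_mul_right (Nat.succ_pos m) h1
    subst hn1
    let ε : (Fin t × Fin a') × Fin (m + 1) ≃ Fin (t * a') × Fin (m + 1) :=
      Equiv.prodCongr finProdFinEquiv (Equiv.refl _)
    let b' : Basis ((Fin t × Fin a') × Fin (m + 1)) F V := b.reindex ε.symm
    have hb' : ∀ i, b' i = b (ε i) := fun i => by
      simp [b', Basis.reindex_apply]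
    let π' : Equiv.Perm ((Fin t × Fin a') × Fin (m + 1)) :=
      Equiv.prodCongr (Equiv.refl _) (finRotate (m + 1))
    obtain ⟨D, hD1, hD2, hD3⟩ := hMONO b' π'
      (fun i => if (i.2 : ℕ) + 1 = m + 1 then z else 1) (fun i => hlam0 i.2)
      (by
        intro i
        rw [hb', hb']
        exact hstep (finProdFinEquiv i.1) i.2)
      ((m + 1) * a') (fun i => i.1.1)
      (by
        intro j
        rw [Finset.card_filter, Fintype.sum_prod_type, Fintype.sum_prod_type]
        rw [Finset.sum_eq_single j]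
        · simp [mul_comm]
        · intro g _ hg
          simp [hg]
        · intro h
          exact absurd (Finset.mem_univ _) h)
      (Equiv.refl _) (fun i => rfl)
    exact ⟨D, hD1, hD2, Equiv.refl _, hD3⟩
  · -- case 2: `a ∣ n₁`, blocks `(k / a, j)`
    have hcop : Nat.Coprime a (m + 1) := by
      rw [Nat.coprime_comm]
      exact (Nat.Prime.coprime_iff_not_dvd hrp).mpr hra
    have hdvd : a ∣ n₁ := by
      have h1 : a ∣ n₁ * (m + 1) := ⟨t, hcard⟩
      exact hcop.dvd_of_dvd_mul_right h1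
    obtain ⟨t', ht'⟩ := hdvd
    have ht : t = t' * (m + 1) := by
      have h1 : a * t = a * (t' * (m + 1)) := by rw [← hcard, ht']; ring
      exact Nat.eq_of_mul_eq_mul_left ha h1
    have hn1 : n₁ = t' * a := by rw [ht', mul_comm]
    subst ht
    subst hn1
    let ε : (Fin t' × Fin a) × Fin (m + 1) ≃ Fin (t' * a) × Fin (m + 1) :=
      Equiv.prodCongr finProdFinEquiv (Equiv.refl _)
    let b' : Basis ((Fin t' × Fin a) × Fin (m + 1)) F V := b.reindex ε.symm
    have hb' : ∀ i, b' i = b (ε i) := fun i => by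
      simp [b', Basis.reindex_apply]
    let π' : Equiv.Perm ((Fin t' × Fin a) × Fin (m + 1)) :=
      Equiv.prodCongr (Equiv.refl _) (finRotate (m + 1))
    let τ : Equiv.Perm (Fin (t' * (m + 1))) :=
      (finProdFinEquiv.symm.trans
        (Equiv.prodCongr (Equiv.refl (Fin t')) (finRotate (m + 1)))).trans finProdFinEquiv
    obtain ⟨D, hD1, hD2, hD3⟩ := hMONO b' π'
      (fun i => if (i.2 : ℕ) + 1 = m + 1 then z else 1) (fun i => hlam0 i.2)
      (by
        intro i
        rw [hb', hb']
        exact hstep (finProdFinEquiv i.1) i.2)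
      a (fun i => finProdFinEquiv (i.1.1, i.2))
      (by
        intro j
        obtain ⟨⟨g0, j0⟩, rfl⟩ := finProdFinEquiv.surjective j
        rw [Finset.card_filter, Fintype.sum_prod_type, Fintype.sum_prod_type]
        simp only [EmbeddingLike.apply_eq_iff_eq, Prod.mk.injEq]
        rw [Finset.sum_eq_single g0]
        · simp
        · intro g _ hg
          simp [hg]
        · intro h
          exact absurd (Finset.mem_univ _) h)
      τ (fun i => by simp [τ, π'])
    exact ⟨D, hD1, hD2, τ, hD3⟩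

end Cfsg.Agent.Helper61.GLI
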