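import Mathlib
import Cfsg.Agent.Lib.Helper14.GLIDefs
import Cfsg.Agent.Lib.Helper61.GLINONPOWCore
import Cfsg.Agent.Lib.Helper12.GLIMONO
import Cfsg.Agent.Lib.Helper33.GLICYCB

/-!
# GLI project (S5958), piece NONPOW `nonpow_decomp` (verbatim form).
-/

set_option autoImplicit false

namespace Cfsg.Agent.Helper61.GLI

open Module Polynomial Cfsg.Agent.Helper14.GLI

/-- (NONPOW) from (CYCB) + (MONO): `π (k, j) = (k, j + 1 mod r)`; if `r ∣ a = r a'` then
`β (k, j) = k / a'`, `τ = 1`; otherwise `a ∣ n₁` and `β (k, j) = (k / a, j)`, `τ (g, j) = (g, j + 1)`. -/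
theorem nonpow_decomp {F V : Type*} [Field F] [AddCommGroup V] [Module F V]
    [FiniteDimensional F V] (x : V →ₗ[F] V) (r : ℕ) [Fact r.Prime] (z : F)
    (hz : ∀ w : F, w ^ r ≠ z) (hxr : x ^ r = z • 1)
    (a t : ℕ) (ha : 0 < a) (hat : finrank F V = a * t) :
    ∃ D : Fin t → Submodule F V, IsIndepFam ⊤ D ∧ (∀ j, finrank F (D j) = a) ∧
      ∃ σ : Equiv.Perm (Fin t), ∀ j, (D j).map x = D (σ j) :=
  h61_nonpow_core x r z hz hxr
    (Cfsg.Agent.Helper33.GLI.exists_cyclic_basis x r z hz hxr)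
    (fun b π lam hlam hx _ a β hβ τ hτ =>
      Cfsg.Agent.Helper12.GLI.mono_decomp b x π lam hlam hx a β hβ τ hτ)
    a t ha hat

end Cfsg.Agent.Helper61.GLI
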