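import Mathlib
import Cfsg.Agent.Lib.Helper11.TW8

/-!
# Knapp's theorem on alternating subconstituents: general subgroup lemmas (helper61)
-/

set_option autoImplicit false
set_option linter.unusedSectionVars false

namespace Cfsg.Agent.Helper61.KnappBasic

open Cfsg Cfsg.Agent.Helper11.TW1 Cfsg.Agent.Helper11.TW2

variable {G : Type*} [Group G]

theorem relIndex_mul_card {A B : Subgroup G} (h : A ≤ B) :
    A.relIndex B * Nat.card A = Nat.card B := by
  have := Subgroup.relIndex_mul_relIndex (⊥ : Subgroup G) A B bot_le h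
  rw [Subgroup.relIndex_bot_left, Subgroup.relIndex_bot_left] at this
  rw [mul_comm]; exact this

/-- product formula: if `B` normalizes `A` then `|AB| |A ∩ B| = |A| |B|`. -/
theorem card_sup_inf [Finite G] (A B : Subgroup G)
    (hB : B ≤ Subgroup.normalizer (A : Set G)) :
    Nat.card ↥(A ⊔ B) * Nat.card ↥(A ⊓ B) = Nat.card A * Nat.card B := by
  set N := Subgroup.normalizer (A : Set G) with hN
  have hAN : A ≤ N := Subgroup.le_normalizer
  have : (A.subgroupOf N).Normal := Subgroup.normal_in_normalizer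
  have hBA : B ⊔ A ≤ N := sup_le hB hAN
  have h1 : (A.subgroupOf N).relIndex (B.subgroupOf N ⊔ A.subgroupOf N) =
      (A.subgroupOf N).relIndex (B.subgroupOf N) := Subgroup.relIndex_sup_right _ _
  rw [← Subgroup.subgroupOf_sup hB hAN, Subgroup.relIndex_subgroupOf hBA,
    Subgroup.relIndex_subgroupOf hB] at h1
  have h2 : A.relIndex (B ⊔ A) * Nat.card A = Nat.card ↥(B ⊔ A) :=
    relIndex_mul_card le_sup_right
  have h3 : A.relIndex B * Nat.card ↥(A ⊓ B) = Nat.card B := by
    rw [← Subgroup.inf_relIndex_right]; exact relIndex_mul_card inf_le_right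
  rw [sup_comm, ← h2, ← h3, h1]; ring

theorem card_mul_le [Finite G] {A K' B' : Subgroup G} (hA : A ≤ B') (hK : K' ≤ B')
    (hn : A ≤ Subgroup.normalizer (K' : Set G)) :
    Nat.card A * Nat.card K' ≤ Nat.card B' * Nat.card ↥(A ⊓ K') := by
  have h := card_sup_inf K' A hn
  have h2 : Nat.card ↥(K' ⊔ A) ≤ Nat.card B' := Subgroup.card_le_of_le (sup_le hK hA)
  rw [inf_comm A K']
  calc Nat.card A * Nat.card K' = Nat.card ↥(K' ⊔ A) * Nat.card ↥(K' ⊓ A) := by
        rw [h]; ring
    _ ≤ Nat.card B' * Nat.card ↥(K' ⊓ A) := Nat.mul_le_mul_right _ h2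

theorem card_le_of_le_sup [Finite G] {X A K' : Subgroup G} (hX : X ≤ A ⊔ K')
    (hn : A ≤ Subgroup.normalizer (K' : Set G)) :
    Nat.card X * Nat.card ↥(A ⊓ K') ≤ Nat.card A * Nat.card K' := by
  have h := card_sup_inf K' A hn
  have h2 : Nat.card X ≤ Nat.card ↥(K' ⊔ A) := by
    rw [sup_comm]; exact Subgroup.card_le_of_le hX
  rw [inf_comm A K']
  calc Nat.card X * Nat.card ↥(K' ⊓ A) ≤ Nat.card ↥(K' ⊔ A) * Nat.card ↥(K' ⊓ A) :=
        Nat.mul_le_mul_right _ h2
    _ = Nat.card A * Nat.card K' := by rw [h]; ring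

theorem card_dvd_of_le_sup [Finite G] {X A K' : Subgroup G} (hX : X ≤ A ⊔ K')
    (hn : A ≤ Subgroup.normalizer (K' : Set G)) :
    Nat.card X * Nat.card ↥(A ⊓ K') ∣ Nat.card A * Nat.card K' := by
  have h := card_sup_inf K' A hn
  have h2 : Nat.card X ∣ Nat.card ↥(K' ⊔ A) := by
    rw [sup_comm]; exact Subgroup.card_dvd_of_le hX
  rw [inf_comm A K', mul_comm (Nat.card A), ← h]
  exact Nat.mul_dvd_mul_right h2 _

/-! ### conjugation -/

theorem cj_inv_cj (g : G) (X : Subgroup G) : cj g⁻¹ (cj g X) = X := by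
  rw [← cj_mul, inv_mul_cancel, cj_one]

theorem cj_cj_inv (g : G) (X : Subgroup G) : cj g (cj g⁻¹ X) = X := by
  rw [← cj_mul, mul_inv_cancel, cj_one]

theorem cj_sup (g : G) (A B : Subgroup G) : cj g (A ⊔ B) = cj g A ⊔ cj g B := by
  unfold cj; exact Subgroup.map_sup _ _ _

theorem cj_inf (g : G) (A B : Subgroup G) : cj g (A ⊓ B) = cj g A ⊓ cj g B := by
  unfold cj; exact Subgroup.map_inf _ _ _ (MulAut.conj g).injective

theorem cj_bot (g : G) : cj g (⊥ : Subgroup G) = ⊥ := by
  unfold cj; exact Subgroup.map_bot _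

theorem cj_le_iff {g : G} {X Y : Subgroup G} : cj g X ≤ Y ↔ X ≤ cj g⁻¹ Y := by
  constructor
  · intro h
    have := cj_mono (g := g⁻¹) h
    rwa [cj_inv_cj] at this
  · intro h
    have := cj_mono (g := g) h
    rwa [cj_cj_inv] at this

theorem cj_le_cj_iff {g : G} {X Y : Subgroup G} : cj g X ≤ cj g Y ↔ X ≤ Y := by
  rw [cj_le_iff, cj_inv_cj]

theorem le_normalizer_cj {g : G} {Y X : Subgroup G}
    (h : Y ≤ Subgroup.normalizer (X : Set G)) :
    cj g Y ≤ Subgroup.normalizer (cj g X : Set G) := by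
  apply le_normalizer_of_conj_mem
  intro n hn y hy
  rw [mem_cj] at hn hy ⊢
  have := conj_mem_of_mem_normalizer (h hn) hy
  have e : g⁻¹ * (n * y * n⁻¹) * g = g⁻¹ * n * g * (g⁻¹ * y * g) * (g⁻¹ * n * g)⁻¹ := by group
  rw [e]; exact this

theorem le_normalizer_sup {Y A B : Subgroup G} (hA : Y ≤ Subgroup.normalizer (A : Set G))
    (hB : Y ≤ Subgroup.normalizer (B : Set G)) :
    Y ≤ Subgroup.normalizer ((A ⊔ B : Subgroup G) : Set G) := by
  apply le_normalizer_of_conj_mem
  intro n hn x hx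
  have h1 : n * x * n⁻¹ ∈ cj n (A ⊔ B) := conj_mem_cj hx
  rwa [cj_sup, cj_eq_of_mem_normalizer (hA hn), cj_eq_of_mem_normalizer (hB hn)] at h1

theorem commutator_le_left {A B : Subgroup G} (h : B ≤ Subgroup.normalizer (A : Set G)) :
    ⁅A, B⁆ ≤ A := by
  rw [Subgroup.commutator_le]
  intro a ha b hb
  rw [commutatorElement_def]
  have : a * b * a⁻¹ * b⁻¹ = a * (b * a⁻¹ * b⁻¹) := by group
  rw [this]
  exact A.mul_mem ha (conj_mem_of_mem_normalizer (h hb) (A.inv_mem ha))

theorem commutator_le_right {A B : Subgroup G} (h : A ≤ Subgroup.normalizer (B : Set G)) :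
    ⁅A, B⁆ ≤ B := by
  rw [Subgroup.commutator_le]
  intro a ha b hb
  rw [commutatorElement_def]
  exact B.mul_mem (conj_mem_of_mem_normalizer (h ha) hb) (B.inv_mem hb)

/-- elements of `A ⊔ B` are products when `A` normalizes `B` -/
theorem mem_sup_dec {A B : Subgroup G} (h : A ≤ Subgroup.normalizer (B : Set G)) {x : G}
    (hx : x ∈ A ⊔ B) : ∃ a ∈ A, ∃ b ∈ B, x = a * b :=
  Cfsg.Agent.Helper23.mem_sup_of_le_normalizer h hx

/-- commuting subgroups with trivial intersection -/
theorem commute_of_inf_eq_bot {A B : Subgroup G} (hAB : A ≤ Subgroup.normalizer (B : Set G))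
    (hBA : B ≤ Subgroup.normalizer (A : Set G)) (h : A ⊓ B = ⊥) {a b : G} (ha : a ∈ A)
    (hb : b ∈ B) : a * b = b * a := by
  have h1 : a * b * a⁻¹ * b⁻¹ ∈ A ⊓ B := by
    refine ⟨?_, ?_⟩
    · have : a * b * a⁻¹ * b⁻¹ = a * (b * a⁻¹ * b⁻¹) := by group
      rw [this]
      exact A.mul_mem ha (conj_mem_of_mem_normalizer (hBA hb) (A.inv_mem ha))
    · exact B.mul_mem (conj_mem_of_mem_normalizer (hAB ha) hb) (B.inv_mem hb)
  rw [h, Subgroup.mem_bot] at h1
  have : a * b = (a * b * a⁻¹ * b⁻¹) * (b * a) := by group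
  rw [this, h1, one_mul]

/-! ### factorial arithmetic -/


theorem fac_two_mul {d : ℕ} (h : 2 ≤ d) : 2 * (d.factorial / 2) = d.factorial := by
  apply Nat.mul_div_cancel'
  exact Nat.dvd_factorial (by norm_num) h

theorem fac_d_mul {d : ℕ} (h : 3 ≤ d) : d * ((d - 1).factorial / 2) = d.factorial / 2 := by
  have h1 : 2 * (d * ((d - 1).factorial / 2)) = 2 * (d.factorial / 2) := by
    rw [fac_two_mul (by omega)]
    have : d * (2 * ((d - 1).factorial / 2)) = d.factorial := by
      rw [fac_two_mul (by omega)]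
      exact Nat.mul_factorial_pred (by omega)
    linarith
  exact Nat.eq_of_mul_eq_mul_left (by norm_num) h1

theorem fac_twelve_dvd {d : ℕ} (h : 5 ≤ d) : 12 ∣ (d - 1).factorial / 2 := by
  have h1 : Nat.factorial 4 ∣ (d - 1).factorial := Nat.factorial_dvd_factorial (by omega)
  have h2 : (24 : ℕ) ∣ (d - 1).factorial := by simpa [Nat.factorial] using h1
  obtain ⟨c, hc⟩ := h2
  rw [hc]
  refine ⟨c, ?_⟩
  omega

theorem fac_half_pos {d : ℕ} (h : 2 ≤ d) : 0 < d.factorial / 2 := by
  have := fac_two_mul h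
  have h2 := Nat.factorial_pos d
  omega

theorem mem_normalizer_of_cj_le [Finite G] {m : G} {X : Subgroup G} (h : cj m X ≤ X) :
    m ∈ Subgroup.normalizer (X : Set G) := by
  have he : cj m X = X := Subgroup.eq_of_le_of_card_ge h (by rw [card_cj])
  rw [Subgroup.mem_normalizer_iff]
  intro y
  constructor
  · intro hy
    exact h (conj_mem_cj hy)
  · intro hy
    rw [← he, mem_cj] at hy
    have e : m⁻¹ * (m * y * m⁻¹) * m = y := by group
    rwa [e] at hy

theorem mem_normalizer_of_commute {x : G} {X : Subgroup G} (h : ∀ y ∈ X, x * y = y * x) :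
    x ∈ Subgroup.normalizer (X : Set G) := by
  rw [Subgroup.mem_normalizer_iff]
  intro y
  constructor
  · intro hy
    rw [h y hy, mul_inv_cancel_right]
    exact hy
  · intro hy
    have h1 := h _ hy
    have e : y = x * y * x⁻¹ := by
      calc y = x⁻¹ * ((x * y * x⁻¹) * x) := by group
        _ = x⁻¹ * (x * (x * y * x⁻¹)) := by rw [h1]
        _ = x * y * x⁻¹ := by group
    rw [e]; exact hy

theorem sq_mem_of_card_eq_two_mul {L K : Subgroup G} [Finite G] (hLK : L ≤ K)
    (h : Nat.card K = 2 * Nat.card L) {y : G} (hy : y ∈ K) : y ^ 2 ∈ L := by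
  have h1 := relIndex_mul_card hLK
  rw [h] at h1
  have h2 : L.relIndex K = 2 := Nat.eq_of_mul_eq_mul_right Nat.card_pos h1
  have h3 := Subgroup.sq_mem_of_index_two (H := L.subgroupOf K) h2 ⟨y, hy⟩
  rw [Subgroup.mem_subgroupOf] at h3
  simpa using h3

theorem fac_lt {d : ℕ} (h3 : 3 ≤ d) : (d - 1).factorial < d.factorial / 2 := by
  have h1 := fac_d_mul h3
  have h2 := fac_two_mul (d := d - 1) (by omega)
  have h4 : 0 < (d - 1).factorial / 2 := fac_half_pos (by omega)
  calc (d - 1).factorial = 2 * ((d - 1).factorial / 2) := h2.symm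
    _ < d * ((d - 1).factorial / 2) := by nlinarith
    _ = d.factorial / 2 := h1

end Cfsg.Agent.Helper61.KnappBasic
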