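import Mathlib
import Cfsg.Agent.Lib.Helper61.KnappBasic

/-!
# Knapp's theorem on alternating subconstituents: the abstract data (helper61)

`AltTop H Kr H₁ d`: `H / Kr` is `A_d` or `S_d`, `H₁ / Kr = A_d` (abstract consequences only).
`AltData H Kr Dr H₁ d`: moreover `Dr` is a point stabilizer.
-/

set_option autoImplicit false
set_option linter.unusedSectionVars false

namespace Cfsg.Agent.Helper61.KnappData

open Cfsg Cfsg.Agent.Helper11.TW1 Cfsg.Agent.Helper11.TW2 Cfsg.Agent.Helper61.KnappBasic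

variable {G : Type*} [Group G]

structure AltTop (H Kr H₁ : Subgroup G) (d : ℕ) : Prop where
  K_le : Kr ≤ H₁
  H1_le : H₁ ≤ H
  nK : H ≤ Subgroup.normalizer (Kr : Set G)
  nH1 : H ≤ Subgroup.normalizer (H₁ : Set G)
  card_H1 : Nat.card H₁ = (d.factorial / 2) * Nat.card Kr
  card_H_le : Nat.card H ≤ 2 * Nat.card H₁
  P3 : ∀ Z : Subgroup G, Z ≤ H → H₁ ≤ Subgroup.normalizer (Z : Set G) → ¬ Z ≤ Kr → H₁ ≤ Z ⊔ Kr

structure AltData (H Kr Dr H₁ : Subgroup G) (d : ℕ) : Prop extends AltTop H Kr H₁ d where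
  K_le_D : Kr ≤ Dr
  D_le : Dr ≤ H
  card_D1 : Nat.card ↥(Dr ⊓ H₁) = ((d - 1).factorial / 2) * Nat.card Kr
  sup_eq : H₁ ⊔ Dr = H
  P4 : ∀ Z : Subgroup G, Z ≤ Dr → Dr ⊓ H₁ ≤ Subgroup.normalizer (Z : Set G) → ¬ Z ≤ Kr →
    Dr ⊓ H₁ ≤ Z ⊔ Kr
  P5 : ∀ A B : Subgroup G, A ≤ Dr → B ≤ Dr → Dr ⊓ H₁ ≤ A ⊔ Kr → Dr ⊓ H₁ ≤ B ⊔ Kr →
    Dr ⊓ H₁ ≤ ⁅A, B⁆ ⊔ Kr
  P8 : ∀ c ∈ Dr, (∀ x ∈ Dr ⊓ H₁, c * x * c⁻¹ * x⁻¹ ∈ Kr) → c ∈ Kr
  max : ∀ X : Subgroup G, Dr ≤ X → X ≤ H → X = Dr ∨ X = H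
  P7 : ∃ U : Subgroup G, U ≤ Dr ∧ Nat.card Dr = (d - 1) * Nat.card U ∧ Dr ⊓ cr Dr U = Kr

namespace AltTop

variable {H Kr H₁ : Subgroup G} {d : ℕ}

theorem K_le_H (h : AltTop H Kr H₁ d) : Kr ≤ H := h.K_le.trans h.H1_le

/-- `P3` for a subgroup normalized only modulo `Kr`. -/
theorem P3' (h : AltTop H Kr H₁ d) {Z Y : Subgroup G} (hZ : Z ≤ H) (hY : Y ≤ H)
    (hYZ : Y ≤ Subgroup.normalizer (Z : Set G)) (hcov : H₁ ≤ Y ⊔ Kr) (hZK : ¬ Z ≤ Kr) :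
    H₁ ≤ Z ⊔ Kr := by
  have hn : H₁ ≤ Subgroup.normalizer ((Z ⊔ Kr : Subgroup G) : Set G) :=
    hcov.trans (sup_le (le_normalizer_sup hYZ (hY.trans h.nK))
      (le_sup_right.trans Subgroup.le_normalizer))
  have := h.P3 (Z ⊔ Kr) (sup_le hZ h.K_le_H) hn (fun hc => hZK (le_sup_left.trans hc))
  rwa [sup_assoc, sup_idem] at this

theorem conj (h : AltTop H Kr H₁ d) (g : G) [Finite G] :
    AltTop (cj g H) (cj g Kr) (cj g H₁) d where
  K_le := cj_mono h.K_le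
  H1_le := cj_mono h.H1_le
  nK := le_normalizer_cj h.nK
  nH1 := le_normalizer_cj h.nH1
  card_H1 := by rw [card_cj, card_cj]; exact h.card_H1
  card_H_le := by rw [card_cj, card_cj]; exact h.card_H_le
  P3 := by
    intro Z hZ hn hZK
    have h1 : cj g⁻¹ Z ≤ H := by rw [cj_le_iff, inv_inv]; exact hZ
    have h2 : H₁ ≤ Subgroup.normalizer (cj g⁻¹ Z : Set G) := by
      have := le_normalizer_cj (g := g⁻¹) hn
      rwa [cj_inv_cj] at this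
    have h3 : ¬ cj g⁻¹ Z ≤ Kr := by
      intro hc
      apply hZK
      have := cj_mono (g := g) hc
      rwa [cj_cj_inv] at this
    have := cj_mono (g := g) (h.P3 _ h1 h2 h3)
    rwa [cj_sup, cj_cj_inv] at this

theorem card_Kr_pos [Finite G] (Kr : Subgroup G) : 0 < Nat.card Kr := Nat.card_pos

end AltTop

namespace AltData

variable {H Kr Dr H₁ : Subgroup G} {d : ℕ}

theorem P4' (h : AltData H Kr Dr H₁ d) {Z Y : Subgroup G} (hZ : Z ≤ Dr) (hY : Y ≤ Dr)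
    (hYZ : Y ≤ Subgroup.normalizer (Z : Set G)) (hcov : Dr ⊓ H₁ ≤ Y ⊔ Kr) (hZK : ¬ Z ≤ Kr) :
    Dr ⊓ H₁ ≤ Z ⊔ Kr := by
  have hn : Dr ⊓ H₁ ≤ Subgroup.normalizer ((Z ⊔ Kr : Subgroup G) : Set G) :=
    hcov.trans (sup_le (le_normalizer_sup hYZ ((hY.trans h.D_le).trans h.nK))
      (le_sup_right.trans Subgroup.le_normalizer))
  have := h.P4 (Z ⊔ Kr) (sup_le hZ h.K_le_D) hn (fun hc => hZK (le_sup_left.trans hc))
  rwa [sup_assoc, sup_idem] at this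

/-- `|H| |D₁| = |H₁| |Dr|` -/
theorem card_rel [Finite G] (h : AltData H Kr Dr H₁ d) :
    Nat.card H * Nat.card ↥(Dr ⊓ H₁) = Nat.card H₁ * Nat.card Dr := by
  have := card_sup_inf H₁ Dr (h.D_le.trans h.nH1)
  rw [h.sup_eq, inf_comm] at this
  exact this

/-- `|H| = d |Dr|` -/
theorem card_H_eq [Finite G] (h : AltData H Kr Dr H₁ d) (h3 : 3 ≤ d) :
    Nat.card H = d * Nat.card Dr := by
  have h1 := h.card_rel
  rw [h.card_D1, h.card_H1, ← fac_d_mul h3] at h1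
  have hpos : 0 < ((d - 1).factorial / 2) * Nat.card Kr :=
    Nat.mul_pos (by
      have := fac_two_mul (d := d - 1) (by omega)
      have := Nat.factorial_pos (d - 1)
      omega) Nat.card_pos
  have h2 : Nat.card H * (((d - 1).factorial / 2) * Nat.card Kr) =
      (d * Nat.card Dr) * (((d - 1).factorial / 2) * Nat.card Kr) := by
    rw [h1]; ring
  exact Nat.eq_of_mul_eq_mul_right hpos h2

/-- `|Dr| ≤ (d-1)! |Kr|` -/
theorem card_D_le [Finite G] (h : AltData H Kr Dr H₁ d) (h3 : 3 ≤ d) :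
    Nat.card Dr ≤ (d - 1).factorial * Nat.card Kr := by
  have h1 := h.card_rel
  have h2 := h.card_H_le
  have hpos : 0 < Nat.card H₁ := Nat.card_pos
  have h3' : Nat.card H₁ * Nat.card Dr ≤ Nat.card H₁ * (2 * Nat.card ↥(Dr ⊓ H₁)) := by
    rw [← h1]
    calc Nat.card H * Nat.card ↥(Dr ⊓ H₁) ≤ (2 * Nat.card H₁) * Nat.card ↥(Dr ⊓ H₁) :=
          Nat.mul_le_mul_right _ h2
      _ = Nat.card H₁ * (2 * Nat.card ↥(Dr ⊓ H₁)) := by ring
  have h4 := Nat.le_of_mul_le_mul_left h3' hpos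
  rw [h.card_D1, ← mul_assoc, fac_two_mul (by omega)] at h4
  exact h4

end AltData

end Cfsg.Agent.Helper61.KnappData
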