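import Mathlib

/-!
# Knapp's theorem on alternating subconstituents: facts on alternating groups (helper61)
-/

set_option autoImplicit false
set_option linter.unusedSectionVars false

namespace Cfsg.Agent.Helper61.KnappPerm

open Equiv Equiv.Perm

variable {α : Type*} [Fintype α] [DecidableEq α]

theorem exists_two_notMem (F : Finset α) (h : F.card + 2 ≤ Fintype.card α) :
    ∃ u w, u ∉ F ∧ w ∉ F ∧ u ≠ w := by
  have h1 : 1 < (Fᶜ).card := by rw [Finset.card_compl]; omega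
  obtain ⟨u, hu, w, hw, huw⟩ := Finset.one_lt_card.mp h1
  exact ⟨u, w, Finset.mem_compl.mp hu, Finset.mem_compl.mp hw, huw⟩

/-- a nontrivial permutation fails to commute with some 3-cycle -/
theorem exists_alt_not_commute (hc : 4 ≤ Fintype.card α) {z : Perm α} (hz : z ≠ 1) :
    ∃ t ∈ alternatingGroup α, z * t * z⁻¹ ≠ t := by
  obtain ⟨x, hx⟩ : ∃ x, z x ≠ x := by
    by_contra h
    push Not at h
    exact hz (Equiv.ext h)
  obtain ⟨u, w, hu, hw, huw⟩ := exists_two_notMem ({x, z x} : Finset α) (by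
    have : ({x, z x} : Finset α).card ≤ 2 := Finset.card_le_two
    omega)
  simp only [Finset.mem_insert, Finset.mem_singleton, not_or] at hu hw
  refine ⟨swap x u * swap x w,
    (isThreeCycle_swap_mul_swap_same (Ne.symm hu.1) (Ne.symm hw.1) huw).mem_alternatingGroup, ?_⟩
  intro heq
  have h1 := congrArg (fun σ : Perm α => σ (z x)) heq
  simp only [Perm.mul_apply] at h1
  rw [show z⁻¹ (z x) = x from Perm.inv_eq_iff_eq.mpr rfl, swap_apply_left, swap_apply_of_ne_of_ne hw.1 (Ne.symm huw),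
    swap_apply_of_ne_of_ne hx (fun h => hw.2 h.symm),
    swap_apply_of_ne_of_ne hx (fun h => hu.2 h.symm)] at h1
  exact hw.1 (z.injective h1)

/-- a nontrivial subgroup normalized by the alternating group contains it -/
theorem alt_le_of_normalizes (h5 : 5 ≤ Fintype.card α) {Z : Subgroup (Perm α)}
    (hn : alternatingGroup α ≤ Subgroup.normalizer (Z : Set (Perm α))) (hZ : Z ≠ ⊥) :
    alternatingGroup α ≤ Z := by
  obtain ⟨z, hzZ, hz1⟩ : ∃ z ∈ Z, z ≠ 1 := by
    by_contra h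
    push Not at h
    exact hZ ((Subgroup.eq_bot_iff_forall Z).mpr h)
  obtain ⟨t, ht, hne⟩ := exists_alt_not_commute (by omega) hz1
  have hwZ : z * t * z⁻¹ * t⁻¹ ∈ Z := by
    have h1 : t * z⁻¹ * t⁻¹ ∈ Z :=
      (Subgroup.mem_normalizer_iff.mp (hn ht) z⁻¹).mp (Z.inv_mem hzZ)
    have : z * t * z⁻¹ * t⁻¹ = z * (t * z⁻¹ * t⁻¹) := by group
    rw [this]
    exact Z.mul_mem hzZ h1
  have hwA : z * t * z⁻¹ * t⁻¹ ∈ alternatingGroup α := by
    have hnorm : (alternatingGroup α).Normal := inferInstance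
    exact (alternatingGroup α).mul_mem (hnorm.conj_mem t ht z) ((alternatingGroup α).inv_mem ht)
  have hw1 : z * t * z⁻¹ * t⁻¹ ≠ 1 := by
    intro h
    exact hne (mul_inv_eq_one.mp h)
  have : (Z.subgroupOf (alternatingGroup α)).Normal :=
    Subgroup.normal_subgroupOf_of_le_normalizer hn
  rcases alternatingGroup.normal_subgroup_eq_bot_or_eq_top
    (by rwa [Nat.card_eq_fintype_card]) (N := Z.subgroupOf (alternatingGroup α)) with h | h
  · exfalso
    rw [Subgroup.subgroupOf_eq_bot, Subgroup.disjoint_def] at h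
    exact hw1 (h hwZ hwA)
  · exact Subgroup.subgroupOf_eq_top.mp h

/-- the alternating group is transitive -/
theorem exists_alt_map (h4 : 4 ≤ Fintype.card α) (x y : α) :
    ∃ σ ∈ alternatingGroup α, σ x = y := by
  by_cases hxy : x = y
  · exact ⟨1, Subgroup.one_mem _, by simp [hxy]⟩
  obtain ⟨u, w, hu, hw, huw⟩ := exists_two_notMem ({x, y} : Finset α) (by
    have : ({x, y} : Finset α).card ≤ 2 := Finset.card_le_two
    omega)
  simp only [Finset.mem_insert, Finset.mem_singleton, not_or] at hu hw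
  refine ⟨swap x y * swap u w, ?_, ?_⟩
  · exact mul_mem_alternatingGroup_of_isSwap ⟨x, y, hxy, rfl⟩ ⟨u, w, huw, rfl⟩
  · rw [Perm.mul_apply, swap_apply_of_ne_of_ne (Ne.symm hu.1) (Ne.symm hw.1), swap_apply_left]

/-! ### the point stabilizer -/

section stab

variable (s₀ : α)

/-- the stabilizer of `s₀` in the alternating group, as the image of `Alt (α ∖ {s₀})` -/
def A0 : Subgroup (Perm α) :=
  (alternatingGroup {x : α // x ≠ s₀}).map (Equiv.Perm.ofSubtype)

theorem exists_ofSubtype_eq {σ : Perm α} (h : σ s₀ = s₀) :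
    ∃ σ' : Perm {x : α // x ≠ s₀}, Equiv.Perm.ofSubtype σ' = σ := by
  have h₁ : ∀ x, σ x ≠ s₀ ↔ x ≠ s₀ := by
    intro x
    apply not_congr
    constructor
    · intro hx; apply σ.injective; rw [hx, h]
    · intro hx; rw [hx, h]
  have h₂ : ∀ x, σ x ≠ x → x ≠ s₀ := by
    intro x hx hxs; apply hx; rw [hxs, h]
  exact ⟨subtypePerm σ h₁, ofSubtype_subtypePerm h₁ h₂⟩

theorem ofSubtype_fix (σ' : Perm {x : α // x ≠ s₀}) : Equiv.Perm.ofSubtype σ' s₀ = s₀ :=
  ofSubtype_apply_of_not_mem σ' (fun h => h rfl)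

theorem mem_A0_iff {σ : Perm α} : σ ∈ A0 s₀ ↔ sign σ = 1 ∧ σ s₀ = s₀ := by
  unfold A0
  constructor
  · rintro ⟨σ', hσ', rfl⟩
    refine ⟨?_, ofSubtype_fix s₀ σ'⟩
    rw [sign_ofSubtype]
    exact mem_alternatingGroup.mp hσ'
  · rintro ⟨h1, h2⟩
    obtain ⟨σ', rfl⟩ := exists_ofSubtype_eq s₀ h2
    refine ⟨σ', ?_, rfl⟩
    have : sign σ' = 1 := by rw [← sign_ofSubtype]; exact h1
    exact mem_alternatingGroup.mpr this

theorem A0_eq : A0 s₀ = alternatingGroup α ⊓ MulAction.stabilizer (Perm α) s₀ := by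
  ext σ
  rw [mem_A0_iff, Subgroup.mem_inf, mem_alternatingGroup, MulAction.mem_stabilizer_iff,
    Perm.smul_def]

theorem A0_le_alt : A0 s₀ ≤ alternatingGroup α := by
  rw [A0_eq]; exact inf_le_left

theorem card_sub : Fintype.card {x : α // x ≠ s₀} = Fintype.card α - 1 := by
  have := Fintype.card_subtype_compl (fun x : α => x = s₀)
  rw [Fintype.card_subtype_eq] at this
  convert this

theorem card_A0 (h3 : 3 ≤ Fintype.card α) :
    Nat.card (A0 s₀) = (Fintype.card α - 1).factorial / 2 := by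
  unfold A0
  rw [Subgroup.card_map_of_injective ofSubtype_injective]
  have : Nontrivial {x : α // x ≠ s₀} := by
    rw [← Fintype.one_lt_card_iff_nontrivial, card_sub]; omega
  rw [nat_card_alternatingGroup, Nat.card_eq_fintype_card, card_sub]

theorem A0_le_of_normalizes (h6 : 6 ≤ Fintype.card α) {Z : Subgroup (Perm α)}
    (hZT : ∀ z ∈ Z, z s₀ = s₀)
    (hn : A0 s₀ ≤ Subgroup.normalizer (Z : Set (Perm α))) (hZ : Z ≠ ⊥) : A0 s₀ ≤ Z := by
  have hn' : alternatingGroup {x : α // x ≠ s₀} ≤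
      Subgroup.normalizer ((Z.comap (Equiv.Perm.ofSubtype : Perm {x : α // x ≠ s₀} →* Perm α) :
        Subgroup _) : Set _) := by
    intro σ' hσ'
    have h1 : Equiv.Perm.ofSubtype σ' ∈ A0 s₀ := ⟨σ', hσ', rfl⟩
    have h2 := hn h1
    rw [Subgroup.mem_normalizer_iff] at h2 ⊢
    intro z'
    rw [Subgroup.mem_comap, Subgroup.mem_comap, map_mul, map_mul, map_inv]
    exact h2 _
  have hne : Z.comap (Equiv.Perm.ofSubtype : Perm {x : α // x ≠ s₀} →* Perm α) ≠ ⊥ := by
    obtain ⟨z, hzZ, hz1⟩ : ∃ z ∈ Z, z ≠ 1 := by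
      by_contra h
      push Not at h
      exact hZ ((Subgroup.eq_bot_iff_forall Z).mpr h)
    obtain ⟨z', rfl⟩ := exists_ofSubtype_eq s₀ (hZT z hzZ)
    intro hbot
    have : z' ∈ Z.comap (Equiv.Perm.ofSubtype : Perm {x : α // x ≠ s₀} →* Perm α) := hzZ
    rw [hbot, Subgroup.mem_bot] at this
    apply hz1
    rw [this, map_one]
  have h5 : 5 ≤ Fintype.card {x : α // x ≠ s₀} := by rw [card_sub]; omega
  have := alt_le_of_normalizes h5 hn' hne
  unfold A0
  exact (Subgroup.map_mono this).trans (Subgroup.map_comap_le _ _)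

theorem A0_le_commutator (h6 : 6 ≤ Fintype.card α) : A0 s₀ ≤ ⁅A0 s₀, A0 s₀⁆ := by
  have h5 : 5 ≤ Nat.card {x : α // x ≠ s₀} := by
    rw [Nat.card_eq_fintype_card, card_sub]; omega
  unfold A0
  rw [← Subgroup.map_commutator, commutator_alternatingGroup_eq_self h5]

theorem eq_one_of_commute_A0 (h5 : 5 ≤ Fintype.card α) {c : Perm α} (hc : c s₀ = s₀)
    (hcomm : ∀ σ ∈ A0 s₀, c * σ = σ * c) : c = 1 := by
  obtain ⟨c', rfl⟩ := exists_ofSubtype_eq s₀ hc
  have h4 : 4 ≤ Fintype.card {x : α // x ≠ s₀} := by rw [card_sub]; omega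
  by_contra hne
  have hc' : c' ≠ 1 := by
    intro h; apply hne; rw [h, map_one]
  obtain ⟨t, ht, htne⟩ := exists_alt_not_commute h4 hc'
  apply htne
  apply ofSubtype_injective
  have h1 := hcomm (Equiv.Perm.ofSubtype t) ⟨t, ht, rfl⟩
  rw [map_mul, map_mul, map_inv, h1, mul_inv_cancel_right]

theorem exists_A0_map (h5 : 5 ≤ Fintype.card α) {x y : α} (hx : x ≠ s₀) (hy : y ≠ s₀) :
    ∃ σ ∈ A0 s₀, σ x = y := by
  by_cases hxy : x = y
  · exact ⟨1, Subgroup.one_mem _, by simp [hxy]⟩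
  obtain ⟨u, w, hu, hw, huw⟩ := exists_two_notMem ({s₀, x, y} : Finset α) (by
    have : ({s₀, x, y} : Finset α).card ≤ 3 := Finset.card_le_three
    omega)
  simp only [Finset.mem_insert, Finset.mem_singleton, not_or] at hu hw
  refine ⟨swap x y * swap u w, ?_, ?_⟩
  · rw [mem_A0_iff]
    refine ⟨?_, ?_⟩
    · exact mem_alternatingGroup.mp
        (mul_mem_alternatingGroup_of_isSwap ⟨x, y, hxy, rfl⟩ ⟨u, w, huw, rfl⟩)
    · rw [Perm.mul_apply, swap_apply_of_ne_of_ne (Ne.symm hu.1) (Ne.symm hw.1),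
        swap_apply_of_ne_of_ne (Ne.symm hx) (Ne.symm hy)]
  · rw [Perm.mul_apply, swap_apply_of_ne_of_ne (Ne.symm hu.2.1) (Ne.symm hw.2.1), swap_apply_left]

end stab

end Cfsg.Agent.Helper61.KnappPerm
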