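import Mathlib
import Cfsg.Agent.Lib.Helper61.KnappData
import Cfsg.Agent.Lib.Helper61.KnappPerm

/-!
# Knapp's theorem on alternating subconstituents: from permutation actions to `AltData` (helper61)
-/

set_option autoImplicit false
set_option linter.unusedSectionVars false

namespace Cfsg.Agent.Helper61.KnappBridge

open Cfsg Cfsg.Agent.Helper11.TW1 Cfsg.Agent.Helper11.TW2 Cfsg.Agent.Helper61.KnappBasic
  Cfsg.Agent.Helper61.KnappPerm Cfsg.Agent.Helper61.KnappData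
open Equiv Equiv.Perm
open scoped commutatorElement

variable {G : Type*} [Group G] {H : Subgroup G} {S : Type*} [Fintype S] [DecidableEq S]

/-- pull back a subgroup of `Perm S` to a subgroup of `G` contained in `H` -/
def pb (τ : ↥H →* Perm S) (𝒮 : Subgroup (Perm S)) : Subgroup G := (𝒮.comap τ).map H.subtype

theorem mem_pb {τ : ↥H →* Perm S} {𝒮 : Subgroup (Perm S)} {x : G} :
    x ∈ pb τ 𝒮 ↔ ∃ hx : x ∈ H, τ ⟨x, hx⟩ ∈ 𝒮 := by
  unfold pb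
  constructor
  · rintro ⟨y, hy, rfl⟩
    exact ⟨y.2, hy⟩
  · rintro ⟨hx, h⟩
    exact ⟨⟨x, hx⟩, h, rfl⟩

theorem coe_mem_pb {τ : ↥H →* Perm S} {𝒮 : Subgroup (Perm S)} {x : ↥H} :
    (x : G) ∈ pb τ 𝒮 ↔ τ x ∈ 𝒮 := by
  rw [mem_pb]
  constructor
  · rintro ⟨_, h⟩; exact h
  · intro h; exact ⟨x.2, h⟩

theorem pb_le (τ : ↥H →* Perm S) (𝒮 : Subgroup (Perm S)) : pb τ 𝒮 ≤ H := by
  intro x hx
  obtain ⟨h, -⟩ := mem_pb.mp hx
  exact h

theorem pb_mono {τ : ↥H →* Perm S} {𝒜 ℬ : Subgroup (Perm S)} (h : 𝒜 ≤ ℬ) : pb τ 𝒜 ≤ pb τ ℬ := by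
  intro x hx
  obtain ⟨hxH, hx'⟩ := mem_pb.mp hx
  exact mem_pb.mpr ⟨hxH, h hx'⟩

theorem pb_inf (τ : ↥H →* Perm S) (𝒜 ℬ : Subgroup (Perm S)) :
    pb τ (𝒜 ⊓ ℬ) = pb τ 𝒜 ⊓ pb τ ℬ := by
  ext x
  rw [Subgroup.mem_inf, mem_pb, mem_pb, mem_pb]
  constructor
  · rintro ⟨hx, h1, h2⟩; exact ⟨⟨hx, h1⟩, ⟨hx, h2⟩⟩
  · rintro ⟨⟨hx, h1⟩, ⟨_, h2⟩⟩; exact ⟨hx, h1, h2⟩

theorem pb_range (τ : ↥H →* Perm S) : pb τ τ.range = H := by
  apply le_antisymm (pb_le _ _)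
  intro x hx
  exact mem_pb.mpr ⟨hx, ⟨_, rfl⟩⟩

theorem le_normalizer_pb (τ : ↥H →* Perm S) (𝒮 : Subgroup (Perm S)) [h𝒮 : 𝒮.Normal] :
    H ≤ Subgroup.normalizer (pb τ 𝒮 : Set G) := by
  apply le_normalizer_of_conj_mem
  intro n hn y hy
  obtain ⟨hyH, hy'⟩ := mem_pb.mp hy
  have hmem : (((⟨n, hn⟩ : ↥H) * ⟨y, hyH⟩ * (⟨n, hn⟩ : ↥H)⁻¹ : ↥H) : G) ∈ pb τ 𝒮 :=
    coe_mem_pb.mpr (by rw [map_mul, map_mul, map_inv]; exact h𝒮.conj_mem _ hy' _)
  exact hmem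

theorem card_pb [Finite G] {τ : ↥H →* Perm S} {𝒮 : Subgroup (Perm S)} (h𝒮 : 𝒮 ≤ τ.range) :
    Nat.card (pb τ 𝒮) = Nat.card 𝒮 * Nat.card (pb τ ⊥) := by
  have e1 : Nat.card (pb τ 𝒮) = Nat.card (𝒮.comap τ) :=
    Subgroup.card_map_of_injective H.subtype_injective
  have e2 : Nat.card (pb τ ⊥) = Nat.card τ.ker := by
    unfold pb
    rw [Subgroup.card_map_of_injective H.subtype_injective, MonoidHom.comap_bot]
  have h1 : Nat.card (𝒮.comap τ) * (𝒮.comap τ).index = Nat.card ↥H := Subgroup.card_mul_index _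
  have h2 : (𝒮.comap τ).index = 𝒮.relIndex τ.range := Subgroup.index_comap 𝒮 τ
  have h3 : Nat.card τ.ker * τ.ker.index = Nat.card ↥H := Subgroup.card_mul_index _
  have h4 : τ.ker.index = Nat.card τ.range := Subgroup.index_ker τ
  have h5 : 𝒮.relIndex τ.range * Nat.card 𝒮 = Nat.card τ.range := relIndex_mul_card h𝒮
  have hpos : 0 < 𝒮.relIndex τ.range := by
    rcases Nat.eq_zero_or_pos (𝒮.relIndex τ.range) with h | h
    · rw [h, zero_mul] at h5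
      have : 0 < Nat.card τ.range := Nat.card_pos
      omega
    · exact h
  rw [e1, e2]
  have key0 : Nat.card (𝒮.comap τ) * 𝒮.relIndex τ.range =
      Nat.card τ.ker * (𝒮.relIndex τ.range * Nat.card 𝒮) := by
    rw [h5, ← h4, h3, ← h2, h1]
  have key : Nat.card (𝒮.comap τ) * 𝒮.relIndex τ.range =
      (Nat.card 𝒮 * Nat.card τ.ker) * 𝒮.relIndex τ.range := by
    rw [key0]; ring
  exact Nat.eq_of_mul_eq_mul_right hpos key

/-- images of subgroups of `G` inside `H` -/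
theorem pull_cover {τ : ↥H →* Perm S} {𝒜 : Subgroup (Perm S)} {Z : Subgroup G}
    (hcov : 𝒜 ≤ (Z.subgroupOf H).map τ) : pb τ 𝒜 ≤ Z ⊔ pb τ ⊥ := by
  intro x hx
  obtain ⟨hxH, hxa⟩ := mem_pb.mp hx
  obtain ⟨z, hz, hzx⟩ := hcov hxa
  have hmem : ((z * (z⁻¹ * ⟨x, hxH⟩) : ↥H) : G) ∈ Z ⊔ pb τ ⊥ := by
    apply Subgroup.mul_mem_sup (Subgroup.mem_subgroupOf.mp hz)
    rw [coe_mem_pb, Subgroup.mem_bot, map_mul, map_inv, hzx, inv_mul_cancel]
  rw [mul_inv_cancel_left] at hmem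
  exact hmem

theorem push_cover {τ : ↥H →* Perm S} {𝒜 : Subgroup (Perm S)} {Z : Subgroup G} (hZ : Z ≤ H)
    (h𝒜 : 𝒜 ≤ τ.range) (hcov : pb τ 𝒜 ≤ Z ⊔ pb τ ⊥) : 𝒜 ≤ (Z.subgroupOf H).map τ := by
  intro σ hσ
  obtain ⟨h, rfl⟩ := h𝒜 hσ
  have h1 : (h : G) ∈ pb τ 𝒜 := coe_mem_pb.mpr hσ
  obtain ⟨z, hz, k, hk, hzk⟩ := mem_sup_dec (hZ.trans (le_normalizer_pb τ ⊥)) (hcov h1)
  obtain ⟨hkH, hk1⟩ := mem_pb.mp hk
  refine ⟨⟨z, hZ hz⟩, hz, ?_⟩
  have e : h = ⟨z, hZ hz⟩ * ⟨k, hkH⟩ := Subtype.ext hzk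
  rw [e, map_mul, Subgroup.mem_bot.mp hk1, mul_one]

theorem normalizes_push {τ : ↥H →* Perm S} {𝒜 : Subgroup (Perm S)} {Z : Subgroup G}
    (h𝒜 : 𝒜 ≤ τ.range) (hn : pb τ 𝒜 ≤ Subgroup.normalizer (Z : Set G)) :
    𝒜 ≤ Subgroup.normalizer (((Z.subgroupOf H).map τ : Subgroup (Perm S)) : Set (Perm S)) := by
  apply le_normalizer_of_conj_mem
  rintro σ hσ y ⟨z, hz, rfl⟩
  obtain ⟨h, rfl⟩ := h𝒜 hσ
  have h1 : (h : G) ∈ Subgroup.normalizer (Z : Set G) := hn (coe_mem_pb.mpr hσ)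
  refine ⟨h * z * h⁻¹, ?_, by rw [map_mul, map_mul, map_inv]⟩
  show h * z * h⁻¹ ∈ Z.subgroupOf H
  rw [Subgroup.mem_subgroupOf]
  exact conj_mem_of_mem_normalizer h1 (Subgroup.mem_subgroupOf.mp hz)

theorem push_ne_bot {τ : ↥H →* Perm S} {Z : Subgroup G} (hZ : Z ≤ H) (hZK : ¬ Z ≤ pb τ ⊥) :
    (Z.subgroupOf H).map τ ≠ ⊥ := by
  obtain ⟨z, hzZ, hzK⟩ := SetLike.not_le_iff_exists.mp hZK
  intro hbot
  apply hzK
  rw [mem_pb]
  refine ⟨hZ hzZ, ?_⟩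
  rw [← hbot]
  exact ⟨⟨z, hZ hzZ⟩, hzZ, rfl⟩

theorem bridge_P3 (τ : ↥H →* Perm S) (hc : 5 ≤ Fintype.card S)
    (hA : alternatingGroup S ≤ τ.range) {Z : Subgroup G} (hZ : Z ≤ H)
    (hn : pb τ (alternatingGroup S) ≤ Subgroup.normalizer (Z : Set G)) (hZK : ¬ Z ≤ pb τ ⊥) :
    pb τ (alternatingGroup S) ≤ Z ⊔ pb τ ⊥ :=
  pull_cover (alt_le_of_normalizes hc (normalizes_push hA hn) (push_ne_bot hZ hZK))

theorem bridge_P4 (τ : ↥H →* Perm S) (s₀ : S) (hc : 6 ≤ Fintype.card S)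
    (hA0 : A0 s₀ ≤ τ.range) {Z : Subgroup G}
    (hZ : Z ≤ pb τ (MulAction.stabilizer (Perm S) s₀))
    (hn : pb τ (A0 s₀) ≤ Subgroup.normalizer (Z : Set G)) (hZK : ¬ Z ≤ pb τ ⊥) :
    pb τ (A0 s₀) ≤ Z ⊔ pb τ ⊥ := by
  have hZH : Z ≤ H := hZ.trans (pb_le _ _)
  apply pull_cover
  apply A0_le_of_normalizes s₀ hc _ (normalizes_push hA0 hn) (push_ne_bot hZH hZK)
  rintro z' ⟨z, hz, rfl⟩
  have := coe_mem_pb.mp (hZ (Subgroup.mem_subgroupOf.mp hz))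
  exact MulAction.mem_stabilizer_iff.mp this

theorem bridge_P5 (τ : ↥H →* Perm S) (s₀ : S) (hc : 6 ≤ Fintype.card S)
    (hA0 : A0 s₀ ≤ τ.range) {A B : Subgroup G} (hA : A ≤ H) (hB : B ≤ H)
    (hcA : pb τ (A0 s₀) ≤ A ⊔ pb τ ⊥) (hcB : pb τ (A0 s₀) ≤ B ⊔ pb τ ⊥) :
    pb τ (A0 s₀) ≤ ⁅A, B⁆ ⊔ pb τ ⊥ := by
  have h1 := push_cover hA hA0 hcA
  have h2 := push_cover hB hA0 hcB
  apply pull_cover
  refine (A0_le_commutator s₀ hc).trans ((Subgroup.commutator_mono h1 h2).trans ?_)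
  rw [Subgroup.commutator_le]
  rintro a' ⟨a, ha, rfl⟩ b' ⟨b, hb, rfl⟩
  refine ⟨⁅a, b⁆, ?_, map_commutatorElement τ a b⟩
  show ⁅a, b⁆ ∈ (⁅A, B⁆ : Subgroup G).subgroupOf H
  rw [Subgroup.mem_subgroupOf]
  have : ((⁅a, b⁆ : ↥H) : G) = ⁅(a : G), (b : G)⁆ := by simp [commutatorElement_def]
  rw [this]
  exact Subgroup.commutator_mem_commutator (Subgroup.mem_subgroupOf.mp ha)
    (Subgroup.mem_subgroupOf.mp hb)

theorem bridge_P8 (τ : ↥H →* Perm S) (s₀ : S) (hc : 5 ≤ Fintype.card S)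
    (hA0 : A0 s₀ ≤ τ.range) {c : G} (hcD : c ∈ pb τ (MulAction.stabilizer (Perm S) s₀))
    (hcomm : ∀ x ∈ pb τ (A0 s₀), c * x * c⁻¹ * x⁻¹ ∈ pb τ ⊥) : c ∈ pb τ ⊥ := by
  obtain ⟨hcH, hcT⟩ := mem_pb.mp hcD
  rw [mem_pb]
  refine ⟨hcH, ?_⟩
  rw [Subgroup.mem_bot]
  apply eq_one_of_commute_A0 s₀ hc (MulAction.mem_stabilizer_iff.mp hcT)
  intro σ hσ
  obtain ⟨h, rfl⟩ := hA0 hσ
  have h1 := hcomm h (coe_mem_pb.mpr hσ)
  have h2 : (((⟨c, hcH⟩ : ↥H) * h * (⟨c, hcH⟩ : ↥H)⁻¹ * h⁻¹ : ↥H) : G) ∈ pb τ ⊥ := h1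
  rw [coe_mem_pb, Subgroup.mem_bot, map_mul, map_mul, map_mul, map_inv, map_inv] at h2
  exact mul_inv_eq_iff_eq_mul.mp (mul_inv_eq_one.mp h2)

theorem bridge_max (τ : ↥H →* Perm S) (s₀ : S) (hc : 5 ≤ Fintype.card S)
    (hA0 : A0 s₀ ≤ τ.range) {X : Subgroup G}
    (hDX : pb τ (MulAction.stabilizer (Perm S) s₀) ≤ X) (hXH : X ≤ H) :
    X = pb τ (MulAction.stabilizer (Perm S) s₀) ∨ X = H := by
  by_cases hXD : X ≤ pb τ (MulAction.stabilizer (Perm S) s₀)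
  · exact Or.inl (le_antisymm hXD hDX)
  right
  obtain ⟨x, hxX, hxD⟩ := SetLike.not_le_iff_exists.mp hXD
  apply le_antisymm hXH
  intro h hh
  obtain ⟨x', hx'⟩ : ∃ x' : ↥H, (x' : G) = x := ⟨⟨x, hXH hxX⟩, rfl⟩
  obtain ⟨h', hh'⟩ : ∃ h' : ↥H, (h' : G) = h := ⟨⟨h, hh⟩, rfl⟩
  subst hx' hh'
  have hx1 : τ x' s₀ ≠ s₀ := fun hc' =>
    hxD (coe_mem_pb.mpr (MulAction.mem_stabilizer_iff.mpr hc'))
  by_cases hs : τ h' s₀ = s₀
  · exact hDX (coe_mem_pb.mpr (MulAction.mem_stabilizer_iff.mpr hs))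
  obtain ⟨σ, hσ, hσs⟩ := exists_A0_map s₀ hc hx1 hs
  obtain ⟨y, rfl⟩ := hA0 hσ
  have hyX : (y : G) ∈ X :=
    hDX (coe_mem_pb.mpr (MulAction.mem_stabilizer_iff.mpr ((mem_A0_iff s₀).mp hσ).2))
  have hz : (((y * x')⁻¹ * h' : ↥H) : G) ∈ X := by
    apply hDX
    rw [coe_mem_pb, MulAction.mem_stabilizer_iff, map_mul, map_inv, map_mul]
    show ((τ y * τ x')⁻¹ * τ h') s₀ = s₀
    rw [Perm.mul_apply, ← hσs, Perm.inv_eq_iff_eq]
    rfl
  have hmem : ((y * x' * ((y * x')⁻¹ * h') : ↥H) : G) ∈ X :=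
    X.mul_mem (X.mul_mem hyX hxX) hz
  rwa [mul_inv_cancel_left] at hmem

theorem bridge_sup (τ : ↥H →* Perm S) (s₀ : S) (hc : 4 ≤ Fintype.card S)
    (hA : alternatingGroup S ≤ τ.range) :
    pb τ (alternatingGroup S) ⊔ pb τ (MulAction.stabilizer (Perm S) s₀) = H := by
  apply le_antisymm (sup_le (pb_le _ _) (pb_le _ _))
  intro h hh
  obtain ⟨h', hh'⟩ : ∃ h' : ↥H, (h' : G) = h := ⟨⟨h, hh⟩, rfl⟩
  subst hh'
  obtain ⟨σ, hσ, hσs⟩ := exists_alt_map hc s₀ (τ h' s₀)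
  obtain ⟨y, rfl⟩ := hA hσ
  have h1 : (y : G) ∈ pb τ (alternatingGroup S) := coe_mem_pb.mpr hσ
  have h2 : ((y⁻¹ * h' : ↥H) : G) ∈ pb τ (MulAction.stabilizer (Perm S) s₀) := by
    rw [coe_mem_pb, MulAction.mem_stabilizer_iff, map_mul, map_inv]
    show ((τ y)⁻¹ * τ h') s₀ = s₀
    rw [Perm.mul_apply, ← hσs, Perm.inv_eq_iff_eq]
  have hmem : ((y * (y⁻¹ * h') : ↥H) : G) ∈
      pb τ (alternatingGroup S) ⊔ pb τ (MulAction.stabilizer (Perm S) s₀) :=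
    Subgroup.mul_mem_sup h1 h2
  rwa [mul_inv_cancel_left] at hmem

/-- orbit-stabilizer for a two point stabilizer -/
theorem card_stab_two {Γ : Type*} [Group Γ] [Finite Γ] [MulAction Γ S] (s₀ s₁ : S)
    (horb : MulAction.orbit (MulAction.stabilizer Γ s₀) s₁ = {s | s ≠ s₀}) :
    Nat.card (MulAction.stabilizer Γ s₀) = (Fintype.card S - 1) *
      Nat.card ↥(MulAction.stabilizer Γ s₀ ⊓ MulAction.stabilizer Γ s₁) := by
  have h1 := Cfsg.Agent.Helper11.TW7.relIndex_eq_card_orbit (G := Γ) s₀ s₁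
  rw [horb] at h1
  have h2 : Nat.card ↥{s : S | s ≠ s₀} = Fintype.card S - 1 := by
    rw [← card_sub s₀, ← Nat.card_eq_fintype_card]
    rfl
  rw [h2] at h1
  have h3 := relIndex_mul_card (inf_le_left :
    MulAction.stabilizer Γ s₀ ⊓ MulAction.stabilizer Γ s₁ ≤ MulAction.stabilizer Γ s₀)
  rw [Subgroup.inf_relIndex_left, h1] at h3
  exact h3.symm

theorem bridge_P7 [Finite G] (τ : ↥H →* Perm S) (s₀ : S) (hc : 5 ≤ Fintype.card S)
    (hA0 : A0 s₀ ≤ τ.range) :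
    ∃ U : Subgroup G, U ≤ pb τ (MulAction.stabilizer (Perm S) s₀) ∧
      Nat.card (pb τ (MulAction.stabilizer (Perm S) s₀)) = (Fintype.card S - 1) * Nat.card U ∧
      pb τ (MulAction.stabilizer (Perm S) s₀) ⊓ cr (pb τ (MulAction.stabilizer (Perm S) s₀)) U =
        pb τ ⊥ := by
  have hnt : Nontrivial S := by
    rw [← Fintype.one_lt_card_iff_nontrivial]; omega
  obtain ⟨s₁, hs₁⟩ := exists_ne s₀
  refine ⟨pb τ (MulAction.stabilizer (Perm S) s₀ ⊓ MulAction.stabilizer (Perm S) s₁),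
    pb_mono inf_le_left, ?_, ?_⟩
  · let act : MulAction ↥H S := MulAction.compHom S τ
    have e0 : ∀ s : S, MulAction.stabilizer ↥H s = (MulAction.stabilizer (Perm S) s).comap τ := by
      intro s
      ext m
      rw [MulAction.mem_stabilizer_iff, Subgroup.mem_comap, MulAction.mem_stabilizer_iff]
      rfl
    have horb : MulAction.orbit (MulAction.stabilizer ↥H s₀) s₁ = {s | s ≠ s₀} := by
      ext s
      rw [MulAction.mem_orbit_iff]; show _ ↔ s ≠ s₀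
      constructor
      · rintro ⟨m, rfl⟩ hms
        apply hs₁
        have hm : (m : ↥H) • s₀ = s₀ := MulAction.mem_stabilizer_iff.mp m.2
        have : (m : ↥H) • s₁ = (m : ↥H) • s₀ := by rw [hm]; exact hms
        exact MulAction.injective (m : ↥H) this
      · intro hs
        obtain ⟨σ, hσ, hσs⟩ := exists_A0_map s₀ hc hs₁ hs
        obtain ⟨y, rfl⟩ := hA0 hσ
        have hy : y ∈ MulAction.stabilizer ↥H s₀ := by
          rw [e0, Subgroup.mem_comap, MulAction.mem_stabilizer_iff]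
          exact ((mem_A0_iff s₀).mp hσ).2
        exact ⟨⟨y, hy⟩, hσs⟩
    have h1 := card_stab_two (Γ := ↥H) s₀ s₁ horb
    have e1 : Nat.card (pb τ (MulAction.stabilizer (Perm S) s₀)) =
        Nat.card (MulAction.stabilizer ↥H s₀) := by
      unfold pb
      rw [Subgroup.card_map_of_injective H.subtype_injective, e0]
    have e2 : Nat.card (pb τ (MulAction.stabilizer (Perm S) s₀ ⊓
        MulAction.stabilizer (Perm S) s₁)) =
        Nat.card ↥(MulAction.stabilizer ↥H s₀ ⊓ MulAction.stabilizer ↥H s₁) := by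
      unfold pb
      rw [Subgroup.card_map_of_injective H.subtype_injective, e0, e0, Subgroup.comap_inf]
    rw [e1, e2]
    exact h1
  · apply le_antisymm
    · intro x hx
      obtain ⟨hxD, hxc⟩ := Subgroup.mem_inf.mp hx
      rw [mem_cr] at hxc
      obtain ⟨hxH, hxT⟩ := mem_pb.mp hxD
      rw [mem_pb]
      refine ⟨hxH, ?_⟩
      rw [Subgroup.mem_bot]
      ext s
      rw [Perm.one_apply]
      by_cases hs : s = s₀
      · rw [hs]; exact MulAction.mem_stabilizer_iff.mp hxT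
      obtain ⟨σ, hσ, hσs⟩ := exists_A0_map s₀ hc hs₁ hs
      obtain ⟨y, rfl⟩ := hA0 hσ
      have hyD : (y : G) ∈ pb τ (MulAction.stabilizer (Perm S) s₀) :=
        coe_mem_pb.mpr (MulAction.mem_stabilizer_iff.mpr ((mem_A0_iff s₀).mp hσ).2)
      have h1 := hxc (y : G) hyD
      have h2 : ((y⁻¹ * ⟨x, hxH⟩ * y : ↥H) : G) ∈
          pb τ (MulAction.stabilizer (Perm S) s₀ ⊓ MulAction.stabilizer (Perm S) s₁) := h1
      rw [coe_mem_pb, Subgroup.mem_inf, MulAction.mem_stabilizer_iff,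
        MulAction.mem_stabilizer_iff, map_mul, map_mul, map_inv] at h2
      have h3 : ((τ y)⁻¹ * τ ⟨x, hxH⟩ * τ y) s₁ = s₁ := h2.2
      rw [Perm.mul_apply, Perm.mul_apply, hσs, Perm.inv_eq_iff_eq, hσs] at h3
      exact h3
    · apply le_inf (pb_mono bot_le)
      apply le_cr (pb_mono bot_le)
      exact (pb_le _ _).trans (le_normalizer_pb τ ⊥)

/-- **The bridge.** -/
theorem bridge [Finite G] (τ : ↥H →* Perm S) (s₀ : S) {d : ℕ} (hd : Fintype.card S = d)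
    (h6 : 6 ≤ d) (hidx : τ.range.index ≤ 2) :
    AltData H (pb τ ⊥) (pb τ (MulAction.stabilizer (Perm S) s₀)) (pb τ (alternatingGroup S)) d := by
  subst hd
  have hA : alternatingGroup S ≤ τ.range := alternatingGroup_le_of_index_le_two hidx
  have hA0 : A0 s₀ ≤ τ.range := (A0_le_alt s₀).trans hA
  have hD1 : pb τ (MulAction.stabilizer (Perm S) s₀) ⊓ pb τ (alternatingGroup S) =
      pb τ (A0 s₀) := by
    rw [← pb_inf, A0_eq, inf_comm]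
  have hnt : Nontrivial S := by
    rw [← Fintype.one_lt_card_iff_nontrivial]; omega
  have hcA : Nat.card (alternatingGroup S) = (Fintype.card S).factorial / 2 := by
    rw [nat_card_alternatingGroup, Nat.card_eq_fintype_card]
  refine
    { K_le := pb_mono bot_le
      H1_le := pb_le _ _
      nK := le_normalizer_pb τ ⊥
      nH1 := le_normalizer_pb τ _
      card_H1 := by rw [card_pb hA, hcA]
      card_H_le := ?_
      P3 := fun Z hZ hn hZK => bridge_P3 τ (by omega) hA hZ hn hZK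
      K_le_D := pb_mono bot_le
      D_le := pb_le _ _
      card_D1 := by rw [hD1, card_pb hA0, card_A0 s₀ (by omega)]
      sup_eq := bridge_sup τ s₀ (by omega) hA
      P4 := ?_
      P5 := ?_
      P8 := ?_
      max := fun X hDX hXH => bridge_max τ s₀ (by omega) hA0 hDX hXH
      P7 := bridge_P7 τ s₀ (by omega) hA0 }
  · have h1 : Nat.card H = Nat.card τ.range * Nat.card (pb τ ⊥) := by
      conv_lhs => rw [← pb_range τ]
      exact card_pb le_rfl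
    have h2 : Nat.card τ.range ≤ (Fintype.card S).factorial := by
      have := Subgroup.card_le_card_group τ.range
      rwa [Nat.card_perm, Nat.card_eq_fintype_card (α := S)] at this
    rw [h1, card_pb hA, hcA, ← mul_assoc, fac_two_mul (by omega)]
    exact Nat.mul_le_mul_right _ h2
  · intro Z hZ hn hZK
    rw [hD1] at hn ⊢
    exact bridge_P4 τ s₀ h6 hA0 hZ hn hZK
  · intro A B hA' hB' hcA' hcB'
    rw [hD1] at hcA' hcB' ⊢
    exact bridge_P5 τ s₀ h6 hA0 (hA'.trans (pb_le _ _)) (hB'.trans (pb_le _ _)) hcA' hcB'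
  · intro c hc hcomm
    rw [hD1] at hcomm
    exact bridge_P8 τ s₀ (by omega) hA0 hc hcomm

end Cfsg.Agent.Helper61.KnappBridge
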