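import Mathlib
import Cfsg.Agent.Lib.Helper61.KnappData

/-!
# Knapp's theorem on alternating subconstituents: the abstract argument, part 1 (helper61)

`M = G_a`, `N = G_b = M^g`, `D = M ∩ N`, `K = core_M(D)`, `L = core_N(D)`, and `M / K` is `A_d` or
`S_d` in its action on the cosets of `D`.  We show `L ≤ K^g`.
-/

set_option autoImplicit false
set_option linter.unusedSectionVars false

namespace Cfsg.Agent.Helper61.KnappCore

open Cfsg Cfsg.Agent.Helper11.TW1 Cfsg.Agent.Helper11.TW2 Cfsg.Agent.Helper61.KnappBasic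
  Cfsg.Agent.Helper61.KnappData

variable {G : Type*} [Group G] [Finite G]

/-- the subgroups `U i` cannot all be avoided: a section `A_d` of `Q` cannot be killed by
quotients of order at most `(d-1)!`. -/
theorem no_cover {N Kb N₁ Q : Subgroup G} {d : ℕ} (h3 : 3 ≤ d) (AT : AltTop N Kb N₁ d)
    (hQN : Q ≤ N) (hcov : N₁ ≤ Q ⊔ Kb) {ι : Type*} [Finite ι] (U : ι → Subgroup G)
    (hUn : ∀ i, Q ≤ Subgroup.normalizer (U i : Set G))
    (hUc : ∀ i, Nat.card Q ≤ (d - 1).factorial * Nat.card ↥(Q ⊓ U i))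
    (hbot : Q ⊓ ⨅ i, U i = ⊥) : False := by
  classical
  have := Fintype.ofFinite ι
  have hF := fac_lt h3
  have hKbpos : 0 < Nat.card Kb := Nat.card_pos
  have key : ∀ s : Finset ι,
      Q ≤ Subgroup.normalizer ((Q ⊓ ⨅ i ∈ s, U i : Subgroup G) : Set G) ∧
        N₁ ≤ (Q ⊓ ⨅ i ∈ s, U i) ⊔ Kb := by
    intro s
    induction s using Finset.induction_on with
    | empty =>
      simp only [Finset.notMem_empty, iInf_false, iInf_top, inf_top_eq]
      exact ⟨Subgroup.le_normalizer, hcov⟩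
    | insert j s hj ih =>
      obtain ⟨ihn, ihc⟩ := ih
      have e : Q ⊓ ⨅ i ∈ insert j s, U i = (Q ⊓ ⨅ i ∈ s, U i) ⊓ U j := by
        rw [Finset.iInf_insert, inf_comm (U j), inf_assoc]
      rw [e]
      obtain ⟨W, hW⟩ : ∃ W, W = Q ⊓ ⨅ i ∈ s, U i := ⟨_, rfl⟩
      rw [← hW] at ihn ihc ⊢
      have hWQ : W ≤ Q := by rw [hW]; exact inf_le_left
      have hn' : Q ≤ Subgroup.normalizer ((W ⊓ U j : Subgroup G) : Set G) :=
        le_normalizer_inf ihn (hUn j)
      refine ⟨hn', ?_⟩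
      apply AT.P3' ((inf_le_left.trans hWQ).trans hQN) hQN hn' hcov
      intro hle
      have c1 := card_le_of_le_sup ihc ((hWQ.trans hQN).trans AT.nK)
      have c2 : Nat.card ↥(W ⊓ U j) ≤ Nat.card ↥(W ⊓ Kb) :=
        Subgroup.card_le_of_le (le_inf inf_le_left hle)
      have c3 := card_mul_le (A := W) (K' := Q ⊓ U j) (B' := Q) hWQ inf_le_left
        (hWQ.trans (le_normalizer_inf Subgroup.le_normalizer (hUn j)))
      have e2 : W ⊓ (Q ⊓ U j) = W ⊓ U j := by rw [← inf_assoc, inf_eq_left.mpr hWQ]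
      rw [e2] at c3
      have c4 := hUc j
      rw [AT.card_H1] at c1
      have hqpos : 0 < Nat.card ↥(Q ⊓ U j) := Nat.card_pos
      have hwkpos : 0 < Nat.card ↥(W ⊓ Kb) := Nat.card_pos
      -- `F * |W ⊓ Kb| ≤ |W|`
      have d1 : (d.factorial / 2) * Nat.card ↥(W ⊓ Kb) ≤ Nat.card W := by
        apply Nat.le_of_mul_le_mul_right _ hKbpos
        calc (d.factorial / 2) * Nat.card ↥(W ⊓ Kb) * Nat.card Kb
            = (d.factorial / 2) * Nat.card Kb * Nat.card ↥(W ⊓ Kb) := by ring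
          _ ≤ Nat.card W * Nat.card Kb := c1
      -- `|W| ≤ (d-1)! * |W ⊓ U j|`
      have d2 : Nat.card W ≤ (d - 1).factorial * Nat.card ↥(W ⊓ U j) := by
        apply Nat.le_of_mul_le_mul_right _ hqpos
        calc Nat.card W * Nat.card ↥(Q ⊓ U j) ≤ Nat.card Q * Nat.card ↥(W ⊓ U j) := c3
          _ ≤ ((d - 1).factorial * Nat.card ↥(Q ⊓ U j)) * Nat.card ↥(W ⊓ U j) :=
            Nat.mul_le_mul_right _ c4
          _ = (d - 1).factorial * Nat.card ↥(W ⊓ U j) * Nat.card ↥(Q ⊓ U j) := by ring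
      have d3 : (d.factorial / 2) * Nat.card ↥(W ⊓ Kb) ≤
          (d - 1).factorial * Nat.card ↥(W ⊓ Kb) :=
        d1.trans (d2.trans (Nat.mul_le_mul_left _ c2))
      have := Nat.le_of_mul_le_mul_right d3 hwkpos
      omega
  obtain ⟨-, hfin⟩ := key Finset.univ
  have e : (⨅ i ∈ (Finset.univ : Finset ι), U i) = ⨅ i, U i := by simp
  rw [e, hbot, bot_sup_eq] at hfin
  have := Subgroup.card_le_of_le hfin
  rw [AT.card_H1] at this
  have h1 : (d.factorial / 2) * Nat.card Kb ≤ 1 * Nat.card Kb := by rwa [one_mul]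
  have h2 := Nat.le_of_mul_le_mul_right h1 hKbpos
  have h3' : 0 < (d - 1).factorial := Nat.factorial_pos _
  omega

/-- The standing hypotheses. -/
structure Ctx (M N K L D M₁ : Subgroup G) (g : G) (d : ℕ) : Prop where
  h6 : 6 ≤ d
  pair : Pair M N
  hK : K = KK M N
  hL : L = KK N M
  hD : D = M ⊓ N
  hN : N = cj g M
  AM : AltData M K D M₁ d
  Kne : K ≠ ⊥

namespace Ctx

variable {M N K L D M₁ : Subgroup G} {g : G} {d : ℕ}

theorem K_le_D (c : Ctx M N K L D M₁ g d) : K ≤ D := c.AM.K_le_D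
theorem D_le_M (c : Ctx M N K L D M₁ g d) : D ≤ M := c.AM.D_le
theorem D_le_N (c : Ctx M N K L D M₁ g d) : D ≤ N := by rw [c.hD]; exact inf_le_right
theorem L_le_D (c : Ctx M N K L D M₁ g d) : L ≤ D := by
  rw [c.hD, c.hL]; exact le_inf (KK_le_right N M) (KK_le_left N M)
theorem nK (c : Ctx M N K L D M₁ g d) : M ≤ Subgroup.normalizer (K : Set G) := c.AM.nK
theorem nL (c : Ctx M N K L D M₁ g d) : N ≤ Subgroup.normalizer (L : Set G) := by
  rw [c.hL]; exact le_normalizer_KK N M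

theorem card_N_eq (c : Ctx M N K L D M₁ g d) : Nat.card N = Nat.card M := by
  rw [c.hN, card_cj]

theorem card_M_ge (c : Ctx M N K L D M₁ g d) :
    (d.factorial / 2) * Nat.card K ≤ Nat.card M := by
  rw [← c.AM.card_H1]; exact Subgroup.card_le_of_le c.AM.H1_le

theorem relIndex_eq (c : Ctx M N K L D M₁ g d) : M.relIndex N = d := by
  have h1 := c.AM.card_H_eq (by have := c.h6; omega)
  have h2 := relIndex_mul_card c.D_le_N
  rw [c.card_N_eq, h1] at h2
  have h3 : D.relIndex N = d := Nat.eq_of_mul_eq_mul_right Nat.card_pos h2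
  rw [← h3, c.hD, Subgroup.inf_relIndex_right]

/-- `|N| = r |L|` with `r ∣ d!` -/
theorem card_N (c : Ctx M N K L D M₁ g d) : ∃ r, r ∣ d.factorial ∧ Nat.card N = r * Nat.card L := by
  have h1 := Cfsg.Agent.Helper11.TW6.relIndex_KK_dvd N M
  rw [c.relIndex_eq, ← c.hL] at h1
  refine ⟨L.relIndex N, h1, ?_⟩
  exact (relIndex_mul_card (c.L_le_D.trans c.D_le_N)).symm

/-- `|D| ≤ (d-1)! |L|` -/
theorem card_D_le_L (c : Ctx M N K L D M₁ g d) :
    Nat.card D ≤ (d - 1).factorial * Nat.card L := by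
  have h1 := Cfsg.Agent.Helper11.TW6.relIndex_KK_inf_dvd M N
  rw [c.relIndex_eq, ← c.hL, ← c.hD] at h1
  have h2 := Nat.le_of_dvd (Nat.factorial_pos _) h1
  rw [← relIndex_mul_card c.L_le_D]
  exact Nat.mul_le_mul_right _ h2

theorem card_D_le_K (c : Ctx M N K L D M₁ g d) :
    Nat.card D ≤ (d - 1).factorial * Nat.card K :=
  c.AM.card_D_le (by have := c.h6; omega)

/-- `O_p(D) = 1` -/
theorem pCore_bot (c : Ctx M N K L D M₁ g d) (p : ℕ) [hp : Fact p.Prime] : pCoreOf p D = ⊥ := by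
  have h6 := c.h6
  have hD := c.hD
  have hK := c.hK
  have AM := c.AM
  have hpair := c.pair
  subst hD hK
  apply Cfsg.Agent.Helper11.TW8.pCoreOf_inf_eq_bot hpair p
  by_contra hVK
  obtain ⟨V, hV⟩ : ∃ V, V = pCoreOf p (M ⊓ N) := ⟨_, rfl⟩
  rw [← hV] at hVK
  have hVD : V ≤ M ⊓ N := by rw [hV]; exact Cfsg.Agent.Helper23.pCoreOf_le _
  have hVp : IsPGroup p V := by rw [hV]; exact Cfsg.Agent.Helper23.pCoreOf_isPGroup _
  have hnV : M ⊓ N ≤ Subgroup.normalizer (V : Set G) := by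
    rw [hV]; exact Cfsg.Agent.Helper23.le_normalizer_pCoreOf _
  have hcov := AM.P4 V hVD (inf_le_left.trans hnV) hVK
  have hnK : V ≤ Subgroup.normalizer (KK M N : Set G) := (hVD.trans AM.D_le).trans AM.nK
  have hdvd := card_dvd_of_le_sup hcov hnK
  rw [AM.card_D1] at hdvd
  obtain ⟨n, hn⟩ := hVp.exists_card_eq
  have h12 := fac_twelve_dvd (d := d) (by omega)
  have hkpos : 0 < Nat.card (KK M N) := Nat.card_pos
  have hF'V : (d - 1).factorial / 2 ∣ Nat.card V := by
    have h1 : ((d - 1).factorial / 2) * Nat.card (KK M N) ∣ Nat.card V * Nat.card (KK M N) :=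
      (Dvd.intro _ rfl).trans hdvd
    exact Nat.dvd_of_mul_dvd_mul_right hkpos h1
  rw [hn] at hF'V
  have h2 : 2 ∣ p ^ n := (Dvd.intro 6 rfl : (2 : ℕ) ∣ 12).trans (h12.trans hF'V)
  have h3 : 3 ∣ p ^ n := (Dvd.intro 4 rfl : (3 : ℕ) ∣ 12).trans (h12.trans hF'V)
  have hp2 : 2 = p := (Nat.prime_dvd_prime_iff_eq Nat.prime_two hp.out).mp
    (Nat.prime_two.dvd_of_dvd_pow h2)
  have hp3 : 3 = p := (Nat.prime_dvd_prime_iff_eq Nat.prime_three hp.out).mp
    (Nat.prime_three.dvd_of_dvd_pow h3)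
  omega

/-- the Thompson–Wielandt dichotomy -/
theorem tw (c : Ctx M N K L D M₁ g d) : cr M L = ⊥ ∨ cr N K = ⊥ := by
  by_contra hcon
  push Not at hcon
  obtain ⟨hP, hQ⟩ := hcon
  have hP' : PP M N ≠ ⊥ := by unfold PP; rw [← c.hL]; exact hP
  have hQ' : PP N M ≠ ⊥ := by unfold PP; rw [← c.hK]; exact hQ
  obtain ⟨p, hp, hPp, -⟩ := Cfsg.Agent.Helper11.TW5.main c.pair hP' hQ'
  have : Fact p.Prime := ⟨hp⟩
  have h1 : PP M N ≤ D := by
    rw [c.hD]
    exact (PP_le M N).trans (le_inf (KK_le_right N M) (KK_le_left N M))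
  have h2 : D ≤ Subgroup.normalizer (PP M N : Set G) := c.D_le_M.trans (le_normalizer_PP M N)
  have h3 := Cfsg.Agent.Helper23.le_pCoreOf_of_normal_pgroup h1 hPp h2
  rw [c.pCore_bot p] at h3
  exact hP' (le_bot_iff.mp h3)

theorem K_le_pCore_two (c : Ctx M N K L D M₁ g d) (h : IsPGroup 2 K) : False := by
  have h3 := Cfsg.Agent.Helper23.le_pCoreOf_of_normal_pgroup c.K_le_D h (c.D_le_M.trans c.nK)
  rw [c.pCore_bot 2] at h3
  exact c.Kne (le_bot_iff.mp h3)

/-- (A) `L ≰ K` -/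
theorem not_L_le_K (c : Ctx M N K L D M₁ g d) : ¬ L ≤ K := by
  intro hLK
  have h6 := c.h6
  have hne : L ≠ K := by
    intro h
    apply c.Kne
    exact c.pair.eq_bot_of_le_normalizers (c.K_le_D.trans c.D_le_M) c.nK (h ▸ c.nL)
  have hlt : Nat.card L < Nat.card K :=
    lt_of_le_of_ne (Subgroup.card_le_of_le hLK)
      (fun h => hne (Subgroup.eq_of_le_of_card_ge hLK h.ge))
  obtain ⟨cc, hcc⟩ := Subgroup.card_dvd_of_le hLK
  have hlpos : 0 < Nat.card L := Nat.card_pos
  have hcc2 : 2 ≤ cc := by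
    by_contra hlt2
    have : cc = 0 ∨ cc = 1 := by omega
    rcases this with h | h
    · rw [h, mul_zero] at hcc; omega
    · rw [h, mul_one] at hcc; omega
  obtain ⟨r, hr, hNr⟩ := c.card_N
  have hr_le : r ≤ d.factorial := Nat.le_of_dvd (Nat.factorial_pos _) hr
  have hMge := c.card_M_ge
  rw [← c.card_N_eq, hNr, hcc] at hMge
  have hF2 := fac_two_mul (d := d) (by omega)
  have hFpos := fac_half_pos (d := d) (by omega)
  -- `F * cc ≤ r`
  have h1 : (d.factorial / 2) * cc ≤ r := by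
    apply Nat.le_of_mul_le_mul_right _ hlpos
    calc (d.factorial / 2) * cc * Nat.card L = (d.factorial / 2) * (Nat.card L * cc) := by ring
      _ ≤ r * Nat.card L := hMge
  have hcc_eq : cc = 2 := by
    have h2 : (d.factorial / 2) * cc ≤ (d.factorial / 2) * 2 := by
      calc (d.factorial / 2) * cc ≤ r := h1
        _ ≤ d.factorial := hr_le
        _ = (d.factorial / 2) * 2 := by rw [mul_comm]; exact hF2.symm
    have := Nat.le_of_mul_le_mul_left h2 hFpos
    omega
  have hk2 : Nat.card K = 2 * Nat.card L := by rw [hcc, hcc_eq, mul_comm]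
  rcases c.tw with hP | hP
  · -- `cr M L = ⊥`: `K` has exponent `2`
    have hsq : ∀ x ∈ K, x ^ 2 = 1 := by
      intro x hx
      have hmem : x ^ 2 ∈ cr M L := by
        rw [mem_cr]
        intro m hm
        have h1 : m⁻¹ * x * m ∈ K := by
          have := conj_mem_of_mem_normalizer (c.nK (M.inv_mem hm)) hx
          simpa using this
        have h2 : (m⁻¹ * x * m) ^ 2 ∈ L := sq_mem_of_card_eq_two_mul hLK hk2 h1
        have e : m⁻¹ * x ^ 2 * m = (m⁻¹ * x * m) ^ 2 := by rw [pow_two, pow_two]; group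
        rw [e]; exact h2
      rw [hP, Subgroup.mem_bot] at hmem
      exact hmem
    apply c.K_le_pCore_two
    rintro ⟨x, hx⟩
    refine ⟨1, ?_⟩
    apply Subtype.ext
    simp [hsq x hx]
  · -- `cr N K = ⊥`: `L = 1`, `|K| = 2`
    have hL : L ≤ cr N K := le_cr hLK c.nL
    rw [hP] at hL
    have hL1 : L = ⊥ := le_bot_iff.mp hL
    rw [hL1, Subgroup.card_bot, mul_one] at hk2
    apply c.K_le_pCore_two
    exact IsPGroup.of_card (n := 1) (by rw [hk2, pow_one])

/-- (B) -/
theorem D1_le (c : Ctx M N K L D M₁ g d) : D ⊓ M₁ ≤ L ⊔ K :=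
  c.AM.P4 L c.L_le_D (inf_le_left.trans (c.D_le_N.trans c.nL)) c.not_L_le_K

theorem altTopN (c : Ctx M N K L D M₁ g d) : AltTop N (cj g K) (cj g M₁) d := by
  have := c.AM.toAltTop.conj g
  rwa [← c.hN] at this

/-- (C), (D): `L ≤ K^g` -/
theorem L_le_Kb (c : Ctx M N K L D M₁ g d) : L ≤ cj g K := by
  have h6 := c.h6
  have AT := c.altTopN
  have hLN : L ≤ N := c.L_le_D.trans c.D_le_N
  have hLM : L ≤ M := c.L_le_D.trans c.D_le_M
  by_contra hLKb
  have hcov : cj g M₁ ≤ L ⊔ cj g K := AT.P3 L hLN (AT.H1_le.trans c.nL) hLKb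
  obtain ⟨Q, hQ⟩ : ∃ Q, Q = K ⊓ L := ⟨_, rfl⟩
  have hQL : Q ≤ L := by rw [hQ]; exact inf_le_right
  have hQK : Q ≤ K := by rw [hQ]; exact inf_le_left
  have hLnQ : L ≤ Subgroup.normalizer (Q : Set G) := by
    rw [hQ]; exact le_normalizer_inf (hLM.trans c.nK) Subgroup.le_normalizer
  have hF := fac_lt (d := d) (by omega)
  have hkpos : 0 < Nat.card K := Nat.card_pos
  have hlpos : 0 < Nat.card L := Nat.card_pos
  have hQKb : ¬ Q ≤ cj g K := by
    intro hle
    have c1 := card_le_of_le_sup hcov (hLN.trans AT.nK)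
    have c2 : Nat.card Q ≤ Nat.card ↥(L ⊓ cj g K) := Subgroup.card_le_of_le (le_inf hQL hle)
    have c3 := card_mul_le (A := L) (K' := K) (B' := D) c.L_le_D c.K_le_D (hLM.trans c.nK)
    have c4 := c.card_D_le_K
    rw [AT.card_H1, card_cj] at c1
    rw [inf_comm L K, ← hQ] at c3
    have hxpos : 0 < Nat.card ↥(L ⊓ cj g K) := Nat.card_pos
    have d1 : (d.factorial / 2) * Nat.card ↥(L ⊓ cj g K) ≤ Nat.card L := by
      apply Nat.le_of_mul_le_mul_right _ hkpos
      calc (d.factorial / 2) * Nat.card ↥(L ⊓ cj g K) * Nat.card K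
          = (d.factorial / 2) * Nat.card K * Nat.card ↥(L ⊓ cj g K) := by ring
        _ ≤ Nat.card L * Nat.card K := c1
    have d2 : Nat.card L ≤ (d - 1).factorial * Nat.card Q := by
      apply Nat.le_of_mul_le_mul_right _ hkpos
      calc Nat.card L * Nat.card K ≤ Nat.card D * Nat.card Q := c3
        _ ≤ ((d - 1).factorial * Nat.card K) * Nat.card Q := Nat.mul_le_mul_right _ c4
        _ = (d - 1).factorial * Nat.card Q * Nat.card K := by ring
    have d3 : (d.factorial / 2) * Nat.card ↥(L ⊓ cj g K) ≤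
        (d - 1).factorial * Nat.card ↥(L ⊓ cj g K) :=
      d1.trans (d2.trans (Nat.mul_le_mul_left _ c2))
    have := Nat.le_of_mul_le_mul_right d3 hxpos
    omega
  have hQN : Q ≤ N := hQL.trans hLN
  have hcovQ : cj g M₁ ≤ Q ⊔ cj g K := AT.P3' hQN hLN hLnQ hcov hQKb
  rcases c.tw with hP | hP
  · -- the family `cj m L`, `m ∈ M`
    apply no_cover (by omega) AT hQN hcovQ (fun m : ↥M => cj (m : G) L)
    · intro m q hq
      apply Cfsg.Agent.Helper11.TW6.mem_normalizer_cj
      have h1 : (m : G)⁻¹ * q * m ∈ K := by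
        have := conj_mem_of_mem_normalizer (c.nK (M.inv_mem m.2)) (hQK hq)
        simpa using this
      exact c.nL (c.D_le_N (c.K_le_D h1))
    · intro m
      have hQ1 : Q ≤ cj (m : G) D := by
        have := cj_mono (g := (m : G)) c.K_le_D
        rw [cj_eq_of_mem_normalizer (c.nK m.2)] at this
        exact hQK.trans this
      have hn1 : Q ≤ Subgroup.normalizer (cj (m : G) L : Set G) := by
        intro q hq
        apply Cfsg.Agent.Helper11.TW6.mem_normalizer_cj
        have h1 : (m : G)⁻¹ * q * m ∈ K := by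
          have := conj_mem_of_mem_normalizer (c.nK (M.inv_mem m.2)) (hQK hq)
          simpa using this
        exact c.nL (c.D_le_N (c.K_le_D h1))
      have c1 := card_mul_le (A := Q) (K' := cj (m : G) L) (B' := cj (m : G) D) hQ1
        (cj_mono c.L_le_D) hn1
      rw [card_cj, card_cj] at c1
      have c2 := c.card_D_le_L
      apply Nat.le_of_mul_le_mul_right _ hlpos
      calc Nat.card Q * Nat.card L ≤ Nat.card D * Nat.card ↥(Q ⊓ cj (m : G) L) := c1
        _ ≤ ((d - 1).factorial * Nat.card L) * Nat.card ↥(Q ⊓ cj (m : G) L) :=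
          Nat.mul_le_mul_right _ c2
        _ = (d - 1).factorial * Nat.card ↥(Q ⊓ cj (m : G) L) * Nat.card L := by ring
    · show Q ⊓ cr M L = ⊥
      rw [hP, inf_bot_eq]
  · -- the family `cj n K`, `n ∈ N`
    apply no_cover (by omega) AT hQN hcovQ (fun n : ↥N => cj (n : G) K)
    · intro n q hq
      apply Cfsg.Agent.Helper11.TW6.mem_normalizer_cj
      have h1 : (n : G)⁻¹ * q * n ∈ L := by
        have := conj_mem_of_mem_normalizer (c.nL (N.inv_mem n.2)) (hQL hq)
        simpa using this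
      exact c.nK (c.D_le_M (c.L_le_D h1))
    · intro n
      have hQ1 : Q ≤ cj (n : G) D := by
        have := cj_mono (g := (n : G)) c.L_le_D
        rw [cj_eq_of_mem_normalizer (c.nL n.2)] at this
        exact hQL.trans this
      have hn1 : Q ≤ Subgroup.normalizer (cj (n : G) K : Set G) := by
        intro q hq
        apply Cfsg.Agent.Helper11.TW6.mem_normalizer_cj
        have h1 : (n : G)⁻¹ * q * n ∈ L := by
          have := conj_mem_of_mem_normalizer (c.nL (N.inv_mem n.2)) (hQL hq)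
          simpa using this
        exact c.nK (c.D_le_M (c.L_le_D h1))
      have c1 := card_mul_le (A := Q) (K' := cj (n : G) K) (B' := cj (n : G) D) hQ1
        (cj_mono c.K_le_D) hn1
      rw [card_cj, card_cj] at c1
      have c2 := c.card_D_le_K
      apply Nat.le_of_mul_le_mul_right _ hkpos
      calc Nat.card Q * Nat.card K ≤ Nat.card D * Nat.card ↥(Q ⊓ cj (n : G) K) := c1
        _ ≤ ((d - 1).factorial * Nat.card K) * Nat.card ↥(Q ⊓ cj (n : G) K) :=
          Nat.mul_le_mul_right _ c2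
        _ = (d - 1).factorial * Nat.card ↥(Q ⊓ cj (n : G) K) * Nat.card K := by ring
    · show Q ⊓ cr N K = ⊥
      rw [hP, inf_bot_eq]

/-- (E) `|N : L| ≥ d!/2` -/
theorem card_N_ge (c : Ctx M N K L D M₁ g d) : (d.factorial / 2) * Nat.card L ≤ Nat.card N := by
  have h1 : Nat.card L ≤ Nat.card K := by
    have := Subgroup.card_le_of_le c.L_le_Kb
    rwa [card_cj] at this
  rw [c.card_N_eq]
  exact (Nat.mul_le_mul_left _ h1).trans c.card_M_ge

end Ctx

end Cfsg.Agent.Helper61.KnappCore
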