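import Mathlib
import Cfsg.Agent.Lib.Helper61.KnappCore

/-!
# Knapp's theorem on alternating subconstituents: the abstract argument, part 2 (helper61)

Both `M / K` and `N / L` are alternating or symmetric of degree `d`; then `K ∩ L = 1` and `M`
has a second action of degree `d - 1`.
-/

set_option autoImplicit false
set_option linter.unusedSectionVars false

namespace Cfsg.Agent.Helper61.KnappCore

open Cfsg Cfsg.Agent.Helper11.TW1 Cfsg.Agent.Helper11.TW2 Cfsg.Agent.Helper61.KnappBasic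
  Cfsg.Agent.Helper61.KnappData

variable {G : Type*} [Group G] [Finite G]

/-- iterated use of `P5`: covering is inherited by intersections of normal subgroups of `Y` -/
theorem cover_iInf {H Kr Dr H₁ : Subgroup G} {d : ℕ} (AD : AltData H Kr Dr H₁ d)
    {Y : Subgroup G} (hY : Y ≤ Dr) (hcovY : Dr ⊓ H₁ ≤ Y ⊔ Kr) {ι : Type*} [Finite ι]
    (U : ι → Subgroup G) (hUY : ∀ i, U i ≤ Y)
    (hUn : ∀ i, Y ≤ Subgroup.normalizer (U i : Set G)) (hUc : ∀ i, Dr ⊓ H₁ ≤ U i ⊔ Kr) :
    Dr ⊓ H₁ ≤ (Y ⊓ ⨅ i, U i) ⊔ Kr := by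
  classical
  have := Fintype.ofFinite ι
  have key : ∀ s : Finset ι,
      Y ≤ Subgroup.normalizer ((Y ⊓ ⨅ i ∈ s, U i : Subgroup G) : Set G) ∧
        Dr ⊓ H₁ ≤ (Y ⊓ ⨅ i ∈ s, U i) ⊔ Kr := by
    intro s
    induction s using Finset.induction_on with
    | empty =>
      simp only [Finset.notMem_empty, iInf_false, iInf_top, inf_top_eq]
      exact ⟨Subgroup.le_normalizer, hcovY⟩
    | insert j s hj ih =>
      obtain ⟨ihn, ihc⟩ := ih
      have e : Y ⊓ ⨅ i ∈ insert j s, U i = (Y ⊓ ⨅ i ∈ s, U i) ⊓ U j := by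
        rw [Finset.iInf_insert, inf_comm (U j), inf_assoc]
      rw [e]
      obtain ⟨W, hW⟩ : ∃ W, W = Y ⊓ ⨅ i ∈ s, U i := ⟨_, rfl⟩
      rw [← hW] at ihn ihc ⊢
      have hWY : W ≤ Y := by rw [hW]; exact inf_le_left
      refine ⟨le_normalizer_inf ihn (hUn j), ?_⟩
      have h1 := AD.P5 W (U j) (hWY.trans hY) ((hUY j).trans hY) ihc (hUc j)
      refine h1.trans (sup_le_sup_right ?_ _)
      exact le_inf (commutator_le_left ((hUY j).trans ihn))
        (commutator_le_right (hWY.trans (hUn j)))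
  obtain ⟨-, hfin⟩ := key Finset.univ
  have e : (⨅ i ∈ (Finset.univ : Finset ι), U i) = ⨅ i, U i := by simp
  rwa [e] at hfin

/-- **Lemma Z**: if `core_M(L) = 1` then `K ∩ L = 1`. -/
theorem lemmaZ {M N K L D M₁ N₁ : Subgroup G} {g : G} {d : ℕ} (h6 : 6 ≤ d)
    (hp : Pair M N) (hL : L = KK N M) (hN : N = cj g M) (hLK : L = cj g K)
    (AM : AltData M K D M₁ d) (AN : AltData N L D N₁ d) (hKne : K ≠ ⊥)
    (hP : cr M L = ⊥) : K ⊓ L = ⊥ := by
  by_contra hQne
  obtain ⟨Q, hQ⟩ : ∃ Q, Q = K ⊓ L := ⟨_, rfl⟩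
  rw [← hQ] at hQne
  have hQK : Q ≤ K := by rw [hQ]; exact inf_le_left
  have hQL : Q ≤ L := by rw [hQ]; exact inf_le_right
  have hKD := AM.K_le_D
  have hLD := AN.K_le_D
  have hDM := AM.D_le
  have hDN := AN.D_le
  have nK := AM.nK
  have nL := AN.nK
  have hcard : Nat.card L = Nat.card K := by rw [hLK, card_cj]
  have hF'12 := fac_twelve_dvd (d := d) (by omega)
  have hF'2 : 2 ≤ (d - 1).factorial / 2 := by
    obtain ⟨c, hc⟩ := hF'12
    have := fac_half_pos (d := d - 1) (by omega)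
    omega
  have hKL : ¬ K ≤ L := by
    intro h
    have : K = L := Subgroup.eq_of_le_of_card_ge h hcard.le
    exact hKne (hp.eq_bot_of_le_normalizers (hKD.trans hDM) nK (this ▸ nL))
  have hLK' : ¬ L ≤ K := by
    intro h
    have : L = K := Subgroup.eq_of_le_of_card_ge h hcard.ge
    exact hKne (hp.eq_bot_of_le_normalizers (hKD.trans hDM) nK (this ▸ nL))
  have hcovN : D ⊓ N₁ ≤ K ⊔ L := AN.P4 K hKD (inf_le_left.trans (hDM.trans nK)) hKL
  have hcovM : D ⊓ M₁ ≤ L ⊔ K := AM.P4 L hLD (inf_le_left.trans (hDN.trans nL)) hLK'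
  have hDnQ : D ≤ Subgroup.normalizer (Q : Set G) := by
    rw [hQ]; exact le_normalizer_inf (hDM.trans nK) (hDN.trans nL)
  -- 3. elements of `M` normalizing `Q` lie in `D`
  have hX : ∀ m ∈ M, m ∈ Subgroup.normalizer (Q : Set G) → m ∈ D := by
    intro m hm hmQ
    rcases AM.max (M ⊓ Subgroup.normalizer (Q : Set G)) (le_inf hDM hDnQ) inf_le_left with h | h
    · rw [← h]; exact ⟨hm, hmQ⟩
    · exfalso
      apply hQne
      have hMQ : M ≤ Subgroup.normalizer (Q : Set G) := by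
        rw [← h]; exact inf_le_right
      have : Q ≤ cr M L := le_cr hQL hMQ
      rw [hP] at this
      exact le_bot_iff.mp this
  -- 4. the conjugates of `Q` under `M ∖ D` cover `D₁'` modulo `L`
  have hZ : ∀ m ∈ M, m ∉ D → D ⊓ N₁ ≤ cj m Q ⊔ L := by
    intro m hm hmD
    have hZK : cj m Q ≤ K := by
      have := cj_mono (g := m) hQK
      rwa [cj_eq_of_mem_normalizer (nK hm)] at this
    have hKnZ : K ≤ Subgroup.normalizer (cj m Q : Set G) := by
      have := le_normalizer_cj (g := m) (hKD.trans hDnQ)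
      rwa [cj_eq_of_mem_normalizer (nK hm)] at this
    apply AN.P4' (hZK.trans hKD) hKD hKnZ hcovN
    intro hle
    apply hmD
    apply hX m hm
    apply mem_normalizer_of_cj_le
    rw [hQ]
    exact le_inf (by rw [← hQ]; exact hZK) (by rw [← hQ]; exact hle)
  -- 5. intersect
  have hcovR : D ⊓ N₁ ≤ (K ⊓ ⨅ i : {m : G // m ∈ M ∧ m ∉ D}, cj (i : G) Q) ⊔ L := by
    apply cover_iInf AN hKD hcovN (fun i : {m : G // m ∈ M ∧ m ∉ D} => cj (i : G) Q)
    · intro i
      have := cj_mono (g := (i : G)) hQK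
      rwa [cj_eq_of_mem_normalizer (nK i.2.1)] at this
    · intro i
      have := le_normalizer_cj (g := (i : G)) (hKD.trans hDnQ)
      rwa [cj_eq_of_mem_normalizer (nK i.2.1)] at this
    · intro i
      exact hZ i i.2.1 i.2.2
  obtain ⟨R, hR⟩ : ∃ R, R = K ⊓ ⨅ i : {m : G // m ∈ M ∧ m ∉ D}, cj (i : G) Q := ⟨_, rfl⟩
  rw [← hR] at hcovR
  have hRK : R ≤ K := by rw [hR]; exact inf_le_left
  have hRmem : ∀ r ∈ R, ∀ m ∈ M, m ∉ D → m⁻¹ * r * m ∈ Q := by
    intro r hr m hm hmD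
    rw [hR] at hr
    have h1 := (Subgroup.mem_iInf.mp hr.2) ⟨m, hm, hmD⟩
    exact mem_cj.mp h1
  -- 6. `R ∩ L = 1`
  have hRL : R ⊓ L = ⊥ := by
    rw [eq_bot_iff, ← hP]
    rintro x ⟨hxR, hxL⟩
    rw [mem_cr]
    intro m hm
    by_cases hmD : m ∈ D
    · have := conj_mem_of_mem_normalizer (nL (hDN (D.inv_mem hmD))) hxL
      simpa using this
    · exact hQL (hRmem x hxR m hm hmD)
  have hRnotL : ¬ R ≤ L := by
    intro hle
    have h1 : R = ⊥ := by rw [← inf_eq_left.mpr hle]; exact hRL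
    rw [h1, bot_sup_eq] at hcovR
    have h2 := Subgroup.card_le_of_le hcovR
    rw [AN.card_D1] at h2
    have hlpos : 0 < Nat.card L := Nat.card_pos
    have h3 : ((d - 1).factorial / 2) * Nat.card L ≤ 1 * Nat.card L := by rwa [one_mul]
    have := Nat.le_of_mul_le_mul_right h3 hlpos
    omega
  -- 7. `R` is normalized by `D` and centralizes `L`
  have hDnR : D ≤ Subgroup.normalizer (R : Set G) := by
    apply le_normalizer_of_conj_mem
    intro c hc y hy
    rw [hR, Subgroup.mem_inf]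
    refine ⟨conj_mem_of_mem_normalizer (nK (hDM hc)) (hRK hy), ?_⟩
    rw [Subgroup.mem_iInf]
    rintro ⟨m, hm, hmD⟩
    rw [mem_cj]
    have hcm : c⁻¹ * m ∈ M := M.mul_mem (M.inv_mem (hDM hc)) hm
    have hcmD : c⁻¹ * m ∉ D := by
      intro h
      apply hmD
      have := D.mul_mem hc h
      rwa [mul_inv_cancel_left] at this
    have := hRmem y hy (c⁻¹ * m) hcm hcmD
    have e : (c⁻¹ * m)⁻¹ * y * (c⁻¹ * m) = m⁻¹ * (c * y * c⁻¹) * m := by group
    rwa [e] at this
  have hRcomm : ∀ r ∈ R, ∀ l ∈ L, r * l = l * r := fun r hr l hl =>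
    commute_of_inf_eq_bot ((hRK.trans hKD).trans (hDN.trans nL)) (hLD.trans hDnR) hRL hr hl
  -- 8. `N` normalizes `Q`
  have hNQ : N ≤ Subgroup.normalizer (Q : Set G) := by
    have hconj : ∀ n ∈ N, ∀ r ∈ R, n⁻¹ * r * n ∈ N ⊓ Subgroup.normalizer (Q : Set G) := by
      intro n hn r hr
      refine ⟨N.mul_mem (N.mul_mem (N.inv_mem hn) (hDN (hKD (hRK hr)))) hn, ?_⟩
      apply mem_normalizer_of_commute
      intro q hq
      have h1 : n * q * n⁻¹ ∈ L := conj_mem_of_mem_normalizer (nL hn) (hQL hq)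
      have h2 := hRcomm r hr _ h1
      calc n⁻¹ * r * n * q = n⁻¹ * (r * (n * q * n⁻¹)) * n := by group
        _ = n⁻¹ * ((n * q * n⁻¹) * r) * n := by rw [h2]
        _ = q * (n⁻¹ * r * n) := by group
    rcases AN.max (N ⊓ Subgroup.normalizer (Q : Set G)) (le_inf hDN hDnQ) inf_le_left with h | h
    · exfalso
      apply hRnotL
      intro r hr
      rw [hL]
      unfold KK
      rw [Subgroup.mem_inf]
      refine ⟨hDN (hKD (hRK hr)), ?_⟩
      rw [mem_cr]
      intro n hn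
      have := hconj n hn r hr
      rw [h] at this
      exact hDM this
    · rw [← h]; exact inf_le_right
  -- 9. the conjugates of `Q^g` under `N`
  have hQbL : cj g Q ≤ L := by rw [hLK]; exact cj_mono hQK
  have hLnQb : L ≤ Subgroup.normalizer (cj g Q : Set G) := by
    rw [hLK]; exact le_normalizer_cj (hKD.trans hDnQ)
  have hgN : g ∉ N := by
    intro hg
    apply hp.ne
    have h1 : cj g⁻¹ N = N :=
      cj_eq_of_mem_normalizer (Subgroup.le_normalizer (N.inv_mem hg))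
    rw [hN, cj_inv_cj] at h1
    rw [hN]; exact h1
  have hZ' : ∀ n ∈ N, D ⊓ M₁ ≤ cj n (cj g Q) ⊔ K := by
    intro n hn
    have hZL : cj n (cj g Q) ≤ L := by
      have := cj_mono (g := n) hQbL
      rwa [cj_eq_of_mem_normalizer (nL hn)] at this
    have hLnZ : L ≤ Subgroup.normalizer (cj n (cj g Q) : Set G) := by
      have := le_normalizer_cj (g := n) hLnQb
      rwa [cj_eq_of_mem_normalizer (nL hn)] at this
    apply AM.P4' (hZL.trans hLD) hLD hLnZ hcovM
    intro hle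
    apply hgN
    have h1 : cj (n * g) Q ≤ Q := by
      rw [cj_mul, hQ]
      exact le_inf (by rw [← hQ]; exact hle) (by rw [← hQ]; exact hZL)
    have h2 := mem_normalizer_of_cj_le h1
    have h3 : n * g ∈ N :=
      hp.symm.mem_of_mem_normalizer hQne (hQL.trans (hLD.trans hDN)) hNQ h2
    have := N.mul_mem (N.inv_mem hn) h3
    rwa [inv_mul_cancel_left] at this
  -- 10. intersect
  have hcovS : D ⊓ M₁ ≤ (L ⊓ ⨅ n : ↥N, cj (n : G) (cj g Q)) ⊔ K := by
    apply cover_iInf AM hLD hcovM (fun n : ↥N => cj (n : G) (cj g Q))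
    · intro n
      have := cj_mono (g := (n : G)) hQbL
      rwa [cj_eq_of_mem_normalizer (nL n.2)] at this
    · intro n
      have := le_normalizer_cj (g := (n : G)) hLnQb
      rwa [cj_eq_of_mem_normalizer (nL n.2)] at this
    · intro n
      exact hZ' n n.2
  have hbot : (⨅ n : ↥N, cj (n : G) (cj g Q)) = ⊥ := by
    rw [eq_bot_iff]
    intro x hx
    rw [Subgroup.mem_iInf] at hx
    have hy : g⁻¹ * x * g ∈ cr M L := by
      rw [mem_cr]
      intro m hm
      have hn : g * m * g⁻¹ ∈ N := by rw [hN]; exact conj_mem_cj hm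
      have h1 := hx ⟨g * m * g⁻¹, hn⟩
      rw [mem_cj, mem_cj] at h1
      have e : g⁻¹ * ((g * m * g⁻¹)⁻¹ * x * (g * m * g⁻¹)) * g = m⁻¹ * (g⁻¹ * x * g) * m := by
        group
      rw [e] at h1
      exact hQL h1
    rw [hP, Subgroup.mem_bot] at hy
    rw [Subgroup.mem_bot]
    have e : x = g * (g⁻¹ * x * g) * g⁻¹ := by group
    rw [e, hy]; group
  rw [hbot, inf_bot_eq, bot_sup_eq] at hcovS
  have h2 := Subgroup.card_le_of_le hcovS
  rw [AM.card_D1] at h2
  have hkpos : 0 < Nat.card K := Nat.card_pos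
  have h3 : ((d - 1).factorial / 2) * Nat.card K ≤ 1 * Nat.card K := by rwa [one_mul]
  have := Nat.le_of_mul_le_mul_right h3 hkpos
  omega

/-- The standing hypotheses, second stage. -/
structure Ctx2 (M N K L D M₁ N₁ : Subgroup G) (g : G) (d : ℕ) : Prop
    extends Ctx M N K L D M₁ g d where
  AN : AltData N L D N₁ d

namespace Ctx2

variable {M N K L D M₁ N₁ : Subgroup G} {g : G} {d : ℕ}

/-- (E) `L = K^g` -/
theorem L_eq (c : Ctx2 M N K L D M₁ N₁ g d) : L = cj g K := by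
  have h6 := c.h6
  have c0 := c.toCtx
  apply le_antisymm c0.L_le_Kb
  have hKbN : cj g K ≤ N := by rw [c.hN]; exact cj_mono (c0.K_le_D.trans c0.D_le_M)
  have hnKb : N ≤ Subgroup.normalizer (cj g K : Set G) := c0.altTopN.nK
  have hKbD : cj g K ≤ D := by
    rcases c.AN.max (D ⊔ cj g K) le_sup_left (sup_le c0.D_le_N hKbN) with h | h
    · rw [← h]; exact le_sup_right
    · exfalso
      have c1 := card_sup_inf (cj g K) D (c0.D_le_N.trans hnKb)
      rw [sup_comm, h, card_cj] at c1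
      have c2 : Nat.card L ≤ Nat.card ↥(cj g K ⊓ D) :=
        Subgroup.card_le_of_le (le_inf c0.L_le_Kb c0.L_le_D)
      have c3 := c0.card_D_le_L
      have c4 := c0.card_M_ge
      rw [← c0.card_N_eq] at c4
      have hF := fac_lt (d := d) (by omega)
      have hkpos : 0 < Nat.card K := Nat.card_pos
      have hxpos : 0 < Nat.card ↥(cj g K ⊓ D) := Nat.card_pos
      -- `|N| |Kb ⊓ D| = k |D| ≤ k (d-1)! l ≤ k (d-1)! |Kb ⊓ D|`
      have d1 : Nat.card N * Nat.card ↥(cj g K ⊓ D) ≤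
          ((d - 1).factorial * Nat.card K) * Nat.card ↥(cj g K ⊓ D) := by
        rw [c1]
        calc Nat.card K * Nat.card D ≤ Nat.card K * ((d - 1).factorial * Nat.card L) :=
              Nat.mul_le_mul_left _ c3
          _ ≤ Nat.card K * ((d - 1).factorial * Nat.card ↥(cj g K ⊓ D)) :=
              Nat.mul_le_mul_left _ (Nat.mul_le_mul_left _ c2)
          _ = ((d - 1).factorial * Nat.card K) * Nat.card ↥(cj g K ⊓ D) := by ring
      have d2 := Nat.le_of_mul_le_mul_right d1 hxpos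
      have d3 : (d.factorial / 2) * Nat.card K ≤ (d - 1).factorial * Nat.card K := c4.trans d2
      have := Nat.le_of_mul_le_mul_right d3 hkpos
      omega
  rw [c.hL]
  exact le_KK hKbN (hKbD.trans c0.D_le_M) hnKb

theorem card_L (c : Ctx2 M N K L D M₁ N₁ g d) : Nat.card L = Nat.card K := by
  rw [c.L_eq, card_cj]

/-- `K ∩ L = 1` -/
theorem Q_bot (c : Ctx2 M N K L D M₁ N₁ g d) : K ⊓ L = ⊥ := by
  have c0 := c.toCtx
  rcases c0.tw with hP | hP
  · exact lemmaZ c.h6 c.pair c.hL c.hN c.L_eq c.AM c.AN c.Kne hP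
  · have hLne : L ≠ ⊥ := by
      intro h
      apply c.Kne
      have := c.card_L
      rw [h, Subgroup.card_bot] at this
      exact (Subgroup.card_eq_one.mp this.symm)
    have hM : M = cj g⁻¹ N := by rw [c.hN, cj_inv_cj]
    have hK' : K = cj g⁻¹ L := by rw [c.L_eq, cj_inv_cj]
    have := lemmaZ c.h6 c.pair.symm c.hK hM hK' c.AN c.AM hLne hP
    rwa [inf_comm] at this

/-- the second action -/
theorem part3 (c : Ctx2 M N K L D M₁ N₁ g d) :
    ∃ C E : Subgroup G, C ≤ M ∧ M ≤ Subgroup.normalizer (C : Set G) ∧ C ≤ E ∧ E ≤ M ∧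
      Nat.card M = (d - 1) * Nat.card E ∧ K ⊓ KK M E = ⊥ ∧ M₁ ≤ C ⊔ K ∧
      (d - 1).factorial / 2 ≤ Nat.card K ∧ (M₁ = M → Nat.card K ≤ (d - 1).factorial / 2) := by
  have c0 := c.toCtx
  have hQ := c.Q_bot
  have hcard := c.card_L
  have AM := c.AM
  have AN := c.AN
  have hKD := c0.K_le_D
  have hLD := c0.L_le_D
  have hDM := c0.D_le_M
  have hDN := c0.D_le_N
  have nK := c0.nK
  have nL := c0.nL
  have hLK' : ¬ L ≤ K := c0.not_L_le_K
  have hKL : ¬ K ≤ L := by
    intro h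
    apply c.Kne
    rw [← inf_eq_left.mpr h]; exact hQ
  have hcovN : D ⊓ N₁ ≤ K ⊔ L := AN.P4 K hKD (inf_le_left.trans (hDM.trans nK)) hKL
  have hcovM : D ⊓ M₁ ≤ L ⊔ K := c0.D1_le
  have hKnL : K ≤ Subgroup.normalizer (L : Set G) := (hKD.trans hDN).trans nL
  have hLnK : L ≤ Subgroup.normalizer (K : Set G) := (hLD.trans hDM).trans nK
  have hcomm : ∀ k ∈ K, ∀ l ∈ L, k * l = l * k := fun k hk l hl =>
    commute_of_inf_eq_bot hKnL hLnK hQ hk hl
  obtain ⟨C, hC⟩ : ∃ C, C = M ⊓ Subgroup.centralizer (K : Set G) := ⟨_, rfl⟩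
  have hCM : C ≤ M := by rw [hC]; exact inf_le_left
  have hCcent : ∀ x ∈ C, ∀ k ∈ K, k * x = x * k := by
    intro x hx k hk
    rw [hC] at hx
    exact Subgroup.mem_centralizer_iff.mp hx.2 k hk
  have hnC : M ≤ Subgroup.normalizer (C : Set G) := by
    apply le_normalizer_of_conj_mem
    intro m hm y hy
    rw [hC, Subgroup.mem_inf]
    refine ⟨M.mul_mem (M.mul_mem hm (hCM hy)) (M.inv_mem hm), ?_⟩
    rw [Subgroup.mem_centralizer_iff]
    intro k hk
    have h1 : m⁻¹ * k * m ∈ K := by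
      have := conj_mem_of_mem_normalizer (nK (M.inv_mem hm)) hk
      simpa using this
    have h2 := hCcent y hy _ h1
    calc k * (m * y * m⁻¹) = m * ((m⁻¹ * k * m) * y) * m⁻¹ := by group
      _ = m * (y * (m⁻¹ * k * m)) * m⁻¹ := by rw [h2]
      _ = m * y * m⁻¹ * k := by group
  have hLC : L ≤ C := by
    intro l hl
    rw [hC]
    exact ⟨hDM (hLD hl), Subgroup.mem_centralizer_iff.mpr (fun k hk => hcomm k hk l hl)⟩
  have hCD : C ⊓ D = L := by
    apply le_antisymm _ (le_inf hLC hLD)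
    rintro x ⟨hxC, hxD⟩
    apply AN.P8 x hxD
    intro y hy
    obtain ⟨k, hk, l, hl, rfl⟩ := mem_sup_dec hKnL (hcovN hy)
    have hxk : k * x = x * k := hCcent x hxC k hk
    have e : x * (k * l) * x⁻¹ * (k * l)⁻¹ = k * (x * l * x⁻¹ * l⁻¹) * k⁻¹ := by
      calc x * (k * l) * x⁻¹ * (k * l)⁻¹ = (x * k) * l * x⁻¹ * l⁻¹ * k⁻¹ := by group
        _ = (k * x) * l * x⁻¹ * l⁻¹ * k⁻¹ := by rw [hxk]
        _ = k * (x * l * x⁻¹ * l⁻¹) * k⁻¹ := by group
    rw [e]
    have h1 : x * l * x⁻¹ * l⁻¹ ∈ L :=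
      L.mul_mem (conj_mem_of_mem_normalizer (nL (hDN hxD)) hl) (L.inv_mem hl)
    exact conj_mem_of_mem_normalizer (hKnL hk) h1
  have hCK : ¬ C ≤ K := fun h => hLK' (hLC.trans h)
  have hM1 : M₁ ≤ C ⊔ K := AM.P3 C hCM (AM.H1_le.trans hnC) hCK
  have hMCD : C ⊔ D = M := by
    apply le_antisymm (sup_le hCM hDM)
    rw [← AM.sup_eq]
    exact sup_le (hM1.trans (sup_le le_sup_left (hKD.trans le_sup_right))) le_sup_right
  obtain ⟨U, hUD, hUcard, hUcore⟩ := AN.P7
  have hLU : L ≤ U := by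
    rw [← hUcore]; exact inf_le_right.trans (cr_le _ _)
  have hCU : C ⊓ U = L := by
    apply le_antisymm
    · rw [← hCD]; exact inf_le_inf_left _ hUD
    · exact le_inf hLC hLU
  have c1 := card_sup_inf C D (hDM.trans hnC)
  rw [hMCD, hCD] at c1
  have c2 := card_sup_inf C U ((hUD.trans hDM).trans hnC)
  rw [hCU] at c2
  have hlpos : 0 < Nat.card L := Nat.card_pos
  have hkpos : 0 < Nat.card K := Nat.card_pos
  have hME : Nat.card M = (d - 1) * Nat.card ↥(C ⊔ U) := by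
    have h1 : Nat.card M * Nat.card L = ((d - 1) * Nat.card ↥(C ⊔ U)) * Nat.card L := by
      rw [c1, hUcard]
      calc Nat.card C * ((d - 1) * Nat.card U) = (d - 1) * (Nat.card C * Nat.card U) := by ring
        _ = (d - 1) * (Nat.card ↥(C ⊔ U) * Nat.card L) := by rw [c2]
        _ = ((d - 1) * Nat.card ↥(C ⊔ U)) * Nat.card L := by ring
    exact Nat.eq_of_mul_eq_mul_right hlpos h1
  have hcore : K ⊓ KK M (C ⊔ U) = ⊥ := by
    rw [eq_bot_iff]
    rintro x ⟨hxK, hxE⟩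
    have hxE' := mem_cr.mp hxE.2
    have hxL : x ∈ L := by
      rw [← hUcore, Subgroup.mem_inf]
      refine ⟨hKD hxK, ?_⟩
      rw [mem_cr]
      intro c' hc'
      have hy : c'⁻¹ * x * c' ∈ K := by
        have := conj_mem_of_mem_normalizer (nK (hDM (D.inv_mem hc'))) hxK
        simpa using this
      have hyE : c'⁻¹ * x * c' ∈ U ⊔ C := by
        rw [sup_comm]; exact hxE' c' (hDM hc')
      obtain ⟨u, hu, c'', hc'', e⟩ := mem_sup_dec ((hUD.trans hDM).trans hnC) hyE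
      have hc''D : c'' ∈ D := by
        have e2 : c'' = u⁻¹ * (c'⁻¹ * x * c') := by rw [e]; group
        rw [e2]; exact D.mul_mem (D.inv_mem (hUD hu)) (hKD hy)
      have hc''L : c'' ∈ L := by rw [← hCD]; exact ⟨hc'', hc''D⟩
      rw [e]; exact U.mul_mem hu (hLU hc''L)
    rw [Subgroup.mem_bot]
    have : x ∈ K ⊓ L := ⟨hxK, hxL⟩
    rw [hQ] at this
    exact Subgroup.mem_bot.mp this
  have hk_ge : (d - 1).factorial / 2 ≤ Nat.card K := by
    have c3 := card_le_of_le_sup hcovM hLnK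
    rw [inf_comm L K, hQ, Subgroup.card_bot, mul_one, AM.card_D1, hcard] at c3
    exact Nat.le_of_mul_le_mul_right c3 hkpos
  have hk_le : M₁ = M → Nat.card K ≤ (d - 1).factorial / 2 := by
    intro h
    have c4 := AM.card_D1
    rw [h, inf_eq_left.mpr hDM] at c4
    have c5 := card_sup_inf L K hKnL
    rw [inf_comm L K, hQ, Subgroup.card_bot, mul_one, hcard] at c5
    have c6 : Nat.card ↥(L ⊔ K) ≤ Nat.card D := Subgroup.card_le_of_le (sup_le hLD hKD)
    rw [c5, c4] at c6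
    exact Nat.le_of_mul_le_mul_right c6 hkpos
  exact ⟨C, C ⊔ U, hCM, hnC, le_sup_left, sup_le hCM (hUD.trans hDM), hME, hcore, hM1, hk_ge,
    hk_le⟩

end Ctx2

end Cfsg.Agent.Helper61.KnappCore
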