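import Mathlib
import Cfsg.Agent.Lib.Helper61.KnappBridge
import Cfsg.Agent.Lib.Helper61.KnappCore2

/-!
# Knapp's theorem on alternating subconstituents: assembly (helper61)
-/

set_option autoImplicit false
set_option linter.unusedSectionVars false

namespace Cfsg.Agent.Helper61.KnappFinal

open Cfsg Cfsg.Agent.Helper11.TW1 Cfsg.Agent.Helper11.TW2 Cfsg.Agent.Helper61.KnappBasic
  Cfsg.Agent.Helper61.KnappPerm Cfsg.Agent.Helper61.KnappData Cfsg.Agent.Helper61.KnappBridge
  Cfsg.Agent.Helper61.KnappCore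
open Equiv Equiv.Perm

/-- identification of a group with two permutation representations covering `A_d × A_{d-1}` -/
theorem final_iso {H : Type*} [Group H] (d : ℕ) (φ₁ : H →* Perm (Fin d))
    (φ₂ : H →* Perm (Fin (d - 1)))
    (hinj : ∀ x, φ₁ x = 1 → φ₂ x = 1 → x = 1)
    (hA1 : ∀ σ, sign σ = 1 → ∃ x, φ₁ x = σ ∧ φ₂ x = 1)
    (hA2 : ∀ τ, sign τ = 1 → ∃ x, φ₁ x = 1 ∧ φ₂ x = τ)
    (hexcl : (∀ x, sign (φ₁ x) = 1) → ∀ x, sign (φ₂ x) = 1) :
    ((∀ x, sign (φ₁ x) = 1) ∧
      Nonempty (H ≃* alternatingGroup (Fin d) × alternatingGroup (Fin (d - 1)))) ∨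
    ((∃ x, sign (φ₁ x) = -1) ∧
      (Nonempty (H ≃* Perm (Fin d) × Perm (Fin (d - 1))) ∨
       Nonempty (H ≃* Perm (Fin d) × alternatingGroup (Fin (d - 1))) ∨
       Nonempty (H ≃* ((Equiv.Perm.sign.comp (MonoidHom.fst (Perm (Fin d)) (Perm (Fin (d - 1))))) *
         (Equiv.Perm.sign.comp (MonoidHom.snd (Perm (Fin d)) (Perm (Fin (d - 1)))))).ker))) := by
  obtain ⟨Φ, hΦ⟩ : ∃ Φ : H →* Perm (Fin d) × Perm (Fin (d - 1)), Φ = φ₁.prod φ₂ := ⟨_, rfl⟩
  have hΦ1 : ∀ x, (Φ x).1 = φ₁ x := by intro x; rw [hΦ]; rfl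
  have hΦ2 : ∀ x, (Φ x).2 = φ₂ x := by intro x; rw [hΦ]; rfl
  have hΦinj : Function.Injective Φ := by
    rw [injective_iff_map_eq_one]
    intro x hx
    have h1 : φ₁ x = 1 := by rw [← hΦ1, hx]; rfl
    have h2 : φ₂ x = 1 := by rw [← hΦ2, hx]; rfl
    exact hinj x h1 h2
  have e₀ : H ≃* Φ.range := MonoidHom.ofInjective hΦinj
  have hAA : ∀ p : Perm (Fin d) × Perm (Fin (d - 1)), sign p.1 = 1 → sign p.2 = 1 →
      p ∈ Φ.range := by
    rintro ⟨σ, τ⟩ h1 h2
    obtain ⟨x₁, hx₁, hx₁'⟩ := hA1 σ h1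
    obtain ⟨x₂, hx₂, hx₂'⟩ := hA2 τ h2
    refine ⟨x₁ * x₂, ?_⟩
    apply Prod.ext
    · rw [hΦ1, map_mul, hx₁, hx₂, mul_one]
    · rw [hΦ2, map_mul, hx₁', hx₂', one_mul]
  have hR : ∀ p : Perm (Fin d) × Perm (Fin (d - 1)), p ∈ Φ.range ↔
      ∃ x, sign (φ₁ x) = sign p.1 ∧ sign (φ₂ x) = sign p.2 := by
    intro p
    constructor
    · rintro ⟨x, rfl⟩
      exact ⟨x, by rw [hΦ1], by rw [hΦ2]⟩
    · rintro ⟨x, h1, h2⟩
      have h3 : (Φ x)⁻¹ * p ∈ Φ.range := by
        apply hAA
        · show sign ((Φ x).1⁻¹ * p.1) = 1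
          rw [map_mul, map_inv, hΦ1, h1, inv_mul_cancel]
        · show sign ((Φ x).2⁻¹ * p.2) = 1
          rw [map_mul, map_inv, hΦ2, h2, inv_mul_cancel]
      have := Φ.range.mul_mem ⟨x, rfl⟩ h3
      rwa [mul_inv_cancel_left] at this
  have hsq : ∀ u : ℤˣ, u = 1 ∨ u = -1 := Int.units_eq_one_or
  by_cases h1 : ∀ x, sign (φ₁ x) = 1
  · left
    refine ⟨h1, ?_⟩
    have h2 := hexcl h1
    have hRe : Φ.range = (alternatingGroup (Fin d)).prod (alternatingGroup (Fin (d - 1))) := by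
      ext p
      rw [Subgroup.mem_prod, mem_alternatingGroup, mem_alternatingGroup]
      constructor
      · rintro ⟨x, rfl⟩
        exact ⟨by rw [hΦ1]; exact h1 x, by rw [hΦ2]; exact h2 x⟩
      · rintro ⟨ha, hb⟩
        exact hAA p ha hb
    exact ⟨e₀.trans ((MulEquiv.subgroupCongr hRe).trans (Subgroup.prodEquiv _ _))⟩
  · right
    push Not at h1
    obtain ⟨x₀, hx₀⟩ := h1
    have hx₀' : sign (φ₁ x₀) = -1 := (hsq _).resolve_left hx₀
    refine ⟨⟨x₀, hx₀'⟩, ?_⟩
    by_cases h3 : ∃ y, sign (φ₁ y) = -1 ∧ sign (φ₂ y) = 1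
    · obtain ⟨y, hy1, hy2⟩ := h3
      by_cases h4 : ∃ z, sign (φ₂ z) = -1
      · left
        obtain ⟨z, hz⟩ := h4
        have hRe : Φ.range = ⊤ := by
          rw [eq_top_iff]
          intro p _
          rw [hR]
          rcases hsq (sign p.2) with hb | hb
          · rcases hsq (sign p.1) with ha | ha
            · exact ⟨1, by rw [map_one, map_one, ha], by rw [map_one, map_one, hb]⟩
            · exact ⟨y, by rw [hy1, ha], by rw [hy2, hb]⟩
          · rcases hsq (sign (φ₁ z)) with hz1 | hz1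
            · rcases hsq (sign p.1) with ha | ha
              · exact ⟨z, by rw [hz1, ha], by rw [hz, hb]⟩
              · refine ⟨z * y, ?_, ?_⟩
                · rw [map_mul, map_mul, hz1, hy1, ha, one_mul]
                · rw [map_mul, map_mul, hz, hy2, hb, mul_one]
            · rcases hsq (sign p.1) with ha | ha
              · refine ⟨z * y, ?_, ?_⟩
                · rw [map_mul, map_mul, hz1, hy1, ha]; rfl
                · rw [map_mul, map_mul, hz, hy2, hb, mul_one]
              · exact ⟨z, by rw [hz1, ha], by rw [hz, hb]⟩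
        exact ⟨e₀.trans ((MulEquiv.subgroupCongr hRe).trans Subgroup.topEquiv)⟩
      · right; left
        push Not at h4
        have h4' : ∀ z, sign (φ₂ z) = 1 := fun z => (hsq _).resolve_right (h4 z)
        have hRe : Φ.range = (⊤ : Subgroup (Perm (Fin d))).prod (alternatingGroup (Fin (d - 1))) := by
          ext p
          rw [Subgroup.mem_prod, mem_alternatingGroup]
          constructor
          · rintro ⟨x, rfl⟩
            exact ⟨Subgroup.mem_top _, by rw [hΦ2]; exact h4' x⟩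
          · rintro ⟨-, hb⟩
            rw [hR]
            rcases hsq (sign p.1) with ha | ha
            · exact ⟨1, by rw [map_one, map_one, ha], by rw [map_one, map_one, hb]⟩
            · exact ⟨y, by rw [hy1, ha], by rw [hy2, hb]⟩
        exact ⟨e₀.trans ((MulEquiv.subgroupCongr hRe).trans
          ((Subgroup.prodEquiv _ _).trans (MulEquiv.prodCongr Subgroup.topEquiv (MulEquiv.refl _))))⟩
    · right; right
      push Not at h3
      have hx₀2 : sign (φ₂ x₀) = -1 := (hsq _).resolve_left (h3 x₀ hx₀')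
      have hRe : Φ.range = ((Equiv.Perm.sign.comp (MonoidHom.fst (Perm (Fin d)) (Perm (Fin (d - 1))))) *
         (Equiv.Perm.sign.comp (MonoidHom.snd (Perm (Fin d)) (Perm (Fin (d - 1)))))).ker := by
        ext p
        rw [MonoidHom.mem_ker, MonoidHom.mul_apply, MonoidHom.comp_apply, MonoidHom.comp_apply,
          MonoidHom.coe_fst, MonoidHom.coe_snd]
        constructor
        · rintro ⟨x, rfl⟩
          rw [hΦ1, hΦ2]
          rcases hsq (sign (φ₁ x)) with ha | ha
          · rcases hsq (sign (φ₂ x)) with hb | hb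
            · rw [ha, hb, mul_one]
            · exfalso
              apply h3 (x * x₀)
              · rw [map_mul, map_mul, ha, hx₀', one_mul]
              · rw [map_mul, map_mul, hb, hx₀2]; rfl
          · rcases hsq (sign (φ₂ x)) with hb | hb
            · exact absurd hb (h3 x ha)
            · rw [ha, hb]; rfl
        · intro hp
          rw [hR]
          rcases hsq (sign p.1) with ha | ha
          · rcases hsq (sign p.2) with hb | hb
            · exact ⟨1, by rw [map_one, map_one, ha], by rw [map_one, map_one, hb]⟩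
            · rw [ha, hb] at hp; exact absurd hp (by decide)
          · rcases hsq (sign p.2) with hb | hb
            · rw [ha, hb] at hp; exact absurd hp (by decide)
            · exact ⟨x₀, by rw [hx₀', ha], by rw [hx₀2, hb]⟩
      exact ⟨e₀.trans (MulEquiv.subgroupCongr hRe)⟩

section glue

variable {G : Type*} [Group G] {Ω : Type*} [MulAction G Ω]

theorem pb_bot_eq (M : Subgroup G) (y : Ω) [Fintype (MulAction.orbit ↥M y)]
    [DecidableEq (MulAction.orbit ↥M y)] :
    pb (MulAction.toPermHom ↥M (MulAction.orbit ↥M y)) ⊥ = KK M (MulAction.stabilizer G y) := by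
  ext z
  rw [mem_pb]
  unfold KK
  rw [Subgroup.mem_inf, mem_cr]
  constructor
  · rintro ⟨hz, h1⟩
    refine ⟨hz, fun m hm => ?_⟩
    rw [Subgroup.mem_bot] at h1
    rw [MulAction.mem_stabilizer_iff]
    obtain ⟨pt, hpt⟩ : ∃ pt : MulAction.orbit ↥M y, (pt : Ω) = m • y :=
      ⟨⟨_, MulAction.mem_orbit y (⟨m, hm⟩ : ↥M)⟩, rfl⟩
    have h2 := congrArg (fun σ : Perm (MulAction.orbit ↥M y) => ((σ pt : MulAction.orbit ↥M y) : Ω)) h1
    have h3 : z • (pt : Ω) = (pt : Ω) := h2
    rw [hpt] at h3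
    rw [mul_smul, mul_smul, h3, inv_smul_smul]
  · rintro ⟨hz, h1⟩
    refine ⟨hz, ?_⟩
    rw [Subgroup.mem_bot]
    ext ⟨w, hw⟩
    obtain ⟨m, rfl⟩ := hw
    have h2 := h1 (m : G) m.2
    rw [MulAction.mem_stabilizer_iff, mul_smul, mul_smul] at h2
    have h3 : z • (m : G) • y = (m : G) • y := inv_smul_eq_iff.mp h2
    exact h3

theorem pb_stab_eq (M : Subgroup G) (y : Ω) [Fintype (MulAction.orbit ↥M y)]
    [DecidableEq (MulAction.orbit ↥M y)] :
    pb (MulAction.toPermHom ↥M (MulAction.orbit ↥M y))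
      (MulAction.stabilizer (Perm (MulAction.orbit ↥M y))
        (⟨y, MulAction.mem_orbit_self y⟩ : MulAction.orbit ↥M y)) =
      M ⊓ MulAction.stabilizer G y := by
  ext z
  rw [mem_pb, Subgroup.mem_inf, MulAction.mem_stabilizer_iff]
  constructor
  · rintro ⟨hz, h1⟩
    refine ⟨hz, ?_⟩
    rw [MulAction.mem_stabilizer_iff] at h1
    have := congrArg Subtype.val h1
    exact this
  · rintro ⟨hz, h1⟩
    refine ⟨hz, ?_⟩
    rw [MulAction.mem_stabilizer_iff]
    apply Subtype.ext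
    exact h1

end glue

section action

variable {G : Type*} [Group G] [Finite G]

/-- the coset action on `M / E` transported to `Fin n` -/
theorem second_action {M E : Subgroup G} (hEM : E ≤ M) {n : ℕ}
    (hME : Nat.card M = n * Nat.card E) :
    ∃ φ₂ : ↥M →* Perm (Fin n), ∀ x : ↥M, φ₂ x = 1 ↔ (x : G) ∈ KK M E := by
  have hidx : (E.subgroupOf M).index = n := by
    have h1 := relIndex_mul_card hEM
    rw [hME] at h1
    exact Nat.eq_of_mul_eq_mul_right Nat.card_pos h1
  have e2 : (↥M ⧸ E.subgroupOf M) ≃ Fin n := Finite.equivFinOfCardEq hidx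
  refine ⟨e2.permCongrHom.toMonoidHom.comp (MulAction.toPermHom ↥M (↥M ⧸ E.subgroupOf M)), ?_⟩
  intro x
  rw [MonoidHom.comp_apply]
  have h1 : e2.permCongrHom.toMonoidHom (MulAction.toPermHom ↥M (↥M ⧸ E.subgroupOf M) x) = 1 ↔
      MulAction.toPermHom ↥M (↥M ⧸ E.subgroupOf M) x = 1 :=
    MulEquiv.map_eq_one_iff e2.permCongrHom
  rw [h1, ← MonoidHom.mem_ker, ← Subgroup.normalCore_eq_ker,
    ← Cfsg.Agent.Helper11.TW6.KK_subgroupOf, Subgroup.mem_subgroupOf]

end action

end Cfsg.Agent.Helper61.KnappFinal
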