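import Mathlib
import Cfsg.Agent.Lib.Helper61.KnappFinal

/-!
# Knapp's theorem on alternating subconstituents: the main theorem (helper61)
-/

set_option autoImplicit false
set_option linter.unusedSectionVars false

namespace Cfsg.Agent.Helper61.KnappMain

open Cfsg Cfsg.Agent.Helper11.TW1 Cfsg.Agent.Helper11.TW2 Cfsg.Agent.Helper61.KnappBasic
  Cfsg.Agent.Helper61.KnappPerm Cfsg.Agent.Helper61.KnappData Cfsg.Agent.Helper61.KnappBridge
  Cfsg.Agent.Helper61.KnappCore Cfsg.Agent.Helper61.KnappFinal
open Equiv Equiv.Perm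

theorem assemble {G : Type*} [Group G] [Finite G] {M K M₁ : Subgroup G} {S : Type*} [Fintype S]
    [DecidableEq S] {d : ℕ} (h6 : 6 ≤ d) (hcard : Fintype.card S = d) (ρ : ↥M →* Perm S)
    (hA : alternatingGroup S ≤ ρ.range) (hK : K = pb ρ ⊥)
    (hM₁ : M₁ = pb ρ (alternatingGroup S))
    (hnK : M ≤ Subgroup.normalizer (K : Set G))
    {C E : Subgroup G} (hCM : C ≤ M) (hnC : M ≤ Subgroup.normalizer (C : Set G)) (hCE : C ≤ E)
    (hEM : E ≤ M) (hME : Nat.card M = (d - 1) * Nat.card E) (hcore : K ⊓ KK M E = ⊥)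
    (hM1 : M₁ ≤ C ⊔ K) (hk_ge : (d - 1).factorial / 2 ≤ Nat.card K)
    (hk_le : M₁ = M → Nat.card K ≤ (d - 1).factorial / 2) :
    ((∀ x, sign (ρ x) = 1) ∧
      Nonempty (↥M ≃* alternatingGroup (Fin d) × alternatingGroup (Fin (d - 1)))) ∨
    ((∃ x, sign (ρ x) = -1) ∧
      (Nonempty (↥M ≃* Perm (Fin d) × Perm (Fin (d - 1))) ∨
       Nonempty (↥M ≃* Perm (Fin d) × alternatingGroup (Fin (d - 1))) ∨
       Nonempty (↥M ≃* ((Equiv.Perm.sign.comp (MonoidHom.fst (Perm (Fin d)) (Perm (Fin (d - 1))))) *
         (Equiv.Perm.sign.comp (MonoidHom.snd (Perm (Fin d)) (Perm (Fin (d - 1)))))).ker))) := by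
  obtain ⟨φ₂, hφ₂⟩ := second_action hEM hME
  have e1 : S ≃ Fin d := Fintype.equivFinOfCardEq hcard
  obtain ⟨φ₁, hφ₁⟩ : ∃ φ₁ : ↥M →* Perm (Fin d), φ₁ = e1.permCongrHom.toMonoidHom.comp ρ :=
    ⟨_, rfl⟩
  have hφ₁a : ∀ x, φ₁ x = e1.permCongr (ρ x) := by
    intro x; rw [hφ₁]; rfl
  have hsign : ∀ x, sign (φ₁ x) = sign (ρ x) := by
    intro x; rw [hφ₁a, sign_permCongr]
  have hφ₁one : ∀ x : ↥M, φ₁ x = 1 ↔ (x : G) ∈ K := by
    intro x
    rw [hK, coe_mem_pb, Subgroup.mem_bot, hφ₁, MonoidHom.comp_apply]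
    exact MulEquiv.map_eq_one_iff e1.permCongrHom
  have hKM : K ≤ M := by rw [hK]; exact pb_le _ _
  have hCK : C ≤ KK M E := le_KK hCM hCE hnC
  have hdec : ∀ x : ↥M, (x : G) ∈ M₁ →
      ∃ c : ↥M, (c : G) ∈ C ∧ ∃ k : ↥M, (k : G) ∈ K ∧ x = c * k := by
    intro x hx
    obtain ⟨c, hc, k, hk, e⟩ := mem_sup_dec (hCM.trans hnK) (hM1 hx)
    exact ⟨⟨c, hCM hc⟩, hc, ⟨k, hKM hk⟩, hk, Subtype.ext e⟩
  have hinj : ∀ x, φ₁ x = 1 → φ₂ x = 1 → x = 1 := by
    intro x h1 h2
    have : (x : G) ∈ K ⊓ KK M E := ⟨(hφ₁one x).mp h1, (hφ₂ x).mp h2⟩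
    rw [hcore, Subgroup.mem_bot] at this
    exact Subtype.ext this
  have hA1 : ∀ σ, sign σ = 1 → ∃ x, φ₁ x = σ ∧ φ₂ x = 1 := by
    intro σ hσ
    have h1 : e1.symm.permCongr σ ∈ alternatingGroup S := by
      rw [mem_alternatingGroup, sign_permCongr]; exact hσ
    obtain ⟨x, hx⟩ := hA h1
    have hxM₁ : (x : G) ∈ M₁ := by
      rw [hM₁, coe_mem_pb, hx]; exact h1
    obtain ⟨c, hc, k, hk, rfl⟩ := hdec x hxM₁
    refine ⟨c, ?_, (hφ₂ c).mpr (hCK hc)⟩
    have hk1 : φ₁ k = 1 := (hφ₁one k).mpr hk
    have h2 : φ₁ (c * k) = σ := by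
      rw [hφ₁a, hx]
      ext i
      simp
    rw [map_mul, hk1, mul_one] at h2
    exact h2
  obtain ⟨f, hf0⟩ : ∃ f : ↥(K.subgroupOf M) →* Perm (Fin (d - 1)),
      f = φ₂.comp (K.subgroupOf M).subtype := ⟨_, rfl⟩
  have hfa : ∀ y : ↥(K.subgroupOf M), f y = φ₂ (y : ↥M) := by
    intro y; rw [hf0]; rfl
  have hf : Function.Injective f := by
    rw [injective_iff_map_eq_one]
    intro y hy
    rw [hfa] at hy
    have h1 : φ₁ (y : ↥M) = 1 := (hφ₁one _).mpr (Subgroup.mem_subgroupOf.mp y.2)
    have := hinj (y : ↥M) h1 hy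
    exact Subtype.ext this
  have hcardf : Nat.card f.range = Nat.card K := by
    rw [← Nat.card_congr (MonoidHom.ofInjective hf).toEquiv]
    exact Nat.card_congr (Subgroup.subgroupOfEquivOfLe hKM).toEquiv
  have hperm : Nat.card (Perm (Fin (d - 1))) = (d - 1).factorial := by
    rw [Nat.card_perm, Nat.card_fin]
  have hF'pos := fac_half_pos (d := d - 1) (by omega)
  have hidxf : f.range.index ≤ 2 := by
    have h1 := Subgroup.card_mul_index f.range
    rw [hcardf, hperm, ← fac_two_mul (d := d - 1) (by omega)] at h1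
    by_contra hlt
    push Not at hlt
    have h2 : ((d - 1).factorial / 2) * 3 ≤ Nat.card K * f.range.index :=
      Nat.mul_le_mul hk_ge hlt
    omega
  have hAf : alternatingGroup (Fin (d - 1)) ≤ f.range := alternatingGroup_le_of_index_le_two hidxf
  have hA2 : ∀ τ, sign τ = 1 → ∃ x, φ₁ x = 1 ∧ φ₂ x = τ := by
    intro τ hτ
    obtain ⟨y, hy⟩ := hAf (mem_alternatingGroup.mpr hτ)
    rw [hfa] at hy
    exact ⟨(y : ↥M), (hφ₁one _).mpr (Subgroup.mem_subgroupOf.mp y.2), hy⟩
  have hexcl : (∀ x, sign (φ₁ x) = 1) → ∀ x, sign (φ₂ x) = 1 := by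
    intro hall x
    have hM₁M : M₁ = M := by
      rw [hM₁]
      apply le_antisymm (pb_le _ _)
      intro z hz
      rw [mem_pb]
      refine ⟨hz, ?_⟩
      rw [mem_alternatingGroup, ← hsign]
      exact hall _
    have hkle := hk_le hM₁M
    have : Nontrivial (Fin (d - 1)) := Fin.nontrivial_iff_two_le.mpr (by omega)
    have hcA : Nat.card (alternatingGroup (Fin (d - 1))) = (d - 1).factorial / 2 := by
      rw [nat_card_alternatingGroup, Nat.card_fin]
    have heq : alternatingGroup (Fin (d - 1)) = f.range :=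
      Subgroup.eq_of_le_of_card_ge hAf (by rw [hcardf, hcA]; exact hkle)
    obtain ⟨c, hc, k, hk, rfl⟩ := hdec x (by rw [hM₁M]; exact x.2)
    rw [map_mul, (hφ₂ c).mpr (hCK hc), one_mul]
    have h1 : φ₂ k ∈ f.range := ⟨⟨k, Subgroup.mem_subgroupOf.mpr hk⟩, hfa _⟩
    rw [← heq] at h1
    exact mem_alternatingGroup.mp h1
  have key := final_iso d φ₁ φ₂ hinj hA1 hA2 hexcl
  simp only [hsign] at key
  exact key

section main

variable {G Ω : Type*} [Group G] [Finite G] [MulAction G Ω] [FaithfulSMul G Ω] [Finite Ω]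

theorem main (hprim : MulAction.IsPreprimitive G Ω) (a b : Ω) (d : ℕ)
    (hd : Nat.card (MulAction.orbit (MulAction.stabilizer G a) b) = d) (h6 : 6 ≤ d)
    (halt : (MulAction.toPermHom (MulAction.stabilizer G a)
      (MulAction.orbit (MulAction.stabilizer G a) b)).range.index ≤ 2)
    (hunf : ¬ Function.Injective (MulAction.toPermHom (MulAction.stabilizer G a)
      (MulAction.orbit (MulAction.stabilizer G a) b))) :
    ((MulAction.toPermHom (MulAction.stabilizer G a)
        (MulAction.orbit (MulAction.stabilizer G a) b)).range.index = 2 ∧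
      Nonempty (MulAction.stabilizer G a ≃*
        alternatingGroup (Fin d) × alternatingGroup (Fin (d - 1)))) ∨
    ((MulAction.toPermHom (MulAction.stabilizer G a)
        (MulAction.orbit (MulAction.stabilizer G a) b)).range = ⊤ ∧
      (Nonempty (MulAction.stabilizer G a ≃* Equiv.Perm (Fin d) × Equiv.Perm (Fin (d - 1))) ∨
       Nonempty (MulAction.stabilizer G a ≃* Equiv.Perm (Fin d) × alternatingGroup (Fin (d - 1))) ∨
       Nonempty (MulAction.stabilizer G a ≃*
        ((Equiv.Perm.sign.comp (MonoidHom.fst (Equiv.Perm (Fin d)) (Equiv.Perm (Fin (d - 1))))) *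
         (Equiv.Perm.sign.comp
          (MonoidHom.snd (Equiv.Perm (Fin d)) (Equiv.Perm (Fin (d - 1)))))).ker))) := by
  classical
  have hpt : MulAction.IsPretransitive G Ω := hprim.toIsPretransitive
  have instΔ : Fintype (MulAction.orbit (MulAction.stabilizer G a) b) := Fintype.ofFinite _
  have instΔ' : Fintype (MulAction.orbit (MulAction.stabilizer G b) a) := Fintype.ofFinite _
  have hcardΔ : Fintype.card (MulAction.orbit (MulAction.stabilizer G a) b) = d := by
    rw [← Nat.card_eq_fintype_card]; exact hd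
  obtain ⟨g, hg⟩ := MulAction.exists_smul_eq G a b
  have hNg : MulAction.stabilizer G b = cj g (MulAction.stabilizer G a) := by
    rw [← hg]
    exact MulAction.stabilizer_smul_eq_stabilizer_map_conj g a
  have hpair := Cfsg.Agent.Helper11.TW7.pair_of_primitive hprim a b (by rw [hd]; omega)
  have hA := alternatingGroup_le_of_index_le_two halt
  -- the data for `M`
  have AM0 := bridge (MulAction.toPermHom (MulAction.stabilizer G a)
    (MulAction.orbit (MulAction.stabilizer G a) b))
    (⟨b, MulAction.mem_orbit_self b⟩ : MulAction.orbit (MulAction.stabilizer G a) b) hcardΔ h6 halt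
  have eK := pb_bot_eq (MulAction.stabilizer G a) b
  have eD := pb_stab_eq (MulAction.stabilizer G a) b
  rw [eK, eD] at AM0
  have hKne : KK (MulAction.stabilizer G a) (MulAction.stabilizer G b) ≠ ⊥ := by
    intro hbot
    apply hunf
    rw [injective_iff_map_eq_one]
    intro x hx
    have h1 : (x : G) ∈ pb (MulAction.toPermHom (MulAction.stabilizer G a)
        (MulAction.orbit (MulAction.stabilizer G a) b)) ⊥ := by
      rw [coe_mem_pb, Subgroup.mem_bot]; exact hx
    rw [eK, hbot, Subgroup.mem_bot] at h1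
    exact Subtype.ext h1
  have c : Ctx (MulAction.stabilizer G a) (MulAction.stabilizer G b)
      (KK (MulAction.stabilizer G a) (MulAction.stabilizer G b))
      (KK (MulAction.stabilizer G b) (MulAction.stabilizer G a))
      (MulAction.stabilizer G a ⊓ MulAction.stabilizer G b)
      (pb (MulAction.toPermHom (MulAction.stabilizer G a)
        (MulAction.orbit (MulAction.stabilizer G a) b))
        (alternatingGroup (MulAction.orbit (MulAction.stabilizer G a) b))) g d :=
    ⟨h6, hpair, rfl, rfl, rfl, hNg, AM0, hKne⟩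
  -- the data for `N`
  have hcardΔ' : Fintype.card (MulAction.orbit (MulAction.stabilizer G b) a) = d := by
    rw [← Nat.card_eq_fintype_card, ← Cfsg.Agent.Helper11.TW7.relIndex_eq_card_orbit b a]
    exact c.relIndex_eq
  have eL := pb_bot_eq (MulAction.stabilizer G b) a
  have eD' := pb_stab_eq (MulAction.stabilizer G b) a
  have halt' : (MulAction.toPermHom (MulAction.stabilizer G b)
      (MulAction.orbit (MulAction.stabilizer G b) a)).range.index ≤ 2 := by
    have h1 := card_pb (τ := MulAction.toPermHom (MulAction.stabilizer G b)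
      (MulAction.orbit (MulAction.stabilizer G b) a)) le_rfl
    rw [pb_range, eL] at h1
    have h2 := c.card_N_ge
    have h3 := Subgroup.card_mul_index (MulAction.toPermHom (MulAction.stabilizer G b)
      (MulAction.orbit (MulAction.stabilizer G b) a)).range
    rw [Nat.card_perm, Nat.card_eq_fintype_card (α := MulAction.orbit (MulAction.stabilizer G b) a),
      hcardΔ', ← fac_two_mul (d := d) (by omega)] at h3
    have hlpos : 0 < Nat.card (KK (MulAction.stabilizer G b) (MulAction.stabilizer G a)) :=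
      Nat.card_pos
    rw [h1] at h2
    have h4 := Nat.le_of_mul_le_mul_right h2 hlpos
    have hFpos := fac_half_pos (d := d) (by omega)
    by_contra hlt
    push Not at hlt
    have h5 : (d.factorial / 2) * 3 ≤ Nat.card (MulAction.toPermHom (MulAction.stabilizer G b)
      (MulAction.orbit (MulAction.stabilizer G b) a)).range *
      (MulAction.toPermHom (MulAction.stabilizer G b)
      (MulAction.orbit (MulAction.stabilizer G b) a)).range.index := Nat.mul_le_mul h4 hlt
    omega
  have AN0 := bridge (MulAction.toPermHom (MulAction.stabilizer G b)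
    (MulAction.orbit (MulAction.stabilizer G b) a))
    (⟨a, MulAction.mem_orbit_self a⟩ : MulAction.orbit (MulAction.stabilizer G b) a) hcardΔ' h6 halt'
  rw [eL, eD', inf_comm] at AN0
  have c2 : Ctx2 (MulAction.stabilizer G a) (MulAction.stabilizer G b)
      (KK (MulAction.stabilizer G a) (MulAction.stabilizer G b))
      (KK (MulAction.stabilizer G b) (MulAction.stabilizer G a))
      (MulAction.stabilizer G a ⊓ MulAction.stabilizer G b)
      (pb (MulAction.toPermHom (MulAction.stabilizer G a)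
        (MulAction.orbit (MulAction.stabilizer G a) b))
        (alternatingGroup (MulAction.orbit (MulAction.stabilizer G a) b)))
      (pb (MulAction.toPermHom (MulAction.stabilizer G b)
        (MulAction.orbit (MulAction.stabilizer G b) a))
        (alternatingGroup (MulAction.orbit (MulAction.stabilizer G b) a))) g d :=
    { toCtx := c, AN := AN0 }
  obtain ⟨C, E, hCM, hnC, hCE, hEM, hME, hcore, hM1, hk_ge, hk_le⟩ := c2.part3
  have key := assemble h6 hcardΔ (MulAction.toPermHom (MulAction.stabilizer G a)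
    (MulAction.orbit (MulAction.stabilizer G a) b)) hA eK.symm rfl c.nK hCM hnC hCE hEM hME hcore
    hM1 hk_ge hk_le
  have hidx0 : (MulAction.toPermHom (MulAction.stabilizer G a)
      (MulAction.orbit (MulAction.stabilizer G a) b)).range.index ≠ 0 :=
    Subgroup.index_ne_zero_of_finite
  rcases key with ⟨hall, hiso⟩ | ⟨⟨x, hx⟩, hiso⟩
  · left
    refine ⟨?_, hiso⟩
    have hne1 : (MulAction.toPermHom (MulAction.stabilizer G a)
        (MulAction.orbit (MulAction.stabilizer G a) b)).range.index ≠ 1 := by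
      intro h1
      rw [Subgroup.index_eq_one] at h1
      have hnt : Nontrivial (MulAction.orbit (MulAction.stabilizer G a) b) := by
        rw [← Fintype.one_lt_card_iff_nontrivial, hcardΔ]; omega
      obtain ⟨u, v, huv⟩ := exists_pair_ne (MulAction.orbit (MulAction.stabilizer G a) b)
      have h2 : swap u v ∈ (MulAction.toPermHom (MulAction.stabilizer G a)
        (MulAction.orbit (MulAction.stabilizer G a) b)).range := by rw [h1]; exact Subgroup.mem_top _
      obtain ⟨y, hy⟩ := h2
      have h3 := hall y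
      rw [hy, sign_swap huv] at h3
      exact absurd h3 (by decide)
    omega
  · right
    refine ⟨?_, hiso⟩
    have hne2 : (MulAction.toPermHom (MulAction.stabilizer G a)
        (MulAction.orbit (MulAction.stabilizer G a) b)).range.index ≠ 2 := by
      intro h2
      have h3 := eq_alternatingGroup_of_index_eq_two h2
      have h4 : MulAction.toPermHom (MulAction.stabilizer G a)
        (MulAction.orbit (MulAction.stabilizer G a) b) x ∈ alternatingGroup _ := by
        rw [← h3]; exact ⟨x, rfl⟩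
      rw [mem_alternatingGroup, hx] at h4
      exact absurd h4 (by decide)
    rw [← Subgroup.index_eq_one]
    omega

end main

end Cfsg.Agent.Helper61.KnappMain
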