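import Mathlib

/-!
# Marggraf's theorem, part 1: Jordan sets and elementary multiple transitivity

Elementary framework: `JS G S` says that the finite set `S` is a Jordan set for the action
of `G` (the pointwise stabiliser of the complement is transitive on `S`); `Tr G Ω t` is
`t`-fold transitivity stated with injective tuples.
-/

set_option autoImplicit false
set_option linter.unusedSectionVars false
set_option linter.unusedVariables false

open scoped Pointwise

namespace Cfsg.Agent.Helper61.MargBasic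

variable {G Ω : Type*} [Group G] [MulAction G Ω] [Fintype Ω] [DecidableEq Ω]

/-- `S` is a Jordan set: the pointwise stabiliser of the complement is transitive on it. -/
def JS (G : Type*) {Ω : Type*} [Group G] [MulAction G Ω] (S : Finset Ω) : Prop :=
  ∀ x ∈ S, ∀ y ∈ S, ∃ g : G, (∀ z, z ∉ S → g • z = z) ∧ g • x = y

theorem JS.smul {S : Finset Ω} (h : JS G S) (g : G) : JS G (g • S) := by
  intro x hx y hy
  rw [← Finset.inv_smul_mem_iff] at hx hy
  obtain ⟨k, hk1, hk2⟩ := h _ hx _ hy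
  refine ⟨g * k * g⁻¹, ?_, ?_⟩
  · intro z hz
    rw [← Finset.inv_smul_mem_iff] at hz
    rw [mul_smul, mul_smul, hk1 _ hz, smul_inv_smul]
  · rw [mul_smul, mul_smul, hk2, smul_inv_smul]

theorem JS.union {S1 S2 : Finset Ω} (h1 : JS G S1) (h2 : JS G S2) {w : Ω}
    (hw1 : w ∈ S1) (hw2 : w ∈ S2) : JS G (S1 ∪ S2) := by
  have key : ∀ x ∈ S1 ∪ S2, ∃ g : G, (∀ z, z ∉ S1 ∪ S2 → g • z = z) ∧ g • x = w := by
    intro x hx
    rcases Finset.mem_union.1 hx with hx | hx
    · obtain ⟨g, hg1, hg2⟩ := h1 x hx w hw1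
      exact ⟨g, fun z hz => hg1 z (fun h => hz (Finset.mem_union_left _ h)), hg2⟩
    · obtain ⟨g, hg1, hg2⟩ := h2 x hx w hw2
      exact ⟨g, fun z hz => hg1 z (fun h => hz (Finset.mem_union_right _ h)), hg2⟩
  intro x hx y hy
  obtain ⟨g1, hg1, hg1'⟩ := key x hx
  obtain ⟨g2, hg2, hg2'⟩ := key y hy
  refine ⟨g2⁻¹ * g1, ?_, ?_⟩
  · intro z hz
    rw [mul_smul, hg1 z hz, inv_smul_eq_iff, hg2 z hz]
  · rw [mul_smul, hg1', inv_smul_eq_iff, hg2']

/-- elements of the Jordan group of `S` fix every set disjoint from `S` pointwise -/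
theorem disjoint_smul_iff (k : G) (C S : Finset Ω) : Disjoint (k • C) (k • S) ↔ Disjoint C S := by
  rw [Finset.disjoint_iff_inter_eq_empty, Finset.disjoint_iff_inter_eq_empty,
    ← Finset.smul_finset_inter, Finset.smul_finset_eq_empty]

/-- `t`-fold transitivity, stated with injective tuples. -/
def Tr (G : Type*) (Ω : Type*) [Group G] [MulAction G Ω] (t : ℕ) : Prop :=
  ∀ x y : Fin t → Ω, Function.Injective x → Function.Injective y → ∃ g : G, ∀ i, g • x i = y i

theorem tr_of_isMultiplyPretransitive {t : ℕ} (h : MulAction.IsMultiplyPretransitive G Ω t) :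
    Tr G Ω t := by
  intro x y hx hy
  obtain ⟨g, hg⟩ := (MulAction.isMultiplyPretransitive_iff.1 h) ⟨x, hx⟩ ⟨y, hy⟩
  refine ⟨g, fun i => ?_⟩
  have := DFunLike.congr_fun hg i
  simpa using this

theorem exists_enum (T : Finset Ω) {j : ℕ} (hT : T.card = j) :
    ∃ τ : Fin j → Ω, Function.Injective τ ∧ ∀ z, z ∈ T ↔ ∃ l, τ l = z := by
  subst hT
  refine ⟨fun l => (T.equivFin.symm l : Ω), ?_, ?_⟩
  · intro a b hab
    exact T.equivFin.symm.injective (Subtype.ext hab)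
  · intro z
    constructor
    · intro hz
      exact ⟨T.equivFin ⟨z, hz⟩, by simp⟩
    · rintro ⟨l, rfl⟩
      exact (T.equivFin.symm l).2

theorem tr_fix {i c t : ℕ} (ht : i + c = t) (htr : Tr G Ω t) (τ : Fin i → Ω)
    (hτ : Function.Injective τ)
    (u v : Fin c → Ω) (hu : Function.Injective u) (hv : Function.Injective v)
    (hu' : ∀ a b, τ a ≠ u b) (hv' : ∀ a b, τ a ≠ v b) :
    ∃ g : G, (∀ l, g • τ l = τ l) ∧ ∀ l, g • u l = v l := by
  subst ht
  obtain ⟨g, hg⟩ := htr (Fin.append τ u) (Fin.append τ v)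
    (Fin.append_injective_iff.2 ⟨hτ, hu, hu'⟩) (Fin.append_injective_iff.2 ⟨hτ, hv, hv'⟩)
  refine ⟨g, fun l => ?_, fun l => ?_⟩
  · have := hg (Fin.castAdd c l)
    simpa [Fin.append_left] using this
  · have := hg (Fin.natAdd i l)
    simpa [Fin.append_right] using this

theorem fix1 {j : ℕ} (htr : Tr G Ω (j + 1)) (T : Finset Ω) (hT : T.card = j) {p q : Ω}
    (hp : p ∉ T) (hq : q ∉ T) :
    ∃ g : G, (∀ z ∈ T, g • z = z) ∧ g • p = q := by
  obtain ⟨τ, hτ, hτT⟩ := exists_enum T hT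
  obtain ⟨g, hg1, hg2⟩ := tr_fix rfl htr τ hτ (fun _ : Fin 1 => p) (fun _ => q)
    (fun a b _ => Subsingleton.elim a b) (fun a b _ => Subsingleton.elim a b)
    (fun a b h => hp ((hτT p).2 ⟨a, h⟩)) (fun a b h => hq ((hτT q).2 ⟨a, h⟩))
  refine ⟨g, fun z hz => ?_, hg2 0⟩
  obtain ⟨l, rfl⟩ := (hτT z).1 hz
  exact hg1 l

theorem inj_pair {p q : Ω} (h : p ≠ q) : Function.Injective (![p, q] : Fin 2 → Ω) := by
  intro a b hab
  fin_cases a <;> fin_cases b
  · rfl
  · exact absurd hab h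
  · exact absurd hab.symm h
  · rfl

theorem fix2 {j : ℕ} (htr : Tr G Ω (j + 2)) (T : Finset Ω) (hT : T.card = j) {p q p' q' : Ω}
    (hp : p ∉ T) (hq : q ∉ T) (hpq : p ≠ q) (hp' : p' ∉ T) (hq' : q' ∉ T) (hpq' : p' ≠ q') :
    ∃ g : G, (∀ z ∈ T, g • z = z) ∧ g • p = p' ∧ g • q = q' := by
  obtain ⟨τ, hτ, hτT⟩ := exists_enum T hT
  have h1 : ∀ a b, τ a ≠ (![p, q] : Fin 2 → Ω) b := by
    intro a b h
    fin_cases b
    · exact hp ((hτT p).2 ⟨a, h⟩)
    · exact hq ((hτT q).2 ⟨a, h⟩)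
  have h2 : ∀ a b, τ a ≠ (![p', q'] : Fin 2 → Ω) b := by
    intro a b h
    fin_cases b
    · exact hp' ((hτT p').2 ⟨a, h⟩)
    · exact hq' ((hτT q').2 ⟨a, h⟩)
  obtain ⟨g, hg1, hg2⟩ := tr_fix rfl htr τ hτ ![p, q] ![p', q'] (inj_pair hpq) (inj_pair hpq') h1 h2
  refine ⟨g, fun z hz => ?_, hg2 0, hg2 1⟩
  obtain ⟨l, rfl⟩ := (hτT z).1 hz
  exact hg1 l

/-- step lemma: `(j+1)`-transitivity plus 2-transitivity of the pointwise stabiliser of a `j`-set
on the complement gives `(j+2)`-transitivity. -/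
theorem tr_succ {j : ℕ} (htr : Tr G Ω (j + 1)) (T : Finset Ω) (hT : T.card = j) (p0 : Ω)
    (hp0 : p0 ∉ T)
    (K2 : ∀ q q' : Ω, q ∉ T → q' ∉ T → q ≠ p0 → q' ≠ p0 →
      ∃ g : G, (∀ z ∈ T, g • z = z) ∧ g • p0 = p0 ∧ g • q = q') :
    Tr G Ω (j + 2) := by
  obtain ⟨τ, hτ, hτT⟩ := exists_enum T hT
  obtain ⟨ref, href⟩ : ∃ ref : Fin (j + 1) → Ω, ref = Fin.snoc τ p0 := ⟨_, rfl⟩
  have href_last : ref (Fin.last j) = p0 := by rw [href]; simp
  have href_cast : ∀ l : Fin j, ref l.castSucc = τ l := by intro l; rw [href]; simp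
  have href_inj : Function.Injective ref := by
    rw [href]
    apply Fin.snoc_injective_of_injective hτ
    rintro ⟨l, hl⟩
    exact hp0 ((hτT p0).2 ⟨l, hl⟩)
  have key : ∀ x : Fin (j + 2) → Ω, Function.Injective x →
      ∃ g : G, (∀ l : Fin (j + 1), g • x l.castSucc = ref l) ∧
        g • x (Fin.last _) ∉ T ∧ g • x (Fin.last _) ≠ p0 := by
    intro x hx
    obtain ⟨g, hg⟩ := htr (fun l => x l.castSucc) ref
      (fun a b h => Fin.castSucc_injective _ (hx h)) href_inj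
    refine ⟨g, hg, ?_, ?_⟩
    · intro hmem
      obtain ⟨l, hl⟩ := (hτT _).1 hmem
      have h2 := hg l.castSucc
      rw [href_cast, hl] at h2
      have := hx (MulAction.injective g h2)
      exact absurd this (Fin.castSucc_lt_last _).ne
    · intro heq
      have h2 := hg (Fin.last j)
      rw [href_last, ← heq] at h2
      have := hx (MulAction.injective g h2)
      exact absurd this (Fin.castSucc_lt_last _).ne
  intro x y hx hy
  obtain ⟨g1, hg1, hq1, hq1'⟩ := key x hx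
  obtain ⟨g2, hg2, hq2, hq2'⟩ := key y hy
  obtain ⟨k, hk1, hk2, hk3⟩ := K2 _ _ hq1 hq2 hq1' hq2'
  have hkref : ∀ l, k • ref l = ref l := by
    intro l
    refine Fin.lastCases ?_ (fun l' => ?_) l
    · rw [href_last]; exact hk2
    · rw [href_cast]; exact hk1 _ ((hτT _).2 ⟨l', rfl⟩)
  refine ⟨g2⁻¹ * k * g1, fun i => ?_⟩
  refine Fin.lastCases ?_ (fun l => ?_) i
  · rw [mul_smul, mul_smul, hk3, inv_smul_eq_iff]
  · rw [mul_smul, mul_smul, hg1, hkref, inv_smul_eq_iff, hg2]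

/-- transitivity on pairs of disjoint finite sets. -/
theorem trF_of_tr {t : ℕ} (htr : Tr G Ω t) (A C A' C' : Finset Ω) (hAC : Disjoint A C)
    (hAC' : Disjoint A' C') (hA : A.card = A'.card) (hC : C.card = C'.card)
    (ht : A.card + C.card = t) :
    ∃ g : G, g • A = A' ∧ g • C = C' := by
  obtain ⟨a, ha, haA⟩ := exists_enum A rfl
  obtain ⟨c, hc, hcC⟩ := exists_enum C rfl
  obtain ⟨a', ha', haA'⟩ := exists_enum A' hA.symm
  obtain ⟨c', hc', hcC'⟩ := exists_enum C' hC.symm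
  subst ht
  have h1 : ∀ i j, a i ≠ c j := fun i j h =>
    Finset.disjoint_left.1 hAC ((haA _).2 ⟨i, rfl⟩) ((hcC _).2 ⟨j, h.symm⟩)
  have h2 : ∀ i j, a' i ≠ c' j := fun i j h =>
    Finset.disjoint_left.1 hAC' ((haA' _).2 ⟨i, rfl⟩) ((hcC' _).2 ⟨j, h.symm⟩)
  obtain ⟨g, hg⟩ := htr (Fin.append a c) (Fin.append a' c')
    (Fin.append_injective_iff.2 ⟨ha, hc, h1⟩) (Fin.append_injective_iff.2 ⟨ha', hc', h2⟩)
  refine ⟨g, ?_, ?_⟩
  · apply Finset.eq_of_subset_of_card_le
    · intro z hz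
      obtain ⟨w, hw, rfl⟩ := Finset.mem_smul_finset.1 hz
      obtain ⟨l, rfl⟩ := (haA w).1 hw
      have := hg (Fin.castAdd _ l)
      simp only [Fin.append_left] at this
      rw [this]
      exact (haA' _).2 ⟨l, rfl⟩
    · rw [Finset.card_smul_finset]; exact hA.ge
  · apply Finset.eq_of_subset_of_card_le
    · intro z hz
      obtain ⟨w, hw, rfl⟩ := Finset.mem_smul_finset.1 hz
      obtain ⟨l, rfl⟩ := (hcC w).1 hw
      have := hg (Fin.natAdd _ l)
      simp only [Fin.append_right] at this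
      rw [this]
      exact (hcC' _).2 ⟨l, rfl⟩
    · rw [Finset.card_smul_finset]; exact hC.ge

end Cfsg.Agent.Helper61.MargBasic
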