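import Mathlib
import Cfsg.Agent.Lib.Helper61.MargBasic

/-!
# Marggraf's theorem, part 2: the counting argument

`M G Γ A C` counts the group elements `g` with `A ⊆ g • Γ` and `C` disjoint from `g • Γ`.
For a `(j+1)`-transitive group these numbers only depend on the sizes when `|A| + |C| = j + 1`.
-/

set_option autoImplicit false
set_option linter.unusedSectionVars false
set_option linter.unusedVariables false

open scoped Pointwise

namespace Cfsg.Agent.Helper61.MargCount

open Cfsg.Agent.Helper61.MargBasic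

variable {G Ω : Type*} [Group G] [Fintype G] [MulAction G Ω] [Fintype Ω] [DecidableEq Ω]

open scoped Classical in
/-- number of `g` with `A ⊆ g • Γ` and `C` disjoint from `g • Γ`. -/
noncomputable def M (G : Type*) {Ω : Type*} [Group G] [Fintype G] [MulAction G Ω] [DecidableEq Ω]
    (Γ A C : Finset Ω) : ℕ :=
  (Finset.univ.filter (fun g : G => A ⊆ g • Γ ∧ Disjoint C (g • Γ))).card

theorem M_inv (Γ : Finset Ω) {t : ℕ} (htr : Tr G Ω t) (A C A' C' : Finset Ω)
    (hAC : Disjoint A C) (hAC' : Disjoint A' C') (hA : A.card = A'.card) (hC : C.card = C'.card)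
    (ht : A.card + C.card = t) : M G Γ A C = M G Γ A' C' := by
  classical
  obtain ⟨k, hkA, hkC⟩ := trF_of_tr htr A C A' C' hAC hAC' hA hC ht
  unfold M
  apply Finset.card_equiv (Equiv.mulLeft k)
  intro g
  simp only [Finset.mem_filter, Finset.mem_univ, true_and, Equiv.coe_mulLeft, mul_smul]
  rw [← hkA, ← hkC, Finset.smul_finset_subset_smul_finset_iff, disjoint_smul_iff]

theorem M_split (Γ A C : Finset Ω) (u : Ω) :
    M G Γ A C = M G Γ (insert u A) C + M G Γ A (insert u C) := by
  classical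
  unfold M
  rw [← Finset.card_filter_add_card_filter_not (fun g : G => u ∈ g • Γ)]
  congr 1
  · congr 1
    ext g
    simp only [Finset.mem_filter, Finset.mem_univ, true_and, Finset.insert_subset_iff]
    tauto
  · congr 1
    ext g
    simp only [Finset.mem_filter, Finset.mem_univ, true_and, Finset.disjoint_insert_left]
    tauto

theorem sumA (Γ A C : Finset Ω) (hAC : Disjoint A C) :
    ∑ y ∈ (A ∪ C)ᶜ, M G Γ (insert y A) C = M G Γ A C * (Γ.card - A.card) := by
  classical
  unfold M
  simp only [Finset.card_filter]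
  rw [Finset.sum_comm, Finset.sum_mul]
  apply Finset.sum_congr rfl
  intro g _
  by_cases hg : A ⊆ g • Γ ∧ Disjoint C (g • Γ)
  · rw [if_pos hg, one_mul, ← Finset.card_filter]
    have : ((A ∪ C)ᶜ).filter (fun y => insert y A ⊆ g • Γ ∧ Disjoint C (g • Γ)) = (g • Γ) \ A := by
      ext y
      simp only [Finset.mem_filter, Finset.mem_compl, Finset.mem_union, Finset.mem_sdiff,
        Finset.insert_subset_iff]
      constructor
      · rintro ⟨h1, ⟨h2, _⟩, _⟩
        exact ⟨h2, fun h => h1 (Or.inl h)⟩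
      · rintro ⟨h1, h2⟩
        refine ⟨?_, ⟨h1, hg.1⟩, hg.2⟩
        rintro (h | h)
        · exact h2 h
        · exact (Finset.disjoint_left.1 hg.2 h) h1
    rw [this, Finset.card_sdiff_of_subset hg.1, Finset.card_smul_finset]
  · rw [if_neg hg, zero_mul]
    apply Finset.sum_eq_zero
    intro y _
    rw [if_neg]
    rintro ⟨h1, h2⟩
    exact hg ⟨(Finset.insert_subset_iff.1 h1).2, h2⟩

theorem sumC (Γ A C : Finset Ω) (hAC : Disjoint A C) :
    ∑ y ∈ (A ∪ C)ᶜ, M G Γ A (insert y C) =
      M G Γ A C * (Fintype.card Ω - Γ.card - C.card) := by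
  classical
  unfold M
  simp only [Finset.card_filter]
  rw [Finset.sum_comm, Finset.sum_mul]
  apply Finset.sum_congr rfl
  intro g _
  by_cases hg : A ⊆ g • Γ ∧ Disjoint C (g • Γ)
  · rw [if_pos hg, one_mul, ← Finset.card_filter]
    have : ((A ∪ C)ᶜ).filter (fun y => A ⊆ g • Γ ∧ Disjoint (insert y C) (g • Γ)) =
        (g • Γ)ᶜ \ C := by
      ext y
      simp only [Finset.mem_filter, Finset.mem_compl, Finset.mem_union, Finset.mem_sdiff,
        Finset.disjoint_insert_left]
      constructor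
      · rintro ⟨h1, _, h2, _⟩
        exact ⟨h2, fun h => h1 (Or.inr h)⟩
      · rintro ⟨h1, h2⟩
        refine ⟨?_, hg.1, h1, hg.2⟩
        rintro (h | h)
        · exact h1 (hg.1 h)
        · exact h2 h
    have hsub : C ⊆ (g • Γ)ᶜ := by
      intro z hz
      rw [Finset.mem_compl]
      exact Finset.disjoint_left.1 hg.2 hz
    rw [this, Finset.card_sdiff_of_subset hsub, Finset.card_compl, Finset.card_smul_finset]
  · rw [if_neg hg, zero_mul]
    apply Finset.sum_eq_zero
    intro y _
    rw [if_neg]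
    rintro ⟨h1, h2⟩
    exact hg ⟨h1, (Finset.disjoint_insert_left.1 h2).2⟩


open scoped Classical in
/-- the common value of `M Γ A C` for disjoint `A`, `C` with `|A| = i`, `|A| + |C| = j + 1`. -/
noncomputable def mu (G : Type*) {Ω : Type*} [Group G] [Fintype G] [MulAction G Ω] [DecidableEq Ω]
    (Γ : Finset Ω) (j i : ℕ) : ℕ :=
  if h : ∃ A C : Finset Ω, Disjoint A C ∧ A.card = i ∧ A.card + C.card = j + 1 then
    M G Γ h.choose h.choose_spec.choose else 0

theorem M_eq_mu (Γ : Finset Ω) {j : ℕ} (htr : Tr G Ω (j + 1)) (A C : Finset Ω)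
    (hAC : Disjoint A C) (h : A.card + C.card = j + 1) : M G Γ A C = mu G Γ j A.card := by
  classical
  have hex : ∃ A' C' : Finset Ω, Disjoint A' C' ∧ A'.card = A.card ∧ A'.card + C'.card = j + 1 :=
    ⟨A, C, hAC, rfl, h⟩
  unfold mu
  rw [dif_pos hex]
  obtain ⟨h1, h2, h3⟩ := hex.choose_spec.choose_spec
  apply M_inv Γ htr A C _ _ hAC h1 h2.symm (by omega) h

theorem mu_rec (Γ : Finset Ω) {j : ℕ} (htr : Tr G Ω (j + 1))
    (h1 : j + Γ.card ≤ Fintype.card Ω) (h2 : j + 1 ≤ Fintype.card Ω) {i : ℕ} (hi : i ≤ j) :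
    mu G Γ j (i + 1) * (Fintype.card Ω - Γ.card - j + i) = mu G Γ j i * (Γ.card - i) := by
  classical
  obtain ⟨A, -, hA⟩ := Finset.exists_subset_card_eq (s := (Finset.univ : Finset Ω)) (n := i)
    (by rw [Finset.card_univ]; omega)
  obtain ⟨C, hCsub, hC⟩ := Finset.exists_subset_card_eq (s := Aᶜ) (n := j - i)
    (by rw [Finset.card_compl, hA]; omega)
  have hAC : Disjoint A C := by
    rw [Finset.disjoint_left]
    intro z hz hz'
    exact (Finset.mem_compl.1 (hCsub hz')) hz
  have hcard : ((A ∪ C)ᶜ).card = Fintype.card Ω - j := by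
    rw [Finset.card_compl, Finset.card_union_of_disjoint hAC, hA, hC]
    congr 1
    omega
  have e1 : ∑ y ∈ (A ∪ C)ᶜ, M G Γ (insert y A) C = (Fintype.card Ω - j) * mu G Γ j (i + 1) := by
    rw [← hcard, ← smul_eq_mul, ← Finset.sum_const]
    apply Finset.sum_congr rfl
    intro y hy
    rw [Finset.mem_compl, Finset.mem_union, not_or] at hy
    have hc : (insert y A).card = i + 1 := by rw [Finset.card_insert_of_notMem hy.1, hA]
    rw [M_eq_mu Γ htr (insert y A) C (Finset.disjoint_insert_left.2 ⟨hy.2, hAC⟩)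
      (by rw [hc, hC]; omega), hc]
  have e2 : ∑ y ∈ (A ∪ C)ᶜ, M G Γ A (insert y C) = (Fintype.card Ω - j) * mu G Γ j i := by
    rw [← hcard, ← smul_eq_mul, ← Finset.sum_const]
    apply Finset.sum_congr rfl
    intro y hy
    rw [Finset.mem_compl, Finset.mem_union, not_or] at hy
    have hc : (insert y C).card = j - i + 1 := by rw [Finset.card_insert_of_notMem hy.2, hC]
    rw [M_eq_mu Γ htr A (insert y C) (Finset.disjoint_insert_right.2 ⟨hy.1, hAC⟩)
      (by rw [hc, hA]; omega), hA]
  have e3 := sumA (G := G) Γ A C hAC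
  have e4 := sumC (G := G) Γ A C hAC
  rw [e1, hA] at e3
  rw [e2, hC] at e4
  have hpos : 0 < Fintype.card Ω - j := by omega
  have hai : Fintype.card Ω - Γ.card - (j - i) = Fintype.card Ω - Γ.card - j + i := by omega
  rw [hai] at e4
  apply Nat.eq_of_mul_eq_mul_left hpos
  calc (Fintype.card Ω - j) * (mu G Γ j (i + 1) * (Fintype.card Ω - Γ.card - j + i))
      = ((Fintype.card Ω - j) * mu G Γ j (i + 1)) * (Fintype.card Ω - Γ.card - j + i) := by ring
    _ = (M G Γ A C * (Γ.card - i)) * (Fintype.card Ω - Γ.card - j + i) := by rw [e3]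
    _ = (M G Γ A C * (Fintype.card Ω - Γ.card - j + i)) * (Γ.card - i) := by ring
    _ = ((Fintype.card Ω - j) * mu G Γ j i) * (Γ.card - i) := by rw [e4]
    _ = (Fintype.card Ω - j) * (mu G Γ j i * (Γ.card - i)) := by ring

/-- `V k = μ(k) (m - k)` -/
noncomputable def V (G : Type*) {Ω : Type*} [Group G] [Fintype G] [MulAction G Ω] [DecidableEq Ω]
    (Γ : Finset Ω) (j k : ℕ) : ℕ := mu G Γ j k * (Γ.card - k)

theorem D_mul_mu (Γ : Finset Ω) {j : ℕ} (htr : Tr G Ω (j + 1))
    (h1 : j + Γ.card ≤ Fintype.card Ω) (h2 : j + 1 ≤ Fintype.card Ω) {k : ℕ} (hk : k ≤ j)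
    (hkm : k + 1 ≤ Γ.card) :
    (Fintype.card Ω - Γ.card - j + Γ.card - 1) * mu G Γ j (k + 1) = V G Γ j k + V G Γ j (k + 1) := by
  unfold V
  rw [← mu_rec Γ htr h1 h2 hk, ← mul_add, mul_comm]
  congr 1
  omega

theorem chain (Γ : Finset Ω) {j : ℕ} (htr : Tr G Ω (j + 1))
    (h1 : j + Γ.card ≤ Fintype.card Ω) (h2 : j + 1 ≤ Fintype.card Ω) (hjm : j + 2 ≤ Γ.card)
    (W : Finset Ω) (hW : W.card = j + 2) (d : Ω) (hd : d ∈ W)
    (hZ : M G Γ {d} (W \ {d}) = 0) :
    ∀ k, k ≤ j + 1 → ∀ S : Finset Ω, d ∈ S → S ⊆ W → S.card = k + 1 →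
      (Even k → (Fintype.card Ω - Γ.card - j + Γ.card - 1) * M G Γ S (W \ S) + V G Γ j 0
          = V G Γ j k) ∧
      (Odd k → (Fintype.card Ω - Γ.card - j + Γ.card - 1) * M G Γ S (W \ S)
          = V G Γ j k + V G Γ j 0) := by
  classical
  intro k
  induction k with
  | zero =>
    intro _ S hdS hSW hS
    obtain ⟨x, rfl⟩ := Finset.card_eq_one.1 hS
    rw [Finset.mem_singleton] at hdS
    subst hdS
    refine ⟨fun _ => ?_, fun h => absurd h (by decide)⟩
    rw [hZ, mul_zero, zero_add]
  | succ k ih =>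
    intro hk S hdS hSW hS
    obtain ⟨u, huS, hud⟩ := Finset.exists_mem_ne (by omega : 1 < S.card) d
    have hdS' : d ∈ S.erase u := Finset.mem_erase.2 ⟨hud.symm, hdS⟩
    have hS'W : S.erase u ⊆ W := (Finset.erase_subset _ _).trans hSW
    have hS' : (S.erase u).card = k + 1 := by rw [Finset.card_erase_of_mem huS, hS]; rfl
    obtain ⟨ihe, iho⟩ := ih (by omega) (S.erase u) hdS' hS'W hS'
    have hsplit := M_split (G := G) Γ (S.erase u) (W \ S) u
    rw [Finset.insert_erase huS] at hsplit
    have hins : insert u (W \ S) = W \ S.erase u := by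
      ext z
      simp only [Finset.mem_insert, Finset.mem_sdiff, Finset.mem_erase, not_and]
      constructor
      · rintro (rfl | ⟨hz1, hz2⟩)
        · exact ⟨hSW huS, fun h => absurd rfl h⟩
        · exact ⟨hz1, fun _ => hz2⟩
      · rintro ⟨hz1, hz2⟩
        by_cases hzu : z = u
        · exact Or.inl hzu
        · exact Or.inr ⟨hz1, hz2 hzu⟩
    rw [hins] at hsplit
    have hdisj : Disjoint (S.erase u) (W \ S) := by
      rw [Finset.disjoint_left]
      intro z hz hz'
      exact (Finset.mem_sdiff.1 hz').2 (Finset.mem_of_mem_erase hz)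
    have hWS : (W \ S).card = j - k := by
      rw [Finset.card_sdiff_of_subset hSW, hW, hS]; omega
    have hmu := M_eq_mu Γ htr (S.erase u) (W \ S) hdisj (by rw [hS', hWS]; omega)
    rw [hS'] at hmu
    have hD := D_mul_mu Γ htr h1 h2 (by omega : k ≤ j) (by omega : k + 1 ≤ Γ.card)
    rw [← hmu, hsplit, mul_add] at hD
    constructor
    · intro hev
      have hodd : Odd k := by
        rcases Nat.even_or_odd k with h | h
        · exact absurd hev (by rw [Nat.even_add_one]; exact not_not.2 h)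
        · exact h
      have := iho hodd
      omega
    · intro hodd
      have hev : Even k := by
        rcases Nat.even_or_odd k with h | h
        · exact h
        · exact absurd hodd (by rw [Nat.odd_add_one]; exact not_not.2 h)
      have := ihe hev
      omega

theorem mu_prod (Γ : Finset Ω) {j : ℕ} (htr : Tr G Ω (j + 1))
    (h1 : j + Γ.card ≤ Fintype.card Ω) (h2 : j + 1 ≤ Fintype.card Ω) :
    ∀ k, k ≤ j + 1 → mu G Γ j k * (Fintype.card Ω - Γ.card - j).ascFactorial k
      = mu G Γ j 0 * Γ.card.descFactorial k := by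
  intro k
  induction k with
  | zero => intro _; simp
  | succ k ih =>
    intro hk
    rw [Nat.ascFactorial_succ, Nat.descFactorial_succ]
    calc mu G Γ j (k + 1) * ((Fintype.card Ω - Γ.card - j + k)
          * (Fintype.card Ω - Γ.card - j).ascFactorial k)
        = (mu G Γ j (k + 1) * (Fintype.card Ω - Γ.card - j + k))
          * (Fintype.card Ω - Γ.card - j).ascFactorial k := by ring
      _ = (mu G Γ j k * (Γ.card - k)) * (Fintype.card Ω - Γ.card - j).ascFactorial k := by
          rw [mu_rec Γ htr h1 h2 (by omega : k ≤ j)]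
      _ = (Γ.card - k) * (mu G Γ j k * (Fintype.card Ω - Γ.card - j).ascFactorial k) := by ring
      _ = (Γ.card - k) * (mu G Γ j 0 * Γ.card.descFactorial k) := by rw [ih (by omega)]
      _ = mu G Γ j 0 * ((Γ.card - k) * Γ.card.descFactorial k) := by ring

theorem desc_lt {x y : ℕ} (hxy : x < y) : ∀ k, 1 ≤ k → k ≤ y →
    x.descFactorial k < y.descFactorial k := by
  intro k
  induction k with
  | zero => intro h; omega
  | succ k ih =>
    intro _ hky
    rcases Nat.eq_zero_or_pos k with rfl | hkpos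
    · simpa using hxy
    · rw [Nat.descFactorial_succ, Nat.descFactorial_succ]
      have h1 := ih hkpos (by omega)
      have h2 : x - k ≤ y - k := by omega
      have h3 : 0 < y - k := by omega
      calc (x - k) * x.descFactorial k ≤ (y - k) * x.descFactorial k := Nat.mul_le_mul_right _ h2
        _ < (y - k) * y.descFactorial k := Nat.mul_lt_mul_of_pos_left h1 h3

theorem V_lt (Γ : Finset Ω) {j : ℕ} (htr : Tr G Ω (j + 1))
    (h1 : j + Γ.card ≤ Fintype.card Ω) (h2 : j + 1 ≤ Fintype.card Ω) (hm : 1 ≤ Γ.card)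
    {k : ℕ} (hk1 : 1 ≤ k) (hk : k ≤ j + 1)
    (hlt : Γ.card < Fintype.card Ω - Γ.card - j + k) (hV0 : 0 < V G Γ j 0)
    (ha1 : 1 ≤ Fintype.card Ω - Γ.card - j) :
    V G Γ j k < V G Γ j 0 := by
  have ha : 1 ≤ Fintype.card Ω - Γ.card - j + k := by omega
  have e1 : V G Γ j k * (Fintype.card Ω - Γ.card - j).ascFactorial k
      = mu G Γ j 0 * Γ.card.descFactorial (k + 1) := by
    unfold V
    rw [Nat.descFactorial_succ]
    calc mu G Γ j k * (Γ.card - k) * (Fintype.card Ω - Γ.card - j).ascFactorial k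
        = (Γ.card - k) * (mu G Γ j k * (Fintype.card Ω - Γ.card - j).ascFactorial k) := by ring
      _ = (Γ.card - k) * (mu G Γ j 0 * Γ.card.descFactorial k) := by
          rw [mu_prod Γ htr h1 h2 k hk]
      _ = mu G Γ j 0 * ((Γ.card - k) * Γ.card.descFactorial k) := by ring
  have e2 : V G Γ j 0 * (Γ.card - 1).descFactorial k
      = mu G Γ j 0 * Γ.card.descFactorial (k + 1) := by
    unfold V
    have : Γ.card = (Γ.card - 1) + 1 := by omega
    conv_rhs => rw [this, Nat.succ_descFactorial_succ]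
    rw [Nat.sub_zero, ← this]
    ring
  have e3 : (Γ.card - 1).descFactorial k < (Fintype.card Ω - Γ.card - j).ascFactorial k := by
    rw [← Nat.add_descFactorial_eq_ascFactorial']
    apply desc_lt (by omega) k hk1 (by omega)
  by_contra hcon
  rw [not_lt] at hcon
  have : V G Γ j 0 * (Fintype.card Ω - Γ.card - j).ascFactorial k
      ≤ V G Γ j k * (Fintype.card Ω - Γ.card - j).ascFactorial k := Nat.mul_le_mul_right _ hcon
  rw [e1, ← e2] at this
  have h4 := Nat.mul_lt_mul_of_pos_left e3 hV0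
  omega

/-- **Counting contradiction.** In a `(j+1)`-transitive group with a Jordan-type set `Γ` of size
`m`, `2m < n`, `1 ≤ j ≤ m - 2`, there cannot be a `j`-set `T` and two points `d ≠ e` outside `T`
such that every translate of `Γ` avoiding `T` and containing `d` contains `e`. -/
theorem caseB (Γ : Finset Ω) {j : ℕ} (hj1 : 1 ≤ j) (hjm : j + 2 ≤ Γ.card)
    (hn : 2 * Γ.card < Fintype.card Ω) (htr : Tr G Ω (j + 1)) (T : Finset Ω) (hT : T.card = j)
    (d e : Ω) (hd : d ∉ T) (he : e ∉ T) (hde : d ≠ e)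
    (hstar : ∀ g : G, Disjoint T (g • Γ) → d ∈ g • Γ → e ∈ g • Γ) : False := by
  classical
  have h1 : j + Γ.card ≤ Fintype.card Ω := by omega
  have h2 : j + 1 ≤ Fintype.card Ω := by omega
  obtain ⟨W, hWdef⟩ : ∃ W : Finset Ω, W = insert d (insert e T) := ⟨_, rfl⟩
  have hW : W.card = j + 2 := by
    rw [hWdef, Finset.card_insert_of_notMem, Finset.card_insert_of_notMem he, hT]
    simp only [Finset.mem_insert, not_or]
    exact ⟨hde, hd⟩
  have hdW : d ∈ W := by rw [hWdef]; exact Finset.mem_insert_self _ _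
  have hZ : M G Γ {d} (W \ {d}) = 0 := by
    unfold M
    rw [Finset.card_eq_zero, Finset.filter_eq_empty_iff]
    rintro g - ⟨hg1, hg2⟩
    have hdg : d ∈ g • Γ := hg1 (Finset.mem_singleton_self d)
    have hTg : Disjoint T (g • Γ) := by
      rw [Finset.disjoint_left]
      intro z hz hz'
      have : z ∈ W \ {d} := by
        rw [Finset.mem_sdiff, Finset.mem_singleton, hWdef]
        refine ⟨Finset.mem_insert_of_mem (Finset.mem_insert_of_mem hz), ?_⟩
        rintro rfl
        exact hd hz
      exact Finset.disjoint_left.1 hg2 this hz'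
    have heg := hstar g hTg hdg
    have : e ∈ W \ {d} := by
      rw [Finset.mem_sdiff, Finset.mem_singleton, hWdef]
      exact ⟨Finset.mem_insert_of_mem (Finset.mem_insert_self _ _), hde.symm⟩
    exact Finset.disjoint_left.1 hg2 this heg
  -- positivity of V 0
  have hV0 : 0 < V G Γ j 0 := by
    unfold V
    apply Nat.mul_pos _ (by omega)
    obtain ⟨C, hCsub, hC⟩ := Finset.exists_subset_card_eq (s := Γᶜ) (n := j + 1)
      (by rw [Finset.card_compl]; omega)
    have hdisj : Disjoint (∅ : Finset Ω) C := Finset.disjoint_empty_left _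
    have := M_eq_mu (G := G) Γ htr ∅ C hdisj (by rw [Finset.card_empty, hC]; omega)
    rw [Finset.card_empty] at this
    rw [← this]
    unfold M
    rw [Finset.card_pos]
    refine ⟨1, ?_⟩
    rw [Finset.mem_filter]
    refine ⟨Finset.mem_univ _, Finset.empty_subset _, ?_⟩
    rw [one_smul, Finset.disjoint_left]
    intro z hz hz'
    exact (Finset.mem_compl.1 (hCsub hz)) hz'
  -- choose the even index k
  obtain ⟨k, hkev, hk1, hk, hlt⟩ : ∃ k, Even k ∧ 1 ≤ k ∧ k ≤ j + 1 ∧
      Γ.card < Fintype.card Ω - Γ.card - j + k := by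
    rcases Nat.even_or_odd j with hj | hj
    · exact ⟨j, hj, hj1, by omega, by omega⟩
    · refine ⟨j + 1, ?_, by omega, le_refl _, by omega⟩
      rw [Nat.even_add_one]
      exact Nat.not_even_iff_odd.2 hj
  obtain ⟨S, hS1, hS2, hS3⟩ := Finset.exists_subsuperset_card_eq
    (Finset.singleton_subset_iff.2 hdW) (n := k + 1) (by rw [Finset.card_singleton]; omega)
    (by rw [hW]; omega)
  have hch := (chain Γ htr h1 h2 hjm W hW d hdW hZ k hk S
    (Finset.singleton_subset_iff.1 hS1) hS2 hS3).1 hkev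
  have hlt' := V_lt Γ htr h1 h2 (by omega) hk1 hk hlt hV0 (by omega)
  omega

end Cfsg.Agent.Helper61.MargCount
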