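import Mathlib
import Cfsg.Agent.Lib.Helper61.MargBasic
import Cfsg.Agent.Lib.Helper61.MargCount

/-!
# Marggraf's theorem, part 3: the key lemma

If `G` is `(j+1)`-transitive, `Γ` is a Jordan set of size `m` with `2m < n`, `1 ≤ j ≤ m - 2`, and `T`
is a `j`-set disjoint from `Γ`, then the pointwise stabiliser of `T` has no nontrivial block in the
complement of `T`.
-/

set_option autoImplicit false
set_option linter.unusedSectionVars false
set_option linter.unusedVariables false

open scoped Pointwise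

namespace Cfsg.Agent.Helper61.MargKey

open Cfsg.Agent.Helper61.MargBasic Cfsg.Agent.Helper61.MargCount

variable {G Ω : Type*} [Group G] [MulAction G Ω] [Fintype Ω] [DecidableEq Ω]

/-- `B` is a block (disjoint from `T`) for the pointwise stabiliser of `T`. -/
def IsBlk (G : Type*) {Ω : Type*} [Group G] [MulAction G Ω] [DecidableEq Ω] (T B : Finset Ω) : Prop :=
  Disjoint B T ∧ ∀ g : G, (∀ z ∈ T, g • z = z) → g • B = B ∨ Disjoint (g • B) B

theorem fix_inv {T : Finset Ω} {k : G} (hk : ∀ z ∈ T, k • z = z) : ∀ z ∈ T, k⁻¹ • z = z := by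
  intro z hz
  rw [inv_smul_eq_iff, hk z hz]

theorem fix_mul {T : Finset Ω} {k k' : G} (hk : ∀ z ∈ T, k • z = z) (hk' : ∀ z ∈ T, k' • z = z) :
    ∀ z ∈ T, (k * k') • z = z := by
  intro z hz
  rw [mul_smul, hk' z hz, hk z hz]

theorem disjoint_smul_of_fix {T S : Finset Ω} {k : G} (hk : ∀ z ∈ T, k • z = z)
    (h : Disjoint S T) : Disjoint (k • S) T := by
  rw [Finset.disjoint_left] at h ⊢
  intro z hz hzT
  rw [← Finset.inv_smul_mem_iff, fix_inv hk z hzT] at hz
  exact h hz hzT

theorem IsBlk.smul {T B : Finset Ω} (h : IsBlk G T B) {k : G} (hk : ∀ z ∈ T, k • z = z) :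
    IsBlk G T (k • B) := by
  refine ⟨disjoint_smul_of_fix hk h.1, fun g hg => ?_⟩
  have hg' : ∀ z ∈ T, (k⁻¹ * g * k) • z = z := fix_mul (fix_mul (fix_inv hk) hg) hk
  rcases h.2 _ hg' with h1 | h1
  · left
    calc g • k • B = k • ((k⁻¹ * g * k) • B) := by
          rw [smul_smul, smul_smul]; congr 1; group
      _ = k • B := by rw [h1]
  · right
    have h2 : Disjoint (k • ((k⁻¹ * g * k) • B)) (k • B) := (disjoint_smul_iff k _ _).2 h1
    have h3 : k • ((k⁻¹ * g * k) • B) = g • k • B := by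
      rw [smul_smul, smul_smul]; congr 1; group
    rw [h3] at h2
    exact h2

/-- dichotomy: a Jordan set avoiding `T` meeting a block either contains it or lies inside it. -/
theorem dichotomy {T B S : Finset Ω} (hB : IsBlk G T B) (hS : JS G S) (hST : Disjoint S T)
    {x : Ω} (hxB : x ∈ B) (hxS : x ∈ S) : B ⊆ S ∨ S ⊆ B := by
  by_cases h : B ⊆ S
  · exact Or.inl h
  · right
    obtain ⟨z, hzB, hzS⟩ := Finset.not_subset.1 h
    intro y hy
    obtain ⟨g, hg1, hg2⟩ := hS x hxS y hy
    have hgT : ∀ w ∈ T, g • w = w := fun w hw =>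
      hg1 w (fun hwS => Finset.disjoint_left.1 hST hwS hw)
    have hgz : g • z = z := hg1 z hzS
    rcases hB.2 g hgT with h1 | h1
    · rw [← h1, ← hg2]
      exact Finset.smul_mem_smul_finset hxB
    · exfalso
      have : z ∈ g • B := by rw [← hgz]; exact Finset.smul_mem_smul_finset hzB
      exact Finset.disjoint_left.1 h1 this hzB


/-- Step 2: no Jordan set avoiding `T` lies inside a translate of the block. -/
theorem no_small {j0 : ℕ} (htr : Tr G Ω (j0 + 2)) (T : Finset Ω) (hT : T.card = j0 + 1)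
    (B : Finset Ω) (hB : IsBlk G T B) (hB2 : 2 ≤ B.card)
    (hBlt : B.card + (j0 + 1) < Fintype.card Ω) :
    ∀ (k : G) (S : Finset Ω), (∀ z ∈ T, k • z = z) → JS G S → 2 ≤ S.card → Disjoint S T →
      S ⊆ k • B → False := by
  classical
  intro k0 S0 hk0 hJS0 hS02 hS0T hS0B
  obtain ⟨S, hSP, hmax⟩ := Finset.exists_max_image
    (Finset.univ.filter (fun S : Finset Ω => JS G S ∧ 2 ≤ S.card ∧ Disjoint S T ∧
      ∃ k : G, (∀ z ∈ T, k • z = z) ∧ S ⊆ k • B)) Finset.card
    ⟨S0, Finset.mem_filter.2 ⟨Finset.mem_univ _, hJS0, hS02, hS0T, k0, hk0, hS0B⟩⟩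
  obtain ⟨-, hJS, hS2, hST, k, hk, hSB⟩ := Finset.mem_filter.1 hSP
  have hmax' : ∀ S' : Finset Ω, JS G S' → 2 ≤ S'.card → Disjoint S' T →
      (∃ k : G, (∀ z ∈ T, k • z = z) ∧ S' ⊆ k • B) → S'.card ≤ S.card :=
    fun S' h1 h2 h3 h4 => hmax S' (Finset.mem_filter.2 ⟨Finset.mem_univ _, h1, h2, h3, h4⟩)
  obtain ⟨B', hB'def⟩ : ∃ B' : Finset Ω, B' = k • B := ⟨_, rfl⟩
  have hB' : IsBlk G T B' := by rw [hB'def]; exact hB.smul hk
  have hSB' : S ⊆ B' := by rw [hB'def]; exact hSB
  have hB'card : B'.card = B.card := by rw [hB'def, Finset.card_smul_finset]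
  -- (U)
  have hU : ∀ g : G, Disjoint (g • S) T → ∀ w, w ∈ g • S → w ∈ S → g • S = S := by
    intro g hgT w hw1 hw2
    have hJg : JS G (g • S) := hJS.smul g
    rcases dichotomy hB' hJg hgT (hSB' hw2) hw1 with h1 | h1
    · have hc : B'.card ≤ S.card := by
        have := Finset.card_le_card h1
        rwa [Finset.card_smul_finset] at this
      have e1 : S = B' := Finset.eq_of_subset_of_card_le hSB' hc
      have e2 : B' = g • S := Finset.eq_of_subset_of_card_le h1
        (by rw [Finset.card_smul_finset]; exact (Finset.card_le_card hSB'))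
      rw [← e2, ← e1]
    · have hJu : JS G (S ∪ g • S) := hJS.union hJg hw2 hw1
      have hle := hmax' (S ∪ g • S) hJu
        ((hS2).trans (Finset.card_le_card Finset.subset_union_left))
        (Finset.disjoint_union_left.2 ⟨hST, hgT⟩)
        ⟨k, hk, by rw [← hB'def]; exact Finset.union_subset hSB' h1⟩
      have e1 : S = S ∪ g • S := Finset.eq_of_subset_of_card_le Finset.subset_union_left hle
      have hsub : g • S ⊆ S := by
        have h0 : g • S ⊆ S ∪ g • S := Finset.subset_union_right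
        rwa [← e1] at h0
      exact Finset.eq_of_subset_of_card_le hsub (by rw [Finset.card_smul_finset])
  -- the point t and T0
  obtain ⟨t, ht⟩ : ∃ t, t ∈ T := Finset.card_pos.1 (by omega)
  obtain ⟨T0, hT0def⟩ : ∃ T0 : Finset Ω, T0 = T.erase t := ⟨_, rfl⟩
  have hT0 : T0.card = j0 := by rw [hT0def, Finset.card_erase_of_mem ht, hT]; rfl
  have hT0T : T0 ⊆ T := by rw [hT0def]; exact Finset.erase_subset _ _
  have htT0 : t ∉ T0 := by rw [hT0def]; exact Finset.notMem_erase _ _
  have hTins : ∀ z, z ∈ T → z = t ∨ z ∈ T0 := by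
    intro z hz
    by_cases hzt : z = t
    · exact Or.inl hzt
    · right; rw [hT0def]; exact Finset.mem_erase.2 ⟨hzt, hz⟩
  obtain ⟨α, hα, y, hy, hαy⟩ := Finset.one_lt_card.1 (by omega : 1 < S.card)
  have hαT : α ∉ T := fun h => Finset.disjoint_left.1 hST hα h
  have hyT : y ∉ T := fun h => Finset.disjoint_left.1 hST hy h
  have htS : t ∉ S := fun h => Finset.disjoint_left.1 hST h ht
  have hαT0 : α ∉ T0 := fun h => hαT (hT0T h)
  have hyT0 : y ∉ T0 := fun h => hyT (hT0T h)
  have hαt : α ≠ t := fun h => hαT (h ▸ ht)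
  have hST0 : Disjoint S T0 := Finset.disjoint_of_subset_right hT0T hST
  -- (U')
  have hU' : ∀ x z : Ω, x ∉ T0 → z ∉ T0 → x ≠ z → ∀ g1 g2 : G, (∀ w ∈ T0, g1 • w = w) →
      (∀ w ∈ T0, g2 • w = w) → x ∈ g1 • S → z ∉ g1 • S → x ∈ g2 • S → z ∉ g2 • S →
      g1 • S = g2 • S := by
    intro x z hx hz hxz g1 g2 hg1 hg2 hx1 hz1 hx2 hz2
    obtain ⟨k', hk'1, hk'2, hk'3⟩ := fix2 htr T0 hT0 hx hz hxz hαT0 htT0 hαt
    have aux : ∀ g : G, (∀ w ∈ T0, g • w = w) → x ∈ g • S → z ∉ g • S → (k' * g) • S = S := by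
      intro g hg hxg hzg
      have hd0 : Disjoint ((k' * g) • S) T0 := disjoint_smul_of_fix (fix_mul hk'1 hg) hST0
      have htn : t ∉ (k' * g) • S := by
        rw [← hk'3, mul_smul, Finset.smul_mem_smul_finset_iff]
        exact hzg
      have hdT : Disjoint ((k' * g) • S) T := by
        rw [Finset.disjoint_left]
        intro w hw hwT
        rcases hTins w hwT with rfl | h
        · exact htn hw
        · exact Finset.disjoint_left.1 hd0 hw h
      apply hU (k' * g) hdT α _ hα
      rw [← hk'2, mul_smul, Finset.smul_mem_smul_finset_iff]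
      exact hxg
    have e1 := aux g1 hg1 hx1 hz1
    have e2 := aux g2 hg2 hx2 hz2
    rw [mul_smul] at e1 e2
    exact smul_left_cancel k' (e1.trans e2.symm)
  -- the translate Σ''
  obtain ⟨k'', hk''1, hk''2, hk''3⟩ := fix2 htr T0 hT0 hαT0 htT0 hαt hαT0 hyT0 hαy
  have hα'' : α ∈ k'' • S := by
    rw [← hk''2, Finset.smul_mem_smul_finset_iff]; exact hα
  have hy'' : y ∉ k'' • S := by
    rw [← hk''3, Finset.smul_mem_smul_finset_iff]; exact htS
  have hcover : ∀ z, z ∉ T0 → z ∉ S → z ∈ k'' • S := by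
    intro z hzT0 hzS
    by_contra hz''
    have hαz : α ≠ z := fun h => hzS (h ▸ hα)
    have := hU' α z hαT0 hzT0 hαz 1 k'' (fun w _ => one_smul _ _) hk''1
      (by rw [one_smul]; exact hα) (by rw [one_smul]; exact hzS) hα'' hz''
    rw [one_smul] at this
    exact hy'' (this ▸ hy)
  have hsub : insert α (T0 ∪ S)ᶜ ⊆ k'' • S := by
    intro z hz
    rcases Finset.mem_insert.1 hz with rfl | hz
    · exact hα''
    · rw [Finset.mem_compl, Finset.mem_union, not_or] at hz
      exact hcover z hz.1 hz.2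
  have hcard1 := Finset.card_le_card hsub
  rw [Finset.card_smul_finset, Finset.card_insert_of_notMem
    (by rw [Finset.mem_compl, not_not]; exact Finset.mem_union_right _ hα), Finset.card_compl] at hcard1
  have hcard2 : (T0 ∪ S).card ≤ j0 + S.card := by
    have := Finset.card_union_le T0 S
    rwa [hT0] at this
  -- 2 |B'| ≤ n - (j0+1)
  have hBB : 2 * B'.card + (j0 + 1) ≤ Fintype.card Ω := by
    obtain ⟨x, hx⟩ : ∃ x, x ∈ B' := Finset.card_pos.1 (by omega)
    have hxT : x ∉ T := fun h => Finset.disjoint_left.1 hB'.1 hx h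
    obtain ⟨z, hz⟩ : ∃ z, z ∉ T ∪ B' := by
      by_contra hcon
      push Not at hcon
      have : (T ∪ B').card = Fintype.card Ω := by
        rw [← Finset.card_univ]
        congr 1
        exact Finset.eq_univ_iff_forall.2 hcon
      have := Finset.card_union_le T B'
      omega
    rw [Finset.mem_union, not_or] at hz
    obtain ⟨g, hg1, hg2⟩ := fix1 (j := j0 + 1) htr T hT hxT hz.1
    have hne : g • B' ≠ B' := by
      intro h
      apply hz.2
      rw [← h, ← hg2]
      exact Finset.smul_mem_smul_finset hx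
    have hdis : Disjoint (g • B') B' := (hB'.2 g hg1).resolve_left hne
    have hd2 : Disjoint (g • B' ∪ B') T :=
      Finset.disjoint_union_left.2 ⟨disjoint_smul_of_fix hg1 hB'.1, hB'.1⟩
    have h1 : (g • B' ∪ B' ∪ T).card ≤ Fintype.card Ω := by
      rw [← Finset.card_univ]; exact Finset.card_le_card (Finset.subset_univ _)
    rw [Finset.card_union_of_disjoint hd2, Finset.card_union_of_disjoint hdis,
      Finset.card_smul_finset, hT] at h1
    omega
  have hSle : S.card ≤ B'.card := Finset.card_le_card hSB'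
  omega

/-- **Key lemma**: under `(j+1)`-transitivity, the pointwise stabiliser of a `j`-set `T ⊆ Γᶜ` has no
nontrivial block on the complement of `T`. -/
theorem key [Fintype G] (Γ : Finset Ω) (hJ : JS G Γ) {j : ℕ} (hj1 : 1 ≤ j) (hjm : j + 2 ≤ Γ.card)
    (hn : 2 * Γ.card < Fintype.card Ω) (htr : Tr G Ω (j + 1)) (T : Finset Ω) (hT : T.card = j)
    (hTΓ : Disjoint T Γ) (B : Finset Ω) (hB : IsBlk G T B) (hB2 : 2 ≤ B.card)
    (hBlt : B.card + j < Fintype.card Ω) : False := by
  classical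
  obtain ⟨j0, rfl⟩ : ∃ j0, j = j0 + 1 := ⟨j - 1, by omega⟩
  obtain ⟨d, hd, e, he, hde⟩ := Finset.one_lt_card.1 (by omega : 1 < B.card)
  have hdT : d ∉ T := fun h => Finset.disjoint_left.1 hB.1 hd h
  have heT : e ∉ T := fun h => Finset.disjoint_left.1 hB.1 he h
  apply caseB Γ hj1 hjm hn htr T hT d e hdT heT hde
  intro g hgT hdg
  have hJg : JS G (g • Γ) := hJ.smul g
  rcases dichotomy hB hJg hgT.symm hd hdg with h | h
  · exact h he
  · exfalso
    exact no_small htr T hT B hB hB2 hBlt 1 (g • Γ) (fun z _ => one_smul _ _) hJg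
      (by rw [Finset.card_smul_finset]; omega) hgT.symm (by rw [one_smul]; exact h)

end Cfsg.Agent.Helper61.MargKey
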