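import Mathlib
import Cfsg.Agent.Lib.Helper61.MargBasic
import Cfsg.Agent.Lib.Helper61.MargKey

/-!
# Marggraf's theorem, part 4: transport of Jordan's theorem (Mathlib) to pointwise stabilisers
-/

set_option autoImplicit false
set_option linter.unusedSectionVars false
set_option linter.unusedVariables false

open scoped Pointwise

namespace Cfsg.Agent.Helper61.MargJordan

open Cfsg.Agent.Helper61.MargBasic Cfsg.Agent.Helper61.MargKey MulAction SubMulAction

variable {G Ω : Type*} [Group G] [MulAction G Ω] [Fintype Ω] [DecidableEq Ω]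

theorem card_beta (T : Finset Ω) :
    Nat.card (ofFixingSubgroup G (T : Set Ω)) = Fintype.card Ω - T.card := by
  have h0 : Nat.card (ofFixingSubgroup G (T : Set Ω))
      = Set.ncard ((ofFixingSubgroup G (T : Set Ω)).carrier) := Nat.card_coe_set_eq _
  rw [h0, ofFixingSubgroup_carrier, ← Finset.coe_compl, Set.ncard_coe_finset, Finset.card_compl]

/-- Jordan's theorem applied to the pointwise stabiliser of `T` acting on the complement. -/
theorem jordan_fix (T Γ : Finset Ω) (hTΓ : Disjoint T Γ) (hΓ2 : 2 ≤ Γ.card)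
    (hlt : T.card + Γ.card < Fintype.card Ω) (hJ : JS G Γ)
    (htrans : ∀ p q, p ∉ T → q ∉ T → ∃ g : G, (∀ z ∈ T, g • z = z) ∧ g • p = q)
    (hnoblk : ∀ B : Finset Ω, IsBlk G T B → 2 ≤ B.card → B.card + T.card < Fintype.card Ω → False) :
    ∀ p q q' : Ω, p ∉ T → q ∉ T → q' ∉ T → q ≠ p → q' ≠ p →
      ∃ g : G, (∀ z ∈ T, g • z = z) ∧ g • p = p ∧ g • q = q' := by
  classical
  -- pretransitivity
  have hpre : IsPretransitive (fixingSubgroup G (T : Set Ω)) (ofFixingSubgroup G (T : Set Ω)) := by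
    refine ⟨fun x y => ?_⟩
    obtain ⟨g, hg1, hg2⟩ := htrans x.1 y.1 (fun h => x.2 (Finset.mem_coe.2 h))
      (fun h => y.2 (Finset.mem_coe.2 h))
    refine ⟨⟨g, (mem_fixingSubgroup_iff G).2 (fun z hz => hg1 z (Finset.mem_coe.1 hz))⟩, ?_⟩
    apply Subtype.ext
    exact hg2
  -- preprimitivity
  have hprim : IsPreprimitive (fixingSubgroup G (T : Set Ω)) (ofFixingSubgroup G (T : Set Ω)) := by
    refine { toIsPretransitive := hpre, isTrivialBlock_of_isBlock := ?_ }
    intro Bβ hBβ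
    by_contra htriv
    unfold IsTrivialBlock at htriv
    rw [not_or] at htriv
    obtain ⟨hns, hnu⟩ := htriv
    obtain ⟨B0, hB0def⟩ : ∃ B0 : Finset Ω, B0 = Finset.univ.filter
      (fun z => ∃ h : z ∈ ofFixingSubgroup G (T : Set Ω), (⟨z, h⟩ : ofFixingSubgroup G (T : Set Ω)) ∈ Bβ) :=
      ⟨_, rfl⟩
    have hmem : ∀ z, z ∈ B0 ↔ ∃ h : z ∈ ofFixingSubgroup G (T : Set Ω),
        (⟨z, h⟩ : ofFixingSubgroup G (T : Set Ω)) ∈ Bβ := by
      intro z; rw [hB0def]; simp
    have hmem' : ∀ x : ofFixingSubgroup G (T : Set Ω), x.1 ∈ B0 ↔ x ∈ Bβ := by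
      intro x
      rw [hmem]
      constructor
      · rintro ⟨h, hx⟩; exact hx
      · intro hx; exact ⟨x.2, hx⟩
    have hdisj : Disjoint B0 T := by
      rw [Finset.disjoint_left]
      intro z hz hzT
      obtain ⟨h, -⟩ := (hmem z).1 hz
      exact h (Finset.mem_coe.2 hzT)
    have hblk : IsBlk G T B0 := by
      refine ⟨hdisj, fun g hg => ?_⟩
      have hgK : g ∈ fixingSubgroup G (T : Set Ω) :=
        (mem_fixingSubgroup_iff G).2 (fun z hz => hg z (Finset.mem_coe.1 hz))
      have hcorr : ∀ z, z ∈ g • B0 ↔ ∃ h : z ∈ ofFixingSubgroup G (T : Set Ω),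
          (⟨z, h⟩ : ofFixingSubgroup G (T : Set Ω)) ∈ (⟨g, hgK⟩ : fixingSubgroup G (T : Set Ω)) • Bβ := by
        intro z
        rw [← Finset.inv_smul_mem_iff, hmem]
        constructor
        · rintro ⟨h, hx⟩
          have hz : z ∈ ofFixingSubgroup G (T : Set Ω) := by
            intro hzT
            apply h
            have : g⁻¹ • z = z := by
              rw [inv_smul_eq_iff]; exact (hg z (Finset.mem_coe.1 hzT)).symm
            rw [this]; exact hzT
          refine ⟨hz, ?_⟩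
          rw [Set.mem_smul_set_iff_inv_smul_mem]
          exact hx
        · rintro ⟨h, hx⟩
          rw [Set.mem_smul_set_iff_inv_smul_mem] at hx
          exact ⟨_, hx⟩
      rcases (isBlock_iff_smul_eq_or_disjoint.1 hBβ) ⟨g, hgK⟩ with h1 | h1
      · left
        ext z
        rw [hcorr, h1, hmem]
      · right
        rw [Finset.disjoint_left]
        intro z hz hz'
        obtain ⟨h, hx⟩ := (hcorr z).1 hz
        obtain ⟨h', hx'⟩ := (hmem z).1 hz'
        exact Set.disjoint_left.1 h1 hx hx'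
    have hB02 : 2 ≤ B0.card := by
      rw [Set.not_subsingleton_iff] at hns
      obtain ⟨b1, hb1, b2, hb2, hne⟩ := hns
      have : 1 < B0.card := Finset.one_lt_card.2
        ⟨b1.1, (hmem' b1).2 hb1, b2.1, (hmem' b2).2 hb2, fun h => hne (Subtype.ext h)⟩
      omega
    have hB0lt : B0.card + T.card < Fintype.card Ω := by
      obtain ⟨x, hx⟩ : ∃ x, x ∉ Bβ := by
        by_contra hcon
        push Not at hcon
        exact hnu (Set.eq_univ_of_forall hcon)
      have hx1 : x.1 ∉ B0 ∪ T := by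
        rw [Finset.mem_union, not_or]
        exact ⟨fun h => hx ((hmem' x).1 h), fun h => x.2 (Finset.mem_coe.2 h)⟩
      rw [← Finset.card_union_of_disjoint hdisj, ← Finset.card_univ]
      apply Finset.card_lt_card
      rw [Finset.ssubset_univ_iff]
      intro h
      exact hx1 (h ▸ Finset.mem_univ _)
    exact hnoblk B0 hblk hB02 hB0lt
  -- the Jordan complement inside β
  obtain ⟨s', hs'def⟩ : ∃ s' : Set (ofFixingSubgroup G (T : Set Ω)), s' = {x | x.1 ∉ Γ} := ⟨_, rfl⟩
  have hs'mem : ∀ w : ofFixingSubgroup G (T : Set Ω), w ∈ s' ↔ w.1 ∉ Γ := by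
    intro w; rw [hs'def]; rfl
  have hs'card : s'.ncard = (Fintype.card Ω - T.card - Γ.card - 1) + 1 := by
    rw [← Set.ncard_image_of_injective s' Subtype.val_injective]
    have : Subtype.val '' s' = (((T ∪ Γ)ᶜ : Finset Ω) : Set Ω) := by
      ext z
      rw [hs'def]
      simp only [Set.mem_image, Set.mem_ofPred_eq, Finset.coe_compl, Finset.coe_union,
        Set.mem_compl_iff, Set.mem_union, Finset.mem_coe, not_or]
      constructor
      · rintro ⟨x, hx, rfl⟩
        exact ⟨fun h => x.2 (Finset.mem_coe.2 h), hx⟩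
      · rintro ⟨h1, h2⟩
        exact ⟨⟨z, fun h => h1 (Finset.mem_coe.1 h)⟩, h2, rfl⟩
    rw [this, Set.ncard_coe_finset, Finset.card_compl, Finset.card_union_of_disjoint hTΓ]
    omega
  have hs'lt : (Fintype.card Ω - T.card - Γ.card - 1) + 2 <
      Nat.card (ofFixingSubgroup G (T : Set Ω)) := by
    rw [card_beta]; omega
  have hs'trans : IsPretransitive (fixingSubgroup (fixingSubgroup G (T : Set Ω)) s')
      (ofFixingSubgroup (fixingSubgroup G (T : Set Ω)) s') := by
    refine ⟨fun x y => ?_⟩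
    have hxΓ : x.1.1 ∈ Γ := by
      by_contra h
      exact x.2 ((hs'mem _).2 h)
    have hyΓ : y.1.1 ∈ Γ := by
      by_contra h
      exact y.2 ((hs'mem _).2 h)
    obtain ⟨g, hg1, hg2⟩ := hJ _ hxΓ _ hyΓ
    have hgK : g ∈ fixingSubgroup G (T : Set Ω) :=
      (mem_fixingSubgroup_iff G).2 (fun z hz => hg1 z
        (fun h => Finset.disjoint_left.1 hTΓ (Finset.mem_coe.1 hz) h))
    have hgK' : (⟨g, hgK⟩ : fixingSubgroup G (T : Set Ω)) ∈
        fixingSubgroup (fixingSubgroup G (T : Set Ω)) s' := by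
      rw [mem_fixingSubgroup_iff]
      intro w hw
      apply Subtype.ext
      exact hg1 w.1 ((hs'mem w).1 hw)
    refine ⟨⟨⟨g, hgK⟩, hgK'⟩, ?_⟩
    apply Subtype.ext
    apply Subtype.ext
    exact hg2
  have h2 := IsPreprimitive.is_two_pretransitive hprim hs'card hs'lt hs'trans
  rw [is_two_pretransitive_iff] at h2
  intro p q q' hp hq hq' hqp hq'p
  have hpβ : p ∈ ofFixingSubgroup G (T : Set Ω) := fun h => hp (Finset.mem_coe.1 h)
  have hqβ : q ∈ ofFixingSubgroup G (T : Set Ω) := fun h => hq (Finset.mem_coe.1 h)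
  have hq'β : q' ∈ ofFixingSubgroup G (T : Set Ω) := fun h => hq' (Finset.mem_coe.1 h)
  obtain ⟨k, hk1, hk2⟩ := h2 (a := ⟨p, hpβ⟩) (b := ⟨q, hqβ⟩) (c := ⟨p, hpβ⟩) (d := ⟨q', hq'β⟩)
    (fun h => hqp (Subtype.ext_iff.1 h).symm) (fun h => hq'p (Subtype.ext_iff.1 h).symm)
  refine ⟨k.1, fun z hz => (mem_fixingSubgroup_iff G).1 k.2 z (Finset.mem_coe.2 hz), ?_, ?_⟩
  · exact Subtype.ext_iff.1 hk1
  · exact Subtype.ext_iff.1 hk2

end Cfsg.Agent.Helper61.MargJordan
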