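import Mathlib
import Cfsg.Agent.Lib.Helper61.MargBasic
import Cfsg.Agent.Lib.Helper61.MargKey
import Cfsg.Agent.Lib.Helper61.MargJordan

/-!
# Marggraf's theorem, part 5: the primitive case

A primitive group with a Jordan set `Γ`, `1 < |Γ| < n/2`, induces every even permutation.
-/

set_option autoImplicit false
set_option linter.unusedSectionVars false
set_option linter.unusedVariables false

open scoped Pointwise

namespace Cfsg.Agent.Helper61.MargPrim

open Cfsg.Agent.Helper61.MargBasic Cfsg.Agent.Helper61.MargKey Cfsg.Agent.Helper61.MargJordan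
open MulAction SubMulAction

variable {G Ω : Type*} [Group G] [MulAction G Ω] [Fintype Ω] [DecidableEq Ω]

/-- two Jordan groups whose supports meet in exactly one point produce a 3-cycle. -/
theorem three_cycle_of_meet (Γ Γ' : Finset Ω) (a : Ω) (hmeet : ∀ x, x ∈ Γ → x ∈ Γ' → x = a)
    (h h' : G) (hfix : ∀ z, z ∉ Γ → h • z = z) (hfix' : ∀ z, z ∉ Γ' → h' • z = z)
    (p q : Ω) (hp : p ∈ Γ) (hpa : p ≠ a) (hq : q ∈ Γ') (hqa : q ≠ a)
    (hhp : h • p = a) (hhq : h' • q = a) :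
    (MulAction.toPerm (h⁻¹ * h'⁻¹ * h * h') : Equiv.Perm Ω).IsThreeCycle := by
  classical
  have hin : ∀ x ∈ Γ, h • x ∈ Γ := by
    intro x hx
    by_contra hx'
    have e : h • x = x := MulAction.injective h (hfix _ hx')
    rw [e] at hx'
    exact hx' hx
  have hin' : ∀ x ∈ Γ', h' • x ∈ Γ' := by
    intro x hx
    by_contra hx'
    have e : h' • x = x := MulAction.injective h' (hfix' _ hx')
    rw [e] at hx'
    exact hx' hx
  have hifix : ∀ z, z ∉ Γ → h⁻¹ • z = z := by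
    intro z hz; rw [inv_smul_eq_iff, hfix z hz]
  have hifix' : ∀ z, z ∉ Γ' → h'⁻¹ • z = z := by
    intro z hz; rw [inv_smul_eq_iff, hfix' z hz]
  have hnot' : ∀ x, x ∈ Γ → x ≠ a → x ∉ Γ' := fun x hx hxa hx' => hxa (hmeet x hx hx')
  have hnot : ∀ x, x ∈ Γ' → x ≠ a → x ∉ Γ := fun x hx' hxa hx => hxa (hmeet x hx hx')
  have hpq : p ≠ q := fun h0 => hpa (hmeet p hp (h0 ▸ hq))
  have ha : a ∈ Γ := hhp ▸ hin p hp
  have ha' : a ∈ Γ' := hhq ▸ hin' q hq
  have hc : ∀ x : Ω, (h⁻¹ * h'⁻¹ * h * h') • x = h⁻¹ • h'⁻¹ • h • h' • x := by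
    intro x; simp only [mul_smul]
  have cp : (h⁻¹ * h'⁻¹ * h * h') • p = q := by
    rw [hc, hfix' p (hnot' p hp hpa), hhp, ← hhq, inv_smul_smul, hifix q (hnot q hq hqa)]
  have cq : (h⁻¹ * h'⁻¹ * h * h') • q = a := by
    have h1 : h • a ∈ Γ := hin a ha
    have h2 : h • a ≠ a := by
      intro h0
      rw [← hhp] at h0
      have := MulAction.injective h h0
      rw [hhp] at this
      exact hpa this.symm
    rw [hc, hhq, hifix' _ (hnot' _ h1 h2), inv_smul_smul]
  have ca : (h⁻¹ * h'⁻¹ * h * h') • a = p := by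
    have h1 : h' • a ∈ Γ' := hin' a ha'
    have h2 : h' • a ≠ a := by
      intro h0
      rw [← hhq] at h0
      have := MulAction.injective h' h0
      rw [hhq] at this
      exact hqa this.symm
    rw [hc, hfix _ (hnot _ h1 h2), inv_smul_smul, ← hhp, inv_smul_smul]
  have cfix : ∀ x, x ≠ a → x ≠ p → x ≠ q → (h⁻¹ * h'⁻¹ * h * h') • x = x := by
    intro x hxa hxp hxq
    rw [hc]
    by_cases hx : x ∈ Γ
    · have h1 : h • x ∈ Γ := hin x hx
      have h2 : h • x ≠ a := by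
        intro h0
        rw [← hhp] at h0
        exact hxp (MulAction.injective h h0)
      rw [hfix' x (hnot' x hx hxa), hifix' _ (hnot' _ h1 h2), inv_smul_smul]
    · by_cases hx' : x ∈ Γ'
      · have h1 : h' • x ∈ Γ' := hin' x hx'
        have h2 : h' • x ≠ a := by
          intro h0
          rw [← hhq] at h0
          exact hxq (MulAction.injective h' h0)
        rw [hfix _ (hnot _ h1 h2), inv_smul_smul, hifix x hx]
      · rw [hfix' x hx', hfix x hx, hifix' x hx', hifix x hx]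
  rw [← card_support_eq_three_iff]
  have hsupp : (MulAction.toPerm (h⁻¹ * h'⁻¹ * h * h') : Equiv.Perm Ω).support = {a, p, q} := by
    ext x
    rw [Equiv.Perm.mem_support, MulAction.toPerm_apply]
    simp only [Finset.mem_insert, Finset.mem_singleton]
    constructor
    · intro hx
      by_contra hcon
      push Not at hcon
      exact hx (cfix x hcon.1 hcon.2.1 hcon.2.2)
    · rintro (rfl | rfl | rfl)
      · rw [ca]; exact hpa
      · rw [cp]; exact hpq.symm
      · rw [cq]; exact hqa.symm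
  rw [hsupp]
  exact Finset.card_eq_three.2 ⟨a, p, q, hpa.symm, hqa.symm, hpq, rfl⟩


theorem tr_two (hprim : IsPreprimitive G Ω) (Γ : Finset Ω) (h2 : 2 ≤ Γ.card)
    (hn : 2 * Γ.card < Fintype.card Ω) (hJ : JS G Γ) : Tr G Ω 2 := by
  classical
  apply tr_of_isMultiplyPretransitive
  have hsn : ((Γᶜ : Finset Ω) : Set Ω).ncard = (Fintype.card Ω - Γ.card - 1) + 1 := by
    rw [Set.ncard_coe_finset, Finset.card_compl]; omega
  have hsn' : (Fintype.card Ω - Γ.card - 1) + 2 < Nat.card Ω := by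
    rw [Nat.card_eq_fintype_card]; omega
  apply IsPreprimitive.is_two_pretransitive hprim hsn hsn'
  refine ⟨fun x y => ?_⟩
  have hx : x.1 ∈ Γ := by
    by_contra h
    exact x.2 (Finset.mem_coe.2 (Finset.mem_compl.2 h))
  have hy : y.1 ∈ Γ := by
    by_contra h
    exact y.2 (Finset.mem_coe.2 (Finset.mem_compl.2 h))
  obtain ⟨g, hg1, hg2⟩ := hJ _ hx _ hy
  refine ⟨⟨g, (mem_fixingSubgroup_iff G).2 (fun z hz => hg1 z ?_)⟩, Subtype.ext hg2⟩
  exact Finset.mem_compl.1 (Finset.mem_coe.1 hz)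

theorem tr_all [Fintype G] (hprim : IsPreprimitive G Ω) (Γ : Finset Ω) (h2 : 2 ≤ Γ.card)
    (hn : 2 * Γ.card < Fintype.card Ω) (hJ : JS G Γ) :
    ∀ t, 2 ≤ t → t ≤ Γ.card → Tr G Ω t := by
  classical
  intro t ht
  induction t, ht using Nat.le_induction with
  | base => intro _; exact tr_two hprim Γ h2 hn hJ
  | succ t ht ih =>
    intro htm
    have htr := ih (by omega)
    obtain ⟨j, rfl⟩ : ∃ j, t = j + 1 := ⟨t - 1, by omega⟩
    have hj1 : 1 ≤ j := by omega
    obtain ⟨T, hTsub, hT⟩ := Finset.exists_subset_card_eq (s := Γᶜ) (n := j)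
      (by rw [Finset.card_compl]; omega)
    have hTΓ : Disjoint T Γ := by
      rw [Finset.disjoint_left]
      intro z hz hz'
      exact (Finset.mem_compl.1 (hTsub hz)) hz'
    obtain ⟨p0, hp0⟩ : ∃ p0, p0 ∈ Γ := Finset.card_pos.1 (by omega)
    have hp0T : p0 ∉ T := fun h => Finset.disjoint_left.1 hTΓ h hp0
    have K2 := jordan_fix T Γ hTΓ h2 (by rw [hT]; omega) hJ
      (fun p q hp hq => fix1 htr T hT hp hq)
      (fun B hB hB2 hBlt => key Γ hJ hj1 (by omega) hn htr T hT hTΓ B hB hB2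
        (by rw [hT] at hBlt; exact hBlt))
    exact tr_succ htr T hT p0 hp0T
      (fun q q' hq hq' hqp hq'p => K2 p0 q q' hp0T hq hq' hqp hq'p)

/-- **Marggraf's theorem, primitive case.** -/
theorem marggraf_prim [Fintype G] (hprim : IsPreprimitive G Ω) (Γ : Finset Ω) (h2 : 2 ≤ Γ.card)
    (hn : 2 * Γ.card < Fintype.card Ω) (hJ : JS G Γ) :
    ∀ σ : Equiv.Perm Ω, Equiv.Perm.sign σ = 1 → ∃ g : G, MulAction.toPerm g = σ := by
  classical
  have htr := tr_all hprim Γ h2 hn hJ Γ.card h2 le_rfl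
  obtain ⟨m1, hm1⟩ : ∃ m1, Γ.card = m1 + 1 := ⟨Γ.card - 1, by omega⟩
  obtain ⟨γ, hγ, hγΓ⟩ := exists_enum Γ hm1
  obtain ⟨D, hDsub, hD⟩ := Finset.exists_subset_card_eq (s := Γᶜ) (n := m1)
    (by rw [Finset.card_compl]; omega)
  obtain ⟨δ, hδ, hδD⟩ := exists_enum D hD
  rw [hm1] at htr
  obtain ⟨a, ha0⟩ : ∃ a, a = γ 0 := ⟨_, rfl⟩
  have haΓ : a ∈ Γ := by rw [ha0]; exact (hγΓ _).2 ⟨0, rfl⟩
  have hγ' : Function.Injective (Fin.cons a δ : Fin (m1 + 1) → Ω) := by
    rw [Fin.cons_injective_iff]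
    refine ⟨?_, hδ⟩
    rintro ⟨l, hl⟩
    have : a ∈ D := (hδD _).2 ⟨l, hl⟩
    exact (Finset.mem_compl.1 (hDsub this)) haΓ
  obtain ⟨g, hg⟩ := htr γ (Fin.cons a δ) hγ hγ'
  have hmeet : ∀ x, x ∈ Γ → x ∈ g • Γ → x = a := by
    intro x hx hx'
    obtain ⟨w, hw, rfl⟩ := Finset.mem_smul_finset.1 hx'
    obtain ⟨l, rfl⟩ := (hγΓ w).1 hw
    rw [hg l] at hx ⊢
    rcases Fin.eq_zero_or_eq_succ l with rfl | ⟨l', rfl⟩
    · simp
    · exfalso
      rw [Fin.cons_succ] at hx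
      have : δ l' ∈ D := (hδD _).2 ⟨l', rfl⟩
      exact (Finset.mem_compl.1 (hDsub this)) hx
  have hag : a ∈ g • Γ := by
    have h0 := hg 0
    rw [Fin.cons_zero] at h0
    rw [← h0]
    exact Finset.smul_mem_smul_finset ((hγΓ _).2 ⟨0, rfl⟩)
  obtain ⟨p, hp, hpa⟩ := Finset.exists_mem_ne (by omega : 1 < Γ.card) a
  obtain ⟨q, hq, hqa⟩ := Finset.exists_mem_ne
    (by rw [Finset.card_smul_finset]; omega : 1 < (g • Γ).card) a
  obtain ⟨h, hh1, hh2⟩ := hJ p hp a haΓ
  obtain ⟨h', hh'1, hh'2⟩ := (hJ.smul g) q hq a hag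
  have h3 := three_cycle_of_meet Γ (g • Γ) a hmeet h h' hh1 hh'1 p q hp hpa hq hqa hh2 hh'2
  -- primitivity of the image
  let φ : G → (MulAction.toPermHom G Ω).range := (MulAction.toPermHom G Ω).rangeRestrict
  let f : Ω →ₑ[φ] Ω := { toFun := id, map_smul' := fun g x => rfl }
  have hP : IsPreprimitive (MulAction.toPermHom G Ω).range Ω :=
    IsPreprimitive.of_surjective (f := f) Function.surjective_id
  have hmem : (MulAction.toPerm (h⁻¹ * h'⁻¹ * h * h') : Equiv.Perm Ω) ∈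
      (MulAction.toPermHom G Ω).range := ⟨_, rfl⟩
  have hle := Equiv.Perm.alternatingGroup_le_of_isPreprimitive_of_isThreeCycle_mem hP h3 hmem
  intro σ hσ
  obtain ⟨x, hx⟩ := hle (Equiv.Perm.mem_alternatingGroup.2 hσ)
  exact ⟨x, hx⟩

end Cfsg.Agent.Helper61.MargPrim
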