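import Mathlib
import Cfsg.Agent.Lib.Helper61.MargBasic
import Cfsg.Agent.Lib.Helper61.MargPrim

/-!
# Marggraf's theorem, part 6: reduction from quasiprimitive to primitive
-/

set_option autoImplicit false
set_option linter.unusedSectionVars false
set_option linter.unusedVariables false

open scoped Pointwise

namespace Cfsg.Agent.Helper61.MargQuasi

open Cfsg.Agent.Helper61.MargBasic Cfsg.Agent.Helper61.MargPrim MulAction

/-- An equivariant surjection onto a faithful primitive action with nontrivial fibres is impossible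
in the presence of a small Jordan set. -/
theorem quotient_contra {G Ω C : Type*} [Group G] [Fintype G] [MulAction G Ω] [Fintype Ω]
    [DecidableEq Ω] [MulAction G C] [Fintype C] [DecidableEq C]
    (π : Ω → C) (hπ : ∀ (g : G) (ω : Ω), π (g • ω) = g • π ω) (hsurj : Function.Surjective π)
    (hprimC : IsPreprimitive G C) (hfaith : ∀ g : G, (∀ c : C, g • c = c) → g = 1)
    (hfib : ∀ c : C, ∃ x y : Ω, x ≠ y ∧ π x = c ∧ π y = c)
    (Γ : Finset Ω) (h2 : 2 ≤ Γ.card) (hn : 2 * Γ.card < Fintype.card Ω) (hJ : JS G Γ) : False := by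
  classical
  -- Step A
  have hA : ∀ c, (∃ x ∈ Γ, π x = c) → (∀ ω, π ω = c → ω ∈ Γ) ∨ (∀ y ∈ Γ, π y = c) := by
    rintro c ⟨x, hx, hxc⟩
    by_cases hall : ∀ ω, π ω = c → ω ∈ Γ
    · exact Or.inl hall
    · right
      push Not at hall
      obtain ⟨z, hzc, hzΓ⟩ := hall
      intro y hy
      obtain ⟨h, hh1, hh2⟩ := hJ x hx y hy
      have hz : h • z = z := hh1 z hzΓ
      have hc : h • c = c := by rw [← hzc, ← hπ, hz]
      rw [← hh2, hπ, hxc, hc]
  -- Step B
  have hB : ¬ ∃ c, ∀ y ∈ Γ, π y = c := by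
    rintro ⟨c, hc⟩
    obtain ⟨x, hx, y, hy, hxy⟩ := Finset.one_lt_card.1 (by omega : 1 < Γ.card)
    obtain ⟨h, hh1, hh2⟩ := hJ x hx y hy
    have htriv : ∀ c' : C, c' ≠ c → h • c' = c' := by
      intro c' hc'
      obtain ⟨ω, hω⟩ := hsurj c'
      have hωΓ : ω ∉ Γ := fun hmem => hc' (hω ▸ hc ω hmem)
      rw [← hω, ← hπ, hh1 ω hωΓ]
    have hall : ∀ c' : C, h • c' = c' := by
      intro c'
      by_cases hc' : c' = c
      · subst hc'
        by_contra hne
        have := htriv (h • c') hne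
        exact hne (MulAction.injective h this)
      · exact htriv c' hc'
    have h1 := hfaith h hall
    rw [h1, one_smul] at hh2
    exact hxy hh2
  -- Step C
  have hC : ∀ c, (∃ x ∈ Γ, π x = c) → ∀ ω, π ω = c → ω ∈ Γ := by
    intro c hc
    rcases hA c hc with h | h
    · exact h
    · exact absurd ⟨c, h⟩ hB
  obtain ⟨Γb, hΓb⟩ : ∃ Γb : Finset C, Γb = Γ.image π := ⟨_, rfl⟩
  have hmemb : ∀ c, c ∈ Γb ↔ ∃ x ∈ Γ, π x = c := by
    intro c; rw [hΓb, Finset.mem_image]
  have hJb : JS G Γb := by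
    intro c1 hc1 c2 hc2
    obtain ⟨x1, hx1, rfl⟩ := (hmemb c1).1 hc1
    obtain ⟨x2, hx2, rfl⟩ := (hmemb c2).1 hc2
    obtain ⟨h, hh1, hh2⟩ := hJ x1 hx1 x2 hx2
    refine ⟨h, ?_, by rw [← hπ, hh2]⟩
    intro c hc
    obtain ⟨ω, rfl⟩ := hsurj c
    have hωΓ : ω ∉ Γ := fun hmem => hc ((hmemb _).2 ⟨ω, hmem, rfl⟩)
    rw [← hπ, hh1 ω hωΓ]
  have hb2 : 2 ≤ Γb.card := by
    by_contra hlt
    push Not at hlt
    obtain ⟨x0, hx0⟩ : ∃ x0, x0 ∈ Γ := Finset.card_pos.1 (by omega)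
    apply hB
    refine ⟨π x0, fun y hy => ?_⟩
    by_contra hne
    have : 1 < Γb.card := Finset.one_lt_card.2
      ⟨π y, (hmemb _).2 ⟨y, hy, rfl⟩, π x0, (hmemb _).2 ⟨x0, hx0, rfl⟩, hne⟩
    omega
  -- fibres have constant size
  have hpreC : IsPretransitive G C := hprimC.toIsPretransitive
  have hfibcard : ∀ c c' : C, (Finset.univ.filter (fun ω => π ω = c)).card
      = (Finset.univ.filter (fun ω => π ω = c')).card := by
    intro c c'
    obtain ⟨g, rfl⟩ := exists_smul_eq G c c'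
    apply Finset.card_equiv (MulAction.toPerm g)
    intro ω
    simp only [Finset.mem_filter, Finset.mem_univ, true_and, MulAction.toPerm_apply, hπ]
    exact (MulAction.injective g).eq_iff.symm
  obtain ⟨c0, hc0⟩ : ∃ c0, c0 ∈ Γb := Finset.card_pos.1 (by omega)
  obtain ⟨β, hβ⟩ : ∃ β, β = (Finset.univ.filter (fun ω => π ω = c0)).card := ⟨_, rfl⟩
  have hβc : ∀ c, (Finset.univ.filter (fun ω => π ω = c)).card = β := by
    intro c; rw [hβ]; exact hfibcard c c0
  have hβpos : 0 < β := by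
    obtain ⟨x, y, -, hx, -⟩ := hfib c0
    rw [hβ, Finset.card_pos]
    exact ⟨x, Finset.mem_filter.2 ⟨Finset.mem_univ _, hx⟩⟩
  have hcardΩ : Fintype.card Ω = Fintype.card C * β := by
    rw [← Finset.card_univ, Finset.card_eq_sum_card_fiberwise
      (f := π) (s := Finset.univ) (t := Finset.univ) (fun x _ => Finset.mem_univ _)]
    rw [Finset.sum_congr rfl (fun c _ => hβc c), Finset.sum_const, smul_eq_mul, Finset.card_univ]
  have hcardΓ : Γ.card = Γb.card * β := by
    rw [Finset.card_eq_sum_card_fiberwise (f := π) (s := Γ) (t := Γb)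
      (fun x hx => (hmemb _).2 ⟨x, hx, rfl⟩)]
    rw [Finset.sum_congr rfl (g := fun _ => β), Finset.sum_const, smul_eq_mul]
    intro c hc
    rw [← hβc c]
    congr 1
    ext ω
    simp only [Finset.mem_filter, Finset.mem_univ, true_and]
    constructor
    · exact fun h => h.2
    · exact fun h => ⟨hC c ((hmemb c).1 hc) ω h, h⟩
  have hnb : 2 * Γb.card < Fintype.card C := by
    rw [hcardΩ, hcardΓ] at hn
    by_contra hcon
    push Not at hcon
    have := Nat.mul_le_mul_right β hcon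
    nlinarith
  have hAlt := marggraf_prim hprimC Γb hb2 hnb hJb
  -- three points outside Γb
  have h3 : 2 < (Γbᶜ).card := by rw [Finset.card_compl]; omega
  obtain ⟨c1, hc1, c2, hc2, c3, hc3, h12, h13, h23⟩ := Finset.two_lt_card.1 h3
  rw [Finset.mem_compl] at hc1 hc2 hc3
  have h01 : c0 ≠ c1 := fun h => hc1 (h ▸ hc0)
  have h02 : c0 ≠ c2 := fun h => hc2 (h ▸ hc0)
  have h03 : c0 ≠ c3 := fun h => hc3 (h ▸ hc0)
  obtain ⟨g, hg⟩ := hAlt (Equiv.swap c0 c1 * Equiv.swap c2 c3) (by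
    rw [Equiv.Perm.sign_mul, Equiv.Perm.sign_swap h01, Equiv.Perm.sign_swap h23]; rfl)
  have hgc : ∀ c : C, g • c = (Equiv.swap c0 c1 * Equiv.swap c2 c3) c := by
    intro c; rw [← hg]; rfl
  obtain ⟨x, y, hxy, hx, hy⟩ := hfib c0
  have hxΓ : x ∈ Γ := hC c0 ((hmemb c0).1 hc0) x hx
  have hyΓ : y ∈ Γ := hC c0 ((hmemb c0).1 hc0) y hy
  obtain ⟨h, hh1, hh2⟩ := hJ x hxΓ y hyΓ
  have hfixc : ∀ c, c ∉ Γb → h • c = c := by
    intro c hc
    obtain ⟨ω, rfl⟩ := hsurj c
    have hωΓ : ω ∉ Γ := fun hmem => hc ((hmemb _).2 ⟨ω, hmem, rfl⟩)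
    rw [← hπ, hh1 ω hωΓ]
  have hh0 : h • c0 = c0 := by
    have h0 := hπ h x
    rw [hh2, hy, hx] at h0
    exact h0.symm
  have hh1' : h • c1 = c1 := hfixc c1 hc1
  have hh2' : h • c2 = c2 := hfixc c2 hc2
  have hh3' : h • c3 = c3 := hfixc c3 hc3
  have hg0 : g • c0 = c1 := by
    rw [hgc, Equiv.Perm.mul_apply, Equiv.swap_apply_of_ne_of_ne h02 h03, Equiv.swap_apply_left]
  have hg1 : g • c1 = c0 := by
    rw [hgc, Equiv.Perm.mul_apply, Equiv.swap_apply_of_ne_of_ne h12 h13, Equiv.swap_apply_right]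
  have hg2 : g • c2 = c3 := by
    rw [hgc, Equiv.Perm.mul_apply, Equiv.swap_apply_left,
      Equiv.swap_apply_of_ne_of_ne h03.symm h13.symm]
  have hg3 : g • c3 = c2 := by
    rw [hgc, Equiv.Perm.mul_apply, Equiv.swap_apply_right,
      Equiv.swap_apply_of_ne_of_ne h02.symm h12.symm]
  have hgo : ∀ c, c ≠ c0 → c ≠ c1 → c ≠ c2 → c ≠ c3 → g • c = c := by
    intro c n0 n1 n2 n3
    rw [hgc, Equiv.Perm.mul_apply, Equiv.swap_apply_of_ne_of_ne n2 n3,
      Equiv.swap_apply_of_ne_of_ne n0 n1]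
  have hcomm : ∀ c : C, (g * h) • c = (h * g) • c := by
    intro c
    rw [mul_smul, mul_smul]
    by_cases e0 : c = c0
    · rw [e0, hh0, hg0, hh1']
    by_cases e1 : c = c1
    · rw [e1, hh1', hg1, hh0]
    by_cases e2 : c = c2
    · rw [e2, hh2', hg2, hh3']
    by_cases e3 : c = c3
    · rw [e3, hh3', hg3, hh2']
    have n0 : h • c ≠ c0 := fun e => e0 (MulAction.injective h (e.trans hh0.symm))
    have n1 : h • c ≠ c1 := fun e => e1 (MulAction.injective h (e.trans hh1'.symm))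
    have n2 : h • c ≠ c2 := fun e => e2 (MulAction.injective h (e.trans hh2'.symm))
    have n3 : h • c ≠ c3 := fun e => e3 (MulAction.injective h (e.trans hh3'.symm))
    rw [hgo c e0 e1 e2 e3, hgo _ n0 n1 n2 n3]
  have hgh : g * h = h * g := by
    have := hfaith ((h * g)⁻¹ * (g * h)) (fun c => by
      rw [mul_smul, hcomm c, ← mul_smul, inv_mul_cancel, one_smul])
    rw [inv_mul_eq_one] at this
    exact this.symm
  have hgxΓ : g • x ∉ Γ := by
    intro hmem
    apply hc1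
    rw [← hg0, ← hx, ← hπ]
    exact (hmemb _).2 ⟨_, hmem, rfl⟩
  have e1 : h • g • x = g • x := hh1 _ hgxΓ
  rw [← mul_smul, ← hgh, mul_smul, hh2] at e1
  exact hxy (MulAction.injective g e1).symm


/-- **Marggraf's theorem for quasiprimitive groups** (finset form). -/
theorem marggraf_quasi {G Ω : Type*} [Group G] [Fintype G] [MulAction G Ω] [Fintype Ω]
    [DecidableEq Ω]
    (hqp : ∀ N : Subgroup G, N.Normal → N ≠ ⊥ → MulAction.IsPretransitive ↥N Ω)
    (Γ : Finset Ω) (h2 : 2 ≤ Γ.card) (hn : 2 * Γ.card < Fintype.card Ω) (hJ : JS G Γ) :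
    ∀ σ : Equiv.Perm Ω, Equiv.Perm.sign σ = 1 → ∃ g : G, MulAction.toPerm g = σ := by
  classical
  obtain ⟨x, hx, y, hy, hxy⟩ := Finset.one_lt_card.1 (by omega : 1 < Γ.card)
  obtain ⟨h, hh1, hh2⟩ := hJ x hx y hy
  have hne : (⊤ : Subgroup G) ≠ ⊥ := by
    intro htop
    have h0 : h ∈ (⊥ : Subgroup G) := htop ▸ Subgroup.mem_top h
    rw [Subgroup.mem_bot] at h0
    rw [h0, one_smul] at hh2
    exact hxy hh2
  have hpreT := hqp ⊤ inferInstance hne
  have hpre : IsPretransitive G Ω := ⟨fun a b => by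
    obtain ⟨k, hk⟩ := hpreT.exists_smul_eq a b
    exact ⟨k.1, hk⟩⟩
  by_cases hprim : IsPreprimitive G Ω
  · exact marggraf_prim hprim Γ h2 hn hJ
  exfalso
  have hnt : Nontrivial Ω := ⟨⟨x, y, hxy⟩⟩
  obtain ⟨ω0, hω0⟩ : ∃ ω0, ω0 = x := ⟨_, rfl⟩
  have hnc : ¬ IsCoatom (stabilizer G ω0) :=
    fun hc => hprim ((isCoatom_stabilizer_iff_preprimitive G ω0).1 hc)
  have hstab_ne : stabilizer G ω0 ≠ ⊤ := by
    intro htop
    obtain ⟨k, hk⟩ := exists_smul_eq G ω0 y
    have h0 : k ∈ stabilizer G ω0 := htop ▸ Subgroup.mem_top k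
    rw [mem_stabilizer_iff] at h0
    rw [h0, hω0] at hk
    exact hxy hk
  obtain ⟨M, hM, hle⟩ := (eq_top_or_exists_le_coatom (stabilizer G ω0)).resolve_left hstab_ne
  have hMne : M ≠ stabilizer G ω0 := fun e => hnc (e ▸ hM)
  obtain ⟨m, hmM, hmS⟩ : ∃ m, m ∈ M ∧ m ∉ stabilizer G ω0 := by
    by_contra hcon
    push Not at hcon
    exact hMne (le_antisymm hcon hle)
  obtain ⟨g1, hg1⟩ : ∃ g1 : G, g1 ∉ M := by
    by_contra hcon
    push Not at hcon
    exact hM.1 ((Subgroup.eq_top_iff' M).2 hcon)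
  have : Fintype (G ⧸ M) := Fintype.ofFinite _
  have hntC : Nontrivial (G ⧸ M) := ⟨⟨((1 : G) : G ⧸ M), (g1 : G ⧸ M), by
    intro e
    rw [QuotientGroup.eq, inv_one, one_mul] at e
    exact hg1 e⟩⟩
  have hprimC : IsPreprimitive G (G ⧸ M) := by
    rw [← isCoatom_stabilizer_iff_preprimitive G ((1 : G) : G ⧸ M), MulAction.stabilizer_quotient]
    exact hM
  obtain ⟨π, hπdef⟩ : ∃ π : Ω → G ⧸ M,
      π = fun ω => ((Classical.choose (exists_smul_eq G ω0 ω) : G) : G ⧸ M) := ⟨_, rfl⟩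
  have hπ0 : ∀ g : G, π (g • ω0) = (g : G ⧸ M) := by
    intro g
    have hspec := Classical.choose_spec (exists_smul_eq G ω0 (g • ω0))
    rw [hπdef]
    show ((Classical.choose (exists_smul_eq G ω0 (g • ω0)) : G) : G ⧸ M) = _
    generalize Classical.choose (exists_smul_eq G ω0 (g • ω0)) = c at hspec ⊢
    rw [QuotientGroup.eq]
    apply hle
    rw [mem_stabilizer_iff, mul_smul, ← hspec, inv_smul_smul]
  have hπ : ∀ (g : G) (ω : Ω), π (g • ω) = g • π ω := by
    intro g ω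
    obtain ⟨k, rfl⟩ := exists_smul_eq G ω0 ω
    rw [← mul_smul, hπ0, hπ0]
    rfl
  have hsurj : Function.Surjective π := by
    intro c
    induction c using QuotientGroup.induction_on with
    | H g => exact ⟨g • ω0, hπ0 g⟩
  have hfaith : ∀ g : G, (∀ c : G ⧸ M, g • c = c) → g = 1 := by
    intro g hg
    by_contra hg1'
    have hgker : g ∈ (MulAction.toPermHom G (G ⧸ M)).ker := by
      rw [MonoidHom.mem_ker]
      ext c
      exact hg c
    have hNne : (MulAction.toPermHom G (G ⧸ M)).ker ≠ ⊥ := by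
      intro e
      rw [e, Subgroup.mem_bot] at hgker
      exact hg1' hgker
    have hNtr := hqp _ inferInstance hNne
    obtain ⟨k, hk⟩ := hNtr.exists_smul_eq ω0 (g1 • ω0)
    have hk' : k.1 • ω0 = g1 • ω0 := hk
    have hkc : ∀ c : G ⧸ M, k.1 • c = c := by
      intro c
      have := k.2
      rw [MonoidHom.mem_ker] at this
      have h0 := congrArg (fun σ : Equiv.Perm (G ⧸ M) => σ c) this
      exact h0
    have e1 : π (k.1 • ω0) = π ω0 := by rw [hπ, hkc]
    rw [hk', hπ0] at e1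
    have e2 : π ω0 = ((1 : G) : G ⧸ M) := by
      have := hπ0 1
      rwa [one_smul] at this
    rw [e2, eq_comm, QuotientGroup.eq, inv_one, one_mul] at e1
    exact hg1 e1
  have hfib : ∀ c : G ⧸ M, ∃ x y : Ω, x ≠ y ∧ π x = c ∧ π y = c := by
    intro c
    induction c using QuotientGroup.induction_on with
    | H g =>
      refine ⟨g • ω0, (g * m) • ω0, ?_, hπ0 g, ?_⟩
      · intro e
        rw [mul_smul] at e
        have := MulAction.injective g e
        exact hmS (mem_stabilizer_iff.2 this.symm)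
      · rw [hπ0, QuotientGroup.eq]
        have : (g * m)⁻¹ * g = m⁻¹ := by group
        rw [this]
        exact M.inv_mem hmM
  exact quotient_contra π hπ hsurj hprimC hfaith hfib Γ h2 hn hJ

end Cfsg.Agent.Helper61.MargQuasi
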