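import Mathlib
import Cfsg.Prelude.Def_Solvable
import Cfsg.Agent.Lib.Helper96.Frobenius
import Cfsg.Agent.Lib.Helper52.CoprimeSylow

set_option autoImplicit false

namespace Cfsg.Agent.Helper61.Mazurov

open scoped BigOperators

section NormLemma

variable {X V : Type*} [Group X] [CommGroup V] [MulDistribMulAction X V]

/-- powers of `c` normalize `R`. -/
lemma pow_conj_mem (R : Subgroup X) (c : X) (hcR : ∀ x ∈ R, c * x * c⁻¹ ∈ R) (j : ℕ) :
    ∀ x ∈ R, c ^ j * x * (c ^ j)⁻¹ ∈ R := by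
  induction j with
  | zero => intro x hx; simpa using hx
  | succ j ih =>
    intro x hx
    have := hcR _ (ih x hx)
    have e : c ^ (j + 1) * x * (c ^ (j + 1))⁻¹ = c * (c ^ j * x * (c ^ j)⁻¹) * c⁻¹ := by
      rw [pow_succ']; group
    rw [e]; exact this

theorem normLemma [Finite V] (R : Subgroup X) [Finite R] (c : X) (h : ℕ) (hh : 0 < h)
    (hcR : ∀ x ∈ R, c * x * c⁻¹ ∈ R)
    (hcop : (Nat.card R).Coprime (Nat.card V))
    (hfpf : ∀ j, 0 < j → j < h → ∀ x ∈ R, x * c ^ j = c ^ j * x → x = 1)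
    (hnorm : ∀ v : V, ∏ j ∈ Finset.range h, (c ^ j) • v = 1) :
    ∀ x ∈ R, ∀ v : V, x • v = v := by
  classical
  have : Fintype R := Fintype.ofFinite R
  -- the key identity for a fixed j
  have key : ∀ j, 0 < j → j < h → ∀ v : V,
      ∏ k : R, ((k : X) * c ^ j) • v = ∏ x : R, ((x : X) * c ^ j * (x : X)⁻¹) • v := by
    intro j hj0 hjh v
    let φ : R → R := fun x => ⟨(x : X) * (c ^ j * (x : X)⁻¹ * (c ^ j)⁻¹),
      R.mul_mem x.2 (pow_conj_mem R c hcR j _ (R.inv_mem x.2))⟩
    have hφinj : Function.Injective φ := by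
      intro x y hxy
      have h1 : (x : X) * (c ^ j * (x : X)⁻¹ * (c ^ j)⁻¹) = (y : X) * (c ^ j * (y : X)⁻¹ * (c ^ j)⁻¹) :=
        congrArg Subtype.val hxy
      have h2 : ((y : X)⁻¹ * (x : X)) * c ^ j = c ^ j * ((y : X)⁻¹ * (x : X)) := by
        have h3 : (x : X) * c ^ j * (x : X)⁻¹ = (y : X) * c ^ j * (y : X)⁻¹ := by
          have := congrArg (· * c ^ j) h1
          simpa [mul_assoc] using this
        calc ((y : X)⁻¹ * (x : X)) * c ^ j = (y : X)⁻¹ * ((x : X) * c ^ j * (x : X)⁻¹) * (x : X) := by group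
          _ = (y : X)⁻¹ * ((y : X) * c ^ j * (y : X)⁻¹) * (x : X) := by rw [h3]
          _ = c ^ j * ((y : X)⁻¹ * (x : X)) := by group
      have h4 := hfpf j hj0 hjh _ (R.mul_mem (R.inv_mem y.2) x.2) h2
      apply Subtype.ext
      have : (x : X) = (y : X) := by
        have := congrArg ((y : X) * ·) h4
        simpa using this
      exact this
    have hφbij : Function.Bijective φ := hφinj.bijective_of_finite
    rw [← hφbij.prod_comp (fun k : R => ((k : X) * c ^ j) • v)]
    apply Finset.prod_congr rfl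
    intro x _
    congr 1
    show (x : X) * (c ^ j * (x : X)⁻¹ * (c ^ j)⁻¹) * c ^ j = (x : X) * c ^ j * (x : X)⁻¹
    group
  -- N_R(v) = v ^ |R|
  have hNR : ∀ v : V, ∏ k : R, (k : X) • v = v ^ Fintype.card R := by
    intro v
    have hA : ∏ k : R, ∏ j ∈ Finset.range h, ((k : X) * c ^ j) • v = 1 := by
      have : ∀ k : R, ∏ j ∈ Finset.range h, ((k : X) * c ^ j) • v = 1 := by
        intro k
        have : ∏ j ∈ Finset.range h, ((k : X) * c ^ j) • v =
            (k : X) • ∏ j ∈ Finset.range h, (c ^ j) • v := by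
          rw [Finset.smul_prod']
          apply Finset.prod_congr rfl
          intro j _
          rw [mul_smul]
        rw [this, hnorm, smul_one]
      simp [this]
    rw [Finset.prod_comm] at hA
    rw [← Finset.mul_prod_erase (Finset.range h) _ (Finset.mem_range.mpr hh)] at hA
    have hB : ∏ j ∈ (Finset.range h).erase 0, ∏ k : R, ((k : X) * c ^ j) • v =
        (v⁻¹) ^ Fintype.card R := by
      have h1 : ∏ j ∈ (Finset.range h).erase 0, ∏ k : R, ((k : X) * c ^ j) • v =
          ∏ j ∈ (Finset.range h).erase 0, ∏ x : R, (x : X) • ((c ^ j) • ((x : X)⁻¹ • v)) := by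
        apply Finset.prod_congr rfl
        intro j hj
        have hj0 : 0 < j := Nat.pos_of_ne_zero (Finset.ne_of_mem_erase hj)
        have hjh : j < h := Finset.mem_range.mp (Finset.mem_of_mem_erase hj)
        rw [key j hj0 hjh v]
        apply Finset.prod_congr rfl
        intro x _
        rw [mul_smul, mul_smul]
      rw [h1, Finset.prod_comm]
      have h2 : ∀ x : R, ∏ j ∈ (Finset.range h).erase 0, (x : X) • ((c ^ j) • ((x : X)⁻¹ • v)) = v⁻¹ := by
        intro x
        rw [← Finset.smul_prod']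
        have h3 := hnorm ((x : X)⁻¹ • v)
        rw [← Finset.mul_prod_erase (Finset.range h) _ (Finset.mem_range.mpr hh)] at h3
        simp only [pow_zero, one_smul] at h3
        have h4 : ∏ j ∈ (Finset.range h).erase 0, (c ^ j) • ((x : X)⁻¹ • v) = ((x : X)⁻¹ • v)⁻¹ :=
          eq_inv_of_mul_eq_one_right h3
        rw [h4, smul_inv', smul_inv_smul]
      rw [Finset.prod_congr rfl (fun x _ => h2 x), Finset.prod_const, Finset.card_univ]
    rw [hB] at hA
    simp only [pow_zero, mul_one] at hA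
    rw [inv_pow] at hA
    exact mul_inv_eq_one.mp hA
  intro y hy v
  set w := y • v * v⁻¹ with hw
  have hw1 : ∏ k : R, (k : X) • w = 1 := by
    have h1 : ∏ k : R, (k : X) • (y • v) = ∏ k : R, (k : X) • v := by
      have := (Equiv.mulRight (⟨y, hy⟩ : R)).bijective.prod_comp (fun k : R => (k : X) • v)
      rw [← this]
      apply Finset.prod_congr rfl
      intro k _
      simp [mul_smul]
    have h2 : ∏ k : R, (k : X) • w = (∏ k : R, (k : X) • (y • v)) * (∏ k : R, (k : X) • v)⁻¹ := by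
      rw [← Finset.prod_inv_distrib, ← Finset.prod_mul_distrib]
      apply Finset.prod_congr rfl
      intro k _
      rw [hw, smul_mul', smul_inv']
    rw [h2, h1, mul_inv_cancel]
  rw [hNR w] at hw1
  have h5 : orderOf w ∣ Fintype.card R := orderOf_dvd_of_pow_eq_one hw1
  have h6 : orderOf w ∣ Nat.card V := orderOf_dvd_natCard w
  rw [← Nat.card_eq_fintype_card] at h5
  have h7 : orderOf w = 1 := Nat.eq_one_of_dvd_coprimes hcop h5 h6
  have h8 : w = 1 := orderOf_eq_one_iff.mp h7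
  rw [hw] at h8
  exact mul_inv_eq_one.mp h8

end NormLemma


section Core

/-- ordered product of the conjugates of `a` by powers of `c`. -/
def nrm {X : Type*} [Group X] (c a : X) : ℕ → X
  | 0 => 1
  | n + 1 => nrm c a n * (c ^ n * a * (c ^ n)⁻¹)

lemma mul_pow_eq_nrm {X : Type*} [Group X] (c a : X) (n : ℕ) :
    (a * c) ^ n = nrm c a n * c ^ n := by
  induction n with
  | zero => simp [nrm]
  | succ n ih =>
    rw [pow_succ, ih, nrm, pow_succ]; group

/-- the "centre of `S`" as a subgroup of the ambient group. -/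
def zen {X : Type*} [Group X] (S : Subgroup X) : Subgroup X :=
  S ⊓ Subgroup.centralizer (S : Set X)

lemma zen_normal {X : Type*} [Group X] (S : Subgroup X) [hS : S.Normal] : (zen S).Normal := by
  constructor
  intro z hz g
  refine ⟨hS.conj_mem z hz.1 g, ?_⟩
  show g * z * g⁻¹ ∈ Subgroup.centralizer (S : Set X)
  rw [Subgroup.mem_centralizer_iff]
  intro a ha
  have h1 : g⁻¹ * a * g ∈ S := by
    have := hS.conj_mem a ha g⁻¹
    simpa using this
  have h2 := (Subgroup.mem_centralizer_iff.mp hz.2) _ h1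
  calc a * (g * z * g⁻¹) = g * ((g⁻¹ * a * g) * z) * g⁻¹ := by group
    _ = g * (z * (g⁻¹ * a * g)) * g⁻¹ := by rw [h2]
    _ = g * z * g⁻¹ * a := by group

lemma zen_comm {X : Type*} [Group X] (S : Subgroup X) (a b : X) (ha : a ∈ zen S) (hb : b ∈ zen S) :
    a * b = b * a :=
  ((Subgroup.mem_centralizer_iff.mp hb.2) a ha.1)


lemma eq_one_of_mem_of_coprime {X : Type*} [Group X] [Finite X] (R S : Subgroup X)
    (hcop : (Nat.card R).Coprime (Nat.card S)) (w : X) (hR : w ∈ R) (hS : w ∈ S) : w = 1 := by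
  have h1 : orderOf w ∣ Nat.card R := by
    have := orderOf_dvd_natCard (⟨w, hR⟩ : R)
    rwa [Subgroup.orderOf_mk] at this
  have h2 : orderOf w ∣ Nat.card S := by
    have := orderOf_dvd_natCard (⟨w, hS⟩ : S)
    rwa [Subgroup.orderOf_mk] at this
  exact orderOf_eq_one_iff.mp (Nat.eq_one_of_dvd_coprimes hcop h1 h2)

universe u

theorem core : ∀ (n : ℕ) (X : Type u) [Group X] [Finite X], Nat.card X = n →
    ∀ (S R : Subgroup X) [S.Normal] (s : ℕ) [Fact s.Prime] (c : X) (h : ℕ), 0 < h → IsPGroup s S →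
    (∀ x ∈ R, c * x * c⁻¹ ∈ R) → (Nat.card R).Coprime (Nat.card S) →
    (∀ j, 0 < j → j < h → ∀ x ∈ R, x * c ^ j = c ^ j * x → x = 1) →
    (∃ x ∈ R, ∃ a ∈ S, x * a ≠ a * x) → ∃ a ∈ S, (a * c) ^ h ≠ c ^ h := by
  intro n
  induction n using Nat.strong_induction_on with
  | _ n ih =>
  intro X _ _ hcard S R _ s _ c h hh hS hcR hcop hfpf hnc
  set Z := zen S with hZ
  have hZn : Z.Normal := zen_normal S
  have hZS : Z ≤ S := inf_le_left
  have hcopZ : (Nat.card R).Coprime (Nat.card Z) :=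
    Nat.Coprime.coprime_dvd_right (Subgroup.card_dvd_of_le hZS) hcop
  by_cases hRZ : ∃ x ∈ R, ∃ z ∈ Z, x * z ≠ z * x
  · -- Case 1 : `R` acts nontrivially on `Z`
    let _ : CommGroup Z := { (inferInstance : Group Z) with
      mul_comm := fun a b => Subtype.ext (zen_comm S a b a.2 b.2) }
    let _ : MulDistribMulAction X Z := MulDistribMulAction.compHom Z (MulAut.conjNormal (H := Z))
    have hsmul : ∀ (g : X) (z : Z), ((g • z : Z) : X) = g * z * g⁻¹ :=
      fun g z => MulAut.conjNormal_apply g z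
    by_contra hcon
    push Not at hcon
    have hnorm : ∀ v : Z, ∏ j ∈ Finset.range h, (c ^ j) • v = 1 := by
      intro v
      have h1 : ∀ m, ((∏ j ∈ Finset.range m, (c ^ j) • v : Z) : X) = nrm c v m := by
        intro m
        induction m with
        | zero => simp [nrm]
        | succ m ihm => rw [Finset.prod_range_succ, Subgroup.coe_mul, ihm, nrm, hsmul]
      apply Subtype.ext
      rw [h1 h]
      have h2 := hcon v (hZS v.2)
      rw [mul_pow_eq_nrm] at h2
      simpa using h2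
    have hfix := normLemma R c h hh hcR hcopZ hfpf hnorm
    obtain ⟨x, hx, z, hz, hxz⟩ := hRZ
    apply hxz
    have h3 := hfix x hx ⟨z, hz⟩
    have h4 := congrArg Subtype.val h3
    rw [hsmul] at h4
    calc x * z = (x * z * x⁻¹) * x := by group
      _ = z * x := by rw [h4]
  · -- Case 2 : `R` centralizes `Z`; pass to the quotient
    push Not at hRZ
    obtain ⟨x₀, hx₀, a₀, ha₀, hxa₀⟩ := hnc
    -- Z is nontrivial
    have hSnt : Nontrivial S := by
      refine ⟨⟨⟨a₀, ha₀⟩, 1, ?_⟩⟩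
      intro h1
      have : a₀ = 1 := congrArg Subtype.val h1
      apply hxa₀; rw [this]; simp
    have hZnt : ∃ z ∈ Z, z ≠ 1 := by
      have := hS.center_nontrivial
      obtain ⟨⟨z', hz'⟩, hz'1⟩ := exists_ne (1 : Subgroup.center S)
      refine ⟨(z' : X), ⟨z'.2, ?_⟩, ?_⟩
      · show (z' : X) ∈ Subgroup.centralizer (S : Set X)
        rw [Subgroup.mem_centralizer_iff]
        intro a ha
        have := (Subgroup.mem_center_iff.mp hz') ⟨a, ha⟩
        exact congrArg Subtype.val this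
      · intro h1
        apply hz'1
        apply Subtype.ext
        apply Subtype.ext
        exact h1
    have hcardlt : Nat.card (X ⧸ Z) < n := by
      have h1 := Subgroup.card_eq_card_quotient_mul_card_subgroup Z
      have h2 : 1 < Nat.card Z := by
        obtain ⟨z, hz, hz1⟩ := hZnt
        rw [Finite.one_lt_card_iff_nontrivial]
        exact ⟨⟨⟨z, hz⟩, 1, fun h => hz1 (congrArg Subtype.val h)⟩⟩
      have h3 : 0 < Nat.card (X ⧸ Z) := Nat.card_pos
      rw [← hcard, h1]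
      nlinarith
    set π := QuotientGroup.mk' Z with hπ
    have hπsurj : Function.Surjective π := QuotientGroup.mk'_surjective Z
    have : (S.map π).Normal := Subgroup.Normal.map inferInstance π hπsurj
    have hker : ∀ a b : X, π a = π b → a * b⁻¹ ∈ Z := by
      intro a b hab
      have h1 : π (a * b⁻¹) = 1 := by rw [map_mul, map_inv, hab, mul_inv_cancel]
      rwa [hπ, QuotientGroup.mk'_apply, QuotientGroup.eq_one_iff] at h1
    -- stability argument
    have hstab : ∃ x ∈ R, ∃ a ∈ S, π (x * a) ≠ π (a * x) := by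
      by_contra hall
      push Not at hall
      apply hxa₀
      have hz : a₀⁻¹ * (x₀ * a₀ * x₀⁻¹) ∈ Z := by
        have h1 := hker _ _ (hall x₀ hx₀ a₀ ha₀)
        have h2 := hZn.conj_mem _ h1 a₀⁻¹
        have e : a₀⁻¹ * (x₀ * a₀ * (a₀ * x₀)⁻¹) * a₀⁻¹⁻¹ = a₀⁻¹ * (x₀ * a₀ * x₀⁻¹) := by group
        rwa [e] at h2
      set z := a₀⁻¹ * (x₀ * a₀ * x₀⁻¹) with hzdef
      have hxz : x₀ * z = z * x₀ := hRZ x₀ hx₀ z hz
      have hpow : ∀ i : ℕ, x₀ ^ i * a₀ * (x₀ ^ i)⁻¹ = a₀ * z ^ i := by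
        intro i
        induction i with
        | zero => simp
        | succ i ihi =>
          have hxzi : x₀ * z ^ i * x₀⁻¹ = z ^ i := by
            have : Commute x₀ (z ^ i) := (show Commute x₀ z from hxz).pow_right i
            rw [this.eq, mul_inv_cancel_right]
          calc x₀ ^ (i + 1) * a₀ * (x₀ ^ (i + 1))⁻¹
              = x₀ * (x₀ ^ i * a₀ * (x₀ ^ i)⁻¹) * x₀⁻¹ := by rw [pow_succ']; group
            _ = x₀ * (a₀ * z ^ i) * x₀⁻¹ := by rw [ihi]
            _ = (x₀ * a₀ * x₀⁻¹) * (x₀ * z ^ i * x₀⁻¹) := by group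
            _ = (a₀ * z) * z ^ i := by rw [hxzi, hzdef]; group
            _ = a₀ * z ^ (i + 1) := by rw [pow_succ']; group
      have h5 := hpow (orderOf x₀)
      rw [pow_orderOf_eq_one] at h5
      have h6 : z ^ orderOf x₀ = 1 := by
        have : a₀ = a₀ * z ^ orderOf x₀ := by simpa using h5
        exact (mul_eq_left).mp this.symm
      have h7 : orderOf z ∣ Nat.card R := by
        refine dvd_trans (orderOf_dvd_of_pow_eq_one h6) ?_
        have := orderOf_dvd_natCard (⟨x₀, hx₀⟩ : R)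
        rwa [Subgroup.orderOf_mk] at this
      have h8 : orderOf z ∣ Nat.card Z := by
        have := orderOf_dvd_natCard (⟨z, hz⟩ : Z)
        rwa [Subgroup.orderOf_mk] at this
      have h9 : z = 1 := orderOf_eq_one_iff.mp (Nat.eq_one_of_dvd_coprimes hcopZ h7 h8)
      rw [hzdef] at h9
      have h10 : x₀ * a₀ * x₀⁻¹ = a₀ := by
        have := congrArg (a₀ * ·) h9
        simpa [mul_assoc] using this
      calc x₀ * a₀ = (x₀ * a₀ * x₀⁻¹) * x₀ := by group
        _ = a₀ * x₀ := by rw [h10]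
    obtain ⟨abar, habar, hne⟩ := ih (Nat.card (X ⧸ Z)) hcardlt (X ⧸ Z) rfl (S.map π) (R.map π) s (π c) h hh
      (hS.map π)
      (by
        rintro _ ⟨x, hx, rfl⟩
        exact ⟨c * x * c⁻¹, hcR x hx, by simp⟩)
      (Nat.Coprime.coprime_dvd_left (Subgroup.card_map_dvd _ π)
        (Nat.Coprime.coprime_dvd_right (Subgroup.card_map_dvd _ π) hcop))
      (by
        rintro j hj0 hjh _ ⟨x, hx, rfl⟩ hcomm
        have h1 : π (x * c ^ j) = π (c ^ j * x) := by
          rw [map_mul, map_mul, map_pow]; exact hcomm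
        have h2 := hker _ _ h1
        have e : x * c ^ j * (c ^ j * x)⁻¹ = x * (c ^ j * x⁻¹ * (c ^ j)⁻¹) := by group
        rw [e] at h2
        have h3 : x * (c ^ j * x⁻¹ * (c ^ j)⁻¹) ∈ R :=
          R.mul_mem hx (pow_conj_mem R c hcR j _ (R.inv_mem hx))
        have h4 := eq_one_of_mem_of_coprime R Z hcopZ _ h3 h2
        have h5 : x * c ^ j = c ^ j * x := by
          have := congrArg (· * (c ^ j * x)) h4
          simpa [mul_assoc] using this
        rw [hfpf j hj0 hjh x hx h5, map_one])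
      (by
        obtain ⟨x, hx, a, ha, hxa⟩ := hstab
        refine ⟨π x, ⟨x, hx, rfl⟩, π a, ⟨a, ha, rfl⟩, ?_⟩
        rw [← map_mul, ← map_mul]; exact hxa)
    obtain ⟨a, ha, rfl⟩ := habar
    refine ⟨a, ha, ?_⟩
    intro heq
    apply hne
    rw [← map_mul, ← map_pow, ← map_pow, heq]

end Core



lemma power_trick {G : Type*} [Group G] [Finite G] (N : Subgroup G) [N.Normal] (h : ℕ) (g : G)
    (ho : orderOf (QuotientGroup.mk' N g) = h) (hne : g ^ h ≠ 1) :
    ∃ p : ℕ, p.Prime ∧ p ∣ Nat.card N ∧ ∃ g' : G, orderOf g' = p * h := by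
  have ho_pos : 0 < orderOf g := orderOf_pos g
  have hdvd : h ∣ orderOf g := ho ▸ orderOf_map_dvd (QuotientGroup.mk' N) g
  obtain ⟨m, hm⟩ := hdvd
  have hh0 : 0 < h := by
    rcases Nat.eq_zero_or_pos h with h0 | h0
    · rw [h0, zero_mul] at hm; omega
    · exact h0
  have hm0 : 0 < m := by
    rcases Nat.eq_zero_or_pos m with h0 | h0
    · rw [h0, mul_zero] at hm; omega
    · exact h0
  have hgN : g ^ h ∈ N := by
    rw [← QuotientGroup.eq_one_iff, ← QuotientGroup.mk'_apply, map_pow, ← ho, pow_orderOf_eq_one]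
  have hom : orderOf (g ^ h) = m := by
    rw [orderOf_pow, hm, Nat.gcd_eq_right (Dvd.intro m rfl), Nat.mul_div_cancel_left m hh0]
  have hmN : m ∣ Nat.card N := by
    have := orderOf_dvd_natCard (⟨g ^ h, hgN⟩ : N)
    rwa [Subgroup.orderOf_mk, hom] at this
  have hm1 : m ≠ 1 := by
    intro h1
    rw [h1] at hom
    exact hne (orderOf_eq_one_iff.mp hom)
  obtain ⟨p, hp, q, hq⟩ : ∃ p : ℕ, p.Prime ∧ ∃ q, m = p * q :=
    ⟨m.minFac, Nat.minFac_prime hm1, Nat.minFac_dvd m⟩
  have hq0 : 0 < q := by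
    rcases Nat.eq_zero_or_pos q with h0 | h0
    · rw [h0, mul_zero] at hq; omega
    · exact h0
  refine ⟨p, hp, dvd_trans (Dvd.intro q hq.symm) hmN, g ^ q, ?_⟩
  rw [orderOf_pow, hm]
  have e1 : h * m = (p * h) * q := by rw [hq]; ring
  rw [e1, Nat.gcd_eq_right (Dvd.intro_left _ rfl), Nat.mul_div_cancel _ hq0]



open scoped Pointwise
open Cfsg.Agent.Helper96

section Frob
variable {Q : Type*} [Group Q] {Fb Hb : Subgroup Q}

lemma frob_inter (hker : Cfsg.frobeniusKernel Hb = (Fb : Set Q)) (y : Q) (hy : y ∈ Fb) (g : Q)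
    (hg : g⁻¹ * y * g ∈ Hb) : y = 1 := by
  have h1 : y ∈ Cfsg.frobeniusKernel Hb := by rw [hker]; exact hy
  rw [mem_frobeniusKernel_iff] at h1
  rcases h1 with h1 | h1
  · exact h1
  · exact absurd hg (h1 g)

lemma frob_inter' (hker : Cfsg.frobeniusKernel Hb = (Fb : Set Q)) (y : Q) (hy : y ∈ Fb)
    (hg : y ∈ Hb) : y = 1 :=
  frob_inter hker y hy 1 (by simpa using hg)

lemma frob_cover (hker : Cfsg.frobeniusKernel Hb = (Fb : Set Q)) (y : Q) (hy : y ∉ Fb) :
    ∃ g : Q, g⁻¹ * y * g ∈ Hb := by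
  have h1 : y ∉ Cfsg.frobeniusKernel Hb := by rw [hker]; exact hy
  rw [not_mem_frobeniusKernel_iff] at h1
  exact h1.2

lemma frob_facts [Finite Q] [hFn : Fb.Normal] (hHb : Cfsg.IsFrobeniusComplement Hb)
    (hker : Cfsg.frobeniusKernel Hb = (Fb : Set Q))
    (c : Q) (hcH : c ∈ Hb) (hc : ∀ x ∈ Hb, x ∈ Subgroup.zpowers c) (f : Q) (hf : f ∈ Fb) :
    orderOf (c * f) = Nat.card Hb ∧
    ∀ j, 0 < j → j < Nat.card Hb → ∀ x ∈ Fb, x * (c * f) ^ j = (c * f) ^ j * x → x = 1 := by
  set h := Nat.card Hb with hh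
  set y := c * f with hy
  have hoc : orderOf c = h := by
    have : Subgroup.zpowers c = Hb := le_antisymm (Subgroup.zpowers_le.mpr hcH) hc
    rw [hh, ← this, Nat.card_zpowers]
  have hc1 : c ≠ 1 := by
    intro h1
    apply hHb.1
    rw [eq_bot_iff]
    intro x hx
    have := hc x hx
    rw [h1, Subgroup.zpowers_one_eq_bot] at this
    exact this
  have hyF : y ∉ Fb := by
    intro hyF
    have : c ∈ Fb := by
      have : c = y * f⁻¹ := by rw [hy]; group
      rw [this]; exact Fb.mul_mem hyF (Fb.inv_mem hf)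
    exact hc1 (frob_inter' hker c this hcH)
  obtain ⟨g, hg⟩ := frob_cover hker y hyF
  set w := g⁻¹ * y * g with hw
  have hyw : y = g * w * g⁻¹ := by rw [hw]; group
  have hwh : w ^ h = 1 := by
    have h3 : (⟨w, hg⟩ : Hb) ^ h = 1 := pow_card_eq_one'
    have h4 := congrArg Subtype.val h3
    rwa [Subgroup.coe_pow, Subgroup.coe_one] at h4
  have hypow : ∀ j : ℕ, y ^ j = g * w ^ j * g⁻¹ := by
    intro j
    rw [hyw]
    exact conj_pow
  -- order of y
  have hoy : orderOf y = h := by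
    apply Nat.dvd_antisymm
    · apply orderOf_dvd_of_pow_eq_one
      rw [hypow, hwh]; group
    · -- h ∣ orderOf y via the quotient by Fb
      rw [← hoc]
      apply orderOf_dvd_of_pow_eq_one
      set d := orderOf y with hd
      have h1 : (QuotientGroup.mk' Fb) (c ^ d) = 1 := by
        have h2 : (QuotientGroup.mk' Fb) y = (QuotientGroup.mk' Fb) c := by
          rw [hy, map_mul]
          have : (QuotientGroup.mk' Fb) f = 1 := by
            rw [QuotientGroup.mk'_apply, QuotientGroup.eq_one_iff]; exact hf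
          rw [this, mul_one]
        rw [map_pow, ← h2, ← map_pow, hd, pow_orderOf_eq_one, map_one]
      rw [QuotientGroup.mk'_apply, QuotientGroup.eq_one_iff] at h1
      exact frob_inter' hker _ h1 (Hb.pow_mem hcH d)
  refine ⟨hoy, ?_⟩
  intro j hj0 hjh x hx hcomm
  have how : orderOf w = h := by
    rw [← hoy, hyw, ← MulAut.conj_apply, MulEquiv.orderOf_eq]
  have hwj1 : w ^ j ≠ 1 := pow_ne_one_of_lt_orderOf hj0.ne' (how ▸ hjh)
  set x' := g⁻¹ * x * g with hx'
  have hx'F : x' ∈ Fb := by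
    have := hFn.conj_mem x hx g⁻¹
    simpa [hx'] using this
  have hcomm' : x' * w ^ j * x'⁻¹ = w ^ j := by
    have h1 : w ^ j = g⁻¹ * y ^ j * g := by rw [hypow]; group
    rw [h1, hx']
    calc g⁻¹ * x * g * (g⁻¹ * y ^ j * g) * (g⁻¹ * x * g)⁻¹
        = g⁻¹ * (x * y ^ j) * x⁻¹ * g := by group
      _ = g⁻¹ * (y ^ j * x) * x⁻¹ * g := by rw [hcomm]
      _ = g⁻¹ * y ^ j * g := by group
  have hx'H : x' ∈ Hb :=
    frob_mem_of_conj_mem' hHb (Hb.pow_mem hg j) hwj1 (by rw [hcomm']; exact Hb.pow_mem hg j)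
  have hx'1 : x' = 1 := frob_inter' hker x' hx'F hx'H
  have : x = g * x' * g⁻¹ := by rw [hx']; group
  rw [this, hx'1]; group

end Frob



lemma mem_of_pow_mem_of_coprime {Q : Type*} [Group Q] (D : Subgroup Q) (y : Q) (a b : ℕ)
    (hab : Nat.Coprime a b) (ha : y ^ a ∈ D) (hb : y ^ b ∈ D) : y ∈ D := by
  have h1 : (1 : ℤ) = a * Nat.gcdA a b + b * Nat.gcdB a b := by
    have := Nat.gcd_eq_gcd_ab a b
    rw [hab.gcd_eq_one] at this
    exact_mod_cast this
  have h2 : y = (y ^ a) ^ (Nat.gcdA a b) * (y ^ b) ^ (Nat.gcdB a b) := by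
    rw [← zpow_natCast y a, ← zpow_natCast y b, ← zpow_mul, ← zpow_mul, ← zpow_add, ← h1, zpow_one]
  rw [h2]
  exact D.mul_mem (D.zpow_mem ha _) (D.zpow_mem hb _)

lemma exists_prime_pow_order_notMem {Q : Type*} [Group Q] [Finite Q] (D : Subgroup Q) :
    ∀ (d : ℕ) (y : Q), orderOf y = d → y ∉ D →
      ∃ i : ℕ, y ^ i ∉ D ∧ ∃ r k : ℕ, r.Prime ∧ 0 < k ∧ orderOf (y ^ i) = r ^ k := by
  intro d
  induction d using Nat.strong_induction_on with
  | _ d ih =>
  intro y hd hy
  have hd1 : d ≠ 1 := by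
    rintro rfl
    exact hy (by rw [orderOf_eq_one_iff.mp hd]; exact D.one_mem)
  have hd0 : d ≠ 0 := by rw [← hd]; exact (orderOf_pos y).ne'
  obtain ⟨r, hr⟩ : ∃ r, r = d.minFac := ⟨_, rfl⟩
  have hrp : r.Prime := hr ▸ Nat.minFac_prime hd1
  have hrd : r ∣ d := hr ▸ Nat.minFac_dvd d
  obtain ⟨k, hk⟩ : ∃ k, k = d.factorization r := ⟨_, rfl⟩
  obtain ⟨m, hm⟩ : ∃ m, m = d / r ^ k := ⟨_, rfl⟩
  have hsplit : r ^ k * m = d := by rw [hm, hk]; exact Nat.ordProj_mul_ordCompl_eq_self d r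
  have hcop : Nat.Coprime (r ^ k) m := by
    rw [hm, hk]; exact (Nat.coprime_ordCompl hrp hd0).pow_left _
  have hk0 : 0 < k := by
    rw [hk]; exact hrp.factorization_pos_of_dvd hd0 hrd
  have hrk1 : 1 < r ^ k := Nat.one_lt_pow hk0.ne' hrp.one_lt
  have hm0 : 0 < m := by
    rcases Nat.eq_zero_or_pos m with h0 | h0
    · rw [h0, mul_zero] at hsplit; omega
    · exact h0
  by_cases hm1 : m = 1
  · refine ⟨1, by simpa using hy, r, k, hrp, hk0, ?_⟩
    rw [pow_one, hd, ← hsplit, hm1, mul_one]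
  · have hm2 : 1 < m := by omega
    by_cases h1 : y ^ (r ^ k) ∈ D
    · by_cases h2 : y ^ m ∈ D
      · exact absurd (mem_of_pow_mem_of_coprime D y _ _ hcop h1 h2) hy
      · have ho : orderOf (y ^ m) = r ^ k := by
          rw [orderOf_pow, hd, ← hsplit, Nat.gcd_eq_right (Dvd.intro_left _ rfl),
            Nat.mul_div_cancel _ hm0]
        refine ⟨m, h2, r, k, hrp, hk0, ho⟩
    · have ho : orderOf (y ^ (r ^ k)) = m := by
        rw [orderOf_pow, hd, ← hsplit, Nat.gcd_eq_right (Dvd.intro _ rfl),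
          Nat.mul_div_cancel_left _ (by omega)]
      have hlt : m < d := by rw [← hsplit]; nlinarith
      obtain ⟨i, hi, r', k', hr', hk', ho'⟩ := ih m hlt (y ^ (r ^ k)) ho h1
      refine ⟨r ^ k * i, by rwa [pow_mul], r', k', hr', hk', by rwa [pow_mul]⟩

lemma exists_lift_pgroup {G : Type*} [Group G] [Finite G] (N : Subgroup G) [N.Normal]
    (y : G ⧸ N) (r k : ℕ) (hr : r.Prime) (hk : 0 < k) (hy : orderOf y = r ^ k)
    (hcop : Nat.Coprime r (Nat.card N)) :
    ∃ g : G, QuotientGroup.mk' N g = y ∧ g ^ (r ^ k) = 1 := by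
  obtain ⟨g₁, hg₁⟩ := QuotientGroup.mk'_surjective N y
  have hrk1 : 1 < r ^ k := Nat.one_lt_pow hk.ne' hr.one_lt
  have hcop' : Nat.Coprime (Nat.card N) (r ^ k) := (hcop.pow_left k).symm
  obtain ⟨u, -, hu⟩ := Nat.exists_mul_mod_eq_one_of_coprime hcop' hrk1
  refine ⟨g₁ ^ (Nat.card N * u), ?_, ?_⟩
  · rw [map_pow, hg₁, ← pow_mod_orderOf, hy, hu, pow_one]
  · have h1 : g₁ ^ (r ^ k) ∈ N := by
      rw [← QuotientGroup.eq_one_iff, ← QuotientGroup.mk'_apply, map_pow, hg₁, ← hy,
        pow_orderOf_eq_one]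
    have h2 : (g₁ ^ (r ^ k)) ^ Nat.card N = 1 := by
      have h3 : (⟨g₁ ^ (r ^ k), h1⟩ : N) ^ Nat.card N = 1 := pow_card_eq_one'
      have h4 := congrArg Subtype.val h3
      rwa [Subgroup.coe_pow, Subgroup.coe_one] at h4
    calc (g₁ ^ (Nat.card N * u)) ^ (r ^ k) = ((g₁ ^ (r ^ k)) ^ Nat.card N) ^ u := by
          rw [← pow_mul, ← pow_mul, ← pow_mul]; congr 1; ring
      _ = 1 := by rw [h2, one_pow]


end Cfsg.Agent.Helper61.Mazurov
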