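import Mathlib
import Cfsg.Prelude.Def_Blocks
import Cfsg.Agent.Lib.Helper55.O2520Defs
import Cfsg.Agent.Lib.Helper17.Simple
import Cfsg.Agent.Lib.Helper17.Burnside

/-!
# O2520 / S3C piece (K6) `card_centralizer_cases` (helper86 sub-server of helper55's O2520 server, S0984)
-/

set_option autoImplicit false

namespace Cfsg.Agent.Helper61.O2520

open Cfsg Cfsg.Agent.Helper55.O2520
open scoped Classical

universe u

/-- if a prime `r` dividing `|G|` exactly once divides `|C(y)|`, some Sylow `r`-subgroup `Q` (cyclic of order `r`)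
is centralised by `y` -/
theorem h61_exists_sylow_centralized {G : Type u} [Group G] [Finite G] (r : ℕ) [Fact r.Prime] (m : ℕ)
    (hG : Nat.card G = r ^ 1 * m) (hrm : ¬ r ∣ m) (y : G)
    (hdvd : r ∣ Nat.card (Subgroup.centralizer ({y} : Set G))) :
    ∃ Q : Sylow r G, Nat.card (Q : Subgroup G) = r ∧
      y ∈ Subgroup.centralizer ((Q : Subgroup G) : Set G) ∧
      (Q : Subgroup G) ≤ Subgroup.centralizer ((Q : Subgroup G) : Set G) := by
  obtain ⟨w, hw⟩ := exists_prime_orderOf_dvd_card' r hdvd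
  have hw' : orderOf (w : G) = r := by rw [Subgroup.orderOf_coe]; exact hw
  have hwy : y * (w : G) = (w : G) * y := by
    have := w.2
    rw [Subgroup.mem_centralizer_iff] at this
    exact this y rfl
  have hcz : Nat.card (Subgroup.zpowers (w : G)) = r := by rw [Nat.card_zpowers, hw']
  have hpg : IsPGroup r (Subgroup.zpowers (w : G)) := IsPGroup.of_card (n := 1) (by rw [hcz, pow_one])
  obtain ⟨Q, hQ⟩ := hpg.exists_le_sylow
  have hQc : Nat.card (Q : Subgroup G) = r := by
    have := Cfsg.Agent.Helper17.sylow_card_eq Q hG hrm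
    rwa [pow_one] at this
  have hQeq : Subgroup.zpowers (w : G) = (Q : Subgroup G) :=
    Subgroup.eq_of_le_of_card_ge hQ (by rw [hQc, hcz])
  refine ⟨Q, hQc, ?_, ?_⟩
  · rw [Subgroup.mem_centralizer_iff]
    intro h hh
    have hh' : h ∈ Subgroup.zpowers (w : G) := by rw [hQeq]; exact hh
    obtain ⟨k, rfl⟩ := Subgroup.mem_zpowers_iff.mp hh'
    have hc : Commute (w : G) y := hwy.symm
    exact (hc.zpow_left k).eq
  · intro a ha
    rw [Subgroup.mem_centralizer_iff]
    intro h hh
    have ha' : a ∈ Subgroup.zpowers (w : G) := by rw [hQeq]; exact ha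
    have hh' : h ∈ Subgroup.zpowers (w : G) := by rw [hQeq]; exact hh
    obtain ⟨k, rfl⟩ := Subgroup.mem_zpowers_iff.mp hh'
    obtain ⟨l, rfl⟩ := Subgroup.mem_zpowers_iff.mp ha'
    exact ((Commute.refl (w : G)).zpow_zpow k l).eq

/-- `|N(Q)| * n_r = |G|` -/
theorem h61_card_normalizer_mul {G : Type u} [Group G] [Finite G] {r : ℕ} [Fact r.Prime] (Q : Sylow r G) :
    Nat.card (Subgroup.normalizer ((Q : Subgroup G) : Set G)) * Nat.card (Sylow r G) = Nat.card G := by
  rw [Q.card_eq_index_normalizer]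
  exact Subgroup.card_mul_index _

/-- (K6) -/
theorem card_centralizer_cases {G : Type u} [Group G] [Finite G] [IsSimpleGroup G] (hG : Nat.card G = 2520)
    (h7 : Nat.card (Sylow 7 G) = 120) (h5 : Nat.card (Sylow 5 G) = 126) (P : Sylow 3 G)
    (hab : ∀ a ∈ (P : Subgroup G), ∀ b ∈ (P : Subgroup G), a * b = b * a)
    (y : G) (hyP : y ∈ (P : Subgroup G)) (hy : orderOf y = 3)
    (hNy : ∀ n ∈ Subgroup.normalizer ((P : Subgroup G) : Set G), n * y = y * n → n ∈ (P : Subgroup G)) :
    Nat.card (Subgroup.centralizer ({y} : Set G)) = 9 ∨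
      Nat.card (Subgroup.centralizer ({y} : Set G)) = 36 := by
  have : Fact (Nat.Prime 3) := ⟨by norm_num⟩
  have : Fact (Nat.Prime 5) := ⟨by norm_num⟩
  have : Fact (Nat.Prime 7) := ⟨by norm_num⟩
  -- 5 does not divide |C(y)|
  have hn5 : ¬ 5 ∣ Nat.card (Subgroup.centralizer ({y} : Set G)) := by
    intro hd
    obtain ⟨Q, hQc, hyQ, -⟩ := h61_exists_sylow_centralized 5 504 (by rw [hG]; norm_num) (by norm_num) y hd
    have hN := h61_card_normalizer_mul Q
    rw [h5, hG] at hN
    have hN20 : Nat.card (Subgroup.normalizer ((Q : Subgroup G) : Set G)) = 20 := by omega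
    have hyN : y ∈ Subgroup.normalizer ((Q : Subgroup G) : Set G) :=
      Subgroup.centralizer_le_normalizer _ hyQ
    have := Subgroup.orderOf_dvd_natCard _ hyN
    rw [hy, hN20] at this
    omega
  -- 7 does not divide |C(y)|
  have hn7 : ¬ 7 ∣ Nat.card (Subgroup.centralizer ({y} : Set G)) := by
    intro hd
    obtain ⟨Q, hQc, hyQ, hQQ⟩ := h61_exists_sylow_centralized 7 360 (by rw [hG]; norm_num) (by norm_num) y hd
    have hN := h61_card_normalizer_mul Q
    rw [h7, hG] at hN
    have hN21 : Nat.card (Subgroup.normalizer ((Q : Subgroup G) : Set G)) = 21 := by omega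
    have hCN : Subgroup.centralizer ((Q : Subgroup G) : Set G) ≤
        Subgroup.normalizer ((Q : Subgroup G) : Set G) := Subgroup.centralizer_le_normalizer _
    have h1 : Nat.card (Subgroup.centralizer ((Q : Subgroup G) : Set G)) ∣ 21 := by
      rw [← hN21]
      exact Subgroup.card_dvd_of_le hCN
    have h2 : 7 ∣ Nat.card (Subgroup.centralizer ((Q : Subgroup G) : Set G)) := by
      have := Subgroup.card_dvd_of_le hQQ
      rwa [hQc] at this
    have h3 : 3 ∣ Nat.card (Subgroup.centralizer ((Q : Subgroup G) : Set G)) := by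
      have := Subgroup.orderOf_dvd_natCard _ hyQ
      rwa [hy] at this
    have h4 : Nat.card (Subgroup.centralizer ((Q : Subgroup G) : Set G)) = 21 := by
      have h5' : 21 ∣ Nat.card (Subgroup.centralizer ((Q : Subgroup G) : Set G)) :=
        Nat.Coprime.mul_dvd_of_dvd_of_dvd (by norm_num : Nat.Coprime 3 7) h3 h2
      exact Nat.dvd_antisymm h1 h5'
    have hEq : Subgroup.centralizer ((Q : Subgroup G) : Set G) =
        Subgroup.normalizer ((Q : Subgroup G) : Set G) :=
      Subgroup.eq_of_le_of_card_ge hCN (by rw [h4, hN21])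
    exact Cfsg.Agent.Helper17.not_normalizer_le_centralizer Q (by rw [hQc]; norm_num)
      (by rw [hQc, hG]; norm_num) (le_of_eq hEq.symm)
  obtain ⟨M, hMdef⟩ : ∃ M : Subgroup G, M = Subgroup.centralizer ({y} : Set G) := ⟨_, rfl⟩
  rw [← hMdef] at hn5 hn7 ⊢
  have hmemM : ∀ g : G, g ∈ M ↔ y * g = g * y := by
    intro g
    rw [hMdef, Subgroup.mem_centralizer_iff]
    simp
  have hP9 : Nat.card (P : Subgroup G) = 9 := by
    have := Cfsg.Agent.Helper17.sylow_card_eq P (k := 2) (m := 280) (by rw [hG]; norm_num) (by norm_num)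
    simpa using this
  have hPM : (P : Subgroup G) ≤ M := fun a ha => (hmemM a).2 (hab y hyP a ha)
  have h9 : 9 ∣ Nat.card M := by
    have := Subgroup.card_dvd_of_le hPM
    rwa [hP9] at this
  have hMG : Nat.card M ∣ 2520 := by
    have := Subgroup.card_subgroup_dvd_card M
    rwa [hG] at this
  -- the Sylow 3-subgroup of `M`
  have hnorm : Subgroup.normalizer (((P.subtype hPM : Sylow 3 M) : Subgroup M) : Set M) =
      ((P.subtype hPM : Sylow 3 M) : Subgroup M) := by
    rw [Sylow.coe_subtype, ← Subgroup.subgroupOf_normalizer_eq hPM]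
    ext n
    simp only [Subgroup.mem_subgroupOf]
    constructor
    · intro hn
      exact hNy n hn ((hmemM n).1 n.2).symm
    · intro hn
      exact Subgroup.le_normalizer hn
  have hcardPM : Nat.card ((P.subtype hPM : Sylow 3 M) : Subgroup M) = 9 := by
    rw [Sylow.coe_subtype, ← hP9]
    exact Nat.card_congr (Subgroup.subgroupOfEquivOfLe hPM).toEquiv
  have hidx := Subgroup.card_mul_index ((P.subtype hPM : Sylow 3 M) : Subgroup M)
  have hn3 : Nat.card (Sylow 3 M) = ((P.subtype hPM : Sylow 3 M) : Subgroup M).index :=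
    ((P.subtype hPM : Sylow 3 M).card_eq_index_normalizer).trans (congrArg Subgroup.index hnorm)
  have hmod : Nat.card (Sylow 3 M) % 3 = 1 := by
    have := card_sylow_modEq_one 3 M
    unfold Nat.ModEq at this
    omega
  rw [hcardPM, ← hn3] at hidx
  obtain ⟨k, hk⟩ := h9
  have hk280 : k ∣ 280 := by
    have : 9 * k ∣ 9 * 280 := by rw [← hk]; exact hMG
    exact Nat.dvd_of_mul_dvd_mul_left (by norm_num) this
  have hk5 : ¬ 5 ∣ k := fun h => hn5 (by rw [hk]; exact Dvd.dvd.mul_left h 9)
  have hk7 : ¬ 7 ∣ k := fun h => hn7 (by rw [hk]; exact Dvd.dvd.mul_left h 9)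
  have hc5 : Nat.Coprime k 5 := ((Nat.Prime.coprime_iff_not_dvd (by norm_num)).2 hk5).symm
  have hc7 : Nat.Coprime k 7 := ((Nat.Prime.coprime_iff_not_dvd (by norm_num)).2 hk7).symm
  have hc35 : Nat.Coprime k 35 := Nat.Coprime.mul_right hc5 hc7
  have hk8 : k ∣ 8 := Nat.Coprime.dvd_of_dvd_mul_right hc35 (by norm_num; exact hk280)
  have hkle : k ≤ 8 := Nat.le_of_dvd (by norm_num) hk8
  have hkn : Nat.card (Sylow 3 M) = k := by omega
  rw [hkn] at hmod
  rw [hk]
  interval_cases k <;> omega

end Cfsg.Agent.Helper61.O2520
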