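import Mathlib
import Cfsg.Prelude.Def_Blocks
import Cfsg.Agent.Lib.Helper55.O2520Defs
import Cfsg.Agent.Lib.Helper17.Simple
import Cfsg.Agent.Lib.Helper17.Burnside

/-!
# O2520 / S3C piece (K7) `three_involutions_of_card36` (helper86 sub-server of helper55's O2520 server, S0984)
-/

set_option autoImplicit false

namespace Cfsg.Agent.Helper61.O2520

open Cfsg Cfsg.Agent.Helper55.O2520
open scoped Classical

universe u

/-- a group of order 36 with a self-normalising abelian Sylow 3-subgroup that no involution centralises has at least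
three involutions (the normal 3-complement of order 4 is not cyclic) -/
theorem h61_three_inv {H : Type u} [Group H] [Finite H] (hH : Nat.card H = 36) (Q : Sylow 3 H)
    (hQ9 : Nat.card (Q : Subgroup H) = 9)
    (hNC : Subgroup.normalizer ((Q : Subgroup H) : Set H) ≤ Subgroup.centralizer ((Q : Subgroup H) : Set H))
    (hnoinv : ∀ j : H, orderOf j = 2 → j ∉ Subgroup.centralizer ((Q : Subgroup H) : Set H)) :
    3 ≤ Nat.card {j : H // orderOf j = 2} := by
  have : Fact (Nat.Prime 3) := ⟨by norm_num⟩
  obtain ⟨K, hKn, hKc, -⟩ := Cfsg.Agent.Helper17.exists_normal_pcomplement Q hNC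
  rw [hQ9, hH] at hKc
  have hK4 : Nat.card K = 4 := by omega
  by_cases h4 : ∃ v ∈ K, orderOf v = 4
  · exfalso
    obtain ⟨v, hvK, hv4⟩ := h4
    have hzK : Subgroup.zpowers v = K :=
      Subgroup.eq_of_le_of_card_ge (by rwa [Subgroup.zpowers_le]) (by rw [hK4, Nat.card_zpowers, hv4])
    have huniq : ∀ w ∈ K, orderOf w = 2 → w = v ^ 2 := by
      intro w hw hw2
      rw [← hzK, mem_zpowers_iff_mem_range_orderOf, hv4] at hw
      obtain ⟨i, hi, rfl⟩ := Finset.mem_image.mp hw
      have hi4 : i < 4 := Finset.mem_range.mp hi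
      interval_cases i
      · rw [pow_zero, orderOf_one] at hw2
        omega
      · rw [pow_one, hv4] at hw2
        omega
      · rfl
      · rw [orderOf_pow' v (by norm_num : (3 : ℕ) ≠ 0), hv4] at hw2
        norm_num at hw2
    have hj2 : orderOf (v ^ 2) = 2 := by
      rw [orderOf_pow' v (by norm_num : (2 : ℕ) ≠ 0), hv4]
      norm_num
    have hjK : v ^ 2 ∈ K := K.pow_mem hvK 2
    have hcent : ∀ m : H, m * v ^ 2 * m⁻¹ = v ^ 2 := by
      intro m
      apply huniq _ (hKn.conj_mem _ hjK m)
      have hc : m * v ^ 2 * m⁻¹ = (MulAut.conj m).toMonoidHom (v ^ 2) := by simp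
      rw [hc, orderOf_injective _ (MulAut.conj m).injective]
      exact hj2
    apply hnoinv (v ^ 2) hj2
    rw [Subgroup.mem_centralizer_iff]
    intro h _
    have := hcent h
    calc h * v ^ 2 = h * v ^ 2 * h⁻¹ * h := by group
      _ = v ^ 2 * h := by rw [this]
  · push Not at h4
    have hsub : ((K : Set H) \ {1}) ⊆ {j : H | orderOf j = 2} := by
      intro w hw
      obtain ⟨hwK, hw1⟩ := hw
      have hw1' : w ≠ 1 := by simpa using hw1
      have hdvd : orderOf w ∣ 4 := by
        have := Subgroup.orderOf_dvd_natCard K hwK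
        rwa [hK4] at this
      have hne4 := h4 w hwK
      have hne1 : orderOf w ≠ 1 := by rwa [Ne, orderOf_eq_one_iff]
      have hle : orderOf w ≤ 4 := Nat.le_of_dvd (by norm_num) hdvd
      have hpos : 0 < orderOf w := orderOf_pos w
      show orderOf w = 2
      interval_cases (orderOf w) <;> omega
    have hcK : (K : Set H).ncard = 4 := by
      rw [← hK4]
      exact (Nat.card_coe_set_eq (K : Set H)).symm
    have hc3 : ((K : Set H) \ {1}).ncard = 3 := by
      rw [Set.ncard_sdiff_singleton_of_mem (K.one_mem), hcK]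
    have hfin : ({j : H | orderOf j = 2}).Finite := Set.toFinite _
    have := Set.ncard_le_ncard hsub hfin
    rw [hc3] at this
    calc 3 ≤ ({j : H | orderOf j = 2}).ncard := this
      _ = Nat.card {j : H // orderOf j = 2} := (Nat.card_coe_set_eq {j : H | orderOf j = 2}).symm

/-- (K7) -/
theorem three_involutions_of_card36 {G : Type u} [Group G] [Finite G] (P : Sylow 3 G)
    (hP : Nat.card (P : Subgroup G) = 9)
    (hC : Subgroup.centralizer ((P : Subgroup G) : Set G) = (P : Subgroup G))
    (y : G) (hyP : y ∈ (P : Subgroup G))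
    (hNy : ∀ n ∈ Subgroup.normalizer ((P : Subgroup G) : Set G), n * y = y * n → n ∈ (P : Subgroup G))
    (hM : Nat.card (Subgroup.centralizer ({y} : Set G)) = 36) :
    3 ≤ Nat.card {j : G // orderOf j = 2 ∧ j * y = y * j} := by
  have : Fact (Nat.Prime 3) := ⟨by norm_num⟩
  obtain ⟨M, hMdef⟩ : ∃ M : Subgroup G, M = Subgroup.centralizer ({y} : Set G) := ⟨_, rfl⟩
  rw [← hMdef] at hM
  have hmemM : ∀ g : G, g ∈ M ↔ y * g = g * y := by
    intro g
    rw [hMdef, Subgroup.mem_centralizer_iff]
    simp
  have hab : ∀ a ∈ (P : Subgroup G), ∀ b ∈ (P : Subgroup G), a * b = b * a := by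
    intro a ha b hb
    have hb' : b ∈ Subgroup.centralizer ((P : Subgroup G) : Set G) := by rw [hC]; exact hb
    rw [Subgroup.mem_centralizer_iff] at hb'
    exact hb' a ha
  have hPM : (P : Subgroup G) ≤ M := fun a ha => (hmemM a).2 (hab y hyP a ha)
  have hnorm : Subgroup.normalizer (((P.subtype hPM : Sylow 3 M) : Subgroup M) : Set M) =
      ((P.subtype hPM : Sylow 3 M) : Subgroup M) := by
    rw [Sylow.coe_subtype, ← Subgroup.subgroupOf_normalizer_eq hPM]
    ext n
    simp only [Subgroup.mem_subgroupOf]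
    constructor
    · intro hn
      exact hNy n hn ((hmemM n).1 n.2).symm
    · intro hn
      exact Subgroup.le_normalizer hn
  have hcardPM : Nat.card ((P.subtype hPM : Sylow 3 M) : Subgroup M) = 9 := by
    rw [Sylow.coe_subtype, ← hP]
    exact Nat.card_congr (Subgroup.subgroupOfEquivOfLe hPM).toEquiv
  have hmemQ : ∀ n : M, n ∈ ((P.subtype hPM : Sylow 3 M) : Subgroup M) ↔ (n : G) ∈ (P : Subgroup G) := by
    intro n
    rw [Sylow.coe_subtype, Subgroup.mem_subgroupOf]
  have hNC : Subgroup.normalizer (((P.subtype hPM : Sylow 3 M) : Subgroup M) : Set M) ≤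
      Subgroup.centralizer (((P.subtype hPM : Sylow 3 M) : Subgroup M) : Set M) := by
    rw [hnorm]
    intro a ha
    rw [Subgroup.mem_centralizer_iff]
    intro b hb
    apply Subtype.ext
    rw [Subgroup.coe_mul, Subgroup.coe_mul]
    exact hab _ ((hmemQ b).1 hb) _ ((hmemQ a).1 ha)
  have hnoinv : ∀ j : M, orderOf j = 2 →
      j ∉ Subgroup.centralizer (((P.subtype hPM : Sylow 3 M) : Subgroup M) : Set M) := by
    intro j hj2 hjc
    rw [Subgroup.mem_centralizer_iff] at hjc
    have hjP : (j : G) ∈ Subgroup.centralizer ((P : Subgroup G) : Set G) := by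
      rw [Subgroup.mem_centralizer_iff]
      intro h hh
      have := hjc ⟨h, hPM hh⟩ ((hmemQ _).2 hh)
      have := congrArg (Subtype.val) this
      simpa using this
    rw [hC] at hjP
    have hdvd := Subgroup.orderOf_dvd_natCard _ hjP
    rw [Subgroup.orderOf_coe, hj2, hP] at hdvd
    omega
  have h3 := h61_three_inv hM (P.subtype hPM) hcardPM hNC hnoinv
  refine le_trans h3 ?_
  refine Nat.card_le_card_of_injective
    (fun j : {j : M // orderOf j = 2} =>
      (⟨(j.1 : G), by rw [Subgroup.orderOf_coe]; exact j.2, ((hmemM _).1 j.1.2).symm⟩ :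
        {j : G // orderOf j = 2 ∧ j * y = y * j})) ?_
  intro a b hab'
  have := congrArg Subtype.val hab'
  exact Subtype.ext (Subtype.ext this)

end Cfsg.Agent.Helper61.O2520
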