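import Mathlib
import Cfsg.Agent.S0243
import Cfsg.Agent.Lib.Helper18.O3K0

/-!
# O3K piece (PSL) `concl_psl` (helper18 server for S2363)

`|PSL_n(q)| < p^(3k)` and, for `n ≥ 3`, `|PSL_n(q)|^3 < p^(8k)`; for `n = 2` the exception is witnessed by
`F` itself.  Pure arithmetic on top of the landed order formula S0243.
-/

set_option autoImplicit false

namespace Cfsg.Agent.Helper61.O3K

open Cfsg Cfsg.Agent.Helper18.O3K

/-- `∏_{i<n} (q^n - q^i) = q^(0+1+...+(n-1)) * ∏_{i<n} (q^(i+1) - 1)` -/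
theorem h61_prod_eq (q n : ℕ) :
    ∏ i : Fin n, (q ^ n - q ^ (i : ℕ)) =
      q ^ (∑ i ∈ Finset.range n, i) * ∏ i ∈ Finset.range n, (q ^ (i + 1) - 1) := by
  rw [Fin.prod_univ_eq_prod_range (fun i => q ^ n - q ^ i) n]
  rw [← Finset.prod_pow_eq_pow_sum, ← Finset.prod_range_reflect (fun i => q ^ (i + 1) - 1) n,
    ← Finset.prod_mul_distrib]
  refine Finset.prod_congr rfl fun i hi => ?_
  have hi' : i < n := Finset.mem_range.mp hi
  have e1 : n - 1 - i + 1 = n - i := by omega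
  rw [e1, Nat.mul_sub, mul_one, ← pow_add]
  congr 2
  omega

variable {p : ℕ}

/-- (PSL) -/
theorem concl_psl (hp : p.Prime) (F : Type) [Field F] [Fintype F] [CharP F p] (n : ℕ) (hn : 2 ≤ n)
    (h2 : n = 2 → 4 ≤ Fintype.card F) : Concl p (Matrix.ProjectiveSpecialLinearGroup (Fin n) F) := by
  obtain ⟨f, hf1, hFq⟩ := card_eq_pow hp F
  obtain ⟨q, hq⟩ : ∃ q, q = p ^ f := ⟨_, rfl⟩
  rw [← hq] at hFq
  have hS := Cfsg.Agent.S0243.result (F := F) (q := q) hFq n hn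
  rw [h61_prod_eq] at hS
  have hq2 : 2 ≤ q := by
    rw [hq]
    calc 2 ≤ p := hp.two_le
      _ = p ^ 1 := (pow_one p).symm
      _ ≤ p ^ f := Nat.pow_le_pow_right hp.pos hf1
  have hq1 : 1 ≤ q - 1 := by omega
  have hqS : ∀ S : ℕ, q ^ S = p ^ (f * S) := fun S => by rw [hq, ← pow_mul]
  have hd : ¬ p ∣ Nat.gcd n (q - 1) * (q - 1) := by
    intro h
    have h1 : ¬ p ∣ q ^ 1 - 1 := not_dvd_pow_sub_one hp hq hf1 (le_refl 1)
    rw [pow_one] at h1
    rcases (Nat.Prime.dvd_mul hp).mp h with h3 | h3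
    · exact h1 (dvd_trans h3 (Nat.gcd_dvd_right _ _))
    · exact h1 h3
  have hP : ¬ p ∣ ∏ i ∈ Finset.range n, (q ^ (i + 1) - 1) :=
    not_dvd_prod_sub_one hp hq hf1 (fun i => i + 1) (fun i => by omega) n
  have hmul : Nat.gcd n (q - 1) * (q - 1) * Nat.card (Matrix.ProjectiveSpecialLinearGroup (Fin n) F) =
      p ^ (f * ∑ i ∈ Finset.range n, i) * ∏ i ∈ Finset.range n, (q ^ (i + 1) - 1) := by
    rw [mul_assoc, hS, hqS]
  have hg1 : 1 ≤ Nat.gcd n (q - 1) := Nat.gcd_pos_of_pos_left _ (by omega)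
  rcases eq_or_lt_of_le hn with hn2 | hn3
  · -- n = 2
    subst hn2
    have hcard0 : Nat.card (Matrix.ProjectiveSpecialLinearGroup (Fin 2) F) ≠ 0 := Nat.card_pos.ne'
    have hfac := factorization_of_mul hp hcard0 hmul hd hP
    have hsum : ∑ i ∈ Finset.range 2, i = 1 := by decide
    rw [hsum, mul_one] at hfac
    unfold Concl
    rw [hfac]
    refine ⟨?_, fun hne => ?_⟩
    · -- |G| < q^3
      have hprod2 : ∏ i ∈ Finset.range 2, (q ^ (i + 1) - 1) = (q - 1) * (q ^ 2 - 1) := by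
        rw [Finset.prod_range_succ, Finset.prod_range_one]
        simp
      rw [hsum, pow_one, hprod2] at hS
      -- gcd * ((q-1) * |G|) = q * ((q-1) * (q^2-1))
      have h5 : (q - 1) * Nat.card (Matrix.ProjectiveSpecialLinearGroup (Fin 2) F) ≤
          (q - 1) * (q * (q ^ 2 - 1)) := by
        calc (q - 1) * Nat.card (Matrix.ProjectiveSpecialLinearGroup (Fin 2) F)
            ≤ Nat.gcd 2 (q - 1) *
              ((q - 1) * Nat.card (Matrix.ProjectiveSpecialLinearGroup (Fin 2) F)) :=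
              Nat.le_mul_of_pos_left _ hg1
          _ = q * ((q - 1) * (q ^ 2 - 1)) := hS
          _ = (q - 1) * (q * (q ^ 2 - 1)) := by ring
      have h6 := Nat.le_of_mul_le_mul_left h5 hq1
      have h7 : q * (q ^ 2 - 1) < q * q ^ 2 :=
        Nat.mul_lt_mul_of_pos_left (Nat.sub_lt (by positivity) one_pos) (by omega)
      calc Nat.card (Matrix.ProjectiveSpecialLinearGroup (Fin 2) F) ≤ q * (q ^ 2 - 1) := h6
        _ < q * q ^ 2 := h7
        _ = p ^ (3 * f) := by rw [hq]; ring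
    · exact absurd ⟨F, inferInstance, inferInstance, by rw [hFq, hq], ⟨MulEquiv.refl _⟩⟩ hne
  · -- n ≥ 3
    obtain ⟨m, rfl⟩ : ∃ m, n = m + 1 := ⟨n - 1, by omega⟩
    have hm2 : 2 ≤ m := by omega
    refine concl_of_mul hp _ _ _ hmul hd hP ?_
    rw [Finset.prod_range_succ' (fun i => q ^ (i + 1) - 1) m]
    simp only [zero_add, pow_one]
    have hP' := prod_sub_one_lt (q := q) (by omega) (fun i => i + 1 + 1) (m := m) (by omega)
    have hE : (∑ i ∈ Finset.range m, (i + 1 + 1)) * 2 = m * (m - 1) + 4 * m := by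
      rw [Finset.sum_add_distrib, Finset.sum_add_distrib, add_mul, add_mul,
        Finset.sum_range_id_mul_two]
      simp
      ring
    have hSm : (∑ i ∈ Finset.range (m + 1), i) * 2 = (m + 1) * m := by
      rw [Finset.sum_range_id_mul_two]
      simp
    obtain ⟨E, hEdef⟩ : ∃ E, E = ∑ i ∈ Finset.range m, (i + 1 + 1) := ⟨_, rfl⟩
    obtain ⟨S, hSdef⟩ : ∃ S, S = ∑ i ∈ Finset.range (m + 1), i := ⟨_, rfl⟩
    rw [← hEdef] at hP' hE
    rw [← hSdef] at hSm ⊢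
    obtain ⟨P', hP'def⟩ : ∃ P', P' = ∏ i ∈ Finset.range m, (q ^ (i + 1 + 1) - 1) := ⟨_, rfl⟩
    rw [← hP'def] at hP' ⊢
    have hexp : 3 * E ≤ 5 * S := by
      obtain ⟨k, rfl⟩ : ∃ k, m = k + 2 := ⟨m - 2, by omega⟩
      have e1 : (k + 2) * (k + 2 - 1) = (k + 2) * (k + 1) := by
        congr 1
      rw [e1] at hE
      nlinarith [hE, hSm, Nat.zero_le (k * k), Nat.zero_le k]
    have h8 : P' ^ 3 < q ^ (5 * S) := by
      calc P' ^ 3 < (q ^ E) ^ 3 := Nat.pow_lt_pow_left hP' (by norm_num)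
        _ = q ^ (3 * E) := by rw [← pow_mul, mul_comm]
        _ ≤ q ^ (5 * S) := Nat.pow_le_pow_right (by omega) hexp
    have h9 : p ^ (5 * (f * S)) = q ^ (5 * S) := by
      rw [hq, ← pow_mul]
      congr 1
      ring
    rw [h9, mul_pow, mul_pow]
    have h10 : (q - 1) ^ 3 ≤ Nat.gcd (m + 1) (q - 1) ^ 3 * (q - 1) ^ 3 :=
      Nat.le_mul_of_pos_left _ (pow_pos hg1 3)
    calc P' ^ 3 * (q - 1) ^ 3 < q ^ (5 * S) * (q - 1) ^ 3 :=
          Nat.mul_lt_mul_of_pos_right h8 (pow_pos hq1 3)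
      _ = (q - 1) ^ 3 * q ^ (5 * S) := mul_comm _ _
      _ ≤ Nat.gcd (m + 1) (q - 1) ^ 3 * (q - 1) ^ 3 * q ^ (5 * S) := Nat.mul_le_mul_right _ h10

end Cfsg.Agent.Helper61.O3K
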