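import Mathlib
import Cfsg.Agent.S0280
import Cfsg.Agent.Lib.Helper18.O3K0

/-!
# O3K piece (PSU) `concl_psu` (helper18 server for S2363)

`|PSU_n(q)|^3 < p^(8k)` for `n ≥ 3`.  Pure arithmetic on top of the landed order formula S0280; the factors are
paired as `(q^a - 1)(q^(a+1) + 1) < q^(2a+1)`.
-/

set_option autoImplicit false

namespace Cfsg.Agent.Helper61.O3K

open Cfsg Cfsg.Agent.Helper18.O3K

/-- `(q^a - 1)(q^(a+1) + 1) < q^(2a+1)` -/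
theorem h61_pair {q : ℕ} (hq : 1 ≤ q) (a : ℕ) :
    (q ^ a - 1) * (q ^ (a + 1) + 1) < q ^ (a + (a + 1)) := by
  have e1 : q ^ (a + 1) = q ^ a * q := pow_succ q a
  have e2 : q ^ (a + (a + 1)) = q ^ a * (q ^ a * q) := by rw [pow_add, e1]
  rw [e2, e1]
  obtain ⟨y, hy⟩ : ∃ y, q ^ a = y + 1 := ⟨q ^ a - 1, by have : 0 < q ^ a := pow_pos hq a; omega⟩
  rw [hy, Nat.add_sub_cancel]
  nlinarith [Nat.mul_le_mul_left y hq, Nat.zero_le (y * q), Nat.zero_le y]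

/-- the paired bound for an even number of factors (`i = 1, ..., 2j`) -/
theorem h61_U_even {q : ℕ} (hq : 1 ≤ q) (j : ℕ) :
    ∏ i ∈ Finset.range (2 * j),
        (if Even (i + 1) then q ^ (i + 1 + 1) + 1 else q ^ (i + 1 + 1) - 1)
      ≤ q ^ (∑ i ∈ Finset.range (2 * j), (i + 1 + 1)) := by
  induction j with
  | zero => simp
  | succ j ih =>
    have e : 2 * (j + 1) = 2 * j + 1 + 1 := by ring
    have h1 : ¬ Even (2 * j + 1) := by rw [Nat.even_iff]; omega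
    have h2 : Even (2 * j + 1 + 1) := by rw [Nat.even_iff]; omega
    rw [e, Finset.prod_range_succ, Finset.prod_range_succ, Finset.sum_range_succ,
      Finset.sum_range_succ, if_neg h1, if_pos h2]
    obtain ⟨A, hA⟩ : ∃ A, A = ∏ i ∈ Finset.range (2 * j),
        (if Even (i + 1) then q ^ (i + 1 + 1) + 1 else q ^ (i + 1 + 1) - 1) := ⟨_, rfl⟩
    obtain ⟨S, hS⟩ : ∃ S, S = ∑ i ∈ Finset.range (2 * j), (i + 1 + 1) := ⟨_, rfl⟩
    rw [← hA, ← hS] at ih ⊢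
    have hpr := h61_pair hq (2 * j + 1 + 1)
    calc A * (q ^ (2 * j + 1 + 1) - 1) * (q ^ (2 * j + 1 + 1 + 1) + 1)
        = A * ((q ^ (2 * j + 1 + 1) - 1) * (q ^ (2 * j + 1 + 1 + 1) + 1)) := mul_assoc _ _ _
      _ ≤ q ^ S * q ^ (2 * j + 1 + 1 + (2 * j + 1 + 1 + 1)) := Nat.mul_le_mul ih hpr.le
      _ = q ^ (S + (2 * j + 1 + 1) + (2 * j + 1 + 1 + 1)) := by
          rw [← pow_add, Nat.add_assoc S]

/-- the strict paired bound for `m ≥ 1` factors (`i = 1, ..., m`) -/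
theorem h61_U_lt {q : ℕ} (hq : 1 ≤ q) (m : ℕ) (hm : 1 ≤ m) :
    ∏ i ∈ Finset.range m,
        (if Even (i + 1) then q ^ (i + 1 + 1) + 1 else q ^ (i + 1 + 1) - 1)
      < q ^ (∑ i ∈ Finset.range m, (i + 1 + 1)) := by
  rcases Nat.even_or_odd' m with ⟨j, hj | hj⟩
  · -- m = 2 j, j ≥ 1
    obtain ⟨k, rfl⟩ : ∃ k, j = k + 1 := ⟨j - 1, by omega⟩
    have ih := h61_U_even hq k
    have e : m = 2 * k + 1 + 1 := by omega
    have h1 : ¬ Even (2 * k + 1) := by rw [Nat.even_iff]; omega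
    have h2 : Even (2 * k + 1 + 1) := by rw [Nat.even_iff]; omega
    rw [e, Finset.prod_range_succ, Finset.prod_range_succ, Finset.sum_range_succ,
      Finset.sum_range_succ, if_neg h1, if_pos h2]
    obtain ⟨A, hA⟩ : ∃ A, A = ∏ i ∈ Finset.range (2 * k),
        (if Even (i + 1) then q ^ (i + 1 + 1) + 1 else q ^ (i + 1 + 1) - 1) := ⟨_, rfl⟩
    obtain ⟨S, hS⟩ : ∃ S, S = ∑ i ∈ Finset.range (2 * k), (i + 1 + 1) := ⟨_, rfl⟩
    rw [← hA, ← hS] at ih ⊢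
    have hpr := h61_pair hq (2 * k + 1 + 1)
    calc A * (q ^ (2 * k + 1 + 1) - 1) * (q ^ (2 * k + 1 + 1 + 1) + 1)
        = A * ((q ^ (2 * k + 1 + 1) - 1) * (q ^ (2 * k + 1 + 1 + 1) + 1)) := mul_assoc _ _ _
      _ ≤ q ^ S * ((q ^ (2 * k + 1 + 1) - 1) * (q ^ (2 * k + 1 + 1 + 1) + 1)) :=
          Nat.mul_le_mul_right _ ih
      _ < q ^ S * q ^ (2 * k + 1 + 1 + (2 * k + 1 + 1 + 1)) :=
          Nat.mul_lt_mul_of_pos_left hpr (pow_pos hq S)
      _ = q ^ (S + (2 * k + 1 + 1) + (2 * k + 1 + 1 + 1)) := by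
          rw [← pow_add, Nat.add_assoc S]
  · -- m = 2 j + 1
    have ih := h61_U_even hq j
    have h1 : ¬ Even (2 * j + 1) := by rw [Nat.even_iff]; omega
    rw [hj, Finset.prod_range_succ, Finset.sum_range_succ, if_neg h1]
    obtain ⟨A, hA⟩ : ∃ A, A = ∏ i ∈ Finset.range (2 * j),
        (if Even (i + 1) then q ^ (i + 1 + 1) + 1 else q ^ (i + 1 + 1) - 1) := ⟨_, rfl⟩
    obtain ⟨S, hS⟩ : ∃ S, S = ∑ i ∈ Finset.range (2 * j), (i + 1 + 1) := ⟨_, rfl⟩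
    rw [← hA, ← hS] at ih ⊢
    calc A * (q ^ (2 * j + 1 + 1) - 1) ≤ q ^ S * (q ^ (2 * j + 1 + 1) - 1) :=
          Nat.mul_le_mul_right _ ih
      _ < q ^ S * q ^ (2 * j + 1 + 1) :=
          Nat.mul_lt_mul_of_pos_left (Nat.sub_lt (pow_pos hq _) one_pos) (pow_pos hq S)
      _ = q ^ (S + (2 * j + 1 + 1)) := (pow_add _ _ _).symm

variable {p : ℕ}

/-- (PSU) -/
theorem concl_psu (hp : p.Prime) (F : Type) [Field F] [Fintype F] [CharP F p] (n q : ℕ)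
    (hF : Fintype.card F = q ^ 2) (hn : 3 ≤ n) : Concl p (PSU n F q) := by
  obtain ⟨g, hg1, hFg⟩ := card_eq_pow hp F
  have hqdvd : q ∣ p ^ g := by
    rw [← hFg, hF]
    exact dvd_pow_self q two_ne_zero
  obtain ⟨f, -, hq⟩ := (Nat.dvd_prime_pow hp).mp hqdvd
  have hf1 : 1 ≤ f := by
    rcases Nat.eq_zero_or_pos f with h0 | h0
    · exfalso
      rw [h0, pow_zero] at hq
      rw [hq, one_pow] at hF
      have : 1 < p ^ g := Nat.one_lt_pow (by omega) hp.one_lt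
      omega
    · exact h0
  have hS := Cfsg.Agent.S0280.result (F := F) (q := q) hF n (by omega)
  have hq2 : 2 ≤ q := by
    rw [hq]
    calc 2 ≤ p := hp.two_le
      _ = p ^ 1 := (pow_one p).symm
      _ ≤ p ^ f := Nat.pow_le_pow_right hp.pos hf1
  have hq1 : 1 ≤ q := by omega
  have hd : ¬ p ∣ Nat.gcd n (q + 1) * (q + 1) := by
    intro h
    have h1 : ¬ p ∣ q ^ 1 + 1 := not_dvd_pow_add_one hp hq hf1 (le_refl 1)
    rw [pow_one] at h1
    rcases (Nat.Prime.dvd_mul hp).mp h with h3 | h3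
    · exact h1 (dvd_trans h3 (Nat.gcd_dvd_right _ _))
    · exact h1 h3
  have hP : ¬ p ∣ ∏ i ∈ Finset.range n,
      (if Even i then q ^ (i + 1) + 1 else q ^ (i + 1) - 1) := by
    intro h
    obtain ⟨i, -, hi⟩ := (Prime.dvd_finsetProd_iff hp.prime _).mp h
    split_ifs at hi
    · exact not_dvd_pow_add_one hp hq hf1 (by omega) hi
    · exact not_dvd_pow_sub_one hp hq hf1 (by omega) hi
  have hN : n * (n - 1) / 2 * 2 = n * (n - 1) :=
    Nat.div_mul_cancel (Nat.even_mul_pred_self n).two_dvd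
  obtain ⟨N, hNdef⟩ : ∃ N, N = n * (n - 1) / 2 := ⟨_, rfl⟩
  rw [← hNdef] at hS hN
  have hmul : Nat.gcd n (q + 1) * (q + 1) * Nat.card (PSU n F q) =
      p ^ (f * N) * ∏ i ∈ Finset.range n,
        (if Even i then q ^ (i + 1) + 1 else q ^ (i + 1) - 1) := by
    rw [mul_assoc, hS, hq, ← pow_mul]
  have hg1' : 1 ≤ Nat.gcd n (q + 1) := Nat.gcd_pos_of_pos_left _ (by omega)
  obtain ⟨m, rfl⟩ : ∃ m, n = m + 1 := ⟨n - 1, by omega⟩
  have hm2 : 2 ≤ m := by omega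
  refine concl_of_mul hp _ _ _ hmul hd hP ?_
  rw [Finset.prod_range_succ' (fun i => if Even i then q ^ (i + 1) + 1 else q ^ (i + 1) - 1) m]
  have h0 : (if Even 0 then q ^ (0 + 1) + 1 else q ^ (0 + 1) - 1) = q + 1 := by
    rw [if_pos Even.zero, zero_add, pow_one]
  rw [h0]
  have hP' := h61_U_lt hq1 m (by omega)
  have hE : (∑ i ∈ Finset.range m, (i + 1 + 1)) * 2 = m * (m - 1) + 4 * m := by
    rw [Finset.sum_add_distrib, Finset.sum_add_distrib, add_mul, add_mul,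
      Finset.sum_range_id_mul_two]
    simp
    ring
  obtain ⟨E, hEdef⟩ : ∃ E, E = ∑ i ∈ Finset.range m, (i + 1 + 1) := ⟨_, rfl⟩
  rw [← hEdef] at hP' hE
  obtain ⟨P', hP'def⟩ : ∃ P', P' = ∏ i ∈ Finset.range m,
      (if Even (i + 1) then q ^ (i + 1 + 1) + 1 else q ^ (i + 1 + 1) - 1) := ⟨_, rfl⟩
  rw [← hP'def] at hP' ⊢
  have hexp : 3 * E ≤ 5 * N := by
    obtain ⟨k, rfl⟩ : ∃ k, m = k + 2 := ⟨m - 2, by omega⟩
    have e1 : (k + 2) * (k + 2 - 1) = (k + 2) * (k + 1) := by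
      congr 1
    have e2 : (k + 2 + 1) * (k + 2 + 1 - 1) = (k + 3) * (k + 2) := by
      congr 1
    rw [e1] at hE
    rw [e2] at hN
    nlinarith [hE, hN, Nat.zero_le (k * k), Nat.zero_le k]
  have h8 : P' ^ 3 < q ^ (5 * N) := by
    calc P' ^ 3 < (q ^ E) ^ 3 := Nat.pow_lt_pow_left hP' (by norm_num)
      _ = q ^ (3 * E) := by rw [← pow_mul, mul_comm]
      _ ≤ q ^ (5 * N) := Nat.pow_le_pow_right hq1 hexp
  have h9 : p ^ (5 * (f * N)) = q ^ (5 * N) := by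
    rw [hq, ← pow_mul]
    congr 1
    ring
  rw [h9, mul_pow, mul_pow]
  have h10 : (q + 1) ^ 3 ≤ Nat.gcd (m + 1) (q + 1) ^ 3 * (q + 1) ^ 3 :=
    Nat.le_mul_of_pos_left _ (pow_pos hg1' 3)
  calc P' ^ 3 * (q + 1) ^ 3 < q ^ (5 * N) * (q + 1) ^ 3 :=
        Nat.mul_lt_mul_of_pos_right h8 (by positivity)
    _ = (q + 1) ^ 3 * q ^ (5 * N) := mul_comm _ _
    _ ≤ Nat.gcd (m + 1) (q + 1) ^ 3 * (q + 1) ^ 3 * q ^ (5 * N) := Nat.mul_le_mul_right _ h10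

end Cfsg.Agent.Helper61.O3K
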