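import Mathlib
import Cfsg.Agent.Lib.Helper84.O7Defs

/-!
# O7F project (S1686), piece PERF : helper27's presented group `A1G` is perfect.

In the abelianization all `of x` (`x = b..i`) have the same image `t` (braid relators along the
connected diagram b-c-d-e-f-g, d-h-i), `t * t = 1` (R3), `t ^ 63 = 1` (R38), so `t = 1`;
`of a = 1` by R0.
-/

set_option autoImplicit false
set_option maxRecDepth 100000

namespace Cfsg.Agent.Helper61.O7F

open Cfsg.Agent.Helper84.O7
open Cfsg.Spor.Fi22 (Gen)
open Cfsg.Agent.Helper28 Cfsg.Agent.Helper27.Fi22TC Cfsg.Agent.Helper27.Fi22TC.A1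

/-- image of a generator in the abelianization -/
noncomputable def h61ab (x : Gen) : Abelianization A1G :=
  Abelianization.of (PresentedGroup.of x : A1G)

/-- image of a letter -/
noncomputable def h61abL (l : Gen × Bool) : Abelianization A1G :=
  if l.2 then h61ab l.1 else (h61ab l.1)⁻¹

theorem h61_abW (w : Word Gen) :
    Abelianization.of (wG A1.D.rels w : A1G) = (w.map h61abL).prod := by
  induction w with
  | nil =>
    rw [wG_nil, map_one, List.map_nil, List.prod_nil]
  | cons l w ih =>
    rw [wG_cons, map_mul, ih, List.map_cons, List.prod_cons]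
    congr 1
    obtain ⟨x, bb⟩ := l
    cases bb with
    | true => rfl
    | false =>
      rw [lG_false, map_inv]
      rfl

theorem h61_rel (w : Word Gen) (h : wG A1.D.rels w = 1) : (w.map h61abL).prod = 1 := by
  rw [← h61_abW, h, map_one]

theorem h61_sq (x : Gen) (h : wG A1.D.rels [(x, true), (x, true)] = 1) :
    h61ab x * h61ab x = 1 := by
  have := h61_rel _ h
  simpa [h61abL] using this

theorem h61_braid (x y : Gen)
    (h : wG A1.D.rels [(x, true), (y, true), (x, true), (y, true), (x, true), (y, true)] = 1)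
    (hx : h61ab x * h61ab x = 1) (hy : h61ab y * h61ab y = 1) : h61ab x = h61ab y := by
  have h3 := h61_rel _ h
  simp only [List.map_cons, List.map_nil, List.prod_cons, List.prod_nil, h61abL, if_true,
    mul_one] at h3
  have e : h61ab x * (h61ab y * (h61ab x * (h61ab y * (h61ab x * h61ab y)))) =
      (h61ab x * h61ab x) * (h61ab y * h61ab y) * (h61ab x * h61ab y) := by ac_rfl
  rw [e, hx, hy, one_mul, one_mul] at h3
  calc h61ab x = h61ab x * (h61ab y * h61ab y) := by rw [hy, mul_one]
    _ = (h61ab x * h61ab y) * h61ab y := by rw [mul_assoc]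
    _ = h61ab y := by rw [h3, one_mul]

theorem h61_sq_all (x : Gen) (hx : x ≠ Gen.a) : h61ab x * h61ab x = 1 := by
  cases x with
  | a => exact absurd rfl hx
  | b => exact h61_sq _ relone_1
  | c => exact h61_sq _ relone_2
  | d => exact h61_sq _ relone_3
  | e => exact h61_sq _ relone_4
  | f => exact h61_sq _ relone_5
  | g => exact h61_sq _ relone_6
  | h => exact h61_sq _ relone_7
  | i => exact h61_sq _ relone_8

theorem h61_all (x : Gen) (hx : x ≠ Gen.a) : h61ab x = h61ab Gen.d := by
  have sq := h61_sq_all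
  have hbc : h61ab Gen.b = h61ab Gen.c :=
    h61_braid _ _ relone_9 (sq _ (by decide)) (sq _ (by decide))
  have hcd : h61ab Gen.c = h61ab Gen.d :=
    h61_braid _ _ relone_16 (sq _ (by decide)) (sq _ (by decide))
  have hde : h61ab Gen.d = h61ab Gen.e :=
    h61_braid _ _ relone_22 (sq _ (by decide)) (sq _ (by decide))
  have hdh : h61ab Gen.d = h61ab Gen.h :=
    h61_braid _ _ relone_25 (sq _ (by decide)) (sq _ (by decide))
  have hef : h61ab Gen.e = h61ab Gen.f :=
    h61_braid _ _ relone_27 (sq _ (by decide)) (sq _ (by decide))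
  have hfg : h61ab Gen.f = h61ab Gen.g :=
    h61_braid _ _ relone_31 (sq _ (by decide)) (sq _ (by decide))
  have hhi : h61ab Gen.h = h61ab Gen.i :=
    h61_braid _ _ relone_36 (sq _ (by decide)) (sq _ (by decide))
  cases x with
  | a => exact absurd rfl hx
  | b => exact hbc.trans hcd
  | c => exact hcd
  | d => rfl
  | e => exact hde.symm
  | f => exact (hde.trans hef).symm
  | g => exact (hde.trans (hef.trans hfg)).symm
  | h => exact hdh.symm
  | i => exact (hdh.trans hhi).symm

theorem h61_R38_letters : ∀ l ∈ R38, l.2 = true ∧ l.1 ≠ Gen.a := by decide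

theorem h61_R38_length : R38.length = 63 := by decide

theorem h61_d : h61ab Gen.d = 1 := by
  have h := h61_rel _ relone_38
  have hconst : ∀ y ∈ R38.map h61abL, y = h61ab Gen.d := by
    intro y hy
    obtain ⟨l, hl, rfl⟩ := List.mem_map.mp hy
    obtain ⟨h1, h2⟩ := h61_R38_letters l hl
    unfold h61abL
    rw [if_pos h1]
    exact h61_all _ h2
  rw [List.prod_eq_pow_card _ _ hconst, List.length_map, h61_R38_length] at h
  have hsq : h61ab Gen.d * h61ab Gen.d = 1 := h61_sq_all _ (by decide)
  have : h61ab Gen.d ^ 63 = h61ab Gen.d := by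
    rw [show 63 = 2 * 31 + 1 from rfl, pow_succ, pow_mul, pow_two, hsq, one_pow, one_mul]
  rw [← this, h]

theorem h61_a : h61ab Gen.a = 1 := by
  have h := h61_rel _ relone_0
  simpa [h61abL, R0] using h

theorem h61_gen (x : Gen) : h61ab x = 1 := by
  by_cases hx : x = Gen.a
  · rw [hx]
    exact h61_a
  · rw [h61_all x hx, h61_d]

theorem h61_mem (w : FreeGroup Gen) :
    Abelianization.of (PresentedGroup.mk A1.D.rels w : A1G) = (1 : Abelianization A1G) := by
  induction w using FreeGroup.induction_on with
  | C1 => rw [MonoidHom.map_one, MonoidHom.map_one]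
  | of x =>
    exact h61_gen x
  | inv_of x h =>
    rw [MonoidHom.map_inv, MonoidHom.map_inv, h, inv_one]
  | mul x y hx hy =>
    rw [MonoidHom.map_mul, MonoidHom.map_mul, hx, hy, one_mul]

/-- (PERF) `A1G` is perfect -/
theorem perfect_A1 : commutator A1G = ⊤ := by
  rw [eq_top_iff]
  intro g _
  obtain ⟨w, rfl⟩ := PresentedGroup.mk_surjective _ g
  have h := h61_mem w
  rw [← QuotientGroup.eq_one_iff]
  exact h

end Cfsg.Agent.Helper61.O7F
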