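import Mathlib
import Cfsg.Agent.Lib.Helper93.OR0

/-! # OR3 project (S2459, helper93's server): piece (B) `schur_fix`, verbatim from
`tools/or_sigs_helper93.lean.txt`. -/

set_option autoImplicit false

namespace Cfsg.Agent.Helper61.OR

open Matrix Cfsg.Agent.Helper93.OR

local notation "SL3" => Matrix.SpecialLinearGroup (Fin 3)

/-- (B) if the first column is `(μ,1,0)`, then `P = 1` or `P = 1 + E₀₂` makes the Schur complement non-scalar. -/
theorem schur_fix {F : Type*} [Field F] (M : Matrix (Fin 3) (Fin 3) F) (μ : F) (hμ : μ ≠ 0)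
    (hdet : M.det ≠ 0) (hcol : ∀ i, M i 0 = ![μ, 1, 0] i) :
    ∃ P : GL (Fin 3) F, ((P⁻¹ : GL (Fin 3) F).1 * M * P.1) 0 0 = μ ∧
      ∀ c : F, schur ((P⁻¹ : GL (Fin 3) F).1 * M * P.1) ≠ c • (1 : Matrix (Fin 2) (Fin 2) F) := by
  have h00 : M 0 0 = μ := by simpa using hcol 0
  have h10 : M 1 0 = 1 := by simpa using hcol 1
  have h20 : M 2 0 = 0 := by simpa using hcol 2
  by_cases hs : ∃ c : F, schur M = c • (1 : Matrix (Fin 2) (Fin 2) F)
  · obtain ⟨c, hc⟩ := hs
    have e10 : M 2 1 = 0 := by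
      have h := congrFun (congrFun hc 1) 0
      simp [schur, h20] at h
      exact h
    have e01 : M 1 2 = M 0 2 / μ := by
      have h := congrFun (congrFun hc 0) 1
      simp [schur, h10, h00] at h
      exact sub_eq_zero.mp h
    have h22 : M 2 2 ≠ 0 := by
      intro h22
      apply hdet
      rw [Matrix.det_fin_three, h20, e10, h22]
      ring
    obtain ⟨A, hA⟩ : ∃ A : Matrix (Fin 3) (Fin 3) F, A = !![1, 0, 1; 0, 1, 0; 0, 0, 1] := ⟨_, rfl⟩
    obtain ⟨B, hB⟩ : ∃ B : Matrix (Fin 3) (Fin 3) F, B = !![1, 0, -1; 0, 1, 0; 0, 0, 1] := ⟨_, rfl⟩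
    have hAB : A * B = 1 := by
      rw [hA, hB]
      ext i j
      fin_cases i <;> fin_cases j <;> simp [Matrix.mul_apply, Fin.sum_univ_three]
    have hBA : B * A = 1 := by
      rw [hA, hB]
      ext i j
      fin_cases i <;> fin_cases j <;> simp [Matrix.mul_apply, Fin.sum_univ_three]
    refine ⟨⟨A, B, hAB, hBA⟩, ?_, ?_⟩
    · show (B * M * A) 0 0 = μ
      rw [hA, hB]
      simp [Matrix.mul_apply, Matrix.vecMul, dotProduct, Fin.sum_univ_three, h00, h20]
    · intro c' hc'
      have h := congrFun (congrFun hc' 0) 1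
      have h' : schur (B * M * A) 0 1 = (c' • (1 : Matrix (Fin 2) (Fin 2) F)) 0 1 := h
      rw [hA, hB] at h'
      simp [schur, Matrix.mul_apply, Matrix.vecMul, dotProduct, Fin.sum_univ_three, h00, h10, h20, e10, e01] at h'
      apply h22
      field_simp at h'
      linear_combination h'
  · refine ⟨1, ?_, ?_⟩
    · simpa using h00
    · intro c hc
      apply hs
      exact ⟨c, by simpa using hc⟩

end Cfsg.Agent.Helper61.OR
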