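import Mathlib
import Cfsg.Agent.Lib.Helper93.OR0

/-! # OR3 project (S2459, helper93's server): piece (EX) `exists_good_elt`, verbatim from
`tools/or_sigs_helper93.lean.txt`. -/

set_option autoImplicit false

namespace Cfsg.Agent.Helper61.OR

open Matrix Cfsg.Agent.Helper93.OR

local notation "SL3" => Matrix.SpecialLinearGroup (Fin 3)

/-- (EX) a field with at least 4 elements has an element other than 0, 1, -1. -/
theorem exists_good_elt {F : Type*} [Field F] [Fintype F] (h : 4 ≤ Fintype.card F) :
    ∃ a : F, a ≠ 0 ∧ a ≠ 1 ∧ a * a ≠ 1 := by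
  classical
  by_contra hcon
  push Not at hcon
  have hsub : (Finset.univ : Finset F) ⊆ {0, 1, -1} := by
    intro a _
    by_cases h0 : a = 0
    · simp [h0]
    by_cases h1 : a = 1
    · simp [h1]
    have h2 := hcon a h0 h1
    have h3 : (a - 1) * (a + 1) = 0 := by ring_nf; rw [← pow_two] at *; linear_combination h2
    rcases mul_eq_zero.mp h3 with h4 | h4
    · exact absurd (sub_eq_zero.mp h4) h1
    · have : a = -1 := eq_neg_of_add_eq_zero_left h4
      simp [this]
  have hle := Finset.card_le_card hsub
  have h3 : ({0, 1, -1} : Finset F).card ≤ 3 := Finset.card_le_three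
  rw [Finset.card_univ] at hle
  omega

end Cfsg.Agent.Helper61.OR
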