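import Mathlib
import Cfsg.Agent.Lib.Helper93.OR0

/-! # OR3 project (S2459, helper93's server): piece (PN) `not_dvd_card_sub_one`, verbatim from
`tools/or_sigs_helper93.lean.txt`. -/

set_option autoImplicit false

namespace Cfsg.Agent.Helper61.OR

open Matrix Cfsg.Agent.Helper93.OR

local notation "SL3" => Matrix.SpecialLinearGroup (Fin 3)

/-- (PN) the characteristic does not divide `q - 1`. -/
theorem not_dvd_card_sub_one {F : Type*} [Field F] [Fintype F] (p : ℕ) [Fact p.Prime] [CharP F p] :
    ¬ p ∣ Fintype.card F - 1 := by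
  intro h
  obtain ⟨n, hp, hn⟩ := FiniteField.card F p
  have h1 : p ∣ Fintype.card F := by
    rw [hn]
    exact dvd_pow_self p n.ne_zero
  have hpos : 0 < Fintype.card F := Fintype.card_pos
  have h2 : p ∣ Fintype.card F - (Fintype.card F - 1) := Nat.dvd_sub h1 h
  have h3 : Fintype.card F - (Fintype.card F - 1) = 1 := by omega
  rw [h3] at h2
  exact hp.one_lt.ne' (Nat.dvd_one.mp h2)

end Cfsg.Agent.Helper61.OR
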