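import Mathlib

set_option autoImplicit false

/-!
# Counting elements by order in groups where same order implies conjugate
-/

namespace Cfsg.Agent.Helper61.OrderCount

open Subgroup

variable {G : Type*} [Group G]

/-- the number of elements of order `m` -/
noncomputable def cnt (G : Type*) [Group G] (m : ℕ) : ℕ := Nat.card {x : G // orderOf x = m}

theorem sum_cnt [Finite G] : ∑ m ∈ (Nat.card G).divisors, cnt G m = Nat.card G := by
  classical
  have := Fintype.ofFinite G
  have h := sum_card_orderOf_eq_card_pow_eq_one (G := G) (n := Nat.card G) Nat.card_pos.ne'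
  have h2 : (Finset.univ.filter fun x : G => x ^ Nat.card G = 1) = Finset.univ := by
    ext x; simp
  rw [h2, Finset.card_univ, ← Nat.card_eq_fintype_card] at h
  refine Eq.trans ?_ h
  apply Finset.sum_congr rfl
  intro m _
  rw [cnt, Nat.card_eq_fintype_card, Fintype.card_subtype]

theorem cnt_pos_of (x : G) [Finite G] : 0 < cnt G (orderOf x) := by
  rw [cnt]
  have : Nonempty {y : G // orderOf y = orderOf x} := ⟨⟨x, rfl⟩⟩
  exact Nat.card_pos

theorem cnt_eq_zero_of [Finite G] (m : ℕ) (h : ∀ x : G, orderOf x ≠ m) : cnt G m = 0 := by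
  rw [cnt]
  have : IsEmpty {y : G // orderOf y = m} := ⟨fun y => h y.1 y.2⟩
  exact Nat.card_of_isEmpty

theorem cnt_mul_card_centralizer [Finite G]
    (hQ : ∀ x y : G, orderOf x = orderOf y → IsConj x y) (x : G) :
    cnt G (orderOf x) * Nat.card (centralizer ({x} : Set G)) = Nat.card G := by
  have h1 : {y : G | orderOf y = orderOf x} = MulAction.orbit (ConjAct G) x := by
    ext y
    rw [ConjAct.mem_orbit_conjAct]
    constructor
    · intro h; exact hQ y x h
    · intro h
      obtain ⟨c, hc⟩ := isConj_iff.mp h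
      rw [← hc]
      exact ((MulAut.conj c).orderOf_eq y).symm
  have h2 := MulAction.index_stabilizer (ConjAct G) x
  have h3 : (MulAction.stabilizer (ConjAct G) x).index = (centralizer ({x} : Set G)).index := by
    rw [ConjAct.stabilizer_eq_centralizer]; rfl
  have h4 : cnt G (orderOf x) = (centralizer ({x} : Set G)).index := by
    rw [← h3, h2, ← h1, cnt]
    exact (Nat.card_coe_set_eq _)
  rw [h4, mul_comm]
  exact Subgroup.card_mul_index _

theorem cnt_mul_dvd [Finite G]
    (hQ : ∀ x y : G, orderOf x = orderOf y → IsConj x y) (x : G) :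
    cnt G (orderOf x) * orderOf x ∣ Nat.card G := by
  rw [← cnt_mul_card_centralizer hQ x]
  apply Nat.mul_dvd_mul_left
  have h1 : zpowers x ≤ centralizer ({x} : Set G) := by
    rw [zpowers_le]
    rw [mem_centralizer_iff]
    intro y hy
    rw [Set.mem_singleton_iff.mp hy]
  have := Subgroup.card_dvd_of_le h1
  rwa [Nat.card_zpowers] at this

theorem even_cnt [Finite G] (m : ℕ) (hm : 3 ≤ m) : 2 ∣ cnt G m := by
  classical
  have := Fintype.ofFinite G
  let f : Function.End {x : G // orderOf x = m} := fun x => ⟨x.1⁻¹, by rw [orderOf_inv]; exact x.2⟩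
  have hf : f ^ 2 ^ 1 = 1 := by
    rw [pow_one, pow_two]
    funext x
    apply Subtype.ext
    show ((x.1)⁻¹)⁻¹ = x.1
    exact inv_inv _
  have : Fact (Nat.Prime 2) := ⟨Nat.prime_two⟩
  have h1 := Equiv.Perm.card_fixedPoints_modEq (f := f) (p := 2) (n := 1) hf
  have h2 : IsEmpty (Function.fixedPoints f) := by
    constructor
    rintro ⟨x, hx⟩
    have h3 : x.1⁻¹ = x.1 := congrArg Subtype.val hx
    have h4 : x.1 ^ 2 = 1 := by
      rw [pow_two]
      nth_rewrite 1 [← h3]
      exact inv_mul_cancel _
    have h5 := orderOf_dvd_of_pow_eq_one h4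
    rw [x.2] at h5
    have := Nat.le_of_dvd (by norm_num) h5
    omega
  have h3 : Fintype.card (Function.fixedPoints f) = 0 := Fintype.card_eq_zero
  rw [h3] at h1
  rw [cnt, Nat.card_eq_fintype_card]
  exact (Nat.modEq_zero_iff_dvd.mp h1)

theorem totient_le_cnt [Finite G] (x : G) : Nat.totient (orderOf x) ≤ cnt G (orderOf x) := by
  classical
  have := Fintype.ofFinite G
  have h1 : orderOf x ∣ Fintype.card (zpowers x) := by
    rw [← Nat.card_eq_fintype_card, Nat.card_zpowers]
  have h2 := IsCyclic.card_orderOf_eq_totient (α := zpowers x) h1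
  rw [← h2, cnt, Nat.card_eq_fintype_card, ← Fintype.card_subtype]
  apply Fintype.card_le_of_injective
    (fun a : {a : zpowers x // orderOf a = orderOf x} =>
      (⟨(a.1 : G), by rw [Subgroup.orderOf_coe]; exact a.2⟩ : {y : G // orderOf y = orderOf x}))
  intro a b hab
  apply Subtype.ext
  apply Subtype.ext
  have h5 := Subtype.ext_iff.mp hab
  exact h5

/-- Summary of the constraints on `cnt G m` in a group where elements of the same order are
conjugate. -/
theorem cnt_cases [Finite G]
    (hQ : ∀ x y : G, orderOf x = orderOf y → IsConj x y) (m : ℕ) :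
    cnt G m = 0 ∨ (cnt G m * m ∣ Nat.card G ∧ Nat.totient m ≤ cnt G m) := by
  by_cases h : ∃ x : G, orderOf x = m
  · obtain ⟨x, rfl⟩ := h
    exact Or.inr ⟨cnt_mul_dvd hQ x, totient_le_cnt x⟩
  · push Not at h
    exact Or.inl (cnt_eq_zero_of m h)

end Cfsg.Agent.Helper61.OrderCount
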