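import Mathlib
import Cfsg.Prelude.Def_Local
import Cfsg.Agent.Lib.Helper24.SZConj
import Cfsg.Agent.Lib.Helper76.PSolvable
import Cfsg.Agent.Lib.Helper52.CoprimeSylow

set_option autoImplicit false

/-!
# Groups whose maximal subgroups are `p`-nilpotent or of prime index have `p`-length at most 2

Core theorem behind S4378 / S4379 (strong form `G = O_{p',p,p',p}(G)`).
-/

namespace Cfsg.Agent.Helper61.PLenTwo

open Subgroup Cfsg

universe u

variable {G : Type u} [Group G]

/-- internal form of the hypothesis on maximal subgroups -/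
def Hmax (p : ℕ) (G : Type u) [Group G] : Prop :=
  ∀ M : Subgroup G, IsCoatom M →
    (∃ K : Subgroup G, K ≤ M ∧ M ≤ normalizer (K : Set G) ∧ ¬ p ∣ Nat.card K ∧
      ∃ k : ℕ, K.relIndex M = p ^ k) ∨ (M.index).Prime

/-- a chain `N ≤ A ≤ B ≤ C ≤ G` of normal subgroups with factors `p'`, `p`, `p'`, `p` -/
def Con (p : ℕ) (N : Subgroup G) : Prop :=
  ∃ A B C : Subgroup G, A.Normal ∧ B.Normal ∧ C.Normal ∧ N ≤ A ∧ A ≤ B ∧ B ≤ C ∧
    ¬ p ∣ N.relIndex A ∧ (∃ k : ℕ, A.relIndex B = p ^ k) ∧ ¬ p ∣ B.relIndex C ∧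
    ∃ k : ℕ, C.index = p ^ k

/-! ### relIndex lemmas -/

lemma relIndex_comap_comap (N : Subgroup G) [N.Normal] (H K : Subgroup (G ⧸ N)) :
    (H.comap (QuotientGroup.mk' N)).relIndex (K.comap (QuotientGroup.mk' N)) = H.relIndex K := by
  rw [Subgroup.relIndex_comap,
    Subgroup.map_comap_eq_self_of_surjective (QuotientGroup.mk'_surjective N)]

lemma relIndex_comap_mk (N : Subgroup G) [N.Normal] (H : Subgroup (G ⧸ N)) :
    N.relIndex (H.comap (QuotientGroup.mk' N)) = Nat.card H := by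
  have h1 := Subgroup.relIndex_ker (QuotientGroup.mk' N) (K := H.comap (QuotientGroup.mk' N))
  rw [QuotientGroup.ker_mk'] at h1
  rw [h1, Subgroup.map_comap_eq_self_of_surjective (QuotientGroup.mk'_surjective N)]

lemma le_comap_mk (N : Subgroup G) [N.Normal] (H : Subgroup (G ⧸ N)) :
    N ≤ H.comap (QuotientGroup.mk' N) := by
  intro x hx
  rw [Subgroup.mem_comap]
  have : QuotientGroup.mk' N x = 1 := by
    rw [← MonoidHom.mem_ker, QuotientGroup.ker_mk']; exact hx
  rw [this]; exact H.one_mem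

lemma relIndex_dvd_right_normal {V K' K : Subgroup G} [V.Normal] (h : K' ≤ K) :
    V.relIndex K' ∣ V.relIndex K := by
  rw [← Subgroup.relIndex_sup_right K' V, ← Subgroup.relIndex_sup_right K V]
  exact Dvd.intro _ (Subgroup.relIndex_mul_relIndex V (K' ⊔ V) (K ⊔ V) le_sup_right
    (sup_le_sup_right h V))

/-- `|W ∩ Y : V ∩ Y|` divides `|W : V|` for `V` normal, `V ≤ W`. -/
lemma relIndex_inf_dvd {V W Y : Subgroup G} [V.Normal] (hVW : V ≤ W) :
    (V ⊓ Y).relIndex (W ⊓ Y) ∣ V.relIndex W := by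
  have h1 : V ⊓ Y = V ⊓ (W ⊓ Y) := by
    rw [← inf_assoc, inf_of_le_left hVW]
  rw [h1, Subgroup.inf_relIndex_right]
  exact relIndex_dvd_right_normal inf_le_left

/-- the basic "subdirect product" estimate -/
lemma relIndex_inf_inf_dvd {Y₁ X₁ Y₂ X₂ : Subgroup G} [Y₁.Normal] [Y₂.Normal] (h₁ : Y₁ ≤ X₁)
    (h₂ : Y₂ ≤ X₂) :
    (Y₁ ⊓ Y₂).relIndex (X₁ ⊓ X₂) ∣ Y₁.relIndex X₁ * Y₂.relIndex X₂ := by
  have e := Subgroup.relIndex_mul_relIndex (Y₁ ⊓ Y₂) (Y₁ ⊓ X₂) (X₁ ⊓ X₂)
    (inf_le_inf_left _ h₂) (inf_le_inf_right _ h₁)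
  rw [← e, mul_comm]
  apply Nat.mul_dvd_mul
  · exact relIndex_inf_dvd h₁
  · have := relIndex_inf_dvd (V := Y₂) (W := X₂) (Y := Y₁) h₂
    rwa [inf_comm Y₂ Y₁, inf_comm X₂ Y₁] at this

/-! ### pulling back and combining chains -/

lemma con_of_quotient {p : ℕ} (N : Subgroup G) [N.Normal]
    (h : Con p (⊥ : Subgroup (G ⧸ N))) : Con p N := by
  obtain ⟨A, B, C, hA, hB, hC, -, hAB, hBC, h1, h2, h3, h4⟩ := h
  refine ⟨A.comap (QuotientGroup.mk' N), B.comap (QuotientGroup.mk' N),
    C.comap (QuotientGroup.mk' N), inferInstance, inferInstance, inferInstance,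
    le_comap_mk N A, Subgroup.comap_mono hAB, Subgroup.comap_mono hBC, ?_, ?_, ?_, ?_⟩
  · rw [relIndex_comap_mk]
    rwa [Subgroup.relIndex_bot_left] at h1
  · rwa [relIndex_comap_comap]
  · rwa [relIndex_comap_comap]
  · rwa [Subgroup.index_comap_of_surjective _ (QuotientGroup.mk'_surjective N)]

lemma con_bot_of_con {p : ℕ} [Fact p.Prime] (N : Subgroup G) (hN : ¬ p ∣ Nat.card N)
    (h : Con p N) : Con p (⊥ : Subgroup G) := by
  obtain ⟨A, B, C, hA, hB, hC, hNA, hAB, hBC, h1, h2, h3, h4⟩ := h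
  refine ⟨A, B, C, hA, hB, hC, bot_le, hAB, hBC, ?_, h2, h3, h4⟩
  rw [← Subgroup.relIndex_mul_relIndex ⊥ N A bot_le hNA, Subgroup.relIndex_bot_left]
  intro hd
  rcases (Nat.Prime.dvd_mul Fact.out).mp hd with h | h
  · exact hN h
  · exact h1 h

lemma con_inter {p : ℕ} [Fact p.Prime] (N₁ N₂ : Subgroup G) [N₁.Normal] [N₂.Normal]
    (hdisj : N₁ ⊓ N₂ = ⊥) (c₁ : Con p N₁) (c₂ : Con p N₂) : Con p (⊥ : Subgroup G) := by
  have hp : p.Prime := Fact.out
  obtain ⟨A₁, B₁, C₁, hA₁, hB₁, hC₁, hNA₁, hAB₁, hBC₁, a1, ⟨k1, a2⟩, a3, ⟨l1, a4⟩⟩ := c₁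
  obtain ⟨A₂, B₂, C₂, hA₂, hB₂, hC₂, hNA₂, hAB₂, hBC₂, b1, ⟨k2, b2⟩, b3, ⟨l2, b4⟩⟩ := c₂
  refine ⟨A₁ ⊓ A₂, B₁ ⊓ B₂, C₁ ⊓ C₂, inferInstance, inferInstance, inferInstance, bot_le,
    inf_le_inf hAB₁ hAB₂, inf_le_inf hBC₁ hBC₂, ?_, ?_, ?_, ?_⟩
  · rw [← hdisj]
    intro hd
    have := hd.trans (relIndex_inf_inf_dvd hNA₁ hNA₂)
    rcases (Nat.Prime.dvd_mul hp).mp this with h | h
    · exact a1 h
    · exact b1 h
  · have := relIndex_inf_inf_dvd hAB₁ hAB₂
    rw [a2, b2, ← pow_add] at this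
    obtain ⟨m, -, hm⟩ := (Nat.dvd_prime_pow hp).mp this
    exact ⟨m, hm⟩
  · intro hd
    have := hd.trans (relIndex_inf_inf_dvd hBC₁ hBC₂)
    rcases (Nat.Prime.dvd_mul hp).mp this with h | h
    · exact a3 h
    · exact b3 h
  · have := relIndex_inf_inf_dvd (le_top : C₁ ≤ ⊤) (le_top : C₂ ≤ ⊤)
    rw [Subgroup.relIndex_top_right, Subgroup.relIndex_top_right, a4, b4, ← pow_add,
      inf_idem, Subgroup.relIndex_top_right] at this
    obtain ⟨m, -, hm⟩ := (Nat.dvd_prime_pow hp).mp this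
    exact ⟨m, hm⟩


/-! ### the Frattini case -/

open Cfsg.Agent.Helper52 in
lemma normal_of_frattini [Finite G] {p : ℕ} [Fact p.Prime] (N A : Subgroup G) [hNn : N.Normal]
    [hAn : A.Normal] (hNA : N ≤ A) (hNp : ∃ m : ℕ, Nat.card N = p ^ m)
    (hcop : ¬ p ∣ N.relIndex A) (hΦ : ∀ M : Subgroup G, IsCoatom M → N ≤ M) :
    ∃ A₀ : Subgroup G, A₀.Normal ∧ A₀ ≤ A ∧ Nat.card A₀ = N.relIndex A := by
  have hp : p.Prime := Fact.out
  obtain ⟨m, hm⟩ := hNp
  obtain ⟨N', hN'⟩ : ∃ N' : Subgroup A, N' = N.subgroupOf A := ⟨_, rfl⟩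
  have hN'n : N'.Normal := by rw [hN']; infer_instance
  have hcN' : Nat.card N' = p ^ m := by
    rw [hN', ← hm]
    exact Nat.card_congr (subgroupOfEquivOfLe hNA).toEquiv
  have hiN' : N'.index = N.relIndex A := by rw [hN']; rfl
  have hcop' : (Nat.card N').Coprime N'.index := by
    rw [hcN', hiN']
    exact Nat.Coprime.pow_left _ ((Nat.Prime.coprime_iff_not_dvd hp).mpr hcop)
  obtain ⟨H₀, hH₀⟩ := Subgroup.exists_right_complement'_of_coprime hcop'
  have hcH₀ : Nat.card H₀ = N'.index := hH₀.symm.index_eq_card.symm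
  obtain ⟨A₀, hA₀⟩ : ∃ A₀ : Subgroup G, A₀ = H₀.map A.subtype := ⟨_, rfl⟩
  have hA₀A : A₀ ≤ A := by rw [hA₀]; exact map_subtype_le H₀
  have hcA₀ : Nat.card A₀ = Nat.card H₀ := by
    rw [hA₀]; exact Subgroup.card_map_of_injective A.subtype_injective
  have hsolv : Group.IsSolvable N' := by
    have h1 : IsPGroup p N' := IsPGroup.of_card hcN'
    have := h1.isNilpotent
    infer_instance
  refine ⟨A₀, ?_, hA₀A, by rw [hcA₀, hcH₀, hiN']⟩
  rw [← normalizer_eq_top_iff]
  by_contra hne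
  obtain ⟨M, hM, hle⟩ := (eq_top_or_exists_le_coatom (normalizer (A₀ : Set G))).resolve_left hne
  apply hM.1
  have hNM : N ≤ M := hΦ M hM
  have hA₀M : A₀ ≤ M := le_normalizer.trans hle
  have hAM : A ≤ M := by
    intro a ha
    obtain ⟨⟨n, h⟩, hnh, -⟩ := (isComplement_iff_existsUnique.mp hH₀) ⟨a, ha⟩
    have e : a = ((n : A) : G) * ((h : A) : G) := by
      have := congrArg (Subtype.val) hnh
      simpa using this.symm
    rw [e]
    apply M.mul_mem
    · apply hNM
      have h5 : (n : A) ∈ N' := n.2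
      have h6 : (n : A) ∈ N.subgroupOf A := hN' ▸ h5
      exact mem_subgroupOf.mp h6
    · apply hA₀M
      rw [hA₀]
      exact ⟨h.1, h.2, rfl⟩
  rw [eq_top_iff]
  intro g _
  have hgA : A₀.map (MulAut.conj g).toMonoidHom ≤ A :=
    map_conj_le_of_le_normalizer hA₀A (by rw [normalizer_eq_top]; exact mem_top g)
  obtain ⟨H₁, hH₁⟩ : ∃ H₁ : Subgroup A,
      H₁ = (A₀.map (MulAut.conj g).toMonoidHom).subgroupOf A := ⟨_, rfl⟩
  have hcH₁ : Nat.card H₁ = Nat.card H₀ := by
    rw [hH₁, ← hcA₀, ← card_map_conj g A₀]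
    exact Nat.card_congr (subgroupOfEquivOfLe hgA).toEquiv
  have hcompl : N'.IsComplement' H₁ := by
    apply isComplement'_of_coprime
    · rw [hcH₁]; exact hH₀.card_mul_card
    · rw [hcH₁, hcH₀]; exact hcop'
  obtain ⟨a, ha⟩ := Cfsg.Agent.Helper24.sz_conj N' hsolv hcop' H₀ H₁ hH₀ hcompl
  have h1 := congrArg (Subgroup.map A.subtype) ha
  rw [hH₁, map_subgroupOf_eq_of_le hgA, Cfsg.Agent.Helper24.map_conj_map, ← hA₀] at h1
  have h2 : (a : G)⁻¹ * g ∈ normalizer (A₀ : Set G) := by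
    apply mem_normalizer_of_map_conj_eq
    rw [← Cfsg.Agent.Helper24.map_conj_map_conj, h1, Cfsg.Agent.Helper24.map_conj_map_conj]
    have : (a : G)⁻¹ * (A.subtype a) = 1 := by simp
    rw [this]
    ext x
    rw [mem_map_conj]
    simp
  have h3 : g = (a : G) * ((a : G)⁻¹ * g) := by group
  rw [h3]
  exact M.mul_mem (hAM a.2) (hle h2)

lemma con_frattini [Finite G] {p : ℕ} [Fact p.Prime] (N : Subgroup G) [hNn : N.Normal]
    (hNp : ∃ m : ℕ, Nat.card N = p ^ m) (hΦ : ∀ M : Subgroup G, IsCoatom M → N ≤ M)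
    (h : Con p N) : Con p (⊥ : Subgroup G) := by
  have hp : p.Prime := Fact.out
  obtain ⟨A, B, C, hA, hB, hC, hNA, hAB, hBC, h1, ⟨k, h2⟩, h3, h4⟩ := h
  obtain ⟨A₀, hA₀n, hA₀A, hcA₀⟩ := normal_of_frattini N A hNA hNp h1 hΦ
  obtain ⟨m, hm⟩ := hNp
  refine ⟨A₀, B, C, hA₀n, hB, hC, bot_le, hA₀A.trans hAB, hBC, ?_, ?_, h3, h4⟩
  · rw [Subgroup.relIndex_bot_left, hcA₀]; exact h1
  · refine ⟨m + k, ?_⟩
    have e1 : Nat.card B = Nat.card A₀ * A₀.relIndex B :=
      Cfsg.Agent.Helper76.card_eq_card_mul_relIndex A₀ B (hA₀A.trans hAB)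
    have e2 : Nat.card B = Nat.card A * A.relIndex B :=
      Cfsg.Agent.Helper76.card_eq_card_mul_relIndex A B hAB
    have e3 : Nat.card A = Nat.card N * N.relIndex A :=
      Cfsg.Agent.Helper76.card_eq_card_mul_relIndex N A hNA
    have hpos : 0 < Nat.card A₀ := Nat.card_pos
    rw [e3, hm, h2, ← hcA₀] at e2
    have : Nat.card A₀ * A₀.relIndex B = Nat.card A₀ * p ^ (m + k) := by
      rw [← e1, e2, pow_add]; ring
    exact Nat.eq_of_mul_eq_mul_left hpos this


/-! ### a `p`-nilpotent maximal subgroup supplementing a normal `p`-subgroup -/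

open Cfsg.Agent.Helper52 in
lemma con_pnilpotent [Finite G] {p : ℕ} [Fact p.Prime] (N M K : Subgroup G) [hNn : N.Normal]
    (hNp : ∃ m : ℕ, Nat.card N = p ^ m) (hNM : N ⊔ M = ⊤) (_hKM : K ≤ M)
    (hMK : M ≤ normalizer (K : Set G)) (hK : ¬ p ∣ Nat.card K)
    (hidx : ∃ k : ℕ, K.relIndex M = p ^ k) : Con p (⊥ : Subgroup G) := by
  have hp : p.Prime := Fact.out
  obtain ⟨m, hm⟩ := hNp
  obtain ⟨k, hk⟩ := hidx
  have hCn : (N ⊔ K).Normal := by
    rw [← normalizer_eq_top_iff, eq_top_iff, ← hNM]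
    apply sup_le
    · exact le_sup_left.trans le_normalizer
    · intro x hx
      apply mem_normalizer_of_map_conj_eq
      rw [Subgroup.map_sup, map_conj_eq_of_mem_normalizer (hMK hx),
        map_conj_eq_of_mem_normalizer (by rw [normalizer_eq_top]; exact mem_top x)]
  refine ⟨⊥, N, N ⊔ K, inferInstance, hNn, hCn, le_rfl, bot_le, le_sup_left, ?_, ?_, ?_, ?_⟩
  · rw [Subgroup.relIndex_bot_left, Subgroup.card_bot]
    exact hp.one_lt.ne' ∘ Nat.dvd_one.mp
  · exact ⟨m, by rw [Subgroup.relIndex_bot_left, hm]⟩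
  · rw [Subgroup.relIndex_sup_left]
    intro hd
    apply hK
    have h1 : N.relIndex K ∣ Nat.card K := (N.subgroupOf K).index_dvd_card
    exact hd.trans h1
  · have h1 : (N ⊔ K).index = (N ⊔ K).relIndex M := by
      rw [← Subgroup.relIndex_top_right, ← Subgroup.relIndex_sup_right M (N ⊔ K)]
      congr 1
      rw [eq_comm, eq_top_iff, ← hNM]
      exact sup_le (le_sup_left.trans le_sup_right) le_sup_left
    have h2 : (N ⊔ K).relIndex M ∣ K.relIndex M :=
      Subgroup.relIndex_dvd_of_le_left M le_sup_right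
    rw [h1]
    rw [hk] at h2
    obtain ⟨j, -, hj⟩ := (Nat.dvd_prime_pow hp).mp h2
    exact ⟨j, hj⟩

/-! ### the hypothesis passes to quotients -/

lemma isCoatom_comap (N : Subgroup G) [N.Normal] (M : Subgroup (G ⧸ N)) (hM : IsCoatom M) :
    IsCoatom (M.comap (QuotientGroup.mk' N)) := by
  have hs := QuotientGroup.mk'_surjective N
  constructor
  · intro h
    apply hM.1
    rw [← Subgroup.map_comap_eq_self_of_surjective hs M, h,
      Subgroup.map_top_of_surjective _ hs]
  · intro L hL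
    have hNL : N ≤ L := (le_comap_mk N M).trans hL.le
    have h1 : (L.map (QuotientGroup.mk' N)).comap (QuotientGroup.mk' N) = L := by
      rw [Subgroup.comap_map_eq, QuotientGroup.ker_mk', sup_of_le_left hNL]
    have h2 : M < L.map (QuotientGroup.mk' N) := by
      apply lt_of_le_of_ne
      · rw [← Subgroup.map_comap_eq_self_of_surjective hs M]
        exact Subgroup.map_mono hL.le
      · intro h
        rw [← h] at h1
        exact hL.ne h1
    have h3 := hM.2 _ h2
    rw [← h1, h3, Subgroup.comap_top]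

lemma hmax_quotient [Finite G] {p : ℕ} [Fact p.Prime] (N : Subgroup G) [N.Normal]
    (h : Hmax p G) : Hmax p (G ⧸ N) := by
  have hp : p.Prime := Fact.out
  have hs := QuotientGroup.mk'_surjective N
  intro M hM
  rcases h _ (isCoatom_comap N M hM) with ⟨K, hKM, hMK, hK, ⟨k, hk⟩⟩ | hpr
  · left
    refine ⟨K.map (QuotientGroup.mk' N), ?_, ?_, ?_, ?_⟩
    · rw [Subgroup.map_le_iff_le_comap]; exact hKM
    · rw [← Subgroup.map_comap_eq_self_of_surjective hs M]
      exact (Subgroup.map_mono hMK).trans (Subgroup.le_normalizer_map _)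
    · intro hd
      exact hK (hd.trans (Subgroup.card_map_dvd K _))
    · have h1 : (K.map (QuotientGroup.mk' N)).relIndex M =
          (K ⊔ N).relIndex (M.comap (QuotientGroup.mk' N)) := by
        conv_lhs => rw [← Subgroup.map_comap_eq_self_of_surjective hs M]
        rw [← Subgroup.relIndex_comap, Subgroup.comap_map_eq, QuotientGroup.ker_mk']
      have h2 : (K ⊔ N).relIndex (M.comap (QuotientGroup.mk' N)) ∣
          K.relIndex (M.comap (QuotientGroup.mk' N)) :=
        Subgroup.relIndex_dvd_of_le_left _ le_sup_left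
      rw [h1]
      rw [hk] at h2
      obtain ⟨j, -, hj⟩ := (Nat.dvd_prime_pow hp).mp h2
      exact ⟨j, hj⟩
  · right
    rwa [Subgroup.index_comap_of_surjective _ hs] at hpr

/-! ### minimal normal subgroups -/

lemma exists_minimal_normal [Finite G] (h : (⊤ : Subgroup G) ≠ ⊥) :
    ∃ N : Subgroup G, N.Normal ∧ N ≠ ⊥ ∧
      ∀ N' : Subgroup G, N'.Normal → N' ≤ N → N' = ⊥ ∨ N' = N := by
  have hne : {N : Subgroup G | N.Normal ∧ N ≠ ⊥}.Nonempty := ⟨⊤, inferInstance, h⟩
  obtain ⟨N, ⟨hNn, hNne⟩, hmin⟩ := wellFounded_lt.has_min _ hne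
  refine ⟨N, hNn, hNne, ?_⟩
  intro N' hN'n hle
  by_cases hb : N' = ⊥
  · exact Or.inl hb
  · right
    by_contra hne'
    exact hmin N' ⟨hN'n, hb⟩ (lt_of_le_of_ne hle hne')


/-! ### a maximal subgroup of prime index complementing a minimal normal `p`-subgroup -/

/-- a `p`-subgroup centralizes a normal subgroup of order `p` -/
lemma le_centralizer_of_card_prime [Finite G] {p : ℕ} [Fact p.Prime] (P N : Subgroup G)
    [hN : N.Normal] (hP : IsPGroup p P) (hcard : Nat.card N = p) :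
    P ≤ centralizer (N : Set G) := by
  let φ : P →* MulAut N := (MulAut.conjNormal (H := N)).comp P.subtype
  let _ : MulAction P N := MulAction.compHom N φ
  have hsmul : ∀ (a : P) (x : N), ((a • x : N) : G) = (a : G) * x * (a : G)⁻¹ := by
    intro a x
    rfl
  have h1 : (1 : N) ∈ MulAction.fixedPoints P N := by
    intro a
    apply Subtype.ext
    rw [hsmul]
    simp
  have hdiv : p ∣ Nat.card N := by rw [hcard]
  obtain ⟨b, hb, hb1⟩ := hP.exists_fixed_point_of_prime_dvd_card_of_fixed_point N hdiv h1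
  have htop : zpowers b = ⊤ := zpowers_eq_top_of_prime_card hcard (Ne.symm hb1)
  intro s hs
  rw [mem_centralizer_iff]
  intro x hx
  have hxb : (⟨x, hx⟩ : N) ∈ zpowers b := by rw [htop]; exact mem_top _
  obtain ⟨k, hk⟩ := mem_zpowers_iff.mp hxb
  have hcomm : (b : G) * s = s * b := by
    have := hb ⟨s, hs⟩
    have h2 := congrArg (Subtype.val) this
    rw [hsmul] at h2
    simp only at h2
    calc (b : G) * s = (s * b * s⁻¹) * s := by rw [h2]
      _ = s * b := by group
  have hx' : x = (b : G) ^ k := by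
    have := congrArg (Subtype.val) hk
    simpa using this.symm
  rw [hx']
  exact ((Commute.zpow_left hcomm k)).eq

lemma con_prime_index [Finite G] {p : ℕ} [Fact p.Prime] (N M : Subgroup G) [hNn : N.Normal]
    (hNne : N ≠ ⊥) (hmin : ∀ N' : Subgroup G, N'.Normal → N' ≤ N → N' = ⊥ ∨ N' = N)
    (hNp : ∃ m : ℕ, Nat.card N = p ^ m) (hsup : N ⊔ M = ⊤) (hNM : ¬ N ≤ M)
    (hpr : M.index.Prime)
    (ih : ∀ L : Subgroup G, L.Normal → L ≠ ⊥ → Con p L) : Con p (⊥ : Subgroup G) := by
  have hp : p.Prime := Fact.out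
  obtain ⟨m, hm⟩ := hNp
  have hNpg : IsPGroup p N := IsPGroup.of_card hm
  -- `N` is commutative
  have hcomm : ∀ a ∈ N, ∀ b ∈ N, a * b = b * a := by
    have hnt : Nontrivial N := (Subgroup.nontrivial_iff_ne_bot N).mpr hNne
    have hZ : center N ≠ ⊥ := by
      have := hNpg.center_nontrivial
      exact (Subgroup.nontrivial_iff_ne_bot _).mp this
    have hZn : ((center N).map N.subtype).Normal := inferInstance
    have hZle : (center N).map N.subtype ≤ N := map_subtype_le _
    have hZne : (center N).map N.subtype ≠ ⊥ := by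
      rw [Ne, Subgroup.map_eq_bot_iff_of_injective _ N.subtype_injective]; exact hZ
    have hZeq := (hmin _ hZn hZle).resolve_left hZne
    intro a ha b hb
    rw [← hZeq] at ha
    obtain ⟨z, hz, rfl⟩ := ha
    have := mem_center_iff.mp hz ⟨b, hb⟩
    have h2 := congrArg (Subtype.val) this
    simpa using h2.symm
  -- `N ⊓ M` is normal, hence trivial
  have hdisj : N ⊓ M = ⊥ := by
    have hn : (N ⊓ M).Normal := by
      rw [← normalizer_eq_top_iff, eq_top_iff, ← hsup]
      apply sup_le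
      · intro n hn
        rw [mem_normalizer_iff]
        intro x
        constructor
        · intro hx
          have : n * x * n⁻¹ = x := by
            rw [hcomm n hn x (mem_inf.mp hx).1]; group
          rw [this]; exact hx
        · intro hx
          have hxN : x ∈ N := by
            have := hNn.conj_mem _ (mem_inf.mp hx).1 n⁻¹
            simpa [mul_assoc] using this
          have : n * x * n⁻¹ = x := by
            rw [hcomm n hn x hxN]; group
          rw [this] at hx; exact hx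
      · intro x hx
        rw [mem_normalizer_iff]
        intro g
        have h1 : x ∈ normalizer (N : Set G) := by rw [normalizer_eq_top]; exact mem_top x
        have h2 : x ∈ normalizer (M : Set G) := le_normalizer hx
        rw [mem_inf, mem_inf, ← mem_normalizer_iff.mp h1 g, ← mem_normalizer_iff.mp h2 g]
    rcases hmin _ hn inf_le_left with h | h
    · exact h
    · exact absurd (h ▸ inf_le_right : N ≤ M) hNM
  -- `|N| = p`
  have hcompl : N.IsComplement' M := by
    apply isComplement'_of_disjoint_and_mul_eq_univ (disjoint_iff.mpr hdisj)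
    rw [← Subgroup.normal_mul, hsup]; rfl
  have hcard : Nat.card N = p := by
    have h1 : M.index = p ^ m := by rw [hcompl.index_eq_card, hm]
    have hm0 : m ≠ 0 := by
      intro h0
      rw [h0, pow_zero] at hm
      exact hNne ((Subgroup.card_eq_one).mp hm)
    have h2 : p ∣ M.index := by rw [h1]; exact dvd_pow_self p hm0
    have h3 := (Nat.prime_dvd_prime_iff_eq hp hpr).mp h2
    rw [hcompl.index_eq_card] at h3
    exact h3.symm
  -- `D = C_M(N)` is normal
  obtain ⟨D, hD⟩ : ∃ D : Subgroup G, D = centralizer (N : Set G) ⊓ M := ⟨_, rfl⟩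
  have hNcent : N ≤ centralizer (N : Set G) := by
    intro a ha
    rw [mem_centralizer_iff]
    intro b hb
    exact hcomm b hb a ha
  have hDn : D.Normal := by
    rw [← normalizer_eq_top_iff, eq_top_iff, ← hsup]
    apply sup_le
    · intro n hn
      rw [mem_normalizer_iff]
      have key : ∀ y ∈ D, ∀ n' ∈ N, n' * y * n'⁻¹ = y := by
        intro y hy n' hn'
        rw [hD, mem_inf, mem_centralizer_iff] at hy
        rw [hy.1 n' hn']; group
      intro x
      constructor
      · intro hx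
        rw [key x hx n hn]; exact hx
      · intro hx
        have := key _ hx n⁻¹ (N.inv_mem hn)
        have e : n⁻¹ * (n * x * n⁻¹) * n⁻¹⁻¹ = x := by group
        rw [e] at this
        rw [this]; exact hx
    · intro x hx
      rw [mem_normalizer_iff]
      intro g
      have hcn : (centralizer (N : Set G)).Normal := inferInstance
      have h1 : x ∈ normalizer ((centralizer (N : Set G) : Subgroup G) : Set G) := by
        rw [normalizer_eq_top]; exact mem_top x
      have h2 : x ∈ normalizer (M : Set G) := le_normalizer hx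
      rw [hD, mem_inf, mem_inf, ← mem_normalizer_iff.mp h1 g, ← mem_normalizer_iff.mp h2 g]
  have hND : N ⊓ D = ⊥ := by
    rw [eq_bot_iff, ← hdisj, hD]
    exact inf_le_inf_left _ inf_le_right
  by_cases hDb : D = ⊥
  · -- `N` is a Sylow `p`-subgroup
    obtain ⟨S, hS⟩ := hNpg.exists_le_sylow
    have hSc : (S : Subgroup G) ≤ centralizer (N : Set G) :=
      le_centralizer_of_card_prime _ N S.2 hcard
    have hSN : (S : Subgroup G) ≤ N := by
      intro s hs
      have hs' : s ∈ N ⊔ M := by rw [hsup]; exact mem_top s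
      rw [mem_sup_of_normal_left] at hs'
      obtain ⟨n, hn, x, hx, hnx⟩ := hs'
      have hxD : x ∈ D := by
        rw [hD, mem_inf]
        refine ⟨?_, hx⟩
        have : x = n⁻¹ * s := by rw [← hnx]; group
        rw [this]
        exact (centralizer (N : Set G)).mul_mem
          ((centralizer (N : Set G)).inv_mem (hNcent hn)) (hSc hs)
      rw [hDb, mem_bot] at hxD
      rw [← hnx, hxD, mul_one]; exact hn
    have hidx : ¬ p ∣ N.index := by
      intro hd
      exact S.not_dvd_index (hd.trans (Subgroup.index_dvd_of_le hSN))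
    refine ⟨⊥, N, ⊤, inferInstance, hNn, inferInstance, le_rfl, bot_le, le_top, ?_, ?_, ?_, ?_⟩
    · rw [Subgroup.relIndex_bot_left, Subgroup.card_bot]
      exact hp.one_lt.ne' ∘ Nat.dvd_one.mp
    · exact ⟨m, by rw [Subgroup.relIndex_bot_left, hm]⟩
    · rwa [Subgroup.relIndex_top_right]
    · exact ⟨0, by rw [Subgroup.index_top, pow_zero]⟩
  · exact con_inter N D hND (ih N hNn hNne) (ih D hDn hDb)

/-! ### the main induction -/

theorem main (p : ℕ) [Fact p.Prime] : ∀ n : ℕ, ∀ (G : Type u) [Group G] [Finite G],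
    Nat.card G = n → IsPSolvable p G → Hmax p G → Con p (⊥ : Subgroup G) := by
  intro n
  induction n using Nat.strong_induction_on with
  | _ n IH =>
  intro G _ _ hn hsolv hmax
  have hp : p.Prime := Fact.out
  have ih : ∀ L : Subgroup G, L.Normal → L ≠ ⊥ → Con p L := by
    intro L hL hne
    have := hL
    apply con_of_quotient
    refine IH (Nat.card (G ⧸ L)) ?_ (G ⧸ L) rfl
      (Cfsg.Agent.Helper76.IsPSolvable.quotient hsolv L) (hmax_quotient L hmax)
    rw [← hn, ← Subgroup.index_eq_card, ← Subgroup.card_mul_index L]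
    have h1 : 1 < Nat.card L := (Subgroup.one_lt_card_iff_ne_bot L).mpr hne
    have h2 : 0 < L.index := Nat.pos_of_ne_zero Subgroup.index_ne_zero_of_finite
    nlinarith
  by_cases htop : (⊤ : Subgroup G) = ⊥
  · refine ⟨⊥, ⊥, ⊥, inferInstance, inferInstance, inferInstance, le_rfl, le_rfl, le_rfl,
      ?_, ⟨0, ?_⟩, ?_, ⟨0, ?_⟩⟩
    · rw [Subgroup.relIndex_self]
      exact hp.one_lt.ne' ∘ Nat.dvd_one.mp
    · rw [Subgroup.relIndex_self, pow_zero]
    · rw [Subgroup.relIndex_self]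
      exact hp.one_lt.ne' ∘ Nat.dvd_one.mp
    · rw [← htop, Subgroup.index_top, pow_zero]
  obtain ⟨N, hNn, hNne, hNmin⟩ := exists_minimal_normal htop
  have := hNn
  obtain ⟨L, hLn, hlt, hLN, hfac⟩ :=
    Cfsg.Agent.Helper76.IsPSolvable.exists_step hsolv ⊥ N (bot_lt_iff_ne_bot.mpr hNne)
  have hLN' : L = N := (hNmin L hLn hLN).resolve_left hlt.ne'
  rw [hLN', Subgroup.relIndex_bot_left] at hfac
  rcases hfac with hpow | hcop
  · by_cases hΦ : ∀ M : Subgroup G, IsCoatom M → N ≤ M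
    · exact con_frattini N hpow hΦ (ih N hNn hNne)
    · push Not at hΦ
      obtain ⟨M, hM, hNM⟩ := hΦ
      have hsup : N ⊔ M = ⊤ := by
        apply hM.2
        apply lt_of_le_of_ne le_sup_right
        intro h
        apply hNM
        rw [h]; exact le_sup_left
      rcases hmax M hM with ⟨K, hKM, hMK, hK, hidx⟩ | hpr
      · exact con_pnilpotent N M K hpow hsup hKM hMK hK hidx
      · exact con_prime_index N M hNne hNmin hpow hsup hNM hpr ih
  · exact con_bot_of_con N ((Nat.Prime.coprime_iff_not_dvd hp).mp hcop.symm) (ih N hNn hNne)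


/-- conversion of the hypothesis as stated (normal `p`-complement as a subgroup of `↥M`) to the
internal form -/
lemma hmax_of {p : ℕ}
    (hmax : ∀ M : Subgroup G, IsCoatom M → (∃ K : Subgroup ↥M, K.Normal ∧ ¬ p ∣ Nat.card K ∧
      ∃ k : ℕ, K.index = p ^ k) ∨ (M.index).Prime) : Hmax p G := by
  intro M hM
  rcases hmax M hM with ⟨K, hKn, hK, k, hk⟩ | hpr
  · left
    have hle : K.map M.subtype ≤ M := map_subtype_le K
    have hsub : (K.map M.subtype).subgroupOf M = K := by
      rw [subgroupOf, comap_map_eq_self_of_injective M.subtype_injective]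
    refine ⟨K.map M.subtype, hle, ?_, ?_, k, ?_⟩
    · rw [← normal_subgroupOf_iff_le_normalizer hle, hsub]; exact hKn
    · rwa [Subgroup.card_map_of_injective M.subtype_injective]
    · rw [Subgroup.relIndex, hsub, hk]
  · exact Or.inr hpr

/-- **Main theorem** in explicit form. -/
theorem main' [Finite G] (p : ℕ) [Fact p.Prime] (hG : IsPSolvable p G)
    (hmax : ∀ M : Subgroup G, IsCoatom M → (∃ K : Subgroup ↥M, K.Normal ∧ ¬ p ∣ Nat.card K ∧
      ∃ k : ℕ, K.index = p ^ k) ∨ (M.index).Prime) :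
    ∃ A B C : Subgroup G, A.Normal ∧ B.Normal ∧ C.Normal ∧ A ≤ B ∧ B ≤ C ∧ ¬ p ∣ Nat.card A ∧
      (∃ k : ℕ, A.relIndex B = p ^ k) ∧ ¬ p ∣ B.relIndex C ∧ ∃ k : ℕ, C.index = p ^ k := by
  obtain ⟨A, B, C, hA, hB, hC, -, hAB, hBC, h1, h2, h3, h4⟩ :=
    main p (Nat.card G) G rfl hG (hmax_of hmax)
  rw [Subgroup.relIndex_bot_left] at h1
  exact ⟨A, B, C, hA, hB, hC, hAB, hBC, h1, h2, h3, h4⟩

end Cfsg.Agent.Helper61.PLenTwo
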