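import Mathlib
import Cfsg.Prelude.Def_Characters
import Cfsg.Prelude.Def_Blocks
import Cfsg.Agent.Lib.Helper80.RMKDefs
import Cfsg.Agent.Lib.Helper80.RMKBasic
import Cfsg.Agent.Lib.Helper19.RMKQNSA
import Cfsg.Agent.Lib.Helper19.RMKQN
import Cfsg.Agent.Lib.Helper41.RMKTRANS
import Cfsg.Agent.Lib.Helper81.RMKOVER1
import Cfsg.Agent.Lib.Helper81.RMKPAR2
import Cfsg.Agent.Lib.Helper90.RMKTWIST

/-!
# RMK project (S4581), piece BL `invariant_count`, core form (PAR as a hypothesis).
-/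

set_option autoImplicit false
set_option linter.style.haveILetI false
set_option linter.unusedVariables false

namespace Cfsg.Agent.Helper61.RMK

open Cfsg Cfsg.Agent.Helper80 Cfsg.Agent.Helper80.RMK
open scoped ComplexConjugate

universe u

/-- the trivial-character case of (BL) -/
theorem h61_bl_trivial (r : Bool) {G : Type u} [Group G] [Finite G] (M : Subgroup G)
    [hM : M.Normal] (hM1 : M ≠ ⊥) (P : Sylow 2 G)
    (hMP : M ≤ (P : Subgroup G))
    (hself : r = false → Subgroup.normalizer ((P : Subgroup G) : Set G) = (P : Subgroup G))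
    (hIH : IH.{u} r (Nat.card G)) (T : Subgroup G) (hsolv : Group.IsSolvable ↥T)
    (hPT : (P : Subgroup G) ≤ T) :
    cntOver r (le_trans hMP hPT) (trivialIrr ↥M) =
      cntOver r (le_inf (le_trans hMP Subgroup.le_normalizer) (le_trans hMP hPT) :
        M ≤ Subgroup.normalizer ((P : Subgroup G) : Set G) ⊓ T) (trivialIrr ↥M) := by
  haveI := hsolv
  -- left side
  have hL : cntOver r (le_trans hMP hPT) (trivialIrr ↥M) =
      cnt r (↥T ⧸ M.subgroupOf T) := by
    rw [← Cfsg.Agent.Helper19.RMK.cnt_quotient_sub r M T (le_trans hMP hPT)]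
    unfold cntOver
    apply Nat.card_congr
    apply Equiv.subtypeEquivRight
    intro ψ
    rw [Cfsg.Agent.Helper81.RMK.over_trivial_iff M T (le_trans hMP hPT) ψ]
  -- right side
  have hR : cntOver r (le_inf (le_trans hMP Subgroup.le_normalizer) (le_trans hMP hPT) :
        M ≤ Subgroup.normalizer ((P : Subgroup G) : Set G) ⊓ T) (trivialIrr ↥M) =
      cnt r ↥(Subgroup.normalizer ((((P.subtype hPT).mapSurjective
        (QuotientGroup.mk'_surjective (M.subgroupOf T)) : Sylow 2 (↥T ⧸ M.subgroupOf T)) :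
        Subgroup (↥T ⧸ M.subgroupOf T)) : Set (↥T ⧸ M.subgroupOf T))) := by
    rw [Cfsg.Agent.Helper19.RMK.cnt_normalizer_quotient_sub r M P T hMP hPT]
    unfold cntOver
    apply Nat.card_congr
    apply Equiv.subtypeEquivRight
    intro ψ
    rw [Cfsg.Agent.Helper81.RMK.over_trivial_iff M (Subgroup.normalizer ((P : Subgroup G) : Set G) ⊓ T)
      (le_inf (le_trans hMP Subgroup.le_normalizer) (le_trans hMP hPT)) ψ]
  rw [hL, hR]
  -- the induction hypothesis on `T ⧸ M`
  have hcard : Nat.card (↥T ⧸ M.subgroupOf T) < Nat.card G := by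
    have h1 : Nat.card ↥T = Nat.card (↥T ⧸ M.subgroupOf T) * Nat.card ↥(M.subgroupOf T) :=
      Subgroup.card_eq_card_quotient_mul_card_subgroup (M.subgroupOf T)
    have h2 : 1 < Nat.card ↥(M.subgroupOf T) := by
      rw [Subgroup.one_lt_card_iff_ne_bot]
      intro hbot
      apply hM1
      rw [Subgroup.subgroupOf_eq_bot] at hbot
      exact (disjoint_of_le_iff_left_eq_bot (le_trans hMP hPT)).mp hbot
    have h3 : Nat.card ↥T ≤ Nat.card G := Subgroup.card_le_card_group T
    have h4 : 0 < Nat.card (↥T ⧸ M.subgroupOf T) := Nat.card_pos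
    nlinarith
  exact hIH (↥T ⧸ M.subgroupOf T) hcard _
    (fun hr => Cfsg.Agent.Helper19.RMK.self_normalizing_quotient_sub M P T hMP hPT (hself hr))

/-- (BL) the key equality for an invariant character `θ` of `M`, with (PAR) as a hypothesis -/
theorem h61_invariant_count_core (r : Bool) {G : Type u} [Group G] [Finite G]
    (hPAR : ∀ (P T : Subgroup G) (hPT : P ≤ T), IsPGroup 2 ↥P → ∀ ψ : IrrCharacter ↥T,
      Good r ψ → ∃ μ : ↥P →* ℂˣ,
      (∑ᶠ x : ↥P, (ψ : ↥T → ℂ) (Subgroup.inclusion hPT x) * conj (((μ x : ℂˣ) : ℂ)) ≠ 0) ∧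
      (r = true → ∀ x : ↥P, μ x ^ 2 = 1))
    (M : Subgroup G)
    [hM : M.Normal] (hM1 : M ≠ ⊥) (hsq : ∀ m ∈ M, m * m = 1) (P : Sylow 2 G)
    (hMP : M ≤ (P : Subgroup G))
    (hself : r = false → Subgroup.normalizer ((P : Subgroup G) : Set G) = (P : Subgroup G))
    (hIH : IH.{u} r (Nat.card G)) (T : Subgroup G) (hsolv : Group.IsSolvable ↥T)
    (hPT : (P : Subgroup G) ≤ T) (θ : IrrCharacter ↥M) (hT : T ≤ stab M θ) :
    cntOver r (le_trans hMP hPT) θ =
      cntOver r (le_inf (le_trans hMP Subgroup.le_normalizer) (le_trans hMP hPT) :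
        M ≤ Subgroup.normalizer ((P : Subgroup G) : Set G) ⊓ T) θ := by
  have hMN : M ≤ Subgroup.normalizer ((P : Subgroup G) : Set G) ⊓ T :=
    le_inf (le_trans hMP Subgroup.le_normalizer) (le_trans hMP hPT)
  have hPN : (P : Subgroup G) ≤ Subgroup.normalizer ((P : Subgroup G) : Set G) ⊓ T :=
    le_inf Subgroup.le_normalizer hPT
  by_cases hμ : ∃ μ : ↥(P : Subgroup G) →* ℂˣ,
      (∀ (m : G) (hm : m ∈ M), ((μ ⟨m, hMP hm⟩ : ℂˣ) : ℂ) = (θ : ↥M → ℂ) ⟨m, hm⟩) ∧
      (r = true → ∀ x : ↥(P : Subgroup G), μ x ^ 2 = 1)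
  · -- twist to the trivial character
    obtain ⟨μ, hμθ, hμr⟩ := hμ
    have hodd : Odd ((P : Subgroup G).relIndex T) := by
      have h1 : ¬ 2 ∣ (P : Subgroup G).index := P.not_dvd_index
      have h2 : (P : Subgroup G).relIndex T ∣ (P : Subgroup G).index :=
        Dvd.intro _ (Subgroup.relIndex_mul_index hPT)
      rw [← Nat.not_even_iff_odd, even_iff_two_dvd]
      intro h3
      exact h1 (dvd_trans h3 h2)
    have hinv : ∀ t ∈ T, ∀ (m : G) (hm : m ∈ M),
        μ ⟨t * m * t⁻¹, hMP (hM.conj_mem m hm t)⟩ = μ ⟨m, hMP hm⟩ := by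
      intro t ht m hm
      apply Units.ext
      rw [hμθ _ (hM.conj_mem m hm t), hμθ m hm]
      exact (mem_stab_iff M θ t).mp (hT ht) ⟨m, hm⟩ ⟨t * m * t⁻¹, hM.conj_mem m hm t⟩ rfl
    have hsq' : ∀ (m : G) (hm : m ∈ M), μ ⟨m, hMP hm⟩ ^ 2 = 1 := by
      intro m hm
      rw [← map_pow]
      have : (⟨m, hMP hm⟩ : ↥(P : Subgroup G)) ^ 2 = 1 := by
        apply Subtype.ext
        rw [pow_two]
        exact hsq m hm
      rw [this, map_one]
    obtain ⟨ν, hν1, hν2⟩ := Cfsg.Agent.Helper41.RMK.exists_hom_extending M (P : Subgroup G) T hMP hPT hodd μ hinv hsq'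
    have hνr : r = true → ∀ t : ↥T, ν t ^ 2 = 1 := fun hr => hν2 (hμr hr)
    -- twist on `T`
    have e1 : cntOver r (le_trans hMP hPT) θ = cntOver r (le_trans hMP hPT) (trivialIrr ↥M) := by
      apply Cfsg.Agent.Helper90.RMK.twist_count r M T (le_trans hMP hPT) θ ν _ hνr
      intro m
      have := hν1 (m : G) m.2
      have h5 : (Subgroup.inclusion (le_trans hMP hPT) m : ↥T) =
          ⟨(m : G), hPT (hMP m.2)⟩ := rfl
      rw [h5, this, hμθ (m : G) m.2]
    -- twist on `N(P) ⊓ T`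
    have e2 : cntOver r hMN θ = cntOver r hMN (trivialIrr ↥M) := by
      apply Cfsg.Agent.Helper90.RMK.twist_count r M (Subgroup.normalizer ((P : Subgroup G) : Set G) ⊓ T) hMN θ
        (ν.comp (Subgroup.inclusion inf_le_right))
      · intro m
        have := hν1 (m : G) m.2
        have h5 : (Subgroup.inclusion (inf_le_right :
            Subgroup.normalizer ((P : Subgroup G) : Set G) ⊓ T ≤ T)
            (Subgroup.inclusion hMN m) : ↥T) = ⟨(m : G), hPT (hMP m.2)⟩ := rfl
        rw [MonoidHom.comp_apply, h5, this, hμθ (m : G) m.2]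
      · intro hr h
        rw [MonoidHom.comp_apply]
        exact hνr hr _
    rw [e1, e2]
    exact h61_bl_trivial r M hM1 P hMP hself hIH T hsolv hPT
  · -- both sides vanish
    have hP2 : IsPGroup 2 ↥(P : Subgroup G) := P.isPGroup'
    have hzero1 : cntOver r (le_trans hMP hPT) θ = 0 := by
      unfold cntOver
      rw [Nat.card_eq_zero]
      left
      constructor
      rintro ⟨ψ, hgood, hover⟩
      obtain ⟨μ, hμ1, hμ2⟩ := hPAR (P : Subgroup G) T hPT hP2 ψ hgood
      exact hμ ⟨μ, Cfsg.Agent.Helper81.RMK.linear_constituent_restrict M (P : Subgroup G) T hMP hPT θ hT ψ hover μ hμ1,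
        hμ2⟩
    have hzero2 : cntOver r hMN θ = 0 := by
      unfold cntOver
      rw [Nat.card_eq_zero]
      left
      constructor
      rintro ⟨ψ, hgood, hover⟩
      obtain ⟨μ, hμ1, hμ2⟩ := hPAR (P : Subgroup G)
        (Subgroup.normalizer ((P : Subgroup G) : Set G) ⊓ T) hPN hP2 ψ hgood
      exact hμ ⟨μ, Cfsg.Agent.Helper81.RMK.linear_constituent_restrict M (P : Subgroup G)
        (Subgroup.normalizer ((P : Subgroup G) : Set G) ⊓ T) hMP hPN θ
        (le_trans inf_le_right hT) ψ hover μ hμ1, hμ2⟩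
    rw [hzero1, hzero2]

end Cfsg.Agent.Helper61.RMK
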