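import Mathlib
import Cfsg.Prelude.Def_Characters
import Cfsg.Prelude.Def_Blocks
import Cfsg.Agent.Lib.Helper80.RMKDefs
import Cfsg.Agent.Lib.Helper80.RMKBasic
import Cfsg.Agent.Lib.Helper61.RMKBLCore
import Cfsg.Agent.Lib.Helper8.RMKPAR

/-!
# RMK project (S4581), piece BL `invariant_count` (verbatim form).
-/

set_option autoImplicit false
set_option linter.style.haveILetI false
set_option linter.unusedVariables false

namespace Cfsg.Agent.Helper61.RMK

open Cfsg Cfsg.Agent.Helper80 Cfsg.Agent.Helper80.RMK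
open scoped ComplexConjugate

universe u

/-- (BL) the key equality for an invariant character `θ` of `M` -/
theorem invariant_count (r : Bool) {G : Type u} [Group G] [Finite G] (M : Subgroup G)
    [hM : M.Normal] (hM1 : M ≠ ⊥) (hsq : ∀ m ∈ M, m * m = 1) (P : Sylow 2 G)
    (hMP : M ≤ (P : Subgroup G))
    (hself : r = false → Subgroup.normalizer ((P : Subgroup G) : Set G) = (P : Subgroup G))
    (hIH : IH.{u} r (Nat.card G)) (T : Subgroup G) (hsolv : Group.IsSolvable ↥T)
    (hPT : (P : Subgroup G) ≤ T) (θ : IrrCharacter ↥M) (hT : T ≤ stab M θ) :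
    cntOver r (le_trans hMP hPT) θ =
      cntOver r (le_inf (le_trans hMP Subgroup.le_normalizer) (le_trans hMP hPT) :
        M ≤ Subgroup.normalizer ((P : Subgroup G) : Set G) ⊓ T) θ :=
  h61_invariant_count_core r
    (fun P T hPT hP ψ hψ => Cfsg.Agent.Helper8.RMK.exists_linear_constituent r P T hPT hP ψ hψ)
    M hM1 hsq P hMP hself hIH T hsolv hPT θ hT

end Cfsg.Agent.Helper61.RMK
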