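import Mathlib

/-!
# RMK project (S4581), pieces GT1 `normalizer_map_eq` and QNS `self_normalizing_quotient`
(pure Mathlib: Frattini argument for the image of a Sylow normalizer in a quotient).
-/

set_option autoImplicit false
set_option linter.style.haveILetI false

namespace Cfsg.Agent.Helper61.RMK

open scoped Pointwise

universe u

/-- (GT1) normalizers of Sylow subgroups map onto normalizers in quotients -/
theorem normalizer_map_eq {G : Type u} [Group G] [Finite G] (p : ℕ) [Fact p.Prime]
    (M : Subgroup G) [M.Normal] (P : Sylow p G) :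
    Subgroup.normalizer (((P.mapSurjective (QuotientGroup.mk'_surjective M) :
        Sylow p (G ⧸ M)) : Subgroup (G ⧸ M)) : Set (G ⧸ M)) =
      (Subgroup.normalizer ((P : Subgroup G) : Set G)).map (QuotientGroup.mk' M) := by
  classical
  rw [Sylow.coe_mapSurjective]
  apply le_antisymm
  · intro q hq
    obtain ⟨g, rfl⟩ := QuotientGroup.mk'_surjective M q
    have hq' := Subgroup.mem_normalizer_iff.mp hq
    have hle : (↑(g • P) : Subgroup G) ≤ M ⊔ (P : Subgroup G) := by
      intro x hx
      rw [Sylow.coe_subgroup_smul, Subgroup.mem_pointwise_smul_iff_inv_smul_mem] at hx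
      obtain ⟨y, hy⟩ : ∃ y : G, y = (MulAut.conj g)⁻¹ • x := ⟨_, rfl⟩
      rw [← hy] at hx
      have hxy : x = g * y * g⁻¹ := by
        rw [hy, MulAut.smul_def, ← map_inv, MulAut.conj_apply]
        group
      have h1 : (QuotientGroup.mk' M) x ∈ (P : Subgroup G).map (QuotientGroup.mk' M) := by
        rw [hxy, map_mul, map_mul, map_inv]
        exact (hq' _).mp (Subgroup.mem_map_of_mem _ hx)
      obtain ⟨y', hy', hyy⟩ := Subgroup.mem_map.mp h1
      have h2 : x * y'⁻¹ ∈ M := by
        have h3 : (QuotientGroup.mk' M) (x * y'⁻¹) = 1 := by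
          rw [map_mul, map_inv, hyy, mul_inv_cancel]
        rwa [← MonoidHom.mem_ker, QuotientGroup.ker_mk'] at h3
      have h4 : x = (x * y'⁻¹) * y' := by group
      rw [h4]
      exact Subgroup.mul_mem _ (Subgroup.mem_sup_left h2) (Subgroup.mem_sup_right hy')
    have hPle : (P : Subgroup G) ≤ M ⊔ (P : Subgroup G) := le_sup_right
    obtain ⟨h, hh⟩ := MulAction.exists_smul_eq (↥(M ⊔ (P : Subgroup G))) (P.subtype hPle)
      ((g • P).subtype hle)
    rw [Sylow.smul_subtype] at hh
    have hh2 : h • P = g • P := Sylow.subtype_injective hh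
    obtain ⟨m, hm, y, hy, hmy⟩ : ∃ m ∈ M, ∃ y ∈ (P : Subgroup G), m * y = (h : G) := by
      have h5 := h.2
      rw [← SetLike.mem_coe, Subgroup.normal_mul] at h5
      exact Set.mem_mul.mp h5
    have hyP : y • P = P :=
      Sylow.smul_eq_iff_mem_normalizer.mpr (Subgroup.le_normalizer hy)
    have hmP : m • P = g • P := by
      rw [← hh2, Subgroup.smul_def, ← hmy, mul_smul, hyP]
    have hn : (m⁻¹ * g) • P = P := by
      rw [mul_smul, ← hmP, inv_smul_smul]
    have hn' : m⁻¹ * g ∈ Subgroup.normalizer ((P : Subgroup G) : Set G) :=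
      Sylow.smul_eq_iff_mem_normalizer.mp hn
    refine Subgroup.mem_map.mpr ⟨m⁻¹ * g, hn', ?_⟩
    rw [map_mul, map_inv]
    have hm1 : (QuotientGroup.mk' M) m = 1 := (QuotientGroup.eq_one_iff m).mpr hm
    rw [hm1, inv_one, one_mul]
  · exact Subgroup.le_normalizer_map (QuotientGroup.mk' M)

/-- (QNS) self-normalizing passes to quotients -/
theorem self_normalizing_quotient {G : Type u} [Group G] [Finite G]
    (M : Subgroup G) [M.Normal] (P : Sylow 2 G)
    (hself : Subgroup.normalizer ((P : Subgroup G) : Set G) = (P : Subgroup G)) :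
    Subgroup.normalizer (((P.mapSurjective (QuotientGroup.mk'_surjective M) :
        Sylow 2 (G ⧸ M)) : Subgroup (G ⧸ M)) : Set (G ⧸ M)) =
      ((P.mapSurjective (QuotientGroup.mk'_surjective M) : Sylow 2 (G ⧸ M)) :
        Subgroup (G ⧸ M)) := by
  rw [normalizer_map_eq 2 M P, hself, Sylow.coe_mapSurjective]

end Cfsg.Agent.Helper61.RMK
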