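import Mathlib

set_option autoImplicit false
set_option linter.style.haveILetI false

/-! A finite field with an automorphism of prime order `ℓ` whose only fixed points are `0, 1`
has `2 ^ ℓ` elements; and the "regular abelian group of automorphisms" construction of such a
field on an additive group. -/

namespace Cfsg.Agent.Helper61.RegField

open Module

theorem card_field_of_aut {F : Type*} [Field F] [Finite F] (σ : RingAut F) (ℓ : ℕ) (hℓ : ℓ.Prime)
    (hσℓ : σ ^ ℓ = 1) (hσ1 : σ ≠ 1) (hfix : ∀ x : F, σ x = x → x = 0 ∨ x = 1) :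
    Nat.card F = 2 ^ ℓ := by
  classical
  haveI : Fintype F := Fintype.ofFinite F
  haveI : Fact ℓ.Prime := ⟨hℓ⟩
  have hord : orderOf σ = ℓ := orderOf_eq_prime hσℓ hσ1
  haveI : Finite (Subgroup.zpowers σ) := by
    have : IsOfFinOrder σ := by
      rw [← orderOf_pos_iff, hord]; exact hℓ.pos
    exact this.finite_zpowers
  haveI : Fintype (Subgroup.zpowers σ) := Fintype.ofFinite _
  have hcardZ : Fintype.card (Subgroup.zpowers σ) = ℓ := by
    rw [← Nat.card_eq_fintype_card, Nat.card_zpowers, hord]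
  have hart := FixedPoints.finrank_eq_card (Subgroup.zpowers σ) F
  have hE : ∀ x : FixedPoints.subfield (Subgroup.zpowers σ) F, x = 0 ∨ x = 1 := by
    intro x
    have h1 : σ (x : F) = x := x.2 ⟨σ, Subgroup.mem_zpowers σ⟩
    rcases hfix _ h1 with h | h
    · left; exact Subtype.ext h
    · right; exact Subtype.ext h
  haveI : Fintype (FixedPoints.subfield (Subgroup.zpowers σ) F) := Fintype.ofFinite _
  have hcardE : Fintype.card (FixedPoints.subfield (Subgroup.zpowers σ) F) = 2 := by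
    rw [← Nat.card_eq_fintype_card, Nat.card_eq_two_iff]
    refine ⟨0, 1, zero_ne_one, ?_⟩
    ext x
    simp only [Set.mem_univ, Set.mem_insert_iff, Set.mem_singleton_iff, iff_true]
    exact hE x
  have key := Module.card_eq_pow_finrank (K := FixedPoints.subfield (Subgroup.zpowers σ) F) (V := F)
  rw [hart, hcardZ, hcardE] at key
  rw [Nat.card_eq_fintype_card]
  convert key

section main

variable {Γ A : Type*} [Group Γ] [AddCommGroup A] [Finite A]

/-- Main lemma: an abelian group `K` of automorphisms of the additive group `A`, regular on the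
nonzero elements, normalised by an element `h` of prime order `ℓ` centralising no nonidentity
element of `K`: then `A` has `2 ^ ℓ` elements. -/
theorem card_eq_two_pow (T : Γ →* AddMonoid.End A) (K : Subgroup Γ)
    (hKc : ∀ x ∈ K, ∀ y ∈ K, x * y = y * x)
    (v₀ : A) (hv₀ : v₀ ≠ 0)
    (htrans : ∀ u : A, u ≠ 0 → ∃ κ ∈ K, T κ v₀ = u)
    (hsemi : ∀ κ ∈ K, T κ v₀ = v₀ → κ = 1)
    (h : Γ) (ℓ : ℕ) (hℓ : ℓ.Prime) (hhℓ : h ^ ℓ = 1)
    (hnorm : ∀ κ ∈ K, h * κ * h⁻¹ ∈ K) (hnorm' : ∀ κ ∈ K, h⁻¹ * κ * h ∈ K)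
    (hfpf : ∀ κ ∈ K, h * κ * h⁻¹ = κ → κ = 1)
    (κ₁ : Γ) (hκ₁ : κ₁ ∈ K) (hκ₁1 : κ₁ ≠ 1) :
    Nat.card A = 2 ^ ℓ := by
  classical
  -- the centraliser ring
  let F : Subring (AddMonoid.End A) := Subring.centralizer (T '' (K : Set Γ))
  have hmemF : ∀ f : AddMonoid.End A, f ∈ F ↔ ∀ κ ∈ K, T κ * f = f * T κ := by
    intro f
    show f ∈ Subring.centralizer (T '' (K : Set Γ)) ↔ _
    rw [Subring.mem_centralizer_iff]
    constructor
    · intro hf κ hκ
      exact hf _ ⟨κ, hκ, rfl⟩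
    · rintro hf _ ⟨κ, hκ, rfl⟩
      exact hf κ hκ
  have hTK : ∀ κ ∈ K, T κ ∈ F := by
    intro κ hκ
    rw [hmemF]
    intro κ' hκ'
    rw [← map_mul, ← map_mul, hKc κ' hκ' κ hκ]
  have happ : ∀ f ∈ F, ∀ κ ∈ K, ∀ u : A, f (T κ u) = T κ (f u) := by
    intro f hf κ hκ u
    have := (hmemF f).1 hf κ hκ
    have h2 := congrArg (fun g : AddMonoid.End A => g u) this
    simp only [AddMonoid.End.coe_mul, Function.comp_apply] at h2
    exact h2.symm
  have hker : ∀ f ∈ F, f v₀ = 0 → f = 0 := by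
    intro f hf h0
    ext u
    by_cases hu : u = 0
    · rw [hu, map_zero, map_zero]
    · obtain ⟨κ, hκ, rfl⟩ := htrans u hu
      rw [happ f hf κ hκ, h0, map_zero]
      rfl
  have hform : ∀ f ∈ F, f ≠ 0 → ∃ κ ∈ K, f = T κ := by
    intro f hf hf0
    have h1 : f v₀ ≠ 0 := fun h0 => hf0 (hker f hf h0)
    obtain ⟨κ, hκ, hκv⟩ := htrans _ h1
    refine ⟨κ, hκ, ?_⟩
    have h2 : f - T κ ∈ F := F.sub_mem hf (hTK κ hκ)
    have h3 : (f - T κ) v₀ = 0 := by
      change f v₀ - T κ v₀ = 0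
      rw [hκv, sub_self]
    exact sub_eq_zero.1 (hker _ h2 h3)
  have hTinj : ∀ κ ∈ K, ∀ κ' ∈ K, T κ = T κ' → κ = κ' := by
    intro κ hκ κ' hκ' he
    have h1 : T (κ'⁻¹ * κ) v₀ = v₀ := by
      rw [map_mul, AddMonoid.End.coe_mul, Function.comp_apply, he, ← Function.comp_apply (f := T κ'⁻¹),
        ← AddMonoid.End.coe_mul, ← map_mul, inv_mul_cancel, map_one]
      rfl
    have := hsemi _ (K.mul_mem (K.inv_mem hκ') hκ) h1
    exact (inv_mul_eq_one.1 this).symm
  have hT1 : (1 : AddMonoid.End A) ≠ 0 := by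
    intro h10
    have := congrArg (fun g : AddMonoid.End A => g v₀) h10
    exact hv₀ this
  -- field structure
  have hcomm : ∀ f g : F, f * g = g * f := by
    intro f g
    by_cases hf : (f : AddMonoid.End A) = 0
    · have : f = 0 := Subtype.ext hf
      rw [this, zero_mul, mul_zero]
    by_cases hg : (g : AddMonoid.End A) = 0
    · have : g = 0 := Subtype.ext hg
      rw [this, zero_mul, mul_zero]
    obtain ⟨κ, hκ, hfκ⟩ := hform f f.2 hf
    obtain ⟨κ', hκ', hgκ⟩ := hform g g.2 hg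
    apply Subtype.ext
    show (f : AddMonoid.End A) * g = g * f
    rw [hfκ, hgκ, ← map_mul, ← map_mul, hKc κ hκ κ' hκ']
  have hisF : IsField F :=
    { exists_pair_ne := ⟨0, 1, fun h01 => hT1 (congrArg Subtype.val h01).symm⟩
      mul_comm := hcomm
      mul_inv_cancel := by
        intro f hf
        have hf' : (f : AddMonoid.End A) ≠ 0 := fun h0 => hf (Subtype.ext h0)
        obtain ⟨κ, hκ, hfκ⟩ := hform f f.2 hf'
        refine ⟨⟨T κ⁻¹, hTK _ (K.inv_mem hκ)⟩, ?_⟩
        apply Subtype.ext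
        show (f : AddMonoid.End A) * T κ⁻¹ = 1
        rw [hfκ, ← map_mul, mul_inv_cancel, map_one] }
  letI : Field F := hisF.toField
  -- cardinality
  have hcardF : Nat.card F = Nat.card A := by
    apply Nat.card_congr
    refine Equiv.ofBijective (fun f : F => (f : AddMonoid.End A) v₀) ⟨?_, ?_⟩
    · intro f g hfg
      have h2 : (f : AddMonoid.End A) - g ∈ F := F.sub_mem f.2 g.2
      have h3 : ((f : AddMonoid.End A) - g) v₀ = 0 := by
        change (f : AddMonoid.End A) v₀ - (g : AddMonoid.End A) v₀ = 0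
        exact sub_eq_zero.2 hfg
      exact Subtype.ext (sub_eq_zero.1 (hker _ h2 h3))
    · intro u
      by_cases hu : u = 0
      · exact ⟨0, by rw [hu]; rfl⟩
      · obtain ⟨κ, hκ, hκu⟩ := htrans u hu
        exact ⟨⟨T κ, hTK κ hκ⟩, hκu⟩
  haveI : Finite F := Nat.finite_of_card_ne_zero (by rw [hcardF]; exact Nat.card_pos.ne')
  -- the automorphism
  have hθ : T h * T h⁻¹ = 1 := by rw [← map_mul, mul_inv_cancel, map_one]
  have hθ' : T h⁻¹ * T h = 1 := by rw [← map_mul, inv_mul_cancel, map_one]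
  have hconjmem : ∀ (x y : Γ), (∀ κ ∈ K, y * κ * x ∈ K) → x * y = 1 → y * x = 1 → ∀ f ∈ F, T x * f * T y ∈ F := by
    intro x y hxy h1 h2 f hf
    rw [hmemF]
    intro κ hκ
    have hκ'' := hxy κ hκ
    have e1 : T κ * T x = T x * T (y * κ * x) := by
      rw [← map_mul, ← map_mul]
      congr 1
      rw [← mul_assoc, ← mul_assoc, h1, one_mul]
    have e2 : T (y * κ * x) * T y = T y * T κ := by
      rw [← map_mul, ← map_mul]
      congr 1
      rw [mul_assoc, mul_assoc, h1, mul_one]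
    have e3 := (hmemF f).1 hf _ hκ''
    calc T κ * (T x * f * T y) = (T κ * T x) * f * T y := by simp only [mul_assoc]
      _ = T x * (T (y * κ * x) * f) * T y := by rw [e1]; simp only [mul_assoc]
      _ = T x * f * (T (y * κ * x) * T y) := by rw [e3]; simp only [mul_assoc]
      _ = T x * f * T y * T κ := by rw [e2]; simp only [mul_assoc]
  let σ : RingAut F :=
    { toFun := fun f => ⟨T h * f * T h⁻¹, hconjmem h h⁻¹ (fun κ hκ => hnorm' κ hκ) (mul_inv_cancel h) (inv_mul_cancel h) f f.2⟩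
      invFun := fun f => ⟨T h⁻¹ * f * T h, hconjmem h⁻¹ h (fun κ hκ => hnorm κ hκ) (inv_mul_cancel h) (mul_inv_cancel h) f f.2⟩
      left_inv := by
        intro f
        apply Subtype.ext
        show T h⁻¹ * (T h * f * T h⁻¹) * T h = f
        calc T h⁻¹ * (T h * f * T h⁻¹) * T h = (T h⁻¹ * T h) * f * (T h⁻¹ * T h) := by simp only [mul_assoc]
          _ = f := by rw [hθ', one_mul, mul_one]
      right_inv := by
        intro f
        apply Subtype.ext
        show T h * (T h⁻¹ * f * T h) * T h⁻¹ = f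
        calc T h * (T h⁻¹ * f * T h) * T h⁻¹ = (T h * T h⁻¹) * f * (T h * T h⁻¹) := by simp only [mul_assoc]
          _ = f := by rw [hθ, one_mul, mul_one]
      map_mul' := by
        intro f g
        apply Subtype.ext
        show T h * ((f : AddMonoid.End A) * g) * T h⁻¹ = (T h * f * T h⁻¹) * (T h * g * T h⁻¹)
        calc T h * ((f : AddMonoid.End A) * g) * T h⁻¹ = T h * f * 1 * g * T h⁻¹ := by simp only [mul_assoc, one_mul]
          _ = (T h * f * T h⁻¹) * (T h * g * T h⁻¹) := by rw [← hθ']; simp only [mul_assoc]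
      map_add' := by
        intro f g
        apply Subtype.ext
        show T h * ((f : AddMonoid.End A) + g) * T h⁻¹ = (T h * f * T h⁻¹) + (T h * g * T h⁻¹)
        rw [mul_add, add_mul] }
  have hσapp : ∀ f : F, ((σ f : F) : AddMonoid.End A) = T h * f * T h⁻¹ := fun f => rfl
  have hσpow : ∀ n : ℕ, ∀ f : F, (((σ ^ n) f : F) : AddMonoid.End A) = T (h ^ n) * f * T (h⁻¹ ^ n) := by
    intro n
    induction n with
    | zero => intro f; simp
    | succ n ih =>
      intro f
      rw [pow_succ, RingAut.mul_apply, ih, hσapp, pow_succ, pow_succ', map_mul, map_mul]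
      simp only [mul_assoc]
  have hσℓ : σ ^ ℓ = 1 := by
    apply RingEquiv.ext
    intro f
    apply Subtype.ext
    rw [hσpow, hhℓ, inv_pow, hhℓ, inv_one, map_one, one_mul, mul_one]
    rfl
  have hσT : ∀ κ (hκ : κ ∈ K), ((σ ⟨T κ, hTK κ hκ⟩ : F) : AddMonoid.End A) = T (h * κ * h⁻¹) := by
    intro κ hκ
    rw [hσapp, map_mul, map_mul]
  have hσ1 : σ ≠ 1 := by
    intro h1
    have h2 := hσT κ₁ hκ₁
    rw [h1] at h2
    have h3 : T κ₁ = T (h * κ₁ * h⁻¹) := h2
    have h4 := hTinj _ hκ₁ _ (hnorm κ₁ hκ₁) h3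
    exact hκ₁1 (hfpf κ₁ hκ₁ h4.symm)
  have hfix : ∀ x : F, σ x = x → x = 0 ∨ x = 1 := by
    intro x hx
    by_cases hx0 : (x : AddMonoid.End A) = 0
    · left; exact Subtype.ext hx0
    · right
      obtain ⟨κ, hκ, hxκ⟩ := hform x x.2 hx0
      have hx' : x = ⟨T κ, hTK κ hκ⟩ := Subtype.ext hxκ
      have h2 := hσT κ hκ
      rw [← hx', hx, hxκ] at h2
      have h4 := hTinj _ hκ _ (hnorm κ hκ) h2
      have h5 := hfpf κ hκ h4.symm
      apply Subtype.ext
      rw [hxκ, h5, map_one]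
      rfl
  rw [← hcardF]
  exact card_field_of_aut σ ℓ hℓ hσℓ hσ1 hfix

end main

end Cfsg.Agent.Helper61.RegField
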