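import Mathlib
import Cfsg.Agent.Lib.Helper60.CYCFR

/-!
S4017, case (D) (`a = 2`, `p = 3`, `P1 = 1`, `Z_t ≠ 1`): the commuting graph on the involutions is a regular friendship
graph of valency `≥ 3`, which does not exist (`Cfsg.Agent.Helper60.CYC.no_regular_friendship`).
Involution = `t * t = 1 ∧ t ≠ 1`, 3-element = `∃ j, orderOf y = 3 ^ j`.
-/

set_option autoImplicit false
set_option linter.style.haveILetI false

namespace Cfsg.Agent.Helper61.S4017D

universe u

variable {G : Type u} [Group G]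

/-- The commuting graph on the involutions. -/
def dGraph (G : Type u) [Group G] : SimpleGraph {z : G // z * z = 1 ∧ z ≠ 1} :=
  SimpleGraph.fromRel (fun a b => a.1 * b.1 = b.1 * a.1)

theorem dGraph_adj (a b : {z : G // z * z = 1 ∧ z ≠ 1}) :
    (dGraph G).Adj a b ↔ a ≠ b ∧ a.1 * b.1 = b.1 * a.1 := by
  unfold dGraph
  rw [SimpleGraph.fromRel_adj]
  constructor
  · rintro ⟨h1, h2 | h2⟩
    · exact ⟨h1, h2⟩
    · exact ⟨h1, h2.symm⟩
  · rintro ⟨h1, h2⟩
    exact ⟨h1, Or.inl h2⟩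

/-- generic glue: a regular friendship structure of valency `d ≥ 3` on the involutions is impossible -/
theorem d_graph_false [Finite G] (d : ℕ) (hd : 3 ≤ d) (hne : ∃ z : G, z * z = 1 ∧ z ≠ 1)
    (hdeg : ∀ z : G, z * z = 1 → z ≠ 1 → Nat.card {t : G // t * t = 1 ∧ t ≠ 1 ∧ t ≠ z ∧ z * t = t * z} = d)
    (hfr : ∀ z z' : G, z * z = 1 → z ≠ 1 → z' * z' = 1 → z' ≠ 1 → z ≠ z' →
      ∃! t : G, t * t = 1 ∧ t ≠ 1 ∧ (t ≠ z ∧ z * t = t * z) ∧ (t ≠ z' ∧ z' * t = t * z')) : False := by
  classical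
  obtain ⟨z₀, hz₀, hz₀1⟩ := hne
  haveI : Nonempty {z : G // z * z = 1 ∧ z ≠ 1} := ⟨⟨z₀, hz₀, hz₀1⟩⟩
  haveI : Fintype {z : G // z * z = 1 ∧ z ≠ 1} := Fintype.ofFinite _
  refine Cfsg.Agent.Helper60.CYC.no_regular_friendship (dGraph G) d ?_ ?_ hd
  · intro v w hvw
    obtain ⟨t, ht, htu⟩ := hfr v.1 w.1 v.2.1 v.2.2 w.2.1 w.2.2 (fun h => hvw (Subtype.ext h))
    refine ⟨⟨t, ht.1, ht.2.1⟩, ?_, ?_⟩
    · refine ⟨(dGraph_adj _ _).2 ⟨fun h => ht.2.2.1.1 (congrArg Subtype.val h).symm, ht.2.2.1.2⟩,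
        (dGraph_adj _ _).2 ⟨fun h => ht.2.2.2.1 (congrArg Subtype.val h).symm, ht.2.2.2.2⟩⟩
    · intro x hx
      have hx1 := (dGraph_adj _ _).1 hx.1
      have hx2 := (dGraph_adj _ _).1 hx.2
      apply Subtype.ext
      apply htu x.1
      refine ⟨x.2.1, x.2.2, ⟨fun h => hx1.1 (Subtype.ext h.symm), hx1.2⟩,
        ⟨fun h => hx2.1 (Subtype.ext h.symm), hx2.2⟩⟩
  · intro v
    rw [← SimpleGraph.card_neighborSet_eq_degree, ← Nat.card_eq_fintype_card, ← hdeg v.1 v.2.1 v.2.2]
    apply Nat.card_congr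
    refine
      { toFun := fun w => ⟨w.1.1, w.1.2.1, w.1.2.2,
          fun h => ((dGraph_adj _ _).1 w.2).1 (Subtype.ext h.symm), ((dGraph_adj _ _).1 w.2).2⟩
        invFun := fun t => ⟨⟨t.1, t.2.1, t.2.2.1⟩,
          (dGraph_adj _ _).2 ⟨fun h => t.2.2.2.1 (congrArg Subtype.val h).symm, t.2.2.2.2⟩⟩
        left_inv := fun w => rfl
        right_inv := fun t => rfl }

/-- an involution is its own inverse -/
theorem d_inv_eq (s : G) (hs : s * s = 1) : s⁻¹ = s := inv_eq_of_mul_eq_one_right hs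

/-- a 3-element with `y * y = 1` is trivial -/
theorem d_three_sq (y : G) (h3 : ∃ j : ℕ, orderOf y = 3 ^ j) (h2 : y * y = 1) : y = 1 := by
  obtain ⟨j, hj⟩ := h3
  have h1 : orderOf y ∣ 2 := orderOf_dvd_of_pow_eq_one (by rw [pow_two]; exact h2)
  rw [hj] at h1
  have h4 : Nat.Coprime (3 ^ j) 2 := Nat.Coprime.pow_left j (by norm_num)
  have h5 : 3 ^ j = 1 := Nat.Coprime.eq_one_of_dvd h4 h1
  rw [h5] at hj
  exact orderOf_eq_one_iff.mp hj

/-- `y ^ (3 ^ b) = 1` makes `y` a 3-element -/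
theorem d_three_of_pow (y : G) (b : ℕ) (h : y ^ 3 ^ b = 1) : ∃ j : ℕ, orderOf y = 3 ^ j := by
  have h1 : orderOf y ∣ 3 ^ b := orderOf_dvd_of_pow_eq_one h
  obtain ⟨j, -, hj⟩ := (Nat.dvd_prime_pow Nat.prime_three).mp h1
  exact ⟨j, hj⟩

/-- centralised and inverted by `v` ⇒ square is `1` -/
theorem d_sq_of_cent_inv (v y : G) (h1 : v * y = y * v) (h2 : v * y * v⁻¹ = y⁻¹) : y * y = 1 := by
  have h3 : v * y * v⁻¹ = y := by rw [h1]; group
  rw [h3] at h2
  calc y * y = y * y⁻¹ := by rw [← h2]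
    _ = 1 := mul_inv_cancel y

/-- (D) the friendship property from the local data. -/
theorem case_D_friend
    (hV4 : ∀ s t v : G, s * s = 1 → s ≠ 1 → t * t = 1 → t ≠ 1 → v * v = 1 → v ≠ 1 → s ≠ t → s * t = t * s →
      v * s = s * v → v * t = t * v → v = s ∨ v = t ∨ v = s * t)
    (hdih : ∀ s t : G, s * s = 1 → t * t = 1 → ∃ b : ℕ, (s * t) ^ (2 * 3 ^ b) = 1)
    (h3 : ∀ y : G, y ≠ 1 → (∃ j : ℕ, orderOf y = 3 ^ j) → ∃ z : G, z * z = 1 ∧ z ≠ 1 ∧ z * y = y * z)
    (hinv : ∀ z s y : G, z * z = 1 → z ≠ 1 → s * s = 1 → s ≠ 1 → s ≠ z → s * z = z * s → z * y = y * z →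
      (∃ j : ℕ, orderOf y = 3 ^ j) → s * y * s⁻¹ = y⁻¹)
    (hTI : ∀ z y g : G, z * z = 1 → z ≠ 1 → y ≠ 1 → z * y = y * z → (∃ j : ℕ, orderOf y = 3 ^ j) →
      (g * y * g⁻¹ = y ∨ g * y * g⁻¹ = y⁻¹) → g * z = z * g)
    (s t : G) (hs : s * s = 1) (hs1 : s ≠ 1) (ht : t * t = 1) (ht1 : t ≠ 1) (hst : s ≠ t) :
    ∃! v : G, v * v = 1 ∧ v ≠ 1 ∧ (v ≠ s ∧ s * v = v * s) ∧ (v ≠ t ∧ t * v = v * t) := by
  have hsi : s⁻¹ = s := d_inv_eq s hs
  have hti : t⁻¹ = t := d_inv_eq t ht
  by_cases hc : s * t = t * s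
  · -- commuting: the common neighbour is `s * t`
    refine ⟨s * t, ⟨?_, ?_, ⟨?_, ?_⟩, ⟨?_, ?_⟩⟩, ?_⟩
    · calc s * t * (s * t) = s * (t * s) * t := by group
        _ = s * (s * t) * t := by rw [hc]
        _ = (s * s) * (t * t) := by group
        _ = 1 := by rw [hs, ht, one_mul]
    · intro h
      apply hst
      have h1 : s = t⁻¹ := eq_inv_of_mul_eq_one_left h
      rw [h1, hti]
    · intro h
      apply ht1
      have h1 : s * t = s * 1 := by rw [mul_one]; exact h
      exact mul_left_cancel h1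
    · calc s * (s * t) = s * (t * s) := by rw [hc]
        _ = s * t * s := by group
    · intro h
      apply hs1
      have h1 : s * t = 1 * t := by rw [one_mul]; exact h
      exact mul_right_cancel h1
    · calc t * (s * t) = (t * s) * t := by group
        _ = s * t * t := by rw [hc]
    · rintro v ⟨hv, hv1, ⟨hvs, hsv⟩, ⟨hvt, htv⟩⟩
      rcases hV4 s t v hs hs1 ht ht1 hv hv1 hst hc hsv.symm htv.symm with h | h | h
      · exact absurd h hvs
      · exact absurd h hvt
      · exact h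
  · -- not commuting
    obtain ⟨b, hb⟩ := hdih s t hs ht
    -- `s` and `t` invert `s * t`
    have hsinv : s * (s * t) * s⁻¹ = (s * t)⁻¹ := by
      rw [hsi, mul_inv_rev, hsi, hti]
      calc s * (s * t) * s = (s * s) * t * s := by group
        _ = t * s := by rw [hs, one_mul]
    have htinv : t * (s * t) * t⁻¹ = (s * t)⁻¹ := by
      rw [mul_inv_rev, hsi, hti]
      calc t * (s * t) * t = t * s * (t * t) := by group
        _ = t * s := by rw [ht, mul_one]
    -- neither `s` nor `t` commutes with `s * t`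
    have hs_nc : ¬ s * (s * t) = (s * t) * s := by
      intro h
      apply hc
      have h1 : s * (s * t) = s * (t * s) := by rw [h]; group
      exact mul_left_cancel h1
    have ht_nc : ¬ t * (s * t) = (s * t) * t := by
      intro h
      apply hc
      have h1 : (t * s) * t = (s * t) * t := by rw [← h]; group
      exact (mul_right_cancel h1).symm
    have hy1 : s * t ≠ 1 := by
      intro h
      apply hst
      have h1 : s = t⁻¹ := eq_inv_of_mul_eq_one_left h
      rw [h1, hti]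
    by_cases hw : (s * t) ^ 3 ^ b = 1
    · -- `s * t` is a 3-element
      have hy3 : ∃ j : ℕ, orderOf (s * t) = 3 ^ j := d_three_of_pow _ b hw
      obtain ⟨z, hz, hz1, hzy⟩ := h3 (s * t) hy1 hy3
      have hsz : s * z = z * s := hTI z (s * t) s hz hz1 hy1 hzy hy3 (Or.inr hsinv)
      have htz : t * z = z * t := hTI z (s * t) t hz hz1 hy1 hzy hy3 (Or.inr htinv)
      refine ⟨z, ⟨hz, hz1, ⟨?_, hsz⟩, ⟨?_, htz⟩⟩, ?_⟩
      · intro h
        rw [h] at hzy
        exact hs_nc hzy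
      · intro h
        rw [h] at hzy
        exact ht_nc hzy
      · rintro v ⟨hv, hv1, ⟨hvs, hsv⟩, ⟨hvt, htv⟩⟩
        have hvy : v * (s * t) = (s * t) * v := by
          calc v * (s * t) = (v * s) * t := by group
            _ = (s * v) * t := by rw [hsv]
            _ = s * (v * t) := by group
            _ = s * (t * v) := by rw [htv]
            _ = (s * t) * v := by group
        have hvy' : v * (s * t) * v⁻¹ = s * t := by rw [hvy]; group
        have hvz : v * z = z * v := hTI z (s * t) v hz hz1 hy1 hzy hy3 (Or.inl hvy')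
        by_contra hne
        have h4 := hinv z v (s * t) hz hz1 hv hv1 hne hvz hzy hy3
        exact hy1 (d_three_sq _ hy3 (d_sq_of_cent_inv v (s * t) hvy h4))
    · -- `z = (s * t) ^ (3 ^ b)` is an involution
      obtain ⟨z, hzdef⟩ : ∃ z, z = (s * t) ^ 3 ^ b := ⟨_, rfl⟩
      have hz1 : z ≠ 1 := by rw [hzdef]; exact hw
      have hz : z * z = 1 := by
        rw [hzdef, ← pow_add, ← two_mul]; exact hb
      have hzi : z⁻¹ = z := d_inv_eq z hz
      have hzy : z * (s * t) = (s * t) * z := by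
        rw [hzdef]
        exact ((Commute.refl (s * t)).pow_left (3 ^ b)).eq
      -- `s`, `t` commute with `z`
      have hconj : ∀ g : G, g * (s * t) * g⁻¹ = (s * t)⁻¹ → g * z = z * g := by
        intro g hg
        have h1 : g * z * g⁻¹ = z := by
          have h2 : g * z * g⁻¹ = (g * (s * t) * g⁻¹) ^ 3 ^ b := by
            rw [hzdef, conj_pow]
          rw [h2, hg, inv_pow, ← hzdef, hzi]
        calc g * z = (g * z * g⁻¹) * g := by group
          _ = z * g := by rw [h1]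
      have hsz : s * z = z * s := hconj s hsinv
      have htz : t * z = z * t := hconj t htinv
      -- `y = s * t * z` is a nontrivial 3-element of `C(z)`
      have hyz3 : ∃ j : ℕ, orderOf (s * t * z) = 3 ^ j := by
        apply d_three_of_pow _ b
        have hcomm : Commute (s * t) z := hzy.symm
        rw [hcomm.mul_pow, ← hzdef]
        have hodd : Odd (3 ^ b) := Odd.pow (by decide)
        obtain ⟨m, hm⟩ := hodd
        have h1 : z ^ 3 ^ b = z := by
          rw [hm, pow_add, pow_mul, pow_two, hz, one_pow, one_mul, pow_one]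
        rw [h1, hz]
      have hyz1 : s * t * z ≠ 1 := by
        intro h
        have h1 : s * t = z⁻¹ := eq_inv_of_mul_eq_one_left h
        rw [hzi] at h1
        -- then `(s * t) * (s * t) = 1`, so `s`, `t` commute
        apply hc
        have h2 : (s * t) * (s * t) = 1 := by rw [h1]; exact hz
        have h3' : s * t = (s * t)⁻¹ := eq_inv_of_mul_eq_one_left h2
        rw [h3', mul_inv_rev, hsi, hti]
      have hzyz : z * (s * t * z) = (s * t * z) * z := by
        calc z * (s * t * z) = (z * (s * t)) * z := by group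
          _ = (s * t * z) * z := by rw [hzy]
      refine ⟨z, ⟨hz, hz1, ⟨?_, hsz⟩, ⟨?_, htz⟩⟩, ?_⟩
      · intro h
        rw [h] at hzy
        exact hs_nc hzy
      · intro h
        rw [h] at hzy
        exact ht_nc hzy
      · rintro v ⟨hv, hv1, ⟨hvs, hsv⟩, ⟨hvt, htv⟩⟩
        have hvy : v * (s * t) = (s * t) * v := by
          calc v * (s * t) = (v * s) * t := by group
            _ = (s * v) * t := by rw [hsv]
            _ = s * (v * t) := by group
            _ = s * (t * v) := by rw [htv]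
            _ = (s * t) * v := by group
        have hvz : v * z = z * v := by
          rw [hzdef]
          exact ((show Commute v (s * t) from hvy).pow_right (3 ^ b)).eq
        have hvyz : v * (s * t * z) = (s * t * z) * v := by
          calc v * (s * t * z) = (v * (s * t)) * z := by group
            _ = (s * t) * v * z := by rw [hvy]
            _ = (s * t) * (v * z) := by group
            _ = (s * t) * (z * v) := by rw [hvz]
            _ = (s * t * z) * v := by group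
        by_contra hne
        have h4 := hinv z v (s * t * z) hz hz1 hv hv1 hne hvz hzyz hyz3
        exact hyz1 (d_three_sq _ hyz3 (d_sq_of_cent_inv v (s * t * z) hvyz h4))

/-- (D) the configuration of case (D) of S4017 does not exist. -/
theorem case_D_false {G : Type*} [Group G] [Finite G] (d : ℕ) (hd : 3 ≤ d) (hne : ∃ z : G, z * z = 1 ∧ z ≠ 1)
    (hdeg : ∀ z : G, z * z = 1 → z ≠ 1 → Nat.card {t : G // t * t = 1 ∧ t ≠ 1 ∧ t ≠ z ∧ z * t = t * z} = d)
    (hV4 : ∀ s t v : G, s * s = 1 → s ≠ 1 → t * t = 1 → t ≠ 1 → v * v = 1 → v ≠ 1 → s ≠ t → s * t = t * s →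
      v * s = s * v → v * t = t * v → v = s ∨ v = t ∨ v = s * t)
    (hdih : ∀ s t : G, s * s = 1 → t * t = 1 → ∃ b : ℕ, (s * t) ^ (2 * 3 ^ b) = 1)
    (h3 : ∀ y : G, y ≠ 1 → (∃ j : ℕ, orderOf y = 3 ^ j) → ∃ z : G, z * z = 1 ∧ z ≠ 1 ∧ z * y = y * z)
    (hinv : ∀ z s y : G, z * z = 1 → z ≠ 1 → s * s = 1 → s ≠ 1 → s ≠ z → s * z = z * s → z * y = y * z →
      (∃ j : ℕ, orderOf y = 3 ^ j) → s * y * s⁻¹ = y⁻¹)
    (hTI : ∀ z y g : G, z * z = 1 → z ≠ 1 → y ≠ 1 → z * y = y * z → (∃ j : ℕ, orderOf y = 3 ^ j) →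
      (g * y * g⁻¹ = y ∨ g * y * g⁻¹ = y⁻¹) → g * z = z * g) : False := by
  refine d_graph_false d hd hne hdeg ?_
  intro z z' hz hz1 hz' hz'1 hzz'
  exact case_D_friend hV4 hdih h3 hinv hTI z z' hz hz1 hz' hz'1 hzz'

end Cfsg.Agent.Helper61.S4017D
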