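import Mathlib
import Cfsg.Agent.Lib.Helper93.RU0
import Cfsg.Agent.Lib.Helper64.SL3Defs

/-! # SL3 project (S2278, helper64's server): piece (ETA) `exists_eta`, verbatim from
`tools/sl3_sigs_helper64.lean.txt`. -/

set_option autoImplicit false

namespace Cfsg.Agent.Helper61.SL3

open Matrix Cfsg.Agent.Helper93.RU Cfsg.Agent.Helper64.SL3

variable {F : Type*} [Field F]

/-- a generator of `Fˣ` with its order -/
theorem h61_exists_gen [Fintype F] :
    ∃ lam : F, lam ≠ 0 ∧ (∀ a : F, a ≠ 0 → ∃ k : ℕ, a = lam ^ k) ∧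
      ∀ n : ℕ, 0 < n → lam ^ n = 1 → Fintype.card F - 1 ≤ n := by
  classical
  obtain ⟨g, hg⟩ := IsCyclic.exists_monoid_generator (α := Fˣ)
  refine ⟨(g : F), g.ne_zero, ?_, ?_⟩
  · intro a ha
    obtain ⟨k, hk⟩ := hg (Units.mk0 a ha)
    refine ⟨k, ?_⟩
    have := congrArg (fun u : Fˣ => (u : F)) hk
    simpa using this.symm
  · intro n hn h1
    have hz : ∀ x : Fˣ, x ∈ Subgroup.zpowers g := by
      intro x
      obtain ⟨k, hk⟩ := hg x
      exact ⟨(k : ℤ), by simpa using hk⟩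
    have hord : orderOf g = Nat.card Fˣ := orderOf_eq_card_of_forall_mem_zpowers hz
    have hcard : Nat.card Fˣ = Fintype.card F - 1 := by
      rw [Nat.card_eq_fintype_card, Fintype.card_units]
    have h1' : g ^ n = 1 := by
      apply Units.ext
      simpa using h1
    have hdvd : orderOf g ∣ n := orderOf_dvd_of_pow_eq_one h1'
    rw [hord, hcard] at hdvd
    exact Nat.le_of_dvd hn hdvd

/-- (ETA) -/
theorem exists_eta [Fintype F] (h5 : 5 ≤ Fintype.card F)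
    (hFG : ∀ (lam : F), (∀ a : F, a ≠ 0 → ∃ k : ℕ, a = lam ^ k) → ∀ μ : F, (μ = lam ^ 3 ∨ μ = lam⁻¹ ^ 3) →
      ∀ (A : AddSubgroup F) (ρ : F), ρ ∈ A → ρ ≠ 0 → (∀ a ∈ A, μ * a ∈ A) → A = ⊤) :
    ∃ η : F, η ≠ 0 ∧ η ^ 2 ≠ 1 ∧ η ^ 3 ≠ 1 ∧ 2 * η + 1 ≠ 0 ∧
      ∀ (A : AddSubgroup F) (ρ : F), ρ ∈ A → ρ ≠ 0 → (∀ a ∈ A, η⁻¹ ^ 3 * a ∈ A) → A = ⊤ := by
  obtain ⟨lam, hlam0, hgen, hord⟩ := h61_exists_gen (F := F)
  have h2 : lam ^ 2 ≠ 1 := by
    intro h
    have := hord 2 (by norm_num) h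
    omega
  have h3 : lam ^ 3 ≠ 1 := by
    intro h
    have := hord 3 (by norm_num) h
    omega
  by_cases h21 : 2 * lam + 1 = 0
  · -- use `η = lam⁻¹`
    have hi0 : lam⁻¹ ≠ 0 := inv_ne_zero hlam0
    refine ⟨lam⁻¹, hi0, ?_, ?_, ?_, ?_⟩
    · intro h
      apply h2
      rw [inv_pow, inv_eq_one] at h
      exact h
    · intro h
      apply h3
      rw [inv_pow, inv_eq_one] at h
      exact h
    · intro h
      -- `2 lam + 1 = 0 = 2 lam⁻¹ + 1` gives `lam ^ 2 = 1`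
      apply h2
      have e1 : 2 * lam = -1 := eq_neg_of_add_eq_zero_left h21
      have e2 : 2 * lam⁻¹ = -1 := eq_neg_of_add_eq_zero_left h
      have h20 : (2 : F) ≠ 0 := by
        intro h20
        rw [h20, zero_mul] at e1
        have : (1 : F) = 0 := by
          have := congrArg Neg.neg e1
          simpa using this.symm
        exact one_ne_zero this
      have e3 : lam = lam⁻¹ := by
        apply mul_left_cancel₀ h20
        rw [e1, e2]
      calc lam ^ 2 = lam * lam := pow_two lam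
        _ = lam * lam⁻¹ := by rw [← e3]
        _ = 1 := mul_inv_cancel₀ hlam0
    · intro A ρ hρ hρ0 hA
      refine hFG lam hgen (lam ^ 3) (Or.inl rfl) A ρ hρ hρ0 ?_
      intro a ha
      have := hA a ha
      rw [inv_inv] at this
      exact this
  · refine ⟨lam, hlam0, h2, h3, h21, ?_⟩
    intro A ρ hρ hρ0 hA
    exact hFG lam hgen (lam⁻¹ ^ 3) (Or.inr rfl) A ρ hρ hρ0 hA

end Cfsg.Agent.Helper61.SL3
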