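import Mathlib
import Cfsg.Agent.Lib.Helper93.RU0
import Cfsg.Agent.Lib.Helper64.SL3Defs
import Cfsg.Agent.Lib.Helper79.RUB1

/-! # SL3 project (S2278, helper64's server): piece (REG) `lEl_regular`, verbatim from
`tools/sl3_sigs_helper64.lean.txt`. -/

set_option autoImplicit false

namespace Cfsg.Agent.Helper61.SL3

open Matrix Cfsg.Agent.Helper93.RU Cfsg.Agent.Helper64.SL3

variable {F : Type*} [Field F]

theorem h61_Lmat_one : (Lmat (m := 0) (1 : F)) = !![0, 0, 0; 1, 0, 0; 0, 1, 0] := by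
  ext i j
  fin_cases i <;> fin_cases j <;> simp [Lmat]

/-- (REG) -/
theorem lEl_regular : IsNilpotent ((lEl (1 : F) : SLm 0 F).1 - 1) ∧
    ((lEl (1 : F) : SLm 0 F).1 - 1) ^ 2 ≠ 0 := by
  have h1 : (lEl (1 : F) : SLm 0 F).1 - 1 = !![0, 0, 0; 1, 0, 0; 0, 1, 0] := by
    rw [Cfsg.Agent.Helper79.RU.lEl_val, add_sub_cancel_left, h61_Lmat_one]
  rw [h1]
  constructor
  · refine ⟨3, ?_⟩
    ext i j
    fin_cases i <;> fin_cases j <;> simp [pow_succ, Matrix.mul_apply, Fin.sum_univ_succ]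
  · intro h
    have h2 := congrFun (congrFun h 2) 0
    simp [pow_succ, Matrix.mul_apply, Fin.sum_univ_succ] at h2

end Cfsg.Agent.Helper61.SL3
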