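import Mathlib
import Cfsg.Agent.Lib.Helper93.RU0
import Cfsg.Agent.Lib.Helper64.SL3Defs

/-! # SL3 project (S2278, helper64's server): pieces (V) `GEl_val`, `BEl_val`, `SEl_val`, verbatim from
`tools/sl3_sigs_helper64.lean.txt`. -/

set_option autoImplicit false

namespace Cfsg.Agent.Helper61.SL3

open Matrix Cfsg.Agent.Helper93.RU Cfsg.Agent.Helper64.SL3

variable {F : Type*} [Field F]

/-- (V1) `det G = η⁻¹ · 1 · η = 1` (`Matrix.det_fin_three` or `det_of_upperTriangular`). -/
theorem GEl_val (η : F) (hη : η ≠ 0) : (GEl η).1 = Gmat η := by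
  have hd : (Gmat η).det = 1 := by
    unfold Gmat
    rw [Matrix.det_fin_three]
    simp
    field_simp
  simp [GEl, hd]

/-- (V2) `det B = η⁻² η η = 1`. -/
theorem BEl_val (η : F) (hη : η ≠ 0) : (BEl η).1 = Bmat η := by
  have hd : (Bmat η).det = 1 := by
    unfold Bmat
    rw [Matrix.det_fin_three]
    simp
    field_simp
  simp [BEl, hd]

/-- (V3) -/
theorem SEl_val (η : F) (hη : η ≠ 0) : (SEl η).1 = Smat η := by
  have hd : (Smat η).det = 1 := by
    unfold Smat
    rw [Matrix.det_fin_three]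
    simp
    field_simp
  simp [SEl, hd]

end Cfsg.Agent.Helper61.SL3
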