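import Mathlib
import Cfsg.Agent.Lib.Helper93.RU0
import Cfsg.Agent.Lib.Helper64.SL3Defs
import Cfsg.Agent.Lib.Helper79.RUB1
import Cfsg.Agent.Lib.Helper61.SL3V
import Cfsg.Agent.Lib.Helper61.SL3REG

/-! # SL3 project (S2278, helper64's server): piece (P1) `conj_eq`, verbatim from
`tools/sl3_sigs_helper64.lean.txt`. -/

set_option autoImplicit false

namespace Cfsg.Agent.Helper61.SL3

open Matrix Cfsg.Agent.Helper93.RU Cfsg.Agent.Helper64.SL3

variable {F : Type*} [Field F]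

theorem h61_lEl_one_val : (lEl (1 : F) : SLm 0 F).1 = !![1, 0, 0; 1, 1, 0; 0, 1, 1] := by
  rw [Cfsg.Agent.Helper79.RU.lEl_val, h61_Lmat_one]
  ext i j
  fin_cases i <;> fin_cases j <;> simp

/-- (P1) `B L G = G L` (matrix identity; uses V1, V2, `lEl_val`). -/
theorem conj_eq (η : F) (hη : η ≠ 0) : BEl η * lEl 1 * GEl η = GEl η * lEl 1 := by
  apply Subtype.ext
  rw [Matrix.SpecialLinearGroup.coe_mul, Matrix.SpecialLinearGroup.coe_mul,
    Matrix.SpecialLinearGroup.coe_mul, BEl_val η hη, GEl_val η hη, h61_lEl_one_val]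
  unfold Bmat Gmat Yp Tp
  ext i j
  fin_cases i <;> fin_cases j <;> simp [Matrix.mul_apply, Fin.sum_univ_succ] <;>
    (try field_simp) <;> (try ring)

end Cfsg.Agent.Helper61.SL3
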