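import Mathlib
import Cfsg.Agent.Lib.Helper93.RU0
import Cfsg.Agent.Lib.Helper64.SL3Defs
import Cfsg.Agent.Lib.Helper82.RUA
import Cfsg.Agent.Lib.Helper61.SL3V

/-! # SL3 project (S2278, helper64's server): piece (P2a) `B_eq_SX`, verbatim from
`tools/sl3_sigs_helper64.lean.txt`. -/

set_option autoImplicit false

namespace Cfsg.Agent.Helper61.SL3

open Matrix Cfsg.Agent.Helper93.RU Cfsg.Agent.Helper64.SL3

variable {F : Type*} [Field F]

theorem h61_XEl_val (η : F) :
    (XEl η).1 = !![1, 0, 0; 0, 1, Yp η * η⁻¹; 0, 0, 1] := by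
  have hd : ((Yp η * η⁻¹) • (eV 2 : Fin (0 + 3) → F)) ⬝ᵥ (eV 1 : Fin (0 + 3) → F) = 0 := by
    unfold eV
    rw [smul_dotProduct, dotProduct_single, mul_one, Pi.single_eq_of_ne (by decide), smul_zero]
  unfold XEl
  rw [Cfsg.Agent.Helper82.RU.tvS_val _ _ hd]
  unfold tvM eV
  ext i j
  fin_cases i <;> fin_cases j <;> simp [Matrix.vecMulVec_apply]

/-- (P2a) `B = S X` and `S X = X S`  (`X = 1 + (Y/η) E₁₂`; V2, V3, `tvS_val`). -/
theorem B_eq_SX (η : F) (hη : η ≠ 0) :
    BEl η = SEl η * XEl η ∧ SEl η * XEl η = XEl η * SEl η := by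
  constructor
  · apply Subtype.ext
    rw [Matrix.SpecialLinearGroup.coe_mul, BEl_val η hη, SEl_val η hη, h61_XEl_val]
    unfold Bmat Smat
    ext i j
    fin_cases i <;> fin_cases j <;> simp [Matrix.mul_apply, Fin.sum_univ_succ] <;>
      (try field_simp)
  · apply Subtype.ext
    rw [Matrix.SpecialLinearGroup.coe_mul, Matrix.SpecialLinearGroup.coe_mul, SEl_val η hη,
      h61_XEl_val]
    unfold Smat
    ext i j
    fin_cases i <;> fin_cases j <;> simp [Matrix.mul_apply, Fin.sum_univ_succ] <;>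
      (try field_simp) <;> (try ring)

end Cfsg.Agent.Helper61.SL3
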