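import Mathlib
import Cfsg.Agent.Lib.Helper93.RU0
import Cfsg.Agent.Lib.Helper64.SL3Defs

/-! # SL3 project (S2278, helper64's server): piece (P2b) `S_pow`, verbatim from
`tools/sl3_sigs_helper64.lean.txt`. -/

set_option autoImplicit false

namespace Cfsg.Agent.Helper61.SL3

open Matrix Cfsg.Agent.Helper93.RU Cfsg.Agent.Helper64.SL3

variable {F : Type*} [Field F]

/-- value of `SEl` (local copy of (V3)) -/
theorem h61_SEl_val (η : F) (hη : η ≠ 0) : (SEl η).1 = Smat η := by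
  have hd : (Smat η).det = 1 := by
    unfold Smat
    rw [Matrix.det_fin_three]
    simp
    field_simp
  simp [SEl, hd]

/-- powers of `Smat` -/
theorem h61_Smat_pow (η : F) (k : ℕ) :
    ∃ t : F, (Smat η) ^ k = !![(η⁻¹ ^ 2) ^ k, 0, t; 0, η ^ k, 0; 0, 0, η ^ k] ∧
      (η⁻¹ ^ 2 - η) * t = Tp η * ((η⁻¹ ^ 2) ^ k - η ^ k) := by
  induction k with
  | zero =>
    refine ⟨0, ?_, by simp⟩
    ext i j
    fin_cases i <;> fin_cases j <;> simp
  | succ k ih =>
    obtain ⟨t, ht, hrel⟩ := ih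
    refine ⟨(η⁻¹ ^ 2) ^ k * Tp η + t * η, ?_, ?_⟩
    · rw [pow_succ, ht]
      unfold Smat
      ext i j
      fin_cases i <;> fin_cases j <;> simp [Matrix.mul_apply, Fin.sum_univ_succ] <;> ring
    · linear_combination η * hrel

/-- (P2b) -/
theorem S_pow [Fintype F] (η : F) (hη : η ≠ 0) (h3 : η ^ 3 ≠ 1) :
    SEl η ^ (Fintype.card F - 1) = 1 := by
  apply Subtype.ext
  rw [Matrix.SpecialLinearGroup.coe_pow, Matrix.SpecialLinearGroup.coe_one, h61_SEl_val η hη]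
  obtain ⟨t, ht, hrel⟩ := h61_Smat_pow η (Fintype.card F - 1)
  have h1 : η ^ (Fintype.card F - 1) = 1 := FiniteField.pow_card_sub_one_eq_one η hη
  have h2 : (η⁻¹ ^ 2) ^ (Fintype.card F - 1) = 1 :=
    FiniteField.pow_card_sub_one_eq_one (η⁻¹ ^ 2) (pow_ne_zero 2 (inv_ne_zero hη))
  have hne : η⁻¹ ^ 2 - η ≠ 0 := by
    intro h
    apply h3
    have e : η⁻¹ ^ 2 = η := sub_eq_zero.mp h
    calc η ^ 3 = η ^ 2 * η := by ring
      _ = η ^ 2 * η⁻¹ ^ 2 := by rw [e]
      _ = 1 := by field_simp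
  rw [h1, h2, sub_self, mul_zero] at hrel
  have ht0 : t = 0 := by
    rcases mul_eq_zero.mp hrel with h | h
    · exact absurd h hne
    · exact h
  rw [ht, h1, h2, ht0]
  ext i j
  fin_cases i <;> fin_cases j <;> simp

end Cfsg.Agent.Helper61.SL3
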