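import Mathlib
import Cfsg.Agent.Lib.Helper93.RU0
import Cfsg.Agent.Lib.Helper64.SL3Defs
import Cfsg.Agent.Lib.Helper82.RUA

/-! # SL3 project (S2278, helper64's server): piece (P2c) `X_pow`, verbatim from
`tools/sl3_sigs_helper64.lean.txt`. -/

set_option autoImplicit false

namespace Cfsg.Agent.Helper61.SL3

open Matrix Cfsg.Agent.Helper93.RU Cfsg.Agent.Helper64.SL3 Cfsg.Agent.Helper82.RU

variable {F : Type*} [Field F]

/-- powers of a transvection -/
theorem h61_tvS_pow {m : ℕ} (v φ : Fin (m + 3) → F) (h : φ ⬝ᵥ v = 0) (k : ℕ) :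
    tvS v φ ^ k = tvS v (k • φ) := by
  induction k with
  | zero => rw [pow_zero, zero_smul, tvS_zero]
  | succ k ih =>
    have hk : (k • φ) ⬝ᵥ v = 0 := by rw [smul_dotProduct, h, smul_zero]
    rw [pow_succ, ih, tvS_mul _ _ _ hk h, succ_nsmul]

/-- (P2c) -/
theorem X_pow [Fintype F] (η : F) : XEl η ^ (Fintype.card F - 1) = (XEl η)⁻¹ := by
  unfold XEl
  have h : ((Yp η * η⁻¹) • (eV 2 : Fin (0 + 3) → F)) ⬝ᵥ (eV 1 : Fin (0 + 3) → F) = 0 := by
    unfold eV
    rw [smul_dotProduct, dotProduct_single, mul_one, Pi.single_eq_of_ne (by decide), smul_zero]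
  rw [h61_tvS_pow _ _ h, tvS_inv _ _ h]
  congr 1
  have hc : ((Fintype.card F - 1 : ℕ) : F) = -1 := by
    rw [Nat.cast_sub Fintype.card_pos, Nat.cast_card_eq_zero F]
    simp
  rw [← Nat.cast_smul_eq_nsmul F, hc, neg_one_smul]

end Cfsg.Agent.Helper61.SL3
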