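import Mathlib
import Cfsg.Agent.Lib.Helper93.RU0
import Cfsg.Agent.Lib.Helper64.SL3Defs
import Cfsg.Agent.Lib.Helper82.RUA

/-! # SL3 project (S2278, helper64's server): piece (W0) `e0_mem_W`, verbatim from
`tools/sl3_sigs_helper64.lean.txt`. -/

set_option autoImplicit false

namespace Cfsg.Agent.Helper61.SL3

open Matrix Cfsg.Agent.Helper93.RU Cfsg.Agent.Helper64.SL3 Cfsg.Agent.Helper82.RU

variable {F : Type*} [Field F]

theorem h61_fin3_cases (i : Fin (0 + 3)) : i = 0 ∨ i = 1 ∨ i = 2 := by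
  rcases i with ⟨i, hi⟩
  have hi' : i < 3 := hi
  interval_cases i
  · exact Or.inl rfl
  · exact Or.inr (Or.inl rfl)
  · exact Or.inr (Or.inr rfl)

/-- (W0) -/
theorem e0_mem_W (H : Subgroup (SLm 0 F)) (η y0 ρ0 : F) (hy0 : y0 ≠ 0) (hρ0 : ρ0 ≠ 0)
    (S X : SLm 0 F) (hS : S ∈ H) (hX : X ∈ H)
    (hz : tvS (eV 0) (ρ0 • (eV 1 + eV 2)) ∈ H)
    (hP4 : ∀ ψ : Fin (0 + 3) → F, ψ 0 = 0 → S * tvS (eV 0) ψ * S⁻¹ = tvS (eV 0) (η⁻¹ ^ 3 • ψ))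
    (hP5 : ∀ ρ : F, X * tvS (eV 0) (ρ • (eV 1 + eV 2)) * X⁻¹ =
      tvS (eV 0) (ρ • eV 1 + (ρ * (1 - y0)) • eV 2))
    (hFG : ∀ (A : AddSubgroup F) (ρ : F), ρ ∈ A → ρ ≠ 0 → (∀ a ∈ A, η⁻¹ ^ 3 * a ∈ A) → A = ⊤) :
    eV 0 ∈ Wset H := by
  have hdot : ∀ ψ : Fin (0 + 3) → F, ψ 0 = 0 → ψ ⬝ᵥ (eV 0 : Fin (0 + 3) → F) = 0 := by
    intro ψ h
    unfold eV
    rw [dotProduct_single, h, zero_mul]
  have he10 : (eV 1 : Fin (0 + 3) → F) 0 = 0 := Pi.single_eq_of_ne (by decide) 1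
  have he11 : (eV 1 : Fin (0 + 3) → F) 1 = 1 := Pi.single_eq_same 1 1
  have he12 : (eV 1 : Fin (0 + 3) → F) 2 = 0 := Pi.single_eq_of_ne (by decide) 1
  have he20 : (eV 2 : Fin (0 + 3) → F) 0 = 0 := Pi.single_eq_of_ne (by decide) 1
  have he21 : (eV 2 : Fin (0 + 3) → F) 1 = 0 := Pi.single_eq_of_ne (by decide) 1
  have he22 : (eV 2 : Fin (0 + 3) → F) 2 = 1 := Pi.single_eq_same 2 1
  have hw : ∀ a b : F, ((a • (eV 1 : Fin (0 + 3) → F) + b • eV 2 : Fin (0 + 3) → F)) 0 = 0 := by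
    intro a b
    simp [he10, he20]
  have hw' : ∀ a : F, ((a • ((eV 1 : Fin (0 + 3) → F) + eV 2) : Fin (0 + 3) → F)) 0 = 0 := by
    intro a
    simp [he10, he20]
  have hw2 : ∀ a : F, ((a • (eV 2 : Fin (0 + 3) → F) : Fin (0 + 3) → F)) 0 = 0 := by
    intro a
    simp [he20]
  have hmulmem : ∀ φ ψ : Fin (0 + 3) → F, φ 0 = 0 → ψ 0 = 0 → tvS (eV 0) φ ∈ H →
      tvS (eV 0) ψ ∈ H → tvS (eV 0) (φ + ψ) ∈ H := by
    intro φ ψ h1 h2 m1 m2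
    rw [← tvS_mul _ φ ψ (hdot φ h1) (hdot ψ h2)]
    exact H.mul_mem m1 m2
  have hnegmem : ∀ φ : Fin (0 + 3) → F, φ 0 = 0 → tvS (eV 0) φ ∈ H → tvS (eV 0) (-φ) ∈ H := by
    intro φ h1 m1
    rw [← tvS_inv _ φ (hdot φ h1)]
    exact H.inv_mem m1
  obtain ⟨A, hA⟩ : ∃ A : AddSubgroup F,
      ∀ ρ : F, ρ ∈ A ↔ tvS (eV 0) (ρ • ((eV 1 : Fin (0 + 3) → F) + eV 2)) ∈ H := by
    refine ⟨{ carrier := {ρ | tvS (eV 0) (ρ • ((eV 1 : Fin (0 + 3) → F) + eV 2)) ∈ H}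
              zero_mem' := ?_
              add_mem' := ?_
              neg_mem' := ?_ }, fun ρ => Iff.rfl⟩
    · intro a b ha hb
      show tvS (eV 0) ((a + b) • ((eV 1 : Fin (0 + 3) → F) + eV 2)) ∈ H
      rw [add_smul]
      exact hmulmem _ _ (hw' a) (hw' b) ha hb
    · show tvS (eV 0) ((0 : F) • ((eV 1 : Fin (0 + 3) → F) + eV 2)) ∈ H
      rw [zero_smul, tvS_zero]
      exact H.one_mem
    · intro a ha
      show tvS (eV 0) ((-a) • ((eV 1 : Fin (0 + 3) → F) + eV 2)) ∈ H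
      rw [neg_smul]
      exact hnegmem _ (hw' a) ha
  have hAtop : A = ⊤ := by
    refine hFG A ρ0 ((hA ρ0).2 hz) hρ0 ?_
    intro a ha
    rw [hA] at ha ⊢
    rw [← smul_smul, ← hP4 _ (hw' a)]
    exact H.mul_mem (H.mul_mem hS ha) (H.inv_mem hS)
  have hall : ∀ ρ : F, tvS (eV 0) (ρ • ((eV 1 : Fin (0 + 3) → F) + eV 2)) ∈ H := by
    intro ρ
    rw [← hA, hAtop]
    exact AddSubgroup.mem_top ρ
  have hstep : ∀ ρ : F, tvS (eV 0) ((-(ρ * y0)) • (eV 2 : Fin (0 + 3) → F)) ∈ H := by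
    intro ρ
    have h1 : tvS (eV 0) (ρ • (eV 1 : Fin (0 + 3) → F) + (ρ * (1 - y0)) • eV 2) ∈ H := by
      rw [← hP5 ρ]
      exact H.mul_mem (H.mul_mem hX (hall ρ)) (H.inv_mem hX)
    have h2 := hmulmem _ _ (hw ρ (ρ * (1 - y0))) (hw' (-ρ)) h1 (hall (-ρ))
    have e : ρ • (eV 1 : Fin (0 + 3) → F) + (ρ * (1 - y0)) • eV 2 + (-ρ) • (eV 1 + eV 2)
        = (-(ρ * y0)) • eV 2 := by module
    rw [e] at h2
    exact h2
  have he2all : ∀ a : F, tvS (eV 0) (a • (eV 2 : Fin (0 + 3) → F)) ∈ H := by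
    intro a
    have h := hstep (-a / y0)
    have e : -(-a / y0 * y0) = a := by field_simp
    rw [e] at h
    exact h
  have he1all : ∀ a : F, tvS (eV 0) (a • (eV 1 : Fin (0 + 3) → F)) ∈ H := by
    intro a
    have h2 := hmulmem _ _ (hw' a) (hw2 (-a)) (hall a) (he2all (-a))
    have e : a • ((eV 1 : Fin (0 + 3) → F) + eV 2) + (-a) • eV 2 = a • eV 1 := by module
    rw [e] at h2
    exact h2
  intro φ hφ
  have hφ0 : φ 0 = 0 := by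
    unfold eV at hφ
    rw [dotProduct_single, mul_one] at hφ
    exact hφ
  have e : φ = φ 1 • (eV 1 : Fin (0 + 3) → F) + φ 2 • eV 2 := by
    funext i
    rcases h61_fin3_cases i with rfl | rfl | rfl
    · rw [hw, hφ0]
    · simp [he11, he21]
    · simp [he12, he22]
  rw [e]
  have hw1 : ∀ a : F, ((a • (eV 1 : Fin (0 + 3) → F) : Fin (0 + 3) → F)) 0 = 0 := by
    intro a
    simp [he10]
  exact hmulmem _ _ (hw1 _) (hw2 _) (he1all _) (he2all _)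

end Cfsg.Agent.Helper61.SL3
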