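import Mathlib
import Cfsg.Agent.Lib.Helper62.SLN0

/-! # SLNC sub-project (TOP-C of the SLN server, S2332; sub-architect helper93): piece (KGEN),
verbatim from `tools/slnc_sigs_helper93.lean.txt`. -/

set_option autoImplicit false
set_option linter.unusedSectionVars false
set_option linter.unusedVariables false

namespace Cfsg.Agent.Helper61.SLNC

open Matrix Module Cfsg.Agent.Helper93.U2 Cfsg.Agent.Helper62.SLN

/-- a commutator of two elements stabilising a line acts trivially on it -/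
theorem h61_comm_fix_line {G : Type*} [Group G] {V : Type*} [AddCommGroup V] [Module ℂ V]
    [FiniteDimensional ℂ V] (ρ : Representation ℂ G V) (W : Submodule ℂ V)
    (hW : finrank ℂ W ≤ 1) (a b : G)
    (ha : ∀ v ∈ W, ρ a v ∈ W) (hb : ∀ v ∈ W, ρ b v ∈ W) :
    ∀ v ∈ W, ρ (a * b * a⁻¹ * b⁻¹) v = v := by
  obtain ⟨v0, hv0⟩ := finrank_le_one_iff.mp hW
  have hinv : ∀ (g : G) (x y : V), ρ g x = y → ρ g⁻¹ y = x := by
    intro g x y h
    rw [← h, ← Module.End.mul_apply, ← map_mul, inv_mul_cancel, map_one, Module.End.one_apply]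
  -- scalars
  obtain ⟨α, hα⟩ := hv0 ⟨ρ a v0.1, ha v0.1 v0.2⟩
  obtain ⟨β, hβ⟩ := hv0 ⟨ρ b v0.1, hb v0.1 v0.2⟩
  have hα' : ρ a v0.1 = α • v0.1 := by
    have := congrArg Subtype.val hα
    simpa using this.symm
  have hβ' : ρ b v0.1 = β • v0.1 := by
    have := congrArg Subtype.val hβ
    simpa using this.symm
  by_cases h0 : v0.1 = 0
  · intro v hv
    obtain ⟨c, hc⟩ := hv0 ⟨v, hv⟩
    have hv' : v = c • v0.1 := by
      have := congrArg Subtype.val hc
      simpa using this.symm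
    rw [hv', h0, smul_zero, map_zero]
  have hinj : ∀ (g : G) (x : V), ρ g x = 0 → x = 0 := by
    intro g x h
    have := hinv g x 0 h
    rw [map_zero] at this
    exact this.symm
  have hα0 : α ≠ 0 := by
    intro h
    rw [h, zero_smul] at hα'
    exact h0 (hinj a _ hα')
  have hβ0 : β ≠ 0 := by
    intro h
    rw [h, zero_smul] at hβ'
    exact h0 (hinj b _ hβ')
  have hai : ρ a⁻¹ v0.1 = α⁻¹ • v0.1 := by
    apply hinv a
    rw [map_smul, hα', smul_smul, inv_mul_cancel₀ hα0, one_smul]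
  have hbi : ρ b⁻¹ v0.1 = β⁻¹ • v0.1 := by
    apply hinv b
    rw [map_smul, hβ', smul_smul, inv_mul_cancel₀ hβ0, one_smul]
  have hkey : ρ (a * b * a⁻¹ * b⁻¹) v0.1 = v0.1 := by
    rw [map_mul, map_mul, map_mul, Module.End.mul_apply, Module.End.mul_apply, Module.End.mul_apply,
      hbi]
    simp only [map_smul, hai, hβ', hα', smul_smul]
    convert one_smul ℂ (v0 : V) using 2
    field_simp
  intro v hv
  obtain ⟨c, hc⟩ := hv0 ⟨v, hv⟩
  have hv' : v = c • v0.1 := by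
    have := congrArg Subtype.val hc
    simpa using this.symm
  rw [hv', map_smul, hkey]

section SLN

variable {F : Type*} [Field F] [Fintype F] [DecidableEq F] {κ : Type} [Fintype κ] [DecidableEq κ]
  {V : Type*} [AddCommGroup V] [Module ℂ V] [FiniteDimensional ℂ V]
  (ψ : AddChar F ℂ) (pr : Pairing (κ → F)) (hpr : ∀ w u, pr.β w u = ψ (w ⬝ᵥ u))
  (ρ : Representation ℂ (SpecialLinearGroup (Unit ⊕ κ) F) V)

include hpr

omit [DecidableEq F] in
/-- piece KGEN [M] -/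
theorem kgen (hκ : 4 ≤ Fintype.card κ)
    (hcomm : ∀ (i : κ) (w t : κ → F), Function.update t i 0 ⬝ᵥ w = 0 →
      ∃ X Y : SpecialLinearGroup κ F, X.1 *ᵥ w = w ∧ Y.1 *ᵥ w = w ∧ tvEl i t = X * Y * X⁻¹ * Y⁻¹)
    (hlmul : ∀ A B : SpecialLinearGroup κ F,
      (lEl (A * B) : SpecialLinearGroup (Unit ⊕ κ) F) = lEl A * lEl B)
    (hmap : ∀ (A : SpecialLinearGroup κ F) (w : κ → F) (v : V), v ∈ wt pr ρ w →
      ρ (lEl A) v ∈ wt pr ρ (A.1 *ᵥ w))
    (hd1 : ∀ w : κ → F, w ≠ 0 → finrank ℂ (wt pr ρ w) = 1)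
    (i : κ) (w : κ → F) (hw : w ≠ 0) (t : κ → F) (ht : Function.update t i 0 ⬝ᵥ w = 0)
    (v : V) (hv : v ∈ wt pr ρ w) : ρ (qEl i t) v = v := by
  obtain ⟨X, Y, hX, hY, hXY⟩ := hcomm i w t ht
  have h11 : (lEl (1 : SpecialLinearGroup κ F) : SpecialLinearGroup (Unit ⊕ κ) F) = 1 := by
    have h := hlmul 1 1
    rw [mul_one] at h
    calc (lEl (1 : SpecialLinearGroup κ F) : SpecialLinearGroup (Unit ⊕ κ) F)
        = lEl 1 * lEl 1 * (lEl 1)⁻¹ := by rw [mul_inv_cancel_right]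
      _ = lEl 1 * (lEl 1)⁻¹ := by rw [← h]
      _ = 1 := mul_inv_cancel _
  have hinv : ∀ A : SpecialLinearGroup κ F,
      (lEl A⁻¹ : SpecialLinearGroup (Unit ⊕ κ) F) = (lEl A)⁻¹ := by
    intro A
    apply eq_inv_of_mul_eq_one_right
    rw [← hlmul, mul_inv_cancel, h11]
  have hq : (qEl i t : SpecialLinearGroup (Unit ⊕ κ) F)
      = lEl X * lEl Y * (lEl X)⁻¹ * (lEl Y)⁻¹ := by
    show lEl (tvEl i t) = _
    rw [hXY, hlmul, hlmul, hlmul, hinv, hinv]
  rw [hq]
  refine h61_comm_fix_line ρ (wt pr ρ w) (le_of_eq (hd1 w hw)) (lEl X) (lEl Y) ?_ ?_ v hv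
  · intro x hx
    have := hmap X w x hx
    rw [hX] at this
    exact this
  · intro x hx
    have := hmap Y w x hx
    rw [hY] at this
    exact this

end SLN

end Cfsg.Agent.Helper61.SLNC
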