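import Mathlib
import Cfsg.Agent.Lib.Helper98.SPE0

/-!
# SPE project (S2333), piece K5 `pairs_card_le`, CORE form (K2, K3 are hypotheses).
-/

set_option autoImplicit false
set_option linter.unusedSectionVars false
set_option linter.unusedVariables false

namespace Cfsg.Agent.Helper61.SPE

open Matrix Cfsg.Agent.Helper93.U2 Cfsg.Agent.Helper98.SPE

section CNT

variable {F : Type*} [Field F] [Fintype F] {q : ℕ} (hq : Fintype.card F = q) {n : ℕ}

open Classical in
theorem h61_ncard_setOf5 {α : Type*} [Fintype α] (p : α → Prop) :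
    {x | p x}.ncard = (Finset.univ.filter p).card := by
  rw [← Set.ncard_coe_finset]
  congr 1
  ext x
  simp

include hq in
open Classical in
/-- piece K5, core form -/
theorem h61_pairs_card_le_core (S : Matrix (Fin n) (Fin n) F) (a b c : F) (hb : b ≠ 0)
    (N R : ℕ)
    (hK2 : ∀ x₁ y₁ : Fin n → F, bv S x₁ y₁ ≠ 0 → ∀ N : ℕ,
      (∀ e : F, {st : F × F | qv S x₁ * st.1 ^ 2 + bv S x₁ y₁ * st.1 * st.2
        + qv S y₁ * st.2 ^ 2 = e}.ncard ≤ N) → ∀ e : F,
      {x : Fin n → F | qv S x = e}.ncard * q ^ 2 ≤ N * q ^ n)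
    (hK3' : ∀ (x : Fin n → F) (b c : F), b ≠ 0 → ∀ R : ℕ,
      (∀ d : F, {s : F | qv S x * s ^ 2 + b * s = d}.ncard ≤ R) →
      {y : Fin n → F | qv S y = c ∧ bv S x y = b}.ncard * q ^ 2 ≤ R * q ^ n)
    (hN : ∀ e : F, {st : F × F | a * st.1 ^ 2 + b * st.1 * st.2 + c * st.2 ^ 2 = e}.ncard ≤ N)
    (hR : ∀ d : F, {s : F | a * s ^ 2 + b * s = d}.ncard ≤ R) :
    {xy : (Fin n → F) × (Fin n → F) |
        qv S xy.1 = a ∧ qv S xy.2 = c ∧ bv S xy.1 xy.2 = b}.ncard * q ^ 4
      ≤ R * N * q ^ (2 * n) := by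
  by_cases hne : ∃ xy : (Fin n → F) × (Fin n → F),
      qv S xy.1 = a ∧ qv S xy.2 = c ∧ bv S xy.1 xy.2 = b
  swap
  · have : {xy : (Fin n → F) × (Fin n → F) |
        qv S xy.1 = a ∧ qv S xy.2 = c ∧ bv S xy.1 xy.2 = b} = ∅ := by
      apply Set.eq_empty_iff_forall_notMem.mpr
      intro xy hxy
      exact hne ⟨xy, hxy⟩
    rw [this, Set.ncard_empty, zero_mul]
    exact Nat.zero_le _
  obtain ⟨⟨x₁, y₁⟩, hx₁, hy₁, hb₁⟩ := hne
  simp only at hx₁ hy₁ hb₁
  have hK2 : {x : Fin n → F | qv S x = a}.ncard * q ^ 2 ≤ N * q ^ n :=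
    hK2 x₁ y₁ (by rw [hb₁]; exact hb) N (by rw [hx₁, hb₁, hy₁]; exact hN) a
  have hK3 : ∀ x : Fin n → F, qv S x = a →
      {y : Fin n → F | qv S y = c ∧ bv S x y = b}.ncard * q ^ 2 ≤ R * q ^ n := by
    intro x hx
    exact hK3' x b c hb R (by rw [hx]; exact hR)
  -- counting
  have hP : {xy : (Fin n → F) × (Fin n → F) |
        qv S xy.1 = a ∧ qv S xy.2 = c ∧ bv S xy.1 xy.2 = b}.ncard =
      ∑ x : Fin n → F, (Finset.univ.filter fun y : Fin n → F =>
        qv S x = a ∧ qv S y = c ∧ bv S x y = b).card := by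
    rw [h61_ncard_setOf5, Finset.card_filter, Fintype.sum_prod_type]
    apply Finset.sum_congr rfl
    intro x _
    rw [Finset.card_filter]
    apply Finset.sum_congr rfl
    intro y _
    congr 1
  have hlev : {x : Fin n → F | qv S x = a}.ncard =
      ∑ x : Fin n → F, (if qv S x = a then 1 else 0) := by
    rw [h61_ncard_setOf5, Finset.card_filter]
  have hx : ∀ x : Fin n → F, (Finset.univ.filter fun y : Fin n → F =>
        qv S x = a ∧ qv S y = c ∧ bv S x y = b).card * q ^ 2 ≤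
      (if qv S x = a then 1 else 0) * (R * q ^ n) := by
    intro x
    by_cases hxa : qv S x = a
    · rw [if_pos hxa, one_mul]
      have h3 := hK3 x hxa
      rw [h61_ncard_setOf5] at h3
      have : (Finset.univ.filter fun y : Fin n → F =>
          qv S x = a ∧ qv S y = c ∧ bv S x y = b) =
          (Finset.univ.filter fun y : Fin n → F => qv S y = c ∧ bv S x y = b) := by
        apply Finset.filter_congr
        intro y _
        constructor
        · intro h
          exact h.2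
        · intro h
          exact ⟨hxa, h⟩
      rw [this]
      convert h3
    · rw [if_neg hxa, zero_mul]
      have : (Finset.univ.filter fun y : Fin n → F =>
          qv S x = a ∧ qv S y = c ∧ bv S x y = b) = ∅ := by
        apply Finset.filter_eq_empty_iff.mpr
        intro y _ hy
        exact hxa hy.1
      rw [this, Finset.card_empty, zero_mul]
  have h1 : {xy : (Fin n → F) × (Fin n → F) |
        qv S xy.1 = a ∧ qv S xy.2 = c ∧ bv S xy.1 xy.2 = b}.ncard * q ^ 2 ≤
      {x : Fin n → F | qv S x = a}.ncard * (R * q ^ n) := by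
    rw [hP, hlev, Finset.sum_mul, Finset.sum_mul]
    exact Finset.sum_le_sum fun x _ => hx x
  calc {xy : (Fin n → F) × (Fin n → F) |
        qv S xy.1 = a ∧ qv S xy.2 = c ∧ bv S xy.1 xy.2 = b}.ncard * q ^ 4
      = ({xy : (Fin n → F) × (Fin n → F) |
        qv S xy.1 = a ∧ qv S xy.2 = c ∧ bv S xy.1 xy.2 = b}.ncard * q ^ 2) * q ^ 2 := by ring
    _ ≤ ({x : Fin n → F | qv S x = a}.ncard * (R * q ^ n)) * q ^ 2 := Nat.mul_le_mul_right _ h1
    _ = ({x : Fin n → F | qv S x = a}.ncard * q ^ 2) * (R * q ^ n) := by ring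
    _ ≤ (N * q ^ n) * (R * q ^ n) := Nat.mul_le_mul_right _ hK2
    _ = R * N * q ^ (2 * n) := by ring

end CNT

end Cfsg.Agent.Helper61.SPE
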