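import Mathlib
import Cfsg.Agent.Lib.Helper98.SPE0
import Cfsg.Agent.Lib.Helper22.SPEQ6
import Cfsg.Agent.Lib.Helper22.SPEQ7
import Cfsg.Agent.Lib.Helper66.SPEQ2
import Cfsg.Agent.Lib.Helper66.SPEQ3

/-!
# SPE project (S2333), piece K6 `count_lower`, CORE form
(K6a for the pair `(x, y)` is a hypothesis; Q2, Q3, Q6, Q7 are the landed pieces).
-/

set_option autoImplicit false
set_option linter.unusedSectionVars false
set_option linter.unusedVariables false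

namespace Cfsg.Agent.Helper61.SPE

open Matrix Cfsg.Agent.Helper93.U2 Cfsg.Agent.Helper98.SPE

section CNT

variable {F : Type*} [Field F] [Fintype F] {q : ℕ} {n : ℕ}

/-- piece K6, core form -/
theorem h61_count_lower_core (h2 : (2 : F) = 0) (O : Set (Matrix (Fin n) (Fin n) F))
    (hcl : ∀ g : GL (Fin n) F, ∀ S ∈ O, congQ (g : Matrix (Fin n) (Fin n) F) S ∈ O)
    (S₁ : Matrix (Fin n) (Fin n) F) (hS₁ : S₁ ∈ O) (x y : Fin n → F) (hb : bv S₁ x y ≠ 0)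
    (hK6a : q ^ 2 * {φ : Fin n → F | φ ⬝ᵥ x = 0 ∧ φ ⬝ᵥ y = 0}.ncard = q ^ n) :
    q ^ (2 * n) ≤ q ^ 4 * {S' ∈ O | qv S' x = qv S₁ x ∧ qv S' y = qv S₁ y ∧
      bv S' x y = bv S₁ x y}.ncard := by
  classical
  obtain ⟨Φ, hΦdef⟩ : ∃ Φ : Set (Fin n → F), Φ = {φ : Fin n → F | φ ⬝ᵥ x = 0 ∧ φ ⬝ᵥ y = 0} :=
    ⟨_, rfl⟩
  rw [← hΦdef] at hK6a
  have hΦmem : ∀ φ, φ ∈ Φ ↔ (φ ⬝ᵥ x = 0 ∧ φ ⬝ᵥ y = 0) := by
    intro φ
    rw [hΦdef]
    exact Iff.rfl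
  have hxx : ∀ z : Fin n → F, bv S₁ z z = 0 := fun z => by
    rw [Cfsg.Agent.Helper66.SPE.bv_self, h2, zero_mul]
  let Nm : (Fin n → F) × (Fin n → F) → Matrix (Fin n) (Fin n) F :=
    fun p => vecMulVec x p.1 + vecMulVec y p.2
  have hNz : ∀ (p : (Fin n → F) × (Fin n → F)) (z : Fin n → F),
      (1 + Nm p) *ᵥ z = z + ((p.1 ⬝ᵥ z) • x + (p.2 ⬝ᵥ z) • y) := by
    intro p z
    simp only [Nm]
    rw [add_mulVec, one_mulVec, add_mulVec, vecMulVec_mulVec, vecMulVec_mulVec,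
      op_smul_eq_smul, op_smul_eq_smul]
  have hNN : ∀ p ∈ Φ ×ˢ Φ, Nm p * Nm p = 0 := by
    intro p hp
    obtain ⟨hp1, hp2⟩ := hp
    obtain ⟨h1x, h1y⟩ := (hΦmem _).mp hp1
    obtain ⟨h2x, h2y⟩ := (hΦmem _).mp hp2
    simp only [Nm]
    rw [add_mul, mul_add, mul_add, vecMulVec_mul_vecMulVec, vecMulVec_mul_vecMulVec,
      vecMulVec_mul_vecMulVec, vecMulVec_mul_vecMulVec, h1x, h1y, h2x, h2y]
    ext i j
    simp [vecMulVec_apply]
  have hfix : ∀ p ∈ Φ ×ˢ Φ, (1 + Nm p) *ᵥ x = x ∧ (1 + Nm p) *ᵥ y = y := by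
    intro p hp
    obtain ⟨hp1, hp2⟩ := hp
    obtain ⟨h1x, h1y⟩ := (hΦmem _).mp hp1
    obtain ⟨h2x, h2y⟩ := (hΦmem _).mp hp2
    constructor
    · rw [hNz, h1x, h2x, zero_smul, zero_smul, add_zero, add_zero]
    · rw [hNz, h1y, h2y, zero_smul, zero_smul, add_zero, add_zero]
  have hmem : ∀ p ∈ Φ ×ˢ Φ, congQ (1 + Nm p) S₁ ∈
      {S' ∈ O | qv S' x = qv S₁ x ∧ qv S' y = qv S₁ y ∧ bv S' x y = bv S₁ x y} := by
    intro p hp
    have hNNp := hNN p hp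
    obtain ⟨hx', hy'⟩ := hfix p hp
    have e1 : (1 + Nm p) * (1 - Nm p) = 1 := by
      calc (1 + Nm p) * (1 - Nm p) = 1 - Nm p * Nm p := by noncomm_ring
        _ = 1 := by rw [hNNp, sub_zero]
    have e2 : (1 - Nm p) * (1 + Nm p) = 1 := by
      calc (1 - Nm p) * (1 + Nm p) = 1 - Nm p * Nm p := by noncomm_ring
        _ = 1 := by rw [hNNp, sub_zero]
    have hgO : congQ (1 + Nm p) S₁ ∈ O :=
      hcl (⟨1 + Nm p, 1 - Nm p, e1, e2⟩ : GL (Fin n) F) S₁ hS₁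
    refine ⟨hgO, ?_, ?_, ?_⟩
    · rw [Cfsg.Agent.Helper22.SPE.qv_congQ, hx']
    · rw [Cfsg.Agent.Helper22.SPE.qv_congQ, hy']
    · rw [Cfsg.Agent.Helper22.SPE.bv_congQ, hx', hy']
  have key : ∀ p ∈ Φ ×ˢ Φ, ∀ z : Fin n → F,
      bv (congQ (1 + Nm p) S₁) z x = bv S₁ z x + (p.2 ⬝ᵥ z) * bv S₁ y x ∧
      bv (congQ (1 + Nm p) S₁) z y = bv S₁ z y + (p.1 ⬝ᵥ z) * bv S₁ x y := by
    intro p hp z
    obtain ⟨hx', hy'⟩ := hfix p hp
    constructor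
    · rw [Cfsg.Agent.Helper22.SPE.bv_congQ, hx', hNz, Cfsg.Agent.Helper66.SPE.bv_add_left,
        Cfsg.Agent.Helper66.SPE.bv_add_left, Cfsg.Agent.Helper66.SPE.bv_smul_left,
        Cfsg.Agent.Helper66.SPE.bv_smul_left, hxx x, mul_zero, zero_add]
    · rw [Cfsg.Agent.Helper22.SPE.bv_congQ, hy', hNz, Cfsg.Agent.Helper66.SPE.bv_add_left,
        Cfsg.Agent.Helper66.SPE.bv_add_left, Cfsg.Agent.Helper66.SPE.bv_smul_left,
        Cfsg.Agent.Helper66.SPE.bv_smul_left, hxx y, mul_zero, add_zero]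
  have hb' : bv S₁ y x ≠ 0 := by
    rw [bv_symm]
    exact hb
  have hinj : Set.InjOn (fun p : (Fin n → F) × (Fin n → F) => congQ (1 + Nm p) S₁)
      (Φ ×ˢ Φ) := by
    intro p hp p' hp' heq
    simp only at heq
    have h2eq : p.2 = p'.2 := by
      apply dotProduct_eq
      intro z
      have k1 := (key p hp z).1
      have k2 := (key p' hp' z).1
      rw [heq] at k1
      have h3 : (p.2 ⬝ᵥ z) * bv S₁ y x = (p'.2 ⬝ᵥ z) * bv S₁ y x :=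
        add_left_cancel (k1.symm.trans k2)
      exact mul_right_cancel₀ hb' h3
    have h1eq : p.1 = p'.1 := by
      apply dotProduct_eq
      intro z
      have k1 := (key p hp z).2
      have k2 := (key p' hp' z).2
      rw [heq] at k1
      have h3 : (p.1 ⬝ᵥ z) * bv S₁ x y = (p'.1 ⬝ᵥ z) * bv S₁ x y :=
        add_left_cancel (k1.symm.trans k2)
      exact mul_right_cancel₀ hb h3
    exact Prod.ext h1eq h2eq
  have hcard := Set.ncard_le_ncard_of_injOn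
    (fun p : (Fin n → F) × (Fin n → F) => congQ (1 + Nm p) S₁) hmem hinj (Set.toFinite _)
  rw [Set.ncard_prod] at hcard
  calc q ^ (2 * n) = (q ^ n) ^ 2 := by rw [mul_comm, pow_mul]
    _ = (q ^ 2 * Φ.ncard) ^ 2 := by rw [hK6a]
    _ = q ^ 4 * (Φ.ncard * Φ.ncard) := by ring
    _ ≤ q ^ 4 * {S' ∈ O | qv S' x = qv S₁ x ∧ qv S' y = qv S₁ y ∧
      bv S' x y = bv S₁ x y}.ncard := Nat.mul_le_mul_left _ hcard

end CNT

end Cfsg.Agent.Helper61.SPE
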