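import Mathlib
import Cfsg.Agent.Lib.Helper98.SPE0
import Cfsg.Agent.Lib.Helper61.SPEK6Core
import Cfsg.Agent.Lib.Helper2.SPEK6a
import Cfsg.Agent.Lib.Helper2.SPEK6b

/-!
# SPE project (S2333), piece K6 `count_lower` (verbatim wrapper of `h61_count_lower_core`).
-/

set_option autoImplicit false
set_option linter.unusedSectionVars false
set_option linter.unusedVariables false

namespace Cfsg.Agent.Helper61.SPE

open Matrix Cfsg.Agent.Helper93.U2 Cfsg.Agent.Helper98.SPE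

section CNT

variable {F : Type*} [Field F] [Fintype F] {q : ℕ} (hq : Fintype.card F = q) {n : ℕ}

include hq in
/-- piece K6 -/
theorem count_lower (h2 : (2 : F) = 0) (O : Set (Matrix (Fin n) (Fin n) F))
    (hcl : ∀ g : GL (Fin n) F, ∀ S ∈ O, congQ (g : Matrix (Fin n) (Fin n) F) S ∈ O)
    (S₁ : Matrix (Fin n) (Fin n) F) (hS₁ : S₁ ∈ O) (x y : Fin n → F) (hb : bv S₁ x y ≠ 0) :
    q ^ (2 * n) ≤ q ^ 4 * {S' ∈ O | qv S' x = qv S₁ x ∧ qv S' y = qv S₁ y ∧
      bv S' x y = bv S₁ x y}.ncard :=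
  h61_count_lower_core h2 O hcl S₁ hS₁ x y hb
    (Cfsg.Agent.Helper2.SPE.card_annihilator_pair hq x y
      (Cfsg.Agent.Helper2.SPE.linearIndependent_of_bv_ne_zero h2 S₁ x y hb))

end CNT

end Cfsg.Agent.Helper61.SPE
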