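import Mathlib
import Cfsg.Agent.Lib.Helper98.SPE0

/-!
# SPE project (S2333), piece K8 `orbit_bound_of` : the double count, CORE form
(the pieces K5, K6, K6b, K7, K8a, Q6, Q7 it cites are hypotheses).
-/

set_option autoImplicit false
set_option linter.unusedSectionVars false
set_option linter.unusedVariables false

namespace Cfsg.Agent.Helper61.SPE

open Matrix Cfsg.Agent.Helper93.U2 Cfsg.Agent.Helper98.SPE

section CNT

variable {F : Type*} [Field F] [Fintype F] {q : ℕ} (hq : Fintype.card F = q) {n : ℕ}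

open Classical in
theorem h61_ncard_setOf {α : Type*} [Fintype α] (p : α → Prop) :
    {x | p x}.ncard = (Finset.univ.filter p).card := by
  rw [← Set.ncard_coe_finset]
  congr 1
  ext x
  simp

include hq in
open Classical in
/-- piece K8, core form -/
theorem h61_orbit_bound_core (hn : 2 ≤ n) (O : Set (Matrix (Fin n) (Fin n) F))
    (hK8a : {xy : (Fin n → F) × (Fin n → F) | LinearIndependent F ![xy.1, xy.2]}.ncard
      = (q ^ n - 1) * (q ^ n - q))
    (hK7 : ∀ x y x₀ y₀ : Fin n → F, LinearIndependent F ![x, y] →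
      LinearIndependent F ![x₀, y₀] →
      ∃ g : GL (Fin n) F, (g : Matrix (Fin n) (Fin n) F) *ᵥ x = x₀ ∧
        (g : Matrix (Fin n) (Fin n) F) *ᵥ y = y₀)
    (hQ6 : ∀ (g S : Matrix (Fin n) (Fin n) F) (x : Fin n → F),
      qv (congQ g S) x = qv S (g *ᵥ x))
    (hQ7 : ∀ (g S : Matrix (Fin n) (Fin n) F) (x y : Fin n → F),
      bv (congQ g S) x y = bv S (g *ᵥ x) (g *ᵥ y))
    (hK6 : ∀ S₁ : Matrix (Fin n) (Fin n) F, S₁ ∈ O → ∀ x y : Fin n → F, bv S₁ x y ≠ 0 →
      q ^ (2 * n) ≤ q ^ 4 * {S' ∈ O | qv S' x = qv S₁ x ∧ qv S' y = qv S₁ y ∧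
        bv S' x y = bv S₁ x y}.ncard)
    (hcl : ∀ g : GL (Fin n) F, ∀ S ∈ O, congQ (g : Matrix (Fin n) (Fin n) F) S ∈ O)
    (S₀ : Matrix (Fin n) (Fin n) F) (hS₀ : S₀ ∈ O) (x y : Fin n → F) (a b c : F)
    (hx : qv S₀ x = a) (hy : qv S₀ y = c) (hxy : bv S₀ x y = b) (hb : b ≠ 0) (N R : ℕ)
    (hN : ∀ e : F, {st : F × F | a * st.1 ^ 2 + b * st.1 * st.2 + c * st.2 ^ 2 = e}.ncard ≤ N)
    (hxyind : LinearIndependent F ![x, y])
    (hK5 : ∀ S' : Matrix (Fin n) (Fin n) F, {xy : (Fin n → F) × (Fin n → F) |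
        qv S' xy.1 = a ∧ qv S' xy.2 = c ∧ bv S' xy.1 xy.2 = b}.ncard * q ^ 4
      ≤ R * N * q ^ (2 * n)) :
    (q ^ n - 1) * (q ^ n - q) ≤ R * N * O.ncard := by
  have hqpos : 0 < q := by
    rw [← hq]
    exact Fintype.card_pos
  -- the relation
  let P : Matrix (Fin n) (Fin n) F → (Fin n → F) × (Fin n → F) → Prop := fun S' p =>
    S' ∈ O ∧ qv S' p.1 = a ∧ qv S' p.2 = c ∧ bv S' p.1 p.2 = b
  let T : Finset (Matrix (Fin n) (Fin n) F × ((Fin n → F) × (Fin n → F))) :=
    Finset.univ.filter fun t => P t.1 t.2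
  have hT1 : T.card = ∑ S' : Matrix (Fin n) (Fin n) F,
      (Finset.univ.filter fun p : (Fin n → F) × (Fin n → F) => P S' p).card := by
    simp only [T, Finset.card_filter]
    rw [Fintype.sum_prod_type]
  have hT2 : T.card = ∑ p : (Fin n → F) × (Fin n → F),
      (Finset.univ.filter fun S' : Matrix (Fin n) (Fin n) F => P S' p).card := by
    simp only [T, Finset.card_filter]
    rw [Fintype.sum_prod_type_right]
  -- independent pairs
  let I : Finset ((Fin n → F) × (Fin n → F)) :=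
    Finset.univ.filter fun p => LinearIndependent F ![p.1, p.2]
  have hI : I.card = (q ^ n - 1) * (q ^ n - q) := by
    rw [← hK8a, h61_ncard_setOf]
  -- lower bound on the fibres over independent pairs
  have hL : ∀ p ∈ I, q ^ (2 * n) ≤
      q ^ 4 * (Finset.univ.filter fun S' : Matrix (Fin n) (Fin n) F => P S' p).card := by
    intro p hp
    have hpi : LinearIndependent F ![p.1, p.2] := (Finset.mem_filter.mp hp).2
    obtain ⟨g, hg1, hg2⟩ := hK7 p.1 p.2 x y hpi hxyind
    have hS₁ : congQ (g : Matrix (Fin n) (Fin n) F) S₀ ∈ O := hcl g S₀ hS₀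
    have e1 : qv (congQ (g : Matrix (Fin n) (Fin n) F) S₀) p.1 = a := by
      rw [hQ6, hg1, hx]
    have e2 : qv (congQ (g : Matrix (Fin n) (Fin n) F) S₀) p.2 = c := by
      rw [hQ6, hg2, hy]
    have e3 : bv (congQ (g : Matrix (Fin n) (Fin n) F) S₀) p.1 p.2 = b := by
      rw [hQ7, hg1, hg2, hxy]
    have hK6 := hK6 (congQ (g : Matrix (Fin n) (Fin n) F) S₀) hS₁ p.1 p.2
      (by rw [e3]; exact hb)
    rw [e1, e2, e3] at hK6
    have hset : {S' ∈ O | qv S' p.1 = a ∧ qv S' p.2 = c ∧ bv S' p.1 p.2 = b}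
        = {S' | P S' p} := rfl
    rw [hset, h61_ncard_setOf] at hK6
    convert hK6
  -- upper bound on the fibres over `S'`
  have hU : ∀ S' : Matrix (Fin n) (Fin n) F,
      (Finset.univ.filter fun p : (Fin n → F) × (Fin n → F) => P S' p).card * q ^ 4 ≤
        (if S' ∈ O then 1 else 0) * (R * N * q ^ (2 * n)) := by
    intro S'
    by_cases hS' : S' ∈ O
    · rw [if_pos hS', one_mul]
      have hK5 := hK5 S'
      have hset : {xy : (Fin n → F) × (Fin n → F) |
          qv S' xy.1 = a ∧ qv S' xy.2 = c ∧ bv S' xy.1 xy.2 = b} = {p | P S' p} := by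
        ext p
        simp only [Set.mem_ofPred_eq, P]
        constructor
        · intro h
          exact ⟨hS', h⟩
        · intro h
          exact h.2
      rw [hset, h61_ncard_setOf] at hK5
      convert hK5
    · rw [if_neg hS', zero_mul]
      have : (Finset.univ.filter fun p : (Fin n → F) × (Fin n → F) => P S' p) = ∅ := by
        apply Finset.filter_eq_empty_iff.mpr
        intro p _ hp
        exact hS' hp.1
      rw [this, Finset.card_empty, zero_mul]
  -- `O.ncard`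
  have hO : O.ncard = ∑ S' : Matrix (Fin n) (Fin n) F, (if S' ∈ O then 1 else 0) := by
    have : O = {S' | S' ∈ O} := rfl
    rw [this, h61_ncard_setOf, Finset.card_filter]
    rfl
  -- assemble
  have h1 : I.card * q ^ (2 * n) ≤ q ^ 4 * T.card := by
    calc I.card * q ^ (2 * n) = ∑ p ∈ I, q ^ (2 * n) := by
          rw [Finset.sum_const, smul_eq_mul]
      _ ≤ ∑ p ∈ I, q ^ 4 *
          (Finset.univ.filter fun S' : Matrix (Fin n) (Fin n) F => P S' p).card :=
          Finset.sum_le_sum hL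
      _ ≤ ∑ p : (Fin n → F) × (Fin n → F), q ^ 4 *
          (Finset.univ.filter fun S' : Matrix (Fin n) (Fin n) F => P S' p).card :=
          Finset.sum_le_sum_of_subset (Finset.subset_univ I)
      _ = q ^ 4 * T.card := by
          rw [hT2, Finset.mul_sum]
  have h2' : T.card * q ^ 4 ≤ O.ncard * (R * N * q ^ (2 * n)) := by
    rw [hT1, hO, Finset.sum_mul, Finset.sum_mul]
    exact Finset.sum_le_sum fun S' _ => hU S'
  have h3 : I.card * (q ^ (2 * n) * q ^ 4) ≤ (R * N * O.ncard) * (q ^ (2 * n) * q ^ 4) := by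
    calc I.card * (q ^ (2 * n) * q ^ 4) = (I.card * q ^ (2 * n)) * q ^ 4 := by ring
      _ ≤ (q ^ 4 * T.card) * q ^ 4 := Nat.mul_le_mul_right _ h1
      _ = q ^ 4 * (T.card * q ^ 4) := by ring
      _ ≤ q ^ 4 * (O.ncard * (R * N * q ^ (2 * n))) := Nat.mul_le_mul_left _ h2'
      _ = (R * N * O.ncard) * (q ^ (2 * n) * q ^ 4) := by ring
  have hpos : 0 < q ^ (2 * n) * q ^ 4 := by positivity
  rw [← hI]
  exact Nat.le_of_mul_le_mul_right h3 hpos

end CNT

end Cfsg.Agent.Helper61.SPE
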