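import Mathlib
import Cfsg.Agent.Lib.Helper98.SPE0
import Cfsg.Agent.Lib.Helper61.SPEK8Core
import Cfsg.Agent.Lib.Helper61.SPEK6
import Cfsg.Agent.Lib.Helper60.SPEK5
import Cfsg.Agent.Lib.Helper2.SPEK6b
import Cfsg.Agent.Lib.Helper2.SPEK7
import Cfsg.Agent.Lib.Helper66.SPEK8a
import Cfsg.Agent.Lib.Helper22.SPEQ6
import Cfsg.Agent.Lib.Helper22.SPEQ7

/-!
# SPE project (S2333), piece K8 `orbit_bound_of` (verbatim wrapper of `h61_orbit_bound_core`).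
-/

set_option autoImplicit false
set_option linter.unusedSectionVars false
set_option linter.unusedVariables false

namespace Cfsg.Agent.Helper61.SPE

open Matrix Cfsg.Agent.Helper93.U2 Cfsg.Agent.Helper98.SPE

section CNT

variable {F : Type*} [Field F] [Fintype F] {q : ℕ} (hq : Fintype.card F = q) {n : ℕ}

include hq in
/-- piece K8 -/
theorem orbit_bound_of (h2 : (2 : F) = 0) (hn : 2 ≤ n) (O : Set (Matrix (Fin n) (Fin n) F))
    (hcl : ∀ g : GL (Fin n) F, ∀ S ∈ O, congQ (g : Matrix (Fin n) (Fin n) F) S ∈ O)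
    (S₀ : Matrix (Fin n) (Fin n) F) (hS₀ : S₀ ∈ O) (x y : Fin n → F) (a b c : F)
    (hx : qv S₀ x = a) (hy : qv S₀ y = c) (hxy : bv S₀ x y = b) (hb : b ≠ 0) (N R : ℕ)
    (hN : ∀ e : F, {st : F × F | a * st.1 ^ 2 + b * st.1 * st.2 + c * st.2 ^ 2 = e}.ncard ≤ N)
    (hR : ∀ d : F, {s : F | a * s ^ 2 + b * s = d}.ncard ≤ R) :
    (q ^ n - 1) * (q ^ n - q) ≤ R * N * O.ncard :=
  h61_orbit_bound_core hq hn O
    (Cfsg.Agent.Helper66.SPE.card_indep_pairs hq hn)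
    (fun x y x₀ y₀ h h₀ => Cfsg.Agent.Helper2.SPE.exists_gl_pair x y x₀ y₀ h h₀)
    (fun g S z => Cfsg.Agent.Helper22.SPE.qv_congQ g S z)
    (fun g S z w => Cfsg.Agent.Helper22.SPE.bv_congQ g S z w)
    (fun S₁ hS₁ x' y' hb' => count_lower hq h2 O hcl S₁ hS₁ x' y' hb')
    hcl S₀ hS₀ x y a b c hx hy hxy hb N R hN
    (Cfsg.Agent.Helper2.SPE.linearIndependent_of_bv_ne_zero h2 S₀ x y (by rw [hxy]; exact hb))
    (fun S' => Cfsg.Agent.Helper60.SPE.pairs_card_le hq h2 S' a b c hb N R hN hR)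

end CNT

end Cfsg.Agent.Helper61.SPE
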