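import Mathlib
import Cfsg.Agent.Lib.Helper61.OrderCount
import Cfsg.Agent.Lib.Helper5.PermEmbed

set_option autoImplicit false

/-!
# Solvable groups in which elements of the same order are conjugate
-/

namespace Cfsg.Agent.Helper61.SameOrderConj

open Subgroup Cfsg.Agent.Helper61.OrderCount
open scoped commutatorElement

universe u

variable {G : Type u} [Group G]

/-- elements of the same order are conjugate -/
def Q (G : Type u) [Group G] : Prop := ∀ x y : G, orderOf x = orderOf y → IsConj x y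

/-! ### Step 0: the commutative case -/

theorem card_le_two_of_comm [Finite G] (hQ : Q G) (hc : ∀ a b : G, a * b = b * a) :
    Nat.card G ≤ 2 := by
  classical
  have inj : ∀ x y : G, orderOf x = orderOf y → x = y := by
    intro x y h
    obtain ⟨c, hc'⟩ := isConj_iff.mp (hQ x y h)
    rw [← hc', hc c x, mul_inv_cancel_right]
  have hinv : ∀ x : G, x⁻¹ = x := fun x => inj _ _ (orderOf_inv x)
  have h2 : ∀ x : G, x ≠ 1 → orderOf x = 2 := by
    intro x hx
    apply orderOf_eq_prime _ hx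
    rw [pow_two]
    nth_rewrite 1 [← hinv x]
    exact inv_mul_cancel x
  have heq : ∀ x y : G, x ≠ 1 → y ≠ 1 → x = y := fun x y hx hy =>
    inj x y ((h2 x hx).trans (h2 y hy).symm)
  have hf : Function.Injective (fun x : G => decide (x = 1)) := by
    intro x y hxy
    by_cases hx : x = 1
    · by_cases hy : y = 1
      · rw [hx, hy]
      · simp [hx, hy] at hxy
    · by_cases hy : y = 1
      · simp [hx, hy] at hxy
      · exact heq x y hx hy
  have := Nat.card_le_card_of_injective _ hf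
  simpa using this

/-! ### Step 1: a normal elementary abelian subgroup containing all elements of order `p` -/

theorem exists_normal_omega [Finite G] [hs : Group.IsSolvable G] (hQ : Q G) (hnt : Nontrivial G) :
    ∃ (p : ℕ) (N : Subgroup G), p.Prime ∧ N.Normal ∧ N ≠ ⊥ ∧ (∀ x, x ∈ N ↔ x ^ p = 1) ∧
      (∀ a ∈ N, ∀ b ∈ N, a * b = b * a) := by
  classical
  -- an abelian normal nontrivial subgroup
  obtain ⟨A, hAn, hAne, hAc⟩ : ∃ A : Subgroup G, A.Normal ∧ A ≠ ⊥ ∧
      ∀ a ∈ A, ∀ b ∈ A, a * b = b * a := by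
    have hex : ∃ n, derivedSeries G n = ⊥ := (Group.isSolvable_def G).mp hs
    have hn0 : Nat.find hex ≠ 0 := by
      intro h0
      have := Nat.find_spec hex
      rw [h0, derivedSeries_zero] at this
      exact top_ne_bot this
    obtain ⟨k, hk⟩ := Nat.exists_eq_succ_of_ne_zero hn0
    refine ⟨derivedSeries G k, inferInstance, ?_, ?_⟩
    · intro h
      have := Nat.find_min' hex h
      omega
    · intro a ha b hb
      have h1 : ⁅a, b⁆ ∈ derivedSeries G (k + 1) := by
        rw [derivedSeries_succ]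
        exact commutator_mem_commutator ha hb
      rw [← Nat.succ_eq_add_one, ← hk, Nat.find_spec hex, mem_bot] at h1
      exact (commutatorElement_eq_one_iff_commute.mp h1).eq
  have hA1 : 1 < Nat.card A := (Subgroup.one_lt_card_iff_ne_bot A).mpr hAne
  obtain ⟨p, hp, hpA⟩ := Nat.exists_prime_and_dvd hA1.ne'
  have : Fact p.Prime := ⟨hp⟩
  obtain ⟨x₀, hx₀⟩ := exists_prime_orderOf_dvd_card' (G := A) p hpA
  have hx₀' : orderOf (x₀ : G) = p := by rw [Subgroup.orderOf_coe]; exact hx₀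
  have hSA : ∀ x : G, x ^ p = 1 → x ∈ A := by
    intro x hx
    by_cases h1 : x = 1
    · rw [h1]; exact A.one_mem
    · have ho : orderOf x = p := orderOf_eq_prime hx h1
      obtain ⟨c, hc⟩ := isConj_iff.mp (hQ (x₀ : G) x (hx₀'.trans ho.symm))
      rw [← hc]
      exact hAn.conj_mem _ x₀.2 c
  let N : Subgroup G :=
    { carrier := {x | x ^ p = 1}
      mul_mem' := by
        intro a b ha hb
        have hcomm : Commute a b := hAc a (hSA a ha) b (hSA b hb)
        show (a * b) ^ p = 1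
        rw [hcomm.mul_pow, ha, hb, one_mul]
      one_mem' := one_pow p
      inv_mem' := by
        intro a ha
        show a⁻¹ ^ p = 1
        rw [inv_pow, ha, inv_one] }
  have hNmem : ∀ x, x ∈ N ↔ x ^ p = 1 := fun x => Iff.rfl
  refine ⟨p, N, hp, ?_, ?_, hNmem, ?_⟩
  · constructor
    intro n hn g
    rw [hNmem] at hn ⊢
    rw [conj_pow, hn, mul_one, mul_inv_cancel]
  · intro h
    have h1 : (x₀ : G) ∈ N := by
      rw [hNmem, ← hx₀']; exact pow_orderOf_eq_one _
    rw [h, mem_bot] at h1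
    rw [h1, orderOf_one] at hx₀'
    exact hp.one_lt.ne hx₀'
  · intro a ha b hb
    exact hAc a (hSA a ha) b (hSA b hb)


/-! ### Step 2: the property passes to `G ⧸ N` -/

theorem exists_lift_order [Finite G] {p : ℕ} (hp : p.Prime) (N : Subgroup G) [N.Normal]
    (hN : ∀ x, x ∈ N ↔ x ^ p = 1) (z : G) :
    ∃ z' : G, (z' : G ⧸ N) = (z : G ⧸ N) ∧
      orderOf z' = (if p ∣ orderOf (z : G ⧸ N) then orderOf (z : G ⧸ N) * p
        else orderOf (z : G ⧸ N)) := by
  obtain ⟨m, hm⟩ : ∃ m, m = orderOf (z : G ⧸ N) := ⟨_, rfl⟩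
  rw [← hm]
  have hmpos : 0 < m := by rw [hm]; exact orderOf_pos _
  have hzm : (z ^ m) ^ p = 1 := by
    rw [← hN, ← QuotientGroup.eq_one_iff, QuotientGroup.mk_pow, hm]
    exact pow_orderOf_eq_one _
  have hdiv : ∀ w : G, (w : G ⧸ N) = (z : G ⧸ N) → m ∣ orderOf w := by
    intro w hw
    rw [hm, ← hw]
    apply orderOf_dvd_of_pow_eq_one
    rw [← QuotientGroup.mk_pow, pow_orderOf_eq_one, QuotientGroup.mk_one]
  by_cases hpm : p ∣ m
  · rw [if_pos hpm]
    refine ⟨z, rfl, ?_⟩
    have h1 : orderOf z ∣ m * p := by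
      apply orderOf_dvd_of_pow_eq_one
      rw [pow_mul]; exact hzm
    obtain ⟨d, hd⟩ := hdiv z rfl
    have hne : orderOf z ≠ m := by
      intro heq
      obtain ⟨t, ht⟩ := hpm
      have htpos : 0 < t := by
        rcases Nat.eq_zero_or_pos t with h0 | h0
        · rw [h0, mul_zero] at ht; omega
        · exact h0
      have h2 : (z ^ t) ^ p = 1 := by
        rw [← pow_mul, mul_comm, ← ht, ← heq]; exact pow_orderOf_eq_one z
      have h3 : ((z : G ⧸ N)) ^ t = 1 := by
        rw [← QuotientGroup.mk_pow, QuotientGroup.eq_one_iff, hN]; exact h2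
      have h4 : m ∣ t := by rw [hm]; exact orderOf_dvd_of_pow_eq_one h3
      have h5 := Nat.le_of_dvd htpos h4
      have h6 : 2 ≤ p := hp.two_le
      nlinarith
    rw [hd] at h1 hne ⊢
    have h7 : d ∣ p := Nat.dvd_of_mul_dvd_mul_left hmpos h1
    rcases (Nat.dvd_prime hp).mp h7 with h8 | h8
    · rw [h8, mul_one] at hne; exact absurd rfl hne
    · rw [h8]
  · rw [if_neg hpm]
    have hcop : Nat.Coprime m p := (Nat.Coprime.symm ((Nat.Prime.coprime_iff_not_dvd hp).mpr hpm))
    obtain ⟨j, -, hj⟩ := Nat.exists_mul_mod_eq_one_of_coprime hcop hp.one_lt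
    obtain ⟨e, he⟩ : ∃ e, e = m * ((p - 1) * j) + 1 := ⟨_, rfl⟩
    have hpe : p ∣ e := by
      have h1 : m * ((p - 1) * j) = (p - 1) * (m * j) := by ring
      rw [he, h1]
      have h2 : m * j = p * (m * j / p) + 1 := by
        have := Nat.div_add_mod (m * j) p
        rw [hj] at this
        exact this.symm
      rw [h2]
      have h3 : (p - 1) * (p * (m * j / p) + 1) + 1 = p * ((p - 1) * (m * j / p)) + p := by
        have : 1 ≤ p := hp.one_lt.le
        obtain ⟨q, rfl⟩ : ∃ q, p = q + 1 := ⟨p - 1, by omega⟩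
        simp only [Nat.add_sub_cancel]
        ring
      rw [h3]
      exact ⟨(p - 1) * (m * j / p) + 1, by ring⟩
    refine ⟨z ^ e, ?_, ?_⟩
    · rw [QuotientGroup.mk_pow, he, pow_succ, pow_mul, hm, pow_orderOf_eq_one, one_pow, one_mul]
    · have hmk : ((z ^ e : G) : G ⧸ N) = (z : G ⧸ N) := by
        rw [QuotientGroup.mk_pow, he, pow_succ, pow_mul, hm, pow_orderOf_eq_one, one_pow, one_mul]
      apply Nat.dvd_antisymm
      · apply orderOf_dvd_of_pow_eq_one
        obtain ⟨t, ht⟩ := hpe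
        rw [← pow_mul, mul_comm, pow_mul, ht, pow_mul, hzm, one_pow]
      · exact hdiv _ hmk

theorem Q_quotient [Finite G] (hQ : Q G) {p : ℕ} (hp : p.Prime) (N : Subgroup G) [N.Normal]
    (hN : ∀ x, x ∈ N ↔ x ^ p = 1) : Q (G ⧸ N) := by
  intro X Y hXY
  obtain ⟨x, rfl⟩ := QuotientGroup.mk_surjective X
  obtain ⟨y, rfl⟩ := QuotientGroup.mk_surjective Y
  obtain ⟨x', hx1, hx2⟩ := exists_lift_order hp N hN x
  obtain ⟨y', hy1, hy2⟩ := exists_lift_order hp N hN y
  rw [← hXY] at hy2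
  have h := hQ x' y' (hx2.trans hy2.symm)
  rw [← hx1, ← hy1]
  exact (QuotientGroup.mk' N).map_isConj h


/-! ### Step 3: counting -/

theorem cnt_one : cnt G 1 = 1 := by
  rw [cnt]
  have : Unique {x : G // orderOf x = 1} :=
    { default := ⟨1, orderOf_one⟩
      uniq := fun x => Subtype.ext (orderOf_eq_one_iff.mp x.2) }
  exact Nat.card_unique

theorem cnt_le_card [Finite G] (m : ℕ) : cnt G m ≤ Nat.card G := by
  rw [cnt]
  exact Nat.card_le_card_of_injective _ Subtype.val_injective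

/-- bounding `cnt G m` by a decidable finite check -/
theorem cnt_bound [Finite G] (hQ : Q G) (m n b : ℕ) (hn : Nat.card G = n)
    (hb : ∀ c ≤ n, (c = 0 ∨ (c * m ∣ n ∧ Nat.totient m ≤ c)) → (3 ≤ m → 2 ∣ c) → c ≤ b) :
    cnt G m ≤ b := by
  apply hb (cnt G m) (hn ▸ cnt_le_card m)
  · have := cnt_cases hQ m
    rwa [hn] at this
  · exact even_cnt m

theorem cnt_prime_eq [Finite G] {p : ℕ} (hp : p.Prime) (N : Subgroup G)
    (hN : ∀ x, x ∈ N ↔ x ^ p = 1) : cnt G p = Nat.card N - 1 := by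
  have : Fact p.Prime := ⟨hp⟩
  have h1 : {x : G | orderOf x = p} = (N : Set G) \ {1} := by
    ext x
    rw [Set.mem_setOf_eq, orderOf_eq_prime_iff, Set.mem_sdiff, SetLike.mem_coe, hN,
      Set.mem_singleton_iff]
  have h2 : cnt G p = ({x : G | orderOf x = p}).ncard := by
    rw [cnt]; exact Nat.card_coe_set_eq _
  rw [h2, h1, Set.ncard_sdiff_singleton_of_mem (SetLike.mem_coe.mpr N.one_mem)]
  rfl

theorem cnt_prime_dvd_index [Finite G] (hQ : Q G) {p : ℕ} (hp : p.Prime) (N : Subgroup G)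
    (hN : ∀ x, x ∈ N ↔ x ^ p = 1) (hNc : ∀ a ∈ N, ∀ b ∈ N, a * b = b * a)
    (x₀ : G) (hx₀ : orderOf x₀ = p) :
    ∃ r : ℕ, Nat.card (centralizer ({x₀} : Set G)) = Nat.card N * r ∧ cnt G p * r = N.index := by
  have hx₀N : x₀ ∈ N := by rw [hN, ← hx₀]; exact pow_orderOf_eq_one _
  have hle : N ≤ centralizer ({x₀} : Set G) := by
    intro a ha
    rw [mem_centralizer_iff]
    intro y hy
    rw [Set.mem_singleton_iff.mp hy]
    exact hNc _ hx₀N _ ha
  have h1 := cnt_mul_card_centralizer hQ x₀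
  rw [hx₀] at h1
  obtain ⟨r, hr⟩ := Subgroup.card_dvd_of_le hle
  refine ⟨r, hr, ?_⟩
  have h2 := Subgroup.card_mul_index N
  rw [hr, ← h2] at h1
  have hpos : 0 < Nat.card N := Nat.card_pos
  have : Nat.card N * (cnt G p * r) = Nat.card N * N.index := by
    rw [← h1]; ring
  exact Nat.eq_of_mul_eq_mul_left hpos this

theorem no_4 [Finite G] (hQ : Q G) (h : Nat.card G = 4) (h2 : cnt G 2 = 1) : False := by
  have hsum := sum_cnt (G := G)
  rw [h, show Nat.divisors 4 = {1, 2, 4} from by decide] at hsum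
  simp at hsum
  have b4 : cnt G 4 ≤ 0 := cnt_bound hQ 4 4 0 h (by decide)
  have := cnt_one (G := G)
  omega

theorem no_12 [Finite G] (hQ : Q G) (h : Nat.card G = 12) (h2 : cnt G 2 = 1) : False := by
  have hsum := sum_cnt (G := G)
  rw [h, show Nat.divisors 12 = {1, 2, 3, 4, 6, 12} from by decide] at hsum
  simp at hsum
  have b3 : cnt G 3 ≤ 4 := cnt_bound hQ 3 12 4 h (by decide)
  have b4 : cnt G 4 ≤ 0 := cnt_bound hQ 4 12 0 h (by decide)
  have b6 : cnt G 6 ≤ 2 := cnt_bound hQ 6 12 2 h (by decide)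
  have b12 : cnt G 12 ≤ 0 := cnt_bound hQ 12 12 0 h (by decide)
  have := cnt_one (G := G)
  omega

theorem no_18 [Finite G] (hQ : Q G) (h : Nat.card G = 18) (h3 : cnt G 3 = 2) : False := by
  have hsum := sum_cnt (G := G)
  rw [h, show Nat.divisors 18 = {1, 2, 3, 6, 9, 18} from by decide] at hsum
  simp at hsum
  have b2 : cnt G 2 ≤ 9 := cnt_bound hQ 2 18 9 h (by decide)
  have b6 : cnt G 6 ≤ 0 := cnt_bound hQ 6 18 0 h (by decide)
  have b9 : cnt G 9 ≤ 2 := cnt_bound hQ 9 18 2 h (by decide)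
  have b18 : cnt G 18 ≤ 0 := cnt_bound hQ 18 18 0 h (by decide)
  have := cnt_one (G := G)
  omega

theorem no_24 [Finite G] (hQ : Q G) (h : Nat.card G = 24) (h2 : cnt G 2 = 3) : False := by
  have hsum := sum_cnt (G := G)
  rw [h, show Nat.divisors 24 = {1, 2, 3, 4, 6, 8, 12, 24} from by decide] at hsum
  simp at hsum
  have b3 : cnt G 3 ≤ 8 := cnt_bound hQ 3 24 8 h (by decide)
  have b4 : cnt G 4 ≤ 6 := cnt_bound hQ 4 24 6 h (by decide)
  have b6 : cnt G 6 ≤ 4 := cnt_bound hQ 6 24 4 h (by decide)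
  have b8 : cnt G 8 ≤ 0 := cnt_bound hQ 8 24 0 h (by decide)
  have b12 : cnt G 12 ≤ 0 := cnt_bound hQ 12 24 0 h (by decide)
  have b24 : cnt G 24 ≤ 0 := cnt_bound hQ 24 24 0 h (by decide)
  have := cnt_one (G := G)
  omega

theorem cnt_two_of_6 [Finite G] (hQ : Q G) (h : Nat.card G = 6) (h3 : cnt G 3 = 2) :
    cnt G 2 = 3 := by
  have hsum := sum_cnt (G := G)
  rw [h, show Nat.divisors 6 = {1, 2, 3, 6} from by decide] at hsum
  simp at hsum
  have b6 : cnt G 6 ≤ 0 := cnt_bound hQ 6 6 0 h (by decide)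
  have := cnt_one (G := G)
  omega

end Cfsg.Agent.Helper61.SameOrderConj
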