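import Mathlib
import Cfsg.Agent.Lib.Helper61.SameOrderConj

set_option autoImplicit false

/-!
# Solvable groups in which elements of the same order are conjugate: the classification
-/

namespace Cfsg.Agent.Helper61.SameOrderConj

open Subgroup Cfsg.Agent.Helper61.OrderCount

universe u

variable {G : Type u} [Group G]

theorem exists_of_cnt_pos {m : ℕ} (h : 0 < cnt G m) : ∃ x : G, orderOf x = m := by
  by_contra hcon
  push Not at hcon
  have : IsEmpty {y : G // orderOf y = m} := ⟨fun y => hcon y.1 y.2⟩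
  have h0 : cnt G m = 0 := Nat.card_of_isEmpty
  omega

theorem mem_zpowers_of_order_two {t x : G} (ht : orderOf t = 2) (hx : x ∈ zpowers t) :
    x = 1 ∨ x = t := by
  obtain ⟨k, rfl⟩ := hx
  show t ^ k = 1 ∨ t ^ k = t
  rw [← zpow_mod_orderOf, ht]
  have h1 : k % (2 : ℕ) = 0 ∨ k % (2 : ℕ) = 1 := by
    have := Int.emod_two_eq_zero_or_one k
    simpa using this
  rcases h1 with h1 | h1
  · left; rw [h1, zpow_zero]
  · right; rw [h1, zpow_one]

theorem s3_of_6 [Finite G] (hQ : Q G) (h : Nat.card G = 6) (h3 : cnt G 3 = 2) :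
    Nonempty (G ≃* Equiv.Perm (Fin 3)) := by
  have h2 := cnt_two_of_6 hQ h h3
  obtain ⟨t, ht⟩ := exists_of_cnt_pos (G := G) (m := 2) (by omega)
  have hC := cnt_mul_card_centralizer hQ t
  rw [ht, h2, h] at hC
  have hC2 : Nat.card (centralizer ({t} : Set G)) = 2 := by omega
  have hHcard : Nat.card (zpowers t) = 2 := by rw [Nat.card_zpowers, ht]
  have hHidx : (zpowers t).index = 3 := by
    have := Subgroup.card_mul_index (zpowers t)
    rw [hHcard, h] at this
    omega
  have hcore : (zpowers t).normalCore = ⊥ := by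
    rw [eq_bot_iff]
    intro x hx
    rw [mem_bot]
    by_contra hx1
    have hxt : x = t := by
      rcases mem_zpowers_of_order_two ht (normalCore_le _ hx) with h1 | h1
      · exact absurd h1 hx1
      · exact h1
    have htop : centralizer ({t} : Set G) = ⊤ := by
      rw [eq_top_iff]
      intro b _
      rw [mem_centralizer_iff]
      intro y hy
      rw [Set.mem_singleton_iff.mp hy]
      have hb : b * x * b⁻¹ ∈ zpowers t := hx b
      rw [hxt] at hb
      rcases mem_zpowers_of_order_two ht hb with h1 | h1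
      · exfalso
        have : t = 1 := by
          have h2 : b⁻¹ * (b * t * b⁻¹) * b = t := by group
          rw [h1] at h2
          rw [← h2]; group
        rw [this, orderOf_one] at ht
        omega
      · have : b * t = t * b := by
          calc b * t = (b * t * b⁻¹) * b := by group
            _ = t * b := by rw [h1]
        exact this.symm
    rw [htop, Subgroup.card_top, h] at hC2
    omega
  have hinj : Function.Injective (MulAction.toPermHom G (G ⧸ zpowers t)) := by
    rw [← MonoidHom.ker_eq_bot_iff, ← Subgroup.normalCore_eq_ker]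
    exact hcore
  have : Finite (G ⧸ zpowers t) := inferInstance
  exact Cfsg.Agent.Helper5.equiv_perm_of_injective _ hinj 3
    (by rw [← Subgroup.index_eq_card]; exact hHidx) (by rw [h]; rfl)

/-- If `N = ⟨x₀⟩` is normal and self-centralizing then `G ⧸ N` is commutative. -/
theorem comm_quotient_of_centralizer_le (N : Subgroup G) [N.Normal] (x₀ : G) (hx₀ : x₀ ∈ N)
    (hcyc : ∀ y ∈ N, y ∈ zpowers x₀) (hC : centralizer ({x₀} : Set G) ≤ N) :
    ∀ a b : G ⧸ N, a * b = b * a := by
  intro a b
  obtain ⟨g, rfl⟩ := QuotientGroup.mk_surjective a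
  obtain ⟨h, rfl⟩ := QuotientGroup.mk_surjective b
  obtain ⟨i, hi⟩ := hcyc _ (‹N.Normal›.conj_mem _ hx₀ g)
  obtain ⟨j, hj⟩ := hcyc _ (‹N.Normal›.conj_mem _ hx₀ h)
  have hi' : g * x₀ * g⁻¹ = x₀ ^ i := hi.symm
  have hj' : h * x₀ * h⁻¹ = x₀ ^ j := hj.symm
  have h1 : (g * h) * x₀ * (g * h)⁻¹ = x₀ ^ (i * j) := by
    calc (g * h) * x₀ * (g * h)⁻¹ = g * (h * x₀ * h⁻¹) * g⁻¹ := by group
      _ = g * x₀ ^ j * g⁻¹ := by rw [hj']
      _ = (g * x₀ * g⁻¹) ^ j := (conj_zpow).symm
      _ = x₀ ^ (i * j) := by rw [hi', zpow_mul]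
  have h2 : (h * g) * x₀ * (h * g)⁻¹ = x₀ ^ (i * j) := by
    calc (h * g) * x₀ * (h * g)⁻¹ = h * (g * x₀ * g⁻¹) * h⁻¹ := by group
      _ = h * x₀ ^ i * h⁻¹ := by rw [hi']
      _ = (h * x₀ * h⁻¹) ^ i := (conj_zpow).symm
      _ = x₀ ^ (i * j) := by rw [hj', mul_comm, zpow_mul]
  have h3 : (g * h)⁻¹ * (h * g) ∈ centralizer ({x₀} : Set G) := by
    rw [mem_centralizer_iff]
    intro y hy
    rw [Set.mem_singleton_iff.mp hy]
    have h4 : (g * h) * x₀ * (g * h)⁻¹ = (h * g) * x₀ * (h * g)⁻¹ := h1.trans h2.symm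
    calc x₀ * ((g * h)⁻¹ * (h * g))
        = (g * h)⁻¹ * ((g * h) * x₀ * (g * h)⁻¹) * (h * g) := by group
      _ = (g * h)⁻¹ * ((h * g) * x₀ * (h * g)⁻¹) * (h * g) := by rw [h4]
      _ = (g * h)⁻¹ * (h * g) * x₀ := by group
  rw [← QuotientGroup.mk_mul, ← QuotientGroup.mk_mul, QuotientGroup.eq]
  exact hC h3

theorem no_prime_normal [Finite G] (hQ : Q G) {p : ℕ} (hp : p.Prime) (N : Subgroup G)
    [N.Normal] (hN : ∀ x, x ∈ N ↔ x ^ p = 1) (hNc : ∀ a ∈ N, ∀ b ∈ N, a * b = b * a)
    (hcard : Nat.card N = p) (hidx : N.index = p - 1) (h3 : 3 ≤ p - 1) : False := by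
  have hcnt := cnt_prime_eq hp N hN
  rw [hcard] at hcnt
  obtain ⟨x₀, hx₀⟩ : ∃ x₀ : G, orderOf x₀ = p := exists_of_cnt_pos (by rw [hcnt]; omega)
  obtain ⟨r, hr1, hr2⟩ := cnt_prime_dvd_index hQ hp N hN hNc x₀ hx₀
  rw [hcnt, hidx] at hr2
  have hr : r = 1 := by
    have hpos : 0 < p - 1 := by omega
    have : (p - 1) * r = (p - 1) * 1 := by rw [hr2, mul_one]
    exact Nat.eq_of_mul_eq_mul_left hpos this
  rw [hr, mul_one] at hr1
  have hx₀N : x₀ ∈ N := by rw [hN, ← hx₀]; exact pow_orderOf_eq_one _
  have hle : N ≤ centralizer ({x₀} : Set G) := by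
    intro a ha
    rw [mem_centralizer_iff]
    intro y hy
    rw [Set.mem_singleton_iff.mp hy]
    exact hNc _ hx₀N _ ha
  have hCN : N = centralizer ({x₀} : Set G) := Subgroup.eq_of_le_of_card_ge hle hr1.le
  have hz : zpowers x₀ = N := by
    apply Subgroup.eq_of_le_of_card_ge
    · rw [zpowers_le]; exact hx₀N
    · rw [Nat.card_zpowers, hx₀, hcard]
  have hcomm := comm_quotient_of_centralizer_le N x₀ hx₀N (fun y hy => by rw [hz]; exact hy)
    hCN.ge
  have h2 := card_le_two_of_comm (Q_quotient hQ hp N hN) hcomm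
  rw [← Subgroup.index_eq_card, hidx] at h2
  omega

theorem card_perm_fin_three : Nat.card (Equiv.Perm (Fin 3)) = 6 := by
  rw [Nat.card_eq_fintype_card, Fintype.card_perm, Fintype.card_fin]; rfl

theorem main_aux : ∀ (n : ℕ) (G : Type u) [Group G] [Finite G] [Group.IsSolvable G], Q G →
    Nat.card G = n → n = 1 ∨ n = 2 ∨ Nonempty (G ≃* Equiv.Perm (Fin 3)) := by
  intro n
  induction n using Nat.strong_induction_on with
  | _ n ih =>
    intro G _ _ _ hQ hn
    by_cases hnt : Nontrivial G
    · obtain ⟨p, N, hp, hNn, hNne, hN, hNc⟩ := exists_normal_omega hQ hnt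
      have hQq := Q_quotient hQ hp N hN
      have hk : 1 < Nat.card N := (Subgroup.one_lt_card_iff_ne_bot N).mpr hNne
      have hmul := Subgroup.card_mul_index N
      rw [hn] at hmul
      have hidx : N.index = Nat.card (G ⧸ N) := Subgroup.index_eq_card N
      have hipos : 0 < N.index := Nat.pos_of_ne_zero (Subgroup.index_ne_zero_of_finite)
      have hlt : Nat.card (G ⧸ N) < n := by
        rw [← hidx, ← hmul]
        nlinarith
      have IH := ih _ hlt (G ⧸ N) hQq rfl
      have hcnt := cnt_prime_eq hp N hN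
      obtain ⟨x₀, hx₀⟩ : ∃ x₀ : G, orderOf x₀ = p := exists_of_cnt_pos (by rw [hcnt]; omega)
      obtain ⟨r, hr1, hr2⟩ := cnt_prime_dvd_index hQ hp N hN hNc x₀ hx₀
      have hx₀N : x₀ ∈ N := by rw [hN, ← hx₀]; exact pow_orderOf_eq_one _
      have hpN : p ∣ Nat.card N := by
        have h1 : orderOf (⟨x₀, hx₀N⟩ : N) = p := by
          rw [← Subgroup.orderOf_coe]; exact hx₀
        rw [← h1]
        exact orderOf_dvd_natCard _
      rw [hcnt] at hr2
      -- the index is 1, 2 or 6
      have hi126 : N.index = 1 ∨ N.index = 2 ∨ N.index = 6 := by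
        rcases IH with h1 | h1 | ⟨⟨e⟩⟩
        · left; rw [hidx]; exact h1
        · right; left; rw [hidx]; exact h1
        · right; right
          rw [hidx, Nat.card_congr e.toEquiv]
          exact card_perm_fin_three
      obtain ⟨k, hkdef⟩ : ∃ k, k = Nat.card N := ⟨_, rfl⟩
      rw [← hkdef] at hk hmul hpN hr2 hcnt
      rcases hi126 with h1 | h1 | h1
      · -- index 1
        rw [h1] at hr2 hmul
        have hk2 : k = 2 := by
          have : k - 1 = 1 := Nat.eq_one_of_mul_eq_one_right hr2
          omega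
        right; left
        omega
      · -- index 2
        rw [h1] at hr2 hmul
        have hd : k - 1 ∣ 2 := ⟨r, hr2.symm⟩
        have hle := Nat.le_of_dvd (by norm_num) hd
        have hk23 : k = 2 ∨ k = 3 := by omega
        rcases hk23 with hk2 | hk3
        · exfalso
          have hp2 : p = 2 := by
            rw [hk2] at hpN
            exact (Nat.prime_dvd_prime_iff_eq hp Nat.prime_two).mp hpN
          rw [hp2, hk2] at hcnt
          exact no_4 hQ (by omega) hcnt
        · have hp3 : p = 3 := by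
            rw [hk3] at hpN
            exact (Nat.prime_dvd_prime_iff_eq hp Nat.prime_three).mp hpN
          rw [hp3, hk3] at hcnt
          right; right
          exact s3_of_6 hQ (by omega) hcnt
      · -- index 6
        exfalso
        rw [h1] at hr2 hmul
        have hd : k - 1 ∣ 6 := ⟨r, hr2.symm⟩
        have hle := Nat.le_of_dvd (by norm_num) hd
        have hk2347 : k = 2 ∨ k = 3 ∨ k = 4 ∨ k = 7 := by
          have h7 : k - 1 ≤ 6 := hle
          have : k - 1 = 1 ∨ k - 1 = 2 ∨ k - 1 = 3 ∨ k - 1 = 6 := by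
            have h8 : k - 1 ∈ Nat.divisors 6 := Nat.mem_divisors.mpr ⟨hd, by norm_num⟩
            rw [show Nat.divisors 6 = {1, 2, 3, 6} from by decide] at h8
            simpa using h8
          omega
        rcases hk2347 with hk2 | hk3 | hk4 | hk7
        · have hp2 : p = 2 := by
            rw [hk2] at hpN
            exact (Nat.prime_dvd_prime_iff_eq hp Nat.prime_two).mp hpN
          rw [hp2, hk2] at hcnt
          exact no_12 hQ (by omega) hcnt
        · have hp3 : p = 3 := by
            rw [hk3] at hpN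
            exact (Nat.prime_dvd_prime_iff_eq hp Nat.prime_three).mp hpN
          rw [hp3, hk3] at hcnt
          exact no_18 hQ (by omega) hcnt
        · have hp2 : p = 2 := by
            rw [hk4] at hpN
            have h4 : p ∣ 2 ^ 2 := by norm_num; exact hpN
            exact (Nat.prime_dvd_prime_iff_eq hp Nat.prime_two).mp (hp.dvd_of_dvd_pow h4)
          rw [hp2, hk4] at hcnt
          exact no_24 hQ (by omega) hcnt
        · have hp7 : p = 7 := by
            rw [hk7] at hpN
            exact (Nat.prime_dvd_prime_iff_eq hp (by norm_num)).mp hpN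
          exact no_prime_normal hQ hp N hN hNc (by rw [← hkdef, hk7, hp7]) (by rw [h1, hp7])
            (by rw [hp7]; norm_num)
    · rw [not_nontrivial_iff_subsingleton] at hnt
      left
      rw [← hn]
      exact Nat.card_of_subsingleton (1 : G)

theorem main (G : Type u) [Group G] [Finite G] [Group.IsSolvable G] (hQ : Q G) :
    Nat.card G = 1 ∨ Nat.card G = 2 ∨ Nonempty (G ≃* Equiv.Perm (Fin 3)) :=
  main_aux (Nat.card G) G hQ rfl

end Cfsg.Agent.Helper61.SameOrderConj
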