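import Mathlib

/-!
# Abstract Tutte regularity (group-theoretic form)

`M` a subgroup of a finite group `G`, `y : G`.  `Mc i = y^i M y^-i`, `Sg i j = ⋂_{i ≤ k ≤ j} Mc k`.
If `M` is a core-free coatom, `|M| = 3 |Sg 0 1|` and `|Sg 0 1| = 2 |Sg 0 2|`, then there is `s ≥ 2`
with `|Sg i (i+n)| = 2^(s-n)` for `1 ≤ n ≤ s` and `|M| = 3 * 2^(s-1)`.
-/

set_option autoImplicit false

namespace Cfsg.Agent.Helper61.TutteBase

variable {G : Type*} [Group G]

/-- `cj g H = g H g⁻¹`. -/
def cj (g : G) (H : Subgroup G) : Subgroup G := H.map (MulAut.conj g).toMonoidHom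

theorem mem_cj {g a : G} {H : Subgroup G} : a ∈ cj g H ↔ g⁻¹ * a * g ∈ H := by
  unfold cj
  constructor
  · rintro ⟨b, hb, rfl⟩
    have : g⁻¹ * ((MulAut.conj g).toMonoidHom b) * g = b := by
      simp [MulAut.conj_apply, mul_assoc]
    rw [this]; exact hb
  · intro h
    refine ⟨g⁻¹ * a * g, h, ?_⟩
    simp [MulAut.conj_apply, mul_assoc]

theorem conj_mem_cj {g a : G} {H : Subgroup G} (h : a ∈ H) : g * a * g⁻¹ ∈ cj g H := by
  rw [mem_cj]
  have : g⁻¹ * (g * a * g⁻¹) * g = a := by group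
  rw [this]; exact h

theorem cj_one (H : Subgroup G) : cj 1 H = H := by
  ext a; rw [mem_cj]; simp

theorem cj_mul (g h : G) (H : Subgroup G) : cj (g * h) H = cj g (cj h H) := by
  ext a
  rw [mem_cj, mem_cj, mem_cj]
  have : (g * h)⁻¹ * a * (g * h) = h⁻¹ * (g⁻¹ * a * g) * h := by group
  rw [this]

theorem cj_mono {g : G} {H K : Subgroup G} (h : H ≤ K) : cj g H ≤ cj g K := by
  intro a ha
  rw [mem_cj] at ha ⊢
  exact h ha

theorem cj_le_iff {g : G} {H K : Subgroup G} : cj g H ≤ cj g K ↔ H ≤ K := by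
  constructor
  · intro h a ha
    have := h (conj_mem_cj (g := g) ha)
    rw [mem_cj] at this
    have e : g⁻¹ * (g * a * g⁻¹) * g = a := by group
    rwa [e] at this
  · exact cj_mono

theorem cj_inf (g : G) (H K : Subgroup G) : cj g (H ⊓ K) = cj g H ⊓ cj g K := by
  ext a
  simp only [mem_cj, Subgroup.mem_inf]

theorem cj_inv_cj (g : G) (H : Subgroup G) : cj g⁻¹ (cj g H) = H := by
  rw [← cj_mul, inv_mul_cancel, cj_one]

theorem cj_cj_inv (g : G) (H : Subgroup G) : cj g (cj g⁻¹ H) = H := by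
  rw [← cj_mul, mul_inv_cancel, cj_one]

theorem card_cj (g : G) (H : Subgroup G) : Nat.card (cj g H) = Nat.card H := by
  unfold cj
  exact Subgroup.card_map_of_injective (MulAut.conj g).injective

theorem cj_bot (g : G) : cj g (⊥ : Subgroup G) = ⊥ := by
  ext a
  rw [mem_cj, Subgroup.mem_bot, Subgroup.mem_bot]
  constructor
  · intro h
    have : a = g * (g⁻¹ * a * g) * g⁻¹ := by group
    rw [this, h]; group
  · intro h; rw [h]; group

theorem cj_eq_of_mem {g : G} {H : Subgroup G} (hg : g ∈ H) : cj g H = H := by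
  ext a
  rw [mem_cj]
  constructor
  · intro h
    have : a = g * (g⁻¹ * a * g) * g⁻¹ := by group
    rw [this]
    exact H.mul_mem (H.mul_mem hg h) (H.inv_mem hg)
  · intro h
    exact H.mul_mem (H.mul_mem (H.inv_mem hg) h) hg

/-- `g` normalizes `H` in the sense `cj g H = H`, membership form. -/
theorem cj_eq_iff_mem_normalizer {g : G} {H : Subgroup G} :
    g ∈ Subgroup.normalizer (H : Set G) ↔ cj g H = H := by
  rw [Subgroup.mem_normalizer_iff]
  constructor
  · intro h
    ext a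
    rw [mem_cj]
    have := h (g⁻¹ * a * g)
    rw [this]
    have e : g * (g⁻¹ * a * g) * g⁻¹ = a := by group
    rw [e]
  · intro h a
    constructor
    · intro ha
      have := conj_mem_cj (g := g) ha
      rwa [h] at this
    · intro ha
      rw [← h, mem_cj] at ha
      have e : g⁻¹ * (g * a * g⁻¹) * g = a := by group
      rwa [e] at ha

variable (M : Subgroup G) (y : G)

/-- `Mc i = y^i M y^-i`. -/
def Mc (i : ℤ) : Subgroup G := cj (y ^ i) M

/-- `Sg i j = ⋂_{i ≤ k ≤ j} Mc k`. -/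
def Sg (i j : ℤ) : Subgroup G := ⨅ k : ℤ, ⨅ (_ : i ≤ k ∧ k ≤ j), Mc M y k

variable {M y}

theorem mem_Sg {i j : ℤ} {a : G} : a ∈ Sg M y i j ↔ ∀ k, i ≤ k → k ≤ j → a ∈ Mc M y k := by
  unfold Sg
  simp only [Subgroup.mem_iInf]
  constructor
  · intro h k h1 h2; exact h k ⟨h1, h2⟩
  · intro h k hk; exact h k hk.1 hk.2

theorem Mc_zero : Mc M y 0 = M := by
  unfold Mc; rw [zpow_zero, cj_one]

theorem cj_Mc (k i : ℤ) : cj (y ^ k) (Mc M y i) = Mc M y (i + k) := by
  unfold Mc
  rw [← cj_mul, ← zpow_add, add_comm]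

theorem Sg_self (i : ℤ) : Sg M y i i = Mc M y i := by
  ext a
  rw [mem_Sg]
  constructor
  · intro h; exact h i le_rfl le_rfl
  · intro h k h1 h2
    have : k = i := le_antisymm h2 h1
    rw [this]; exact h

theorem Sg_le {i j i' j' : ℤ} (h1 : i' ≤ i) (h2 : j ≤ j') : Sg M y i' j' ≤ Sg M y i j := by
  intro a ha
  rw [mem_Sg] at ha ⊢
  intro k hk1 hk2
  exact ha k (h1.trans hk1) (hk2.trans h2)

theorem Sg_le_Mc {i j k : ℤ} (h1 : i ≤ k) (h2 : k ≤ j) : Sg M y i j ≤ Mc M y k := by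
  intro a ha
  rw [mem_Sg] at ha
  exact ha k h1 h2

theorem Sg_inf_Sg {i j i' j' : ℤ} (h1 : i ≤ i') (h2 : i' ≤ j + 1) (h3 : j ≤ j') :
    Sg M y i j ⊓ Sg M y i' j' = Sg M y i j' := by
  ext a
  rw [Subgroup.mem_inf, mem_Sg, mem_Sg, mem_Sg]
  constructor
  · rintro ⟨ha, hb⟩ k hk1 hk2
    by_cases hkj : k ≤ j
    · exact ha k hk1 hkj
    · exact hb k (by omega) hk2
  · intro h
    exact ⟨fun k hk1 hk2 => h k hk1 (hk2.trans h3), fun k hk1 hk2 => h k (h1.trans hk1) hk2⟩

theorem cj_Sg (k i j : ℤ) : cj (y ^ k) (Sg M y i j) = Sg M y (i + k) (j + k) := by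
  ext a
  rw [mem_cj, mem_Sg, mem_Sg]
  constructor
  · intro h m hm1 hm2
    have := h (m - k) (by omega) (by omega)
    have e : Mc M y m = cj (y ^ k) (Mc M y (m - k)) := by
      rw [cj_Mc]; congr 1; omega
    rw [e, mem_cj]; exact this
  · intro h m hm1 hm2
    have := h (m + k) (by omega) (by omega)
    rw [← cj_Mc, mem_cj] at this
    exact this

theorem card_Sg_shift (k i j : ℤ) : Nat.card (Sg M y (i + k) (j + k)) = Nat.card (Sg M y i j) := by
  rw [← cj_Sg, card_cj]

theorem card_Mc (i : ℤ) : Nat.card (Mc M y i) = Nat.card M := by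
  unfold Mc; rw [card_cj]


/-! ### Cardinality helpers -/

theorem card_eq_relIndex_mul {H K : Subgroup G} (h : H ≤ K) :
    Nat.card K = H.relIndex K * Nat.card H := by
  have := Subgroup.relIndex_mul_relIndex (⊥ : Subgroup G) H K bot_le h
  rw [Subgroup.relIndex_bot_left, Subgroup.relIndex_bot_left] at this
  rw [← this, mul_comm]

/-- `|A| * |B'| ≤ |A ⊓ B'| * |B|` for `A, B' ≤ B` in a finite group. -/
theorem card_mul_le [Finite G] {A B' B : Subgroup G} (hA : A ≤ B) (hB' : B' ≤ B) :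
    Nat.card A * Nat.card B' ≤ Nat.card ↥(A ⊓ B') * Nat.card B := by
  have h1 : Nat.card A = B'.relIndex A * Nat.card ↥(A ⊓ B') := by
    have := card_eq_relIndex_mul (H := A ⊓ B') (K := A) inf_le_left
    rw [this, inf_comm, Subgroup.inf_relIndex_right]
  have h2 : Nat.card B = B'.relIndex B * Nat.card B' := card_eq_relIndex_mul hB'
  have h3 : B'.relIndex A ≤ B'.relIndex B := by
    apply Subgroup.relIndex_le_of_le_right hA
    intro h0
    rw [h0, zero_mul] at h2
    exact (Nat.card_pos (α := B)).ne' h2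
  rw [h1, h2]
  calc B'.relIndex A * Nat.card ↥(A ⊓ B') * Nat.card B'
      ≤ B'.relIndex B * Nat.card ↥(A ⊓ B') * Nat.card B' := by gcongr
    _ = Nat.card ↥(A ⊓ B') * (B'.relIndex B * Nat.card B') := by ring

/-- A subgroup squeezed strictly above `A` inside `B` with `|B| = p |A|`, `p` prime, equals `B`. -/
theorem eq_of_prime_index [Finite G] {A E B : Subgroup G} {p : ℕ} (hp : p.Prime)
    (hAE : A ≤ E) (hEB : E ≤ B) (hne : ¬ E ≤ A) (hcard : Nat.card B = p * Nat.card A) : E = B := by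
  have h1 : Nat.card E = A.relIndex E * Nat.card A := card_eq_relIndex_mul hAE
  have h2 : Nat.card B = E.relIndex B * Nat.card E := card_eq_relIndex_mul hEB
  have hApos : 0 < Nat.card A := Nat.card_pos
  have h3 : p = E.relIndex B * A.relIndex E := by
    have : p * Nat.card A = E.relIndex B * A.relIndex E * Nat.card A := by
      rw [← hcard, h2, h1]; ring
    exact Nat.eq_of_mul_eq_mul_right hApos this
  have h4 : A.relIndex E ≠ 1 := by
    intro h
    exact hne (Subgroup.relIndex_eq_one.mp h)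
  have h5 : E.relIndex B = 1 := by
    rcases (Nat.dvd_prime hp).mp ⟨_, h3⟩ with h | h
    · exact h
    · exfalso
      rw [h] at h3
      have : A.relIndex E = 1 := by
        have hp0 := hp.pos
        nlinarith [Nat.eq_of_mul_eq_mul_left hp0 (by rw [mul_one]; exact h3 : p * 1 = p * A.relIndex E)]
      exact h4 this
  exact le_antisymm hEB (Subgroup.relIndex_eq_one.mp h5)

/-! ### Regularity -/

section Reg

variable [Finite G]

/-- index of consecutive stabilizers is at most two -/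
theorem card_Sg_succ_le (h2 : Nat.card (Sg M y 0 1) = 2 * Nat.card (Sg M y 0 2)) (n : ℕ)
    (hn : 1 ≤ n) :
    Nat.card (Sg M y 0 n) ≤ 2 * Nat.card (Sg M y 0 (n + 1)) := by
  have e : Sg M y 0 (n + 1) = Sg M y 0 n ⊓ Sg M y (n - 1) (n + 1) := by
    rw [Sg_inf_Sg (by omega) (by omega) (by omega)]
  have hA : Sg M y 0 n ≤ Sg M y (n - 1) n := Sg_le (by omega) le_rfl
  have hB' : Sg M y (n - 1) (n + 1) ≤ Sg M y (n - 1) n := Sg_le le_rfl (by omega)
  have hc1 : Nat.card (Sg M y ((n:ℤ) - 1) n) = Nat.card (Sg M y 0 1) := by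
    have := card_Sg_shift (M := M) (y := y) ((n:ℤ) - 1) 0 1
    have e1 : (0:ℤ) + ((n:ℤ) - 1) = (n:ℤ) - 1 := by ring
    have e2 : (1:ℤ) + ((n:ℤ) - 1) = n := by ring
    rw [e1, e2] at this; exact this
  have hc2 : Nat.card (Sg M y ((n:ℤ) - 1) (n + 1)) = Nat.card (Sg M y 0 2) := by
    have := card_Sg_shift (M := M) (y := y) ((n:ℤ) - 1) 0 2
    have e1 : (0:ℤ) + ((n:ℤ) - 1) = (n:ℤ) - 1 := by ring
    have e2 : (2:ℤ) + ((n:ℤ) - 1) = n + 1 := by ring
    rw [e1, e2] at this; exact this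
  have := card_mul_le hA hB'
  rw [← e, hc1, hc2, h2] at this
  have hpos : 0 < Nat.card (Sg M y 0 2) := Nat.card_pos
  nlinarith


omit [Finite G] in
theorem Sg_succ_le (n : ℕ) : Sg M y 0 ((n:ℤ) + 1) ≤ Sg M y 0 n := Sg_le le_rfl (by omega)

theorem card_Sg_lt {n : ℕ} (h : Sg M y 0 (n:ℤ) ≠ Sg M y 0 ((n:ℤ) + 1)) :
    Nat.card (Sg M y 0 ((n:ℤ) + 1)) < Nat.card (Sg M y 0 n) := by
  rcases lt_or_eq_of_le (Subgroup.card_le_of_le (Sg_succ_le (M := M) (y := y) n)) with h' | h'
  · exact h'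
  · exfalso
    exact h (Subgroup.eq_of_le_of_card_ge (Sg_succ_le n) h'.ge).symm

theorem exists_stable :
    ∃ n : ℕ, 1 ≤ n ∧ Sg M y 0 (n:ℤ) = Sg M y 0 ((n:ℤ) + 1) := by
  by_contra hcon
  push Not at hcon
  have key : ∀ n : ℕ, Nat.card (Sg M y 0 (((n + 1 : ℕ) : ℤ))) + n ≤ Nat.card (Sg M y 0 ((1:ℕ):ℤ)) := by
    intro n
    induction n with
    | zero => simp
    | succ n ih =>
      have h := card_Sg_lt (M := M) (y := y) (n := n + 1) (hcon (n + 1) (by omega))
      have e : (((n + 1 : ℕ) : ℤ) + 1) = ((n + 1 + 1 : ℕ) : ℤ) := by push_cast; ring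
      rw [e] at h
      omega
  have := key (Nat.card (Sg M y 0 ((1:ℕ):ℤ)))
  have hpos : 0 < Nat.card (Sg M y 0 (((Nat.card (Sg M y 0 ((1:ℕ):ℤ)) + 1 : ℕ) : ℤ))) := Nat.card_pos
  omega

theorem normalizes_of_card_two_mul {U X : Subgroup G} (hUX : U ≤ X)
    (hc : Nat.card X = 2 * Nat.card U) : X ≤ Subgroup.normalizer (U : Set G) := by
  have h1 : Nat.card X = U.relIndex X * Nat.card U := card_eq_relIndex_mul hUX
  have hpos : 0 < Nat.card U := Nat.card_pos
  have h2 : U.relIndex X = 2 := by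
    have : U.relIndex X * Nat.card U = 2 * Nat.card U := by rw [← h1, hc]
    exact Nat.eq_of_mul_eq_mul_right hpos this
  have h3 : (U.subgroupOf X).Normal := Subgroup.normal_of_index_eq_two h2
  exact (Subgroup.normal_subgroupOf_iff_le_normalizer hUX).mp h3

theorem regularity (hM : IsCoatom M)
    (hcore : ∀ H : Subgroup G, H.Normal → H ≤ M → H = ⊥)
    (h1 : Nat.card M = 3 * Nat.card (Sg M y 0 1))
    (h2 : Nat.card (Sg M y 0 1) = 2 * Nat.card (Sg M y 0 2)) :
    ∃ s : ℕ, 2 ≤ s ∧ Nat.card M = 3 * 2 ^ (s - 1) ∧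
      ∀ n : ℕ, 1 ≤ n → n ≤ s → ∀ i : ℤ, Nat.card (Sg M y i (i + n)) = 2 ^ (s - n) := by
  classical
  have hex := exists_stable (M := M) (y := y)
  set s := Nat.find hex with hs_def
  have hs1 : 1 ≤ s := (Nat.find_spec hex).1
  have hsE : Sg M y 0 (s:ℤ) = Sg M y 0 ((s:ℤ) + 1) := (Nat.find_spec hex).2
  have hmin : ∀ m : ℕ, 1 ≤ m → m < s → Sg M y 0 (m:ℤ) ≠ Sg M y 0 ((m:ℤ) + 1) := by
    intro m hm1 hms heq
    exact Nat.find_min hex hms ⟨hm1, heq⟩
  have hpos2 : 0 < Nat.card (Sg M y 0 2) := Nat.card_pos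
  -- s ≥ 2
  have hs2 : 2 ≤ s := by
    by_contra hlt
    have hs : s = 1 := by omega
    rw [hs] at hsE
    have e : ((1:ℕ):ℤ) + 1 = 2 := by norm_num
    have e' : ((1:ℕ):ℤ) = 1 := by norm_num
    rw [e, e'] at hsE
    rw [hsE] at h2
    omega
  -- index exactly two below s
  have hidx : ∀ m : ℕ, 1 ≤ m → m < s →
      Nat.card (Sg M y 0 (m:ℤ)) = 2 * Nat.card (Sg M y 0 ((m:ℤ) + 1)) := by
    intro m hm1 hms
    have hle := card_Sg_succ_le (M := M) (y := y) h2 m hm1
    have hlt := card_Sg_lt (hmin m hm1 hms)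
    have hdvd : Nat.card (Sg M y 0 ((m:ℤ) + 1)) ∣ Nat.card (Sg M y 0 (m:ℤ)) :=
      Subgroup.card_dvd_of_le (Sg_succ_le m)
    obtain ⟨r, hr⟩ := hdvd
    have hpos : 0 < Nat.card (Sg M y 0 ((m:ℤ) + 1)) := Nat.card_pos
    have hr2 : r = 2 := by
      have h3 : r ≤ 2 := by
        by_contra hgt
        push Not at hgt
        have : Nat.card (Sg M y 0 ((m:ℤ) + 1)) * 3 ≤ Nat.card (Sg M y 0 ((m:ℤ) + 1)) * r :=
          Nat.mul_le_mul_left _ hgt
        omega
      have h4 : 2 ≤ r := by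
        by_contra hlt2
        push Not at hlt2
        have : Nat.card (Sg M y 0 ((m:ℤ) + 1)) * r ≤ Nat.card (Sg M y 0 ((m:ℤ) + 1)) * 1 :=
          Nat.mul_le_mul_left _ (by omega)
        omega
      omega
    rw [hr, hr2]; ring
  -- U is normalized by y
  set U := Sg M y 0 (s:ℤ) with hU
  have hUy : cj y U = U := by
    have e1 : cj y U = Sg M y 1 ((s:ℤ) + 1) := by
      have := cj_Sg (M := M) (y := y) 1 0 (s:ℤ)
      rw [zpow_one, zero_add] at this
      exact this
    have e2 : U ⊓ cj y U = Sg M y 0 ((s:ℤ) + 1) := by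
      rw [e1, hU, Sg_inf_Sg (by omega) (by omega) (by omega)]
    have hle : U ≤ cj y U := by
      have : U ⊓ cj y U = U := by rw [e2, ← hsE]
      exact inf_eq_left.mp this
    exact (Subgroup.eq_of_le_of_card_ge hle (by rw [card_cj])).symm
  have hyN : y ∈ Subgroup.normalizer (U : Set G) := cj_eq_iff_mem_normalizer.mpr hUy
  set H := Subgroup.normalizer (U : Set G) with hH
  have hUyk : ∀ k : ℤ, cj (y ^ k) U = U := fun k =>
    cj_eq_iff_mem_normalizer.mp (H.zpow_mem hyN k)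
  -- X (s-1) ≤ H
  have hXs1 : Sg M y 0 (((s - 1 : ℕ)) : ℤ) ≤ H := by
    apply normalizes_of_card_two_mul
    · rw [hU]; exact Sg_le le_rfl (by omega)
    · have := hidx (s - 1) (by omega) (by omega)
      have e : (((s - 1 : ℕ)) : ℤ) + 1 = (s:ℤ) := by omega
      rw [e] at this
      exact this
  -- chain
  have hchain : ∀ k : ℕ, k ≤ s - 1 → Sg M y 0 (((s - 1 - k : ℕ)) : ℤ) ≤ H := by
    intro k
    induction k with
    | zero => intro _; simpa using hXs1
    | succ k ih =>
      intro hk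
      have ihk := ih (by omega)
      set m := s - 1 - (k + 1) with hm
      have hm1 : s - 1 - k = m + 1 := by omega
      rw [hm1] at ihk
      -- A := cj (y^(-(k+1))) (X (s-1))
      set A := cj (y ^ (-((k:ℤ) + 1))) (Sg M y 0 (((s - 1 : ℕ)) : ℤ)) with hA
      have hAeq : A = Sg M y (-((k:ℤ) + 1)) (m:ℤ) := by
        rw [hA, cj_Sg]
        congr 1 <;> omega
      have hAH : A ≤ H := by
        intro a ha
        rw [hA, mem_cj] at ha
        have h3 := hXs1 ha
        have hyk : y ^ (-((k:ℤ) + 1)) ∈ H := H.zpow_mem hyN _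
        have : a = y ^ (-((k:ℤ) + 1)) * ((y ^ (-((k:ℤ) + 1)))⁻¹ * a * y ^ (-((k:ℤ) + 1))) *
            (y ^ (-((k:ℤ) + 1)))⁻¹ := by group
        rw [this]
        exact H.mul_mem (H.mul_mem hyk h3) (H.inv_mem hyk)
      have hAX : A ≤ Sg M y 0 (m:ℤ) := by
        rw [hAeq]; exact Sg_le (by omega) le_rfl
      have hAnot : ¬ A ≤ Sg M y 0 (((m + 1 : ℕ)) : ℤ) := by
        intro hle
        have h4 : A ≤ Sg M y (-((k:ℤ) + 1)) (m:ℤ) ⊓ Sg M y 0 (((m + 1 : ℕ)) : ℤ) :=
          le_inf (hAeq ▸ le_rfl) hle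
        rw [Sg_inf_Sg (by omega) (by omega) (by push_cast; omega)] at h4
        have h5 : Sg M y (-((k:ℤ) + 1)) (((m + 1 : ℕ)) : ℤ) = cj (y ^ (-((k:ℤ) + 1))) U := by
          rw [hU, cj_Sg]
          congr 1 <;> push_cast <;> omega
        rw [h5, hUyk] at h4
        have h6 := Subgroup.card_le_of_le h4
        rw [hA, card_cj] at h6
        have h7 := hidx (s - 1) (by omega) (by omega)
        have e : (((s - 1 : ℕ)) : ℤ) + 1 = (s:ℤ) := by omega
        rw [e] at h7
        have hposU : 0 < Nat.card U := Nat.card_pos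
        rw [← hU] at h7
        omega
      -- prime index
      have hprime : ∃ p : ℕ, p.Prime ∧
          Nat.card (Sg M y 0 (m:ℤ)) = p * Nat.card (Sg M y 0 (((m + 1 : ℕ)) : ℤ)) := by
        by_cases hm0 : m = 0
        · refine ⟨3, by norm_num, ?_⟩
          rw [hm0]
          have e0 : Sg M y 0 ((0:ℕ):ℤ) = M := by
            have : ((0:ℕ):ℤ) = 0 := by norm_num
            rw [this, Sg_self, Mc_zero]
          have e1 : (((0 + 1 : ℕ)) : ℤ) = 1 := by norm_num
          rw [e0, e1]; exact h1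
        · refine ⟨2, by norm_num, ?_⟩
          have := hidx m (by omega) (by omega)
          have e : (m:ℤ) + 1 = (((m + 1 : ℕ)) : ℤ) := by push_cast; ring
          rw [e] at this
          exact this
      obtain ⟨p, hp, hpc⟩ := hprime
      have hE : Sg M y 0 (((m + 1 : ℕ)) : ℤ) ⊔ A = Sg M y 0 (m:ℤ) := by
        apply eq_of_prime_index hp le_sup_left
          (sup_le (Sg_le le_rfl (by push_cast; omega)) hAX) ?_ hpc
        intro hle
        exact hAnot (le_sup_right.trans hle)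
      rw [← hE]
      exact sup_le ihk hAH
  -- M ≤ H
  have hMH : M ≤ H := by
    have := hchain (s - 1) le_rfl
    have e : (((s - 1 - (s - 1) : ℕ)) : ℤ) = 0 := by
      have : s - 1 - (s - 1) = 0 := by omega
      rw [this]; norm_num
    rw [e, Sg_self, Mc_zero] at this
    exact this
  have hyM : y ∉ M := by
    intro hy
    have e : Sg M y 0 1 = M := by
      apply le_antisymm
      · have := Sg_le_Mc (M := M) (y := y) (i := 0) (j := 1) (k := 0) le_rfl (by norm_num)
        rwa [Mc_zero] at this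
      · intro a ha
        rw [mem_Sg]
        intro k hk0 hk1
        have : k = 0 ∨ k = 1 := by omega
        rcases this with rfl | rfl
        · rwa [Mc_zero]
        · unfold Mc
          rw [zpow_one, cj_eq_of_mem hy]; exact ha
    rw [e] at h1
    have : 0 < Nat.card M := Nat.card_pos
    omega
  have hHtop : H = ⊤ := by
    apply hM.2 H
    refine lt_of_le_of_ne hMH ?_
    intro heq
    exact hyM (heq ▸ hyN)
  have hUn : U.Normal := Subgroup.normalizer_eq_top_iff.mp hHtop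
  have hUM : U ≤ M := by
    have := Sg_le_Mc (M := M) (y := y) (i := 0) (j := (s:ℤ)) (k := 0) le_rfl (by omega)
    rwa [Mc_zero] at this
  have hUbot : U = ⊥ := hcore U hUn hUM
  -- cardinalities
  have hcards : ∀ k : ℕ, k ≤ s - 1 → Nat.card (Sg M y 0 (((s - k : ℕ)) : ℤ)) = 2 ^ k := by
    intro k
    induction k with
    | zero =>
      intro _
      have : Sg M y 0 (((s - 0 : ℕ)) : ℤ) = U := by rw [Nat.sub_zero]
      rw [this, hUbot]; simp
    | succ k ih =>
      intro hk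
      have := hidx (s - (k + 1)) (by omega) (by omega)
      have e : (((s - (k + 1) : ℕ)) : ℤ) + 1 = (((s - k : ℕ)) : ℤ) := by omega
      rw [e, ih (by omega)] at this
      rw [this, pow_succ]; ring
  refine ⟨s, hs2, ?_, ?_⟩
  · have := hcards (s - 1) le_rfl
    have e : (((s - (s - 1) : ℕ)) : ℤ) = 1 := by
      have : s - (s - 1) = 1 := by omega
      rw [this]; norm_num
    rw [e] at this
    rw [h1, this]
  · intro n hn1 hns i
    have := hcards (s - n) (by omega)
    have e : s - (s - n) = n := by omega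
    rw [e] at this
    have h3 := card_Sg_shift (M := M) (y := y) i 0 (n:ℤ)
    have e1 : (0:ℤ) + i = i := by ring
    have e2 : (n:ℤ) + i = i + n := by ring
    rw [e1, e2] at h3
    rw [h3, this]

end Reg

end Cfsg.Agent.Helper61.TutteBase
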