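import Mathlib
import Cfsg.Agent.Lib.Helper61.TutteBase

/-!
# The involutions `x i` of an abstract regular chain and their windows
-/

set_option autoImplicit false
set_option linter.unusedSectionVars false

namespace Cfsg.Agent.Helper61.TutteX

open Cfsg.Agent.Helper61.TutteBase
open scoped commutatorElement

variable {G : Type*} [Group G]

/-- Regular chain data. -/
structure Reg (M : Subgroup G) (y : G) (s : ℕ) : Prop where
  coatom : IsCoatom M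
  core : ∀ H : Subgroup G, H.Normal → H ≤ M → H = ⊥
  hs : 2 ≤ s
  cardM : Nat.card M = 3 * 2 ^ (s - 1)
  cardS : ∀ n : ℕ, 1 ≤ n → n ≤ s → ∀ i : ℤ, Nat.card (Sg M y i (i + n)) = 2 ^ (s - n)

variable {M : Subgroup G} {y : G} {s : ℕ}

theorem Reg.Sg_bot (h : Reg M y s) {i j : ℤ} (hij : i + s ≤ j) : Sg M y i j = ⊥ := by
  have h1 : Sg M y i (i + s) = ⊥ := by
    have := h.cardS s (by have := h.hs; omega) le_rfl i
    rw [Nat.sub_self, pow_zero] at this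
    exact Subgroup.card_eq_one.mp this  
  exact le_bot_iff.mp (h1 ▸ Sg_le le_rfl hij)

theorem Reg.card_Sg (h : Reg M y s) {i j : ℤ} (n : ℕ) (hn1 : 1 ≤ n) (hns : n ≤ s)
    (hj : j = i + n) : Nat.card (Sg M y i j) = 2 ^ (s - n) := by
  rw [hj]; exact h.cardS n hn1 hns i

theorem Reg.card_Mc (h : Reg M y s) (i : ℤ) : Nat.card (Mc M y i) = 3 * 2 ^ (s - 1) := by
  rw [TutteBase.card_Mc, h.cardM]

theorem Reg.exists_x0 (h : Reg M y s) : ∃ x0 : G, x0 ∈ Sg M y 0 ((s:ℤ) - 1) ∧ x0 ≠ 1 := by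
  have hc : Nat.card (Sg M y 0 ((s:ℤ) - 1)) = 2 := by
    have := h.card_Sg (i := 0) (j := (s:ℤ) - 1) (s - 1) (by have := h.hs; omega) (by omega)
      (by have := h.hs; omega)
    rw [this]
    have : s - (s - 1) = 1 := by have := h.hs; omega
    rw [this]; norm_num
  by_contra hcon
  push Not at hcon
  have : Sg M y 0 ((s:ℤ) - 1) = ⊥ := by
    rw [eq_bot_iff]
    intro a ha
    rw [Subgroup.mem_bot]
    exact hcon a ha
  rw [this] at hc
  simp at hc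

section X

variable (y) in
/-- `x i = y^i x0 y^-i`. -/
def xx (x0 : G) (i : ℤ) : G := y ^ i * x0 * (y ^ i)⁻¹

variable {x0 : G}

theorem conj_xx (k i : ℤ) : y ^ k * xx y x0 i * (y ^ k)⁻¹ = xx y x0 (i + k) := by
  unfold xx
  rw [add_comm i k, zpow_add]
  group

theorem xx_zero : xx y x0 0 = x0 := by
  unfold xx; simp

theorem xx_mem (hx0 : x0 ∈ Sg M y 0 ((s:ℤ) - 1)) (i : ℤ) :
    xx y x0 i ∈ Sg M y i (i + (s:ℤ) - 1) := by
  have := conj_mem_cj (g := y ^ i) hx0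
  rw [cj_Sg] at this
  have e1 : (0:ℤ) + i = i := by ring
  have e2 : (s:ℤ) - 1 + i = i + (s:ℤ) - 1 := by ring
  rw [e1, e2] at this
  exact this

theorem xx_ne_one (hx01 : x0 ≠ 1) (i : ℤ) : xx y x0 i ≠ 1 := by
  intro h
  apply hx01
  unfold xx at h
  have : x0 = (y ^ i)⁻¹ * (y ^ i * x0 * (y ^ i)⁻¹) * y ^ i := by group
  rw [this, h]; group

variable [Finite G]

theorem Reg.card_two (h : Reg M y s) (i : ℤ) : Nat.card (Sg M y i (i + (s:ℤ) - 1)) = 2 := by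
  have := h.card_Sg (i := i) (j := i + (s:ℤ) - 1) (s - 1) (by have := h.hs; omega) (by omega)
      (by have := h.hs; omega)
  rw [this]
  have : s - (s - 1) = 1 := by have := h.hs; omega
  rw [this]; norm_num

theorem Reg.sq_of_mem (h : Reg M y s) {i : ℤ} {a : G} (ha : a ∈ Sg M y i (i + (s:ℤ) - 1)) :
    a * a = 1 := by
  have h2 := h.card_two i
  have : (⟨a, ha⟩ : Sg M y i (i + (s:ℤ) - 1)) ^ 2 = 1 := by
    rw [← h2]; exact pow_card_eq_one'
  have := congrArg Subtype.val this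
  simpa [pow_two] using this

theorem Reg.xx_sq (h : Reg M y s) (hx0 : x0 ∈ Sg M y 0 ((s:ℤ) - 1)) (i : ℤ) :
    xx y x0 i * xx y x0 i = 1 := h.sq_of_mem (xx_mem hx0 i)

theorem Reg.xx_inv (h : Reg M y s) (hx0 : x0 ∈ Sg M y 0 ((s:ℤ) - 1)) (i : ℤ) :
    (xx y x0 i)⁻¹ = xx y x0 i := by
  rw [inv_eq_iff_mul_eq_one]; exact h.xx_sq hx0 i

/-- elements of the window of order two -/
theorem Reg.eq_one_or_eq_xx (h : Reg M y s) (hx0 : x0 ∈ Sg M y 0 ((s:ℤ) - 1)) (hx01 : x0 ≠ 1)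
    {i : ℤ} {a : G} (ha : a ∈ Sg M y i (i + (s:ℤ) - 1)) : a = 1 ∨ a = xx y x0 i := by
  classical
  by_contra hcon
  push Not at hcon
  have h2 := h.card_two i
  have : Fintype (Sg M y i (i + (s:ℤ) - 1)) := Fintype.ofFinite _
  rw [Nat.card_eq_fintype_card] at h2
  have h3 : ({(1 : Sg M y i (i + (s:ℤ) - 1)), ⟨xx y x0 i, xx_mem hx0 i⟩, ⟨a, ha⟩} :
      Finset (Sg M y i (i + (s:ℤ) - 1))).card ≤ 2 := by
    rw [← h2]; exact Finset.card_le_univ _
  rw [Finset.card_insert_of_notMem, Finset.card_insert_of_notMem, Finset.card_singleton] at h3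
  · omega
  · simp only [Finset.mem_singleton]
    intro h4
    exact hcon.2 (congrArg Subtype.val h4).symm
  · simp only [Finset.mem_insert, Finset.mem_singleton, not_or]
    constructor
    · intro h4
      exact xx_ne_one hx01 i (congrArg Subtype.val h4).symm
    · intro h4
      exact hcon.1 (congrArg Subtype.val h4).symm

theorem Reg.xx_not_mem_pred (h : Reg M y s) (hx0 : x0 ∈ Sg M y 0 ((s:ℤ) - 1)) (hx01 : x0 ≠ 1)
    (j : ℤ) : xx y x0 j ∉ Mc M y (j - 1) := by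
  intro hm
  have h1 : xx y x0 j ∈ Sg M y (j - 1) (j + (s:ℤ) - 1) := by
    rw [mem_Sg]
    intro k hk1 hk2
    by_cases hk : k = j - 1
    · rw [hk]; exact hm
    · exact (mem_Sg.mp (xx_mem hx0 j)) k (by omega) hk2
  rw [h.Sg_bot (by omega), Subgroup.mem_bot] at h1
  exact xx_ne_one hx01 j h1

theorem Reg.xx_not_mem_succ (h : Reg M y s) (hx0 : x0 ∈ Sg M y 0 ((s:ℤ) - 1)) (hx01 : x0 ≠ 1)
    (i : ℤ) : xx y x0 i ∉ Mc M y (i + (s:ℤ)) := by
  intro hm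
  have h1 : xx y x0 i ∈ Sg M y i (i + (s:ℤ)) := by
    rw [mem_Sg]
    intro k hk1 hk2
    by_cases hk : k = i + (s:ℤ)
    · rw [hk]; exact hm
    · exact (mem_Sg.mp (xx_mem hx0 i)) k hk1 (by omega)
  rw [h.Sg_bot le_rfl, Subgroup.mem_bot] at h1
  exact xx_ne_one hx01 i h1


/-! ### Windows -/

variable (y) in
/-- `E i j = ⟨x_i, …, x_j⟩`. -/
def EE (x0 : G) (i j : ℤ) : Subgroup G :=
  Subgroup.closure {g | ∃ k : ℤ, i ≤ k ∧ k ≤ j ∧ g = xx y x0 k}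

omit [Finite G] in
theorem xx_mem_EE {i j k : ℤ} (h1 : i ≤ k) (h2 : k ≤ j) : xx y x0 k ∈ EE y x0 i j :=
  Subgroup.subset_closure ⟨k, h1, h2, rfl⟩

omit [Finite G] in
theorem EE_le {i j : ℤ} {H : Subgroup G} (h : ∀ k, i ≤ k → k ≤ j → xx y x0 k ∈ H) :
    EE y x0 i j ≤ H := by
  unfold EE
  rw [Subgroup.closure_le]
  rintro g ⟨k, h1, h2, rfl⟩
  exact h k h1 h2

omit [Finite G] in
theorem EE_mono {i j i' j' : ℤ} (h1 : i' ≤ i) (h2 : j ≤ j') : EE y x0 i j ≤ EE y x0 i' j' :=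
  EE_le fun k hk1 hk2 => xx_mem_EE (h1.trans hk1) (hk2.trans h2)

omit [Finite G] in
theorem EE_empty {i j : ℤ} (h : j < i) : EE y x0 i j = ⊥ := by
  rw [eq_bot_iff]
  apply EE_le
  intro k h1 h2
  omega

omit [Finite G] in
theorem EE_le_Sg (hx0 : x0 ∈ Sg M y 0 ((s:ℤ) - 1)) (i j : ℤ) :
    EE y x0 i j ≤ Sg M y j (i + (s:ℤ) - 1) := by
  apply EE_le
  intro k h1 h2
  exact Sg_le h2 (by omega) (xx_mem hx0 k)

omit [Finite G] in
/-- an element commuting with the generators commutes with the window -/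
theorem commute_of_mem_EE {i j : ℤ} {g a : G}
    (h : ∀ k, i ≤ k → k ≤ j → Commute g (xx y x0 k)) (ha : a ∈ EE y x0 i j) : Commute g a := by
  have : EE y x0 i j ≤ Subgroup.centralizer {g} := by
    apply EE_le
    intro k h1 h2
    rw [Subgroup.mem_centralizer_iff]
    intro b hb
    rw [Set.mem_singleton_iff] at hb
    rw [hb]
    exact (h k h1 h2).eq
  have := this ha
  rw [Subgroup.mem_centralizer_iff] at this
  exact (this g rfl)

theorem Reg.EE_eq_Sg (h : Reg M y s) (hx0 : x0 ∈ Sg M y 0 ((s:ℤ) - 1)) (hx01 : x0 ≠ 1) :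
    ∀ n : ℕ, n + 2 ≤ s → ∀ i : ℤ, EE y x0 i (i + n) = Sg M y (i + n) (i + (s:ℤ) - 1) := by
  intro n
  induction n with
  | zero =>
    intro _ i
    apply le_antisymm
    · exact EE_le_Sg hx0 i _
    · intro a ha
      have e : i + ((0:ℕ):ℤ) = i := by norm_num
      rw [e] at ha ⊢
      rcases h.eq_one_or_eq_xx hx0 hx01 ha with rfl | rfl
      · exact Subgroup.one_mem _
      · exact xx_mem_EE le_rfl le_rfl
  | succ n ih =>
    intro hn i
    have ihi := ih (by omega) i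
    have hle : EE y x0 i (i + ((n + 1 : ℕ) : ℤ)) ≤ Sg M y (i + ((n + 1 : ℕ) : ℤ)) (i + (s:ℤ) - 1) :=
      EE_le_Sg hx0 i _
    have hA : Sg M y (i + n) (i + (s:ℤ) - 1) ≤ EE y x0 i (i + ((n + 1 : ℕ) : ℤ)) := by
      rw [← ihi]; exact EE_mono le_rfl (by push_cast; omega)
    have hne : ¬ EE y x0 i (i + ((n + 1 : ℕ) : ℤ)) ≤ Sg M y (i + n) (i + (s:ℤ) - 1) := by
      intro hcon
      have h1 : xx y x0 (i + ((n + 1 : ℕ) : ℤ)) ∈ Sg M y (i + n) (i + (s:ℤ) - 1) :=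
        hcon (xx_mem_EE (by push_cast; omega) le_rfl)
      have h2 : xx y x0 (i + ((n + 1 : ℕ) : ℤ)) ∈ Mc M y (i + ((n + 1 : ℕ) : ℤ) - 1) := by
        have := Sg_le_Mc (M := M) (y := y) (i := i + n) (j := i + (s:ℤ) - 1)
          (k := i + ((n + 1 : ℕ) : ℤ) - 1) (by push_cast; omega) (by push_cast; omega)
        exact this h1
      exact h.xx_not_mem_pred hx0 hx01 _ h2
    have hcard : Nat.card (Sg M y (i + ((n + 1 : ℕ) : ℤ)) (i + (s:ℤ) - 1)) =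
        2 * Nat.card (Sg M y (i + n) (i + (s:ℤ) - 1)) := by
      rw [h.card_Sg (s - 1 - (n + 1)) (by omega) (by omega) (by push_cast; omega),
        h.card_Sg (s - 1 - n) (by omega) (by omega) (by push_cast; omega)]
      have e1 : s - (s - 1 - (n + 1)) = n + 2 := by omega
      have e2 : s - (s - 1 - n) = n + 1 := by omega
      rw [e1, e2, pow_succ]; ring
    exact eq_of_prime_index Nat.prime_two hA hle hne hcard

theorem Reg.EE_eq_Sg' (h : Reg M y s) (hx0 : x0 ∈ Sg M y 0 ((s:ℤ) - 1)) (hx01 : x0 ≠ 1)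
    {i j : ℤ} (hij : i ≤ j) (hjs : j + 2 ≤ i + s) :
    EE y x0 i j = Sg M y j (i + (s:ℤ) - 1) := by
  have := h.EE_eq_Sg hx0 hx01 (j - i).toNat (by omega) i
  have e : i + ((j - i).toNat : ℤ) = j := by omega
  rw [e] at this
  exact this

theorem Reg.card_EE (h : Reg M y s) (hx0 : x0 ∈ Sg M y 0 ((s:ℤ) - 1)) (hx01 : x0 ≠ 1)
    {i j : ℤ} (n : ℕ) (hj : j = i + n) (hjs : n + 2 ≤ s) :
    Nat.card (EE y x0 i j) = 2 ^ (n + 1) := by
  rw [h.EE_eq_Sg' hx0 hx01 (by omega) (by omega),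
    h.card_Sg (s - 1 - n) (by omega) (by omega) (by omega)]
  congr 1; omega

theorem Reg.EE_eq_Mc (h : Reg M y s) (hx0 : x0 ∈ Sg M y 0 ((s:ℤ) - 1)) (hx01 : x0 ≠ 1) (i : ℤ) :
    EE y x0 i (i + (s:ℤ) - 1) = Mc M y (i + (s:ℤ) - 1) := by
  have hs := h.hs
  have hle : EE y x0 i (i + (s:ℤ) - 1) ≤ Mc M y (i + (s:ℤ) - 1) := by
    have := EE_le_Sg (M := M) (s := s) hx0 i (i + (s:ℤ) - 1)
    rwa [Sg_self] at this
  have h1 := h.EE_eq_Sg' hx0 hx01 (i := i) (j := i + (s:ℤ) - 2) (by omega) (by omega)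
  have hA : Sg M y (i + (s:ℤ) - 2) (i + (s:ℤ) - 1) ≤ EE y x0 i (i + (s:ℤ) - 1) := by
    rw [← h1]; exact EE_mono le_rfl (by omega)
  have hne : ¬ EE y x0 i (i + (s:ℤ) - 1) ≤ Sg M y (i + (s:ℤ) - 2) (i + (s:ℤ) - 1) := by
    intro hcon
    have h2 : xx y x0 (i + (s:ℤ) - 1) ∈ Sg M y (i + (s:ℤ) - 2) (i + (s:ℤ) - 1) :=
      hcon (xx_mem_EE (by omega) le_rfl)
    have h3 : xx y x0 (i + (s:ℤ) - 1) ∈ Mc M y (i + (s:ℤ) - 1 - 1) := by
      have := Sg_le_Mc (M := M) (y := y) (i := i + (s:ℤ) - 2) (j := i + (s:ℤ) - 1)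
        (k := i + (s:ℤ) - 1 - 1) (by omega) (by omega)
      exact this h2
    exact h.xx_not_mem_pred hx0 hx01 _ h3
  have hcard : Nat.card (Mc M y (i + (s:ℤ) - 1)) =
      3 * Nat.card (Sg M y (i + (s:ℤ) - 2) (i + (s:ℤ) - 1)) := by
    rw [h.card_Mc, h.card_Sg 1 le_rfl (by omega) (by omega)]
  exact eq_of_prime_index Nat.prime_three hA hle hne hcard

/-- T4: commutators fall into the inner window. -/
theorem Reg.comm_mem_Sg (h : Reg M y s) (hx0 : x0 ∈ Sg M y 0 ((s:ℤ) - 1))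
    {i j : ℤ} (hij : i < j) (hjs : j + 2 ≤ i + s) :
    ⁅xx y x0 i, xx y x0 j⁆ ∈ Sg M y (j - 1) (i + (s:ℤ)) := by
  have hs := h.hs
  set B := Sg M y j (i + (s:ℤ) - 1) with hB
  set A := Sg M y (j - 1) (i + (s:ℤ) - 1) with hA
  set A' := Sg M y j (i + (s:ℤ)) with hA'
  have hxiA : xx y x0 i ∈ A := Sg_le (by omega) le_rfl (xx_mem hx0 i)
  have hxjA' : xx y x0 j ∈ A' := Sg_le le_rfl (by omega) (xx_mem hx0 j)
  have hAB : A ≤ B := Sg_le (by omega) le_rfl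
  have hA'B : A' ≤ B := Sg_le le_rfl (by omega)
  obtain ⟨n, hn⟩ : ∃ n : ℕ, (n:ℤ) = j - i := ⟨(j - i).toNat, by omega⟩
  have hcB : Nat.card B = 2 ^ (n + 1) := by
    rw [hB, h.card_Sg (s - 1 - n) (by omega) (by omega) (by omega)]
    congr 1; omega
  have hcA : Nat.card A = 2 ^ n := by
    rw [hA, h.card_Sg (s - n) (by omega) (by omega) (by omega)]
    congr 1; omega
  have hcA' : Nat.card A' = 2 ^ n := by
    rw [hA', h.card_Sg (s - n) (by omega) (by omega) (by omega)]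
    congr 1; omega
  have hnA : B ≤ Subgroup.normalizer (A : Set G) :=
    normalizes_of_card_two_mul hAB (by rw [hcB, hcA, pow_succ]; ring)
  have hnA' : B ≤ Subgroup.normalizer (A' : Set G) :=
    normalizes_of_card_two_mul hA'B (by rw [hcB, hcA', pow_succ]; ring)
  have h1 : ⁅xx y x0 i, xx y x0 j⁆ ∈ A := by
    have h2 : xx y x0 j * (xx y x0 i)⁻¹ * (xx y x0 j)⁻¹ ∈ A :=
      (Subgroup.mem_normalizer_iff.mp (hnA (hA'B hxjA')) _).mp (A.inv_mem hxiA)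
    have e : ⁅xx y x0 i, xx y x0 j⁆ =
        xx y x0 i * (xx y x0 j * (xx y x0 i)⁻¹ * (xx y x0 j)⁻¹) := by
      rw [commutatorElement_def]; group
    rw [e]; exact A.mul_mem hxiA h2
  have h2 : ⁅xx y x0 i, xx y x0 j⁆ ∈ A' := by
    have h3 : xx y x0 i * xx y x0 j * (xx y x0 i)⁻¹ ∈ A' :=
      (Subgroup.mem_normalizer_iff.mp (hnA' (hAB hxiA)) _).mp hxjA'
    have e : ⁅xx y x0 i, xx y x0 j⁆ =
        (xx y x0 i * xx y x0 j * (xx y x0 i)⁻¹) * (xx y x0 j)⁻¹ := by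
      rw [commutatorElement_def]
    rw [e]; exact A'.mul_mem h3 (A'.inv_mem hxjA')
  have h3 : ⁅xx y x0 i, xx y x0 j⁆ ∈ A ⊓ A' := Subgroup.mem_inf.2 ⟨h1, h2⟩
  rw [hA, hA', Sg_inf_Sg (by omega) (by omega) (by omega)] at h3
  exact h3

theorem Reg.comm_mem_EE (h : Reg M y s) (hx0 : x0 ∈ Sg M y 0 ((s:ℤ) - 1)) (hx01 : x0 ≠ 1)
    {i j : ℤ} (hij : i + 2 ≤ j) (hjs : j + 2 ≤ i + s) :
    ⁅xx y x0 i, xx y x0 j⁆ ∈ EE y x0 (i + 1) (j - 1) := by
  have := h.comm_mem_Sg hx0 (i := i) (j := j) (by omega) hjs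
  rw [h.EE_eq_Sg' hx0 hx01 (i := i + 1) (j := j - 1) (by omega) (by omega)]
  have e : i + 1 + (s:ℤ) - 1 = i + (s:ℤ) := by ring
  rw [e]; exact this

theorem Reg.commute_succ (h : Reg M y s) (hx0 : x0 ∈ Sg M y 0 ((s:ℤ) - 1)) (hs3 : 3 ≤ s)
    (i : ℤ) : Commute (xx y x0 i) (xx y x0 (i + 1)) := by
  have := h.comm_mem_Sg hx0 (i := i) (j := i + 1) (by omega) (by omega)
  rw [h.Sg_bot (by omega), Subgroup.mem_bot] at this
  exact commutatorElement_eq_one_iff_commute.mp this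

end X

end Cfsg.Agent.Helper61.TutteX
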