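import Mathlib
import Cfsg.Agent.Lib.Helper61.TutteX

/-!
# Commutation range `lam` of the involutions `x i` and Tutte's inequalities
-/

set_option autoImplicit false
set_option linter.unusedSectionVars false
set_option linter.unusedVariables false

namespace Cfsg.Agent.Helper61.TutteLam

open Cfsg.Agent.Helper61.TutteBase Cfsg.Agent.Helper61.TutteX
open scoped commutatorElement

variable {G : Type*} [Group G]

/-! ### pure algebra helpers -/

theorem aux1 {x0 w xl : G} (hx0 : x0 * x0 = 1) (ha : (x0 * w) * (x0 * w) = 1)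
    (hw : w * xl = xl * w) : (x0 * w) * xl * (x0 * w) * xl = x0 * xl * x0 * xl := by
  have h1 : w * x0 * w = x0 := by
    have h2 : x0 * (w * x0 * w) = 1 := by rw [← ha]; group
    have h3 : w * x0 * w = x0⁻¹ := eq_inv_of_mul_eq_one_right h2
    rw [h3]; exact inv_eq_of_mul_eq_one_left hx0
  calc (x0 * w) * xl * (x0 * w) * xl = x0 * (w * xl) * x0 * w * xl := by group
    _ = x0 * (xl * w) * x0 * w * xl := by rw [hw]
    _ = x0 * xl * (w * x0 * w) * xl := by group
    _ = x0 * xl * x0 * xl := by rw [h1]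

theorem aux2 {x0 w xl : G} (hxl : xl * xl = 1) (hb : (w * xl) * (w * xl) = 1)
    (hw : x0 * w = w * x0) : x0 * (w * xl) * x0 * (w * xl) = x0 * xl * x0 * xl := by
  have h1 : xl * w = w⁻¹ * xl := by
    have h2 : w * (xl * w * xl) = 1 := by rw [← hb]; group
    have h3 : xl * w * xl = w⁻¹ := eq_inv_of_mul_eq_one_right h2
    have h4 : xl * w = w⁻¹ * xl⁻¹ := by rw [← h3]; group
    rw [h4, inv_eq_of_mul_eq_one_left hxl]
  calc x0 * (w * xl) * x0 * (w * xl) = (x0 * w) * xl * (x0 * w) * xl := by group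
    _ = (w * x0) * xl * (w * x0) * xl := by rw [hw]
    _ = w * x0 * (xl * w) * x0 * xl := by group
    _ = w * x0 * (w⁻¹ * xl) * x0 * xl := by rw [h1]
    _ = (w * x0) * w⁻¹ * xl * x0 * xl := by group
    _ = (x0 * w) * w⁻¹ * xl * x0 * xl := by rw [hw]
    _ = x0 * xl * x0 * xl := by group

theorem exists_last {P : ℕ → Prop} (h0 : P 0) {n : ℕ} (hn : ¬ P n) :
    ∃ k, k < n ∧ P k ∧ ¬ P (k + 1) := by
  induction n with
  | zero => exact absurd h0 hn
  | succ n ih =>
    by_cases h : P n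
    · exact ⟨n, Nat.lt_succ_self n, h, hn⟩
    · obtain ⟨k, hk, h1, h2⟩ := ih h
      exact ⟨k, Nat.lt_succ_of_lt hk, h1, h2⟩

theorem mul_mem_of_not_mem [Finite G] {A B : Subgroup G} (hAB : A ≤ B)
    (hc : Nat.card B = 2 * Nat.card A) {a b : G} (ha : a ∈ B) (hb : b ∈ B)
    (ha' : a ∉ A) (hb' : b ∉ A) : a * b ∈ A := by
  have h1 : Nat.card B = A.relIndex B * Nat.card A := card_eq_relIndex_mul hAB
  have hpos : 0 < Nat.card A := Nat.card_pos
  have h2 : (A.subgroupOf B).index = 2 := by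
    have : A.relIndex B * Nat.card A = 2 * Nat.card A := by rw [← h1, hc]
    exact Nat.eq_of_mul_eq_mul_right hpos this
  have h3 := Subgroup.mul_mem_iff_of_index_two h2 (a := (⟨a, ha⟩ : B)) (b := ⟨b, hb⟩)
  have h4 : (⟨a, ha⟩ : B) * ⟨b, hb⟩ ∈ A.subgroupOf B := by
    rw [h3]
    constructor
    · intro h; exact absurd (Subgroup.mem_subgroupOf.mp h) ha'
    · intro h; exact absurd (Subgroup.mem_subgroupOf.mp h) hb'
  exact Subgroup.mem_subgroupOf.mp h4

theorem commute_conj {a b g : G} (h : Commute a b) : Commute (g * a * g⁻¹) (g * b * g⁻¹) := by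
  unfold Commute SemiconjBy at *
  calc g * a * g⁻¹ * (g * b * g⁻¹) = g * (a * b) * g⁻¹ := by group
    _ = g * (b * a) * g⁻¹ := by rw [h]
    _ = g * b * g⁻¹ * (g * a * g⁻¹) := by group

variable {M : Subgroup G} {y : G} {s : ℕ} {x0 : G}

theorem commute_shift {a b : ℤ} (k : ℤ) (h : Commute (xx y x0 a) (xx y x0 b)) :
    Commute (xx y x0 (a + k)) (xx y x0 (b + k)) := by
  rw [← conj_xx k a, ← conj_xx k b]
  exact commute_conj h

/-! ### conjugates of `M` -/

theorem isCoatom_cj {H : Subgroup G} (g : G) (h : IsCoatom H) : IsCoatom (cj g H) := by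
  have := (MulEquiv.mapSubgroup (MulAut.conj g)).isCoatom_iff (a := H)
  exact this.mpr h

variable [Finite G]

theorem reg_coatom_Mc (h : Reg M y s) (k : ℤ) : IsCoatom (Mc M y k) := isCoatom_cj _ h.coatom

theorem reg_core_Mc (h : Reg M y s) (k : ℤ) {H : Subgroup G} (hn : H.Normal) (hle : H ≤ Mc M y k) :
    H = ⊥ := by
  apply h.core H hn
  intro a ha
  have h1 : y ^ k * a * (y ^ k)⁻¹ ∈ H := hn.conj_mem a ha _
  have h2 := hle h1
  unfold Mc at h2
  rw [mem_cj] at h2
  have e : (y ^ k)⁻¹ * (y ^ k * a * (y ^ k)⁻¹) * y ^ k = a := by group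
  rwa [e] at h2

theorem reg_Mc_sup (h : Reg M y s) (k : ℤ) : Mc M y k ⊔ Mc M y (k + 1) = ⊤ := by
  have hs := h.hs
  by_contra hne
  have h1 : Mc M y k ⊔ Mc M y (k + 1) = Mc M y k := by
    by_contra h2
    exact hne ((reg_coatom_Mc h k).2 _ (lt_of_le_of_ne le_sup_left (Ne.symm h2)))
  have h3 : Mc M y (k + 1) ≤ Mc M y k := by rw [← h1]; exact le_sup_right
  have h4 : Sg M y k (k + 1) = Mc M y (k + 1) := by
    apply le_antisymm (Sg_le_Mc (by omega) le_rfl)
    intro a ha
    rw [mem_Sg]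
    intro m hm1 hm2
    have : m = k ∨ m = k + 1 := by omega
    rcases this with rfl | rfl
    · exact h3 ha
    · exact ha
  have h5 := h.card_Sg (i := k) (j := k + 1) 1 le_rfl (by omega) (by norm_num)
  rw [h4, h.card_Mc] at h5
  have : 0 < 2 ^ (s - 1) := by positivity
  omega

/-- a subgroup of `Mc k` normalized by `Mc k` and `Mc (k+1)` is trivial -/
theorem reg_eq_bot_of_normalized (h : Reg M y s) (k : ℤ) {D : Subgroup G} (hD : D ≤ Mc M y k)
    (h1 : Mc M y k ≤ Subgroup.normalizer (D : Set G))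
    (h2 : Mc M y (k + 1) ≤ Subgroup.normalizer (D : Set G)) : D = ⊥ := by
  have h3 : Subgroup.normalizer (D : Set G) = ⊤ := by
    rw [eq_top_iff, ← reg_Mc_sup h k]
    exact sup_le h1 h2
  exact reg_core_Mc h k (Subgroup.normalizer_eq_top_iff.mp h3) hD


/-- Context: a regular chain with a chosen generator of the `(s-1)`-arc stabilizer. -/
structure Ctx (M : Subgroup G) (y : G) (s : ℕ) (x0 : G) : Prop where
  reg : Reg M y s
  mem : x0 ∈ Sg M y 0 ((s:ℤ) - 1)
  ne : x0 ≠ 1

theorem Ctx.sq (c : Ctx M y s x0) (i : ℤ) : xx y x0 i * xx y x0 i = 1 := c.reg.xx_sq c.mem i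

theorem Ctx.inv (c : Ctx M y s x0) (i : ℤ) : (xx y x0 i)⁻¹ = xx y x0 i := c.reg.xx_inv c.mem i

theorem Ctx.ne_one (c : Ctx M y s x0) (i : ℤ) : xx y x0 i ≠ 1 := xx_ne_one c.ne i

theorem normalizes_of_commute {A D : Subgroup G} (h : ∀ a ∈ A, ∀ d ∈ D, Commute a d) :
    A ≤ Subgroup.normalizer (D : Set G) := by
  intro a ha
  rw [Subgroup.mem_normalizer_iff]
  intro d
  constructor
  · intro hd
    have := (h a ha d hd).eq
    have e : a * d * a⁻¹ = d := by rw [this]; group
    rw [e]; exact hd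
  · intro hd
    have h1 : a⁻¹ * (a * d * a⁻¹) * a = a * d * a⁻¹ := by
      have := (h a ha _ hd).eq
      calc a⁻¹ * (a * d * a⁻¹) * a = a⁻¹ * ((a * d * a⁻¹) * a) := by group
        _ = a⁻¹ * (a * (a * d * a⁻¹)) := by rw [this]
        _ = a * d * a⁻¹ := by group
    have e : d = a⁻¹ * (a * d * a⁻¹) * a := by group
    rw [e, h1]; exact hd

/-- if all generators of two windows commute, the windows commute -/
theorem commute_EE_EE {i j i' j' : ℤ}
    (h : ∀ k k', i ≤ k → k ≤ j → i' ≤ k' → k' ≤ j' → Commute (xx y x0 k) (xx y x0 k'))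
    {a b : G} (ha : a ∈ EE y x0 i j) (hb : b ∈ EE y x0 i' j') : Commute a b := by
  apply commute_of_mem_EE (i := i') (j := j') _ hb
  intro k' hk'1 hk'2
  exact (commute_of_mem_EE (i := i) (j := j)
    (fun k hk1 hk2 => (h k k' hk1 hk2 hk'1 hk'2).symm) ha).symm

/-- commutation range -/
structure IsLam (y : G) (x0 : G) (lam : ℕ) : Prop where
  comm : ∀ k : ℕ, k < lam → Commute (xx y x0 0) (xx y x0 k)
  nc : ¬ Commute (xx y x0 0) (xx y x0 lam)

theorem IsLam.commute {lam : ℕ} (hl : IsLam y x0 lam) {i j : ℤ} (h1 : i ≤ j) (h2 : j < i + lam) :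
    Commute (xx y x0 i) (xx y x0 j) := by
  have h3 := hl.comm (j - i).toNat (by omega)
  have := commute_shift (y := y) (x0 := x0) i h3
  have e1 : (0:ℤ) + i = i := by ring
  have e2 : ((j - i).toNat : ℤ) + i = j := by omega
  rw [e1, e2] at this
  exact this

theorem IsLam.commute' {lam : ℕ} (hl : IsLam y x0 lam) {i j : ℤ} (h1 : j < i + lam)
    (h2 : i < j + lam) : Commute (xx y x0 i) (xx y x0 j) := by
  rcases le_total i j with h | h
  · exact hl.commute h h1
  · exact (hl.commute h h2).symm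

theorem IsLam.not_commute {lam : ℕ} (hl : IsLam y x0 lam) (i : ℤ) :
    ¬ Commute (xx y x0 i) (xx y x0 (i + lam)) := by
  intro h
  apply hl.nc
  have := commute_shift (y := y) (x0 := x0) (-i) h
  have e1 : i + -i = 0 := by ring
  have e2 : i + (lam:ℤ) + -i = lam := by ring
  rw [e1, e2] at this
  exact this

theorem IsLam.pos {lam : ℕ} (hl : IsLam y x0 lam) : 1 ≤ lam := by
  by_contra h
  have : lam = 0 := by omega
  apply hl.nc
  rw [this]
  exact Commute.refl _

theorem Ctx.exists_lam (c : Ctx M y s x0) : ∃ lam : ℕ, lam ≤ s - 1 ∧ IsLam y x0 lam := by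
  classical
  have hs := c.reg.hs
  have hex : ∃ l : ℕ, ¬ Commute (xx y x0 0) (xx y x0 l) := by
    by_contra hcon
    push Not at hcon
    have hall : ∀ i j : ℤ, Commute (xx y x0 i) (xx y x0 j) := by
      intro i j
      rcases le_total i j with h | h
      · have := commute_shift (y := y) (x0 := x0) i (hcon (j - i).toNat)
        have e1 : (0:ℤ) + i = i := by ring
        have e2 : ((j - i).toNat : ℤ) + i = j := by omega
        rw [e1, e2] at this
        exact this
      · have := commute_shift (y := y) (x0 := x0) j (hcon (i - j).toNat)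
        have e1 : (0:ℤ) + j = j := by ring
        have e2 : ((i - j).toNat : ℤ) + j = i := by omega
        rw [e1, e2] at this
        exact this.symm
    -- both Mc (s-2) and Mc (s-1) are abelian
    set D := Sg M y ((s:ℤ) - 2) ((s:ℤ) - 1) with hD
    have hD1 : D ≤ Mc M y ((s:ℤ) - 2) := Sg_le_Mc le_rfl (by omega)
    have hD2 : D ≤ Mc M y ((s:ℤ) - 1) := Sg_le_Mc (by omega) le_rfl
    have e1 := c.reg.EE_eq_Mc c.mem c.ne (-1)
    have e2 := c.reg.EE_eq_Mc c.mem c.ne 0
    have e1' : (-1 : ℤ) + (s:ℤ) - 1 = (s:ℤ) - 2 := by ring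
    have e2' : (0 : ℤ) + (s:ℤ) - 1 = (s:ℤ) - 1 := by ring
    rw [e1'] at e1
    rw [e2'] at e2
    have hn1 : Mc M y ((s:ℤ) - 2) ≤ Subgroup.normalizer (D : Set G) := by
      apply normalizes_of_commute
      intro a ha d hd
      rw [← e1] at ha
      have hd' := hD1 hd
      rw [← e1] at hd'
      exact commute_EE_EE (fun k k' _ _ _ _ => hall k k') ha hd'
    have hn2 : Mc M y ((s:ℤ) - 2 + 1) ≤ Subgroup.normalizer (D : Set G) := by
      have e3 : (s:ℤ) - 2 + 1 = (s:ℤ) - 1 := by ring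
      rw [e3]
      apply normalizes_of_commute
      intro a ha d hd
      rw [← e2] at ha
      have hd' := hD2 hd
      rw [← e2] at hd'
      exact commute_EE_EE (fun k k' _ _ _ _ => hall k k') ha hd'
    have hbot := reg_eq_bot_of_normalized c.reg _ hD1 hn1 hn2
    have hcard := c.reg.card_Sg (i := (s:ℤ) - 2) (j := (s:ℤ) - 1) 1 le_rfl (by omega) (by ring)
    rw [← hD, hbot] at hcard
    simp at hcard
    have : 2 ≤ 2 ^ (s - 1) := by
      calc 2 = 2 ^ 1 := by norm_num
        _ ≤ 2 ^ (s - 1) := Nat.pow_le_pow_right (by norm_num) (by omega)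
    omega
  refine ⟨Nat.find hex, ?_, ⟨fun k hk => ?_, Nat.find_spec hex⟩⟩
  · -- lam ≤ s - 1
    by_contra hgt
    push Not at hgt
    -- then x 0 commutes with x 0 .. x (s-1), and all windows of length s are abelian
    have hcomm : ∀ k : ℕ, k ≤ s - 1 → Commute (xx y x0 0) (xx y x0 k) := by
      intro k hk
      by_contra hnc
      exact absurd (Nat.find_min' hex hnc) (by omega)
    have hall : ∀ i j : ℤ, i ≤ j → j ≤ i + (s:ℤ) - 1 → Commute (xx y x0 i) (xx y x0 j) := by
      intro i j h1 h2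
      have := commute_shift (y := y) (x0 := x0) i (hcomm (j - i).toNat (by omega))
      have e1 : (0:ℤ) + i = i := by ring
      have e2 : ((j - i).toNat : ℤ) + i = j := by omega
      rw [e1, e2] at this
      exact this
    have hall' : ∀ i j : ℤ, j ≤ i + (s:ℤ) - 1 → i ≤ j + (s:ℤ) - 1 →
        Commute (xx y x0 i) (xx y x0 j) := by
      intro i j h1 h2
      rcases le_total i j with h | h
      · exact hall i j h h1
      · exact (hall j i h h2).symm
    set D := Sg M y ((s:ℤ) - 2) ((s:ℤ) - 1) with hD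
    have hD1 : D ≤ Mc M y ((s:ℤ) - 2) := Sg_le_Mc le_rfl (by omega)
    have hD2 : D ≤ Mc M y ((s:ℤ) - 1) := Sg_le_Mc (by omega) le_rfl
    have e1 := c.reg.EE_eq_Mc c.mem c.ne (-1)
    have e2 := c.reg.EE_eq_Mc c.mem c.ne 0
    have e1' : (-1 : ℤ) + (s:ℤ) - 1 = (s:ℤ) - 2 := by ring
    have e2' : (0 : ℤ) + (s:ℤ) - 1 = (s:ℤ) - 1 := by ring
    rw [e1'] at e1
    rw [e2'] at e2
    have hn1 : Mc M y ((s:ℤ) - 2) ≤ Subgroup.normalizer (D : Set G) := by
      apply normalizes_of_commute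
      intro a ha d hd
      rw [← e1] at ha
      have hd' := hD1 hd
      rw [← e1] at hd'
      exact commute_EE_EE (fun k k' h1 h2 h3 h4 => hall' k k' (by omega) (by omega)) ha hd'
    have hn2 : Mc M y ((s:ℤ) - 2 + 1) ≤ Subgroup.normalizer (D : Set G) := by
      have e3 : (s:ℤ) - 2 + 1 = (s:ℤ) - 1 := by ring
      rw [e3]
      apply normalizes_of_commute
      intro a ha d hd
      rw [← e2] at ha
      have hd' := hD2 hd
      rw [← e2] at hd'
      exact commute_EE_EE (fun k k' h1 h2 h3 h4 => hall' k k' (by omega) (by omega)) ha hd'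
    have hbot := reg_eq_bot_of_normalized c.reg _ hD1 hn1 hn2
    have hcard := c.reg.card_Sg (i := (s:ℤ) - 2) (j := (s:ℤ) - 1) 1 le_rfl (by omega) (by ring)
    rw [← hD, hbot] at hcard
    simp at hcard
    have : 2 ≤ 2 ^ (s - 1) := by
      calc 2 = 2 ^ 1 := by norm_num
        _ ≤ 2 ^ (s - 1) := Nat.pow_le_pow_right (by norm_num) (by omega)
    omega
  · by_contra hnc
    exact absurd (Nat.find_min' hex hnc) (by omega)

/-- upper bound `2 lam ≤ s + 1` -/
theorem Ctx.two_lam_le (c : Ctx M y s x0) {lam : ℕ} (hl : IsLam y x0 lam) (hls : lam ≤ s - 1) :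
    2 * lam ≤ s + 1 := by
  have hs := c.reg.hs
  have hpos := hl.pos
  by_contra hgt
  push Not at hgt
  set z := xx y x0 ((lam:ℤ) - 1) with hz
  have hzc : ∀ j : ℤ, 0 ≤ j → j ≤ s → Commute z (xx y x0 j) := by
    intro j h1 h2
    exact hl.commute' (by omega) (by omega)
  have e1 := c.reg.EE_eq_Mc c.mem c.ne 0
  have e2 := c.reg.EE_eq_Mc c.mem c.ne 1
  have e1' : (0 : ℤ) + (s:ℤ) - 1 = (s:ℤ) - 1 := by ring
  have e2' : (1 : ℤ) + (s:ℤ) - 1 = (s:ℤ) - 1 + 1 := by ring
  rw [e1'] at e1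
  rw [e2'] at e2
  have hD : Subgroup.zpowers z ≤ Mc M y ((s:ℤ) - 1) := by
    rw [Subgroup.zpowers_le, ← e1]
    exact xx_mem_EE (by omega) (by omega)
  have hcz : ∀ a : G, Commute a z → ∀ d ∈ Subgroup.zpowers z, Commute a d := by
    intro a ha d hd
    obtain ⟨n, rfl⟩ := Subgroup.mem_zpowers_iff.mp hd
    exact ha.zpow_right n
  have hn1 : Mc M y ((s:ℤ) - 1) ≤ Subgroup.normalizer ((Subgroup.zpowers z : Subgroup G) : Set G) := by
    apply normalizes_of_commute
    intro a ha d hd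
    rw [← e1] at ha
    exact hcz a (commute_of_mem_EE (fun k h1 h2 => hzc k h1 (by omega)) ha).symm d hd
  have hn2 : Mc M y ((s:ℤ) - 1 + 1) ≤
      Subgroup.normalizer ((Subgroup.zpowers z : Subgroup G) : Set G) := by
    apply normalizes_of_commute
    intro a ha d hd
    rw [← e2] at ha
    exact hcz a (commute_of_mem_EE (fun k h1 h2 => hzc k (by omega) (by omega)) ha).symm d hd
  have hbot := reg_eq_bot_of_normalized c.reg _ hD hn1 hn2
  have : z ∈ (⊥ : Subgroup G) := by rw [← hbot]; exact Subgroup.mem_zpowers z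
  rw [Subgroup.mem_bot] at this
  exact c.ne_one _ this

end Cfsg.Agent.Helper61.TutteLam
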