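import Mathlib
import Cfsg.Agent.Lib.Helper61.TutteLam

/-!
# Tutte's inequalities: `3 lam ≥ 2 s - 2` when `lam ≤ s - 2`
-/

set_option autoImplicit false
set_option linter.unusedSectionVars false
set_option linter.unusedVariables false

namespace Cfsg.Agent.Helper61.TutteBound

open Cfsg.Agent.Helper61.TutteBase Cfsg.Agent.Helper61.TutteX Cfsg.Agent.Helper61.TutteLam
open scoped commutatorElement

variable {G : Type*} [Group G]

/-- algebra behind Claim 1 -/
theorem claim_alg1 {X0 XL U Xm c' : G} (hX0 : X0 * X0 = 1) (hXL : XL * XL = 1) (hU : U * U = 1)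
    (hUXL : Commute U XL) (hUc : Commute U c')
    (hwXL : Commute XL (X0 * U * X0 * U))
    (hcc : X0 * XL * X0 * XL = Xm * c') : Commute U Xm := by
  set w := X0 * U * X0 * U with hw
  have hA : U * X0 * U = X0 * w := by
    rw [hw]
    calc U * X0 * U = (X0 * X0) * U * X0 * U := by rw [hX0, one_mul]
      _ = X0 * (X0 * U * X0 * U) := by group
  have hAsq : (X0 * w) * (X0 * w) = 1 := by
    rw [← hA]
    calc U * X0 * U * (U * X0 * U) = U * X0 * (U * U) * X0 * U := by group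
      _ = U * (X0 * X0) * U := by rw [hU]; group
      _ = 1 := by rw [hX0, mul_one, hU]
  have hUXLU : U * XL * U = XL := by
    calc U * XL * U = XL * (U * U) := by rw [hUXL.eq]; group
      _ = XL := by rw [hU, mul_one]
  have key : U * (X0 * XL * X0 * XL) * U = X0 * XL * X0 * XL := by
    calc U * (X0 * XL * X0 * XL) * U
        = (U * X0 * U) * (U * U)⁻¹ * (U * XL * U) * (U * U)⁻¹ * (U * X0 * U) * (U * U)⁻¹ *
          (U * XL * U) := by group
      _ = (X0 * w) * XL * (X0 * w) * XL := by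
          rw [hU, hA, hUXLU]; group
      _ = X0 * XL * X0 * XL := aux1 hX0 hAsq hwXL.symm.eq
  rw [hcc] at key
  have hUcU : U * c' * U = c' := by
    calc U * c' * U = c' * (U * U) := by rw [hUc.eq]; group
      _ = c' := by rw [hU, mul_one]
  have h1 : (U * Xm * U) * c' = Xm * c' := by
    calc (U * Xm * U) * c' = (U * Xm * U) * (U * c' * U) := by rw [hUcU]
      _ = U * Xm * (U * U) * c' * U := by group
      _ = U * (Xm * c') * U := by rw [hU]; group
      _ = Xm * c' := key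
  have h2 : U * Xm * U = Xm := mul_right_cancel h1
  unfold Commute SemiconjBy
  calc U * Xm = (U * Xm * U) * U⁻¹ := by group
    _ = Xm * U⁻¹ := by rw [h2]
    _ = Xm * U := by rw [inv_eq_of_mul_eq_one_left hU]

/-- algebra behind Claim 2 -/
theorem claim_alg2 {X0 XL U Xn c'' : G} (hX0 : X0 * X0 = 1) (hXL : XL * XL = 1) (hU : U * U = 1)
    (hUX0 : Commute U X0) (hUc : Commute U c'')
    (hwX0 : Commute X0 (U * XL * U * XL))
    (hcc : X0 * XL * X0 * XL = c'' * Xn) : Commute U Xn := by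
  set w := U * XL * U * XL with hw
  have hB : U * XL * U = w * XL := by
    rw [hw]
    calc U * XL * U = U * XL * U * (XL * XL) := by rw [hXL, mul_one]
      _ = U * XL * U * XL * XL := by group
  have hBsq : (w * XL) * (w * XL) = 1 := by
    rw [← hB]
    calc U * XL * U * (U * XL * U) = U * XL * (U * U) * XL * U := by group
      _ = U * (XL * XL) * U := by rw [hU]; group
      _ = 1 := by rw [hXL, mul_one, hU]
  have hUX0U : U * X0 * U = X0 := by
    calc U * X0 * U = X0 * (U * U) := by rw [hUX0.eq]; group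
      _ = X0 := by rw [hU, mul_one]
  have key : U * (X0 * XL * X0 * XL) * U = X0 * XL * X0 * XL := by
    calc U * (X0 * XL * X0 * XL) * U
        = (U * X0 * U) * (U * U)⁻¹ * (U * XL * U) * (U * U)⁻¹ * (U * X0 * U) * (U * U)⁻¹ *
          (U * XL * U) := by group
      _ = X0 * (w * XL) * X0 * (w * XL) := by
          rw [hU, hB, hUX0U]; group
      _ = X0 * XL * X0 * XL := aux2 hXL hBsq hwX0.eq
  rw [hcc] at key
  have hUcU : U * c'' * U = c'' := by
    calc U * c'' * U = c'' * (U * U) := by rw [hUc.eq]; group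
      _ = c'' := by rw [hU, mul_one]
  have h1 : c'' * (U * Xn * U) = c'' * Xn := by
    calc c'' * (U * Xn * U) = (U * c'' * U) * (U * Xn * U) := by rw [hUcU]
      _ = U * c'' * (U * U) * Xn * U := by group
      _ = U * (c'' * Xn) * U := by rw [hU]; group
      _ = c'' * Xn := key
  have h2 : U * Xn * U = Xn := mul_left_cancel h1
  unfold Commute SemiconjBy
  calc U * Xn = (U * Xn * U) * U⁻¹ := by group
    _ = Xn * U⁻¹ := by rw [h2]
    _ = Xn * U := by rw [inv_eq_of_mul_eq_one_left hU]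


variable {M : Subgroup G} {y : G} {s : ℕ} {x0 : G} [Finite G]

theorem comm_eq (c : Ctx M y s x0) (i j : ℤ) :
    ⁅xx y x0 i, xx y x0 j⁆ = xx y x0 i * xx y x0 j * xx y x0 i * xx y x0 j := by
  rw [commutatorElement_def, c.inv i, c.inv j]

theorem card_EE' (c : Ctx M y s x0) {i j : ℤ} (hij : i ≤ j + 1) (hjs : j + 2 ≤ i + s) :
    Nat.card (EE y x0 i j) = 2 ^ (j - i + 1).toNat := by
  by_cases h : j < i
  · rw [EE_empty h]
    have : (j - i + 1).toNat = 0 := by omega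
    rw [this]; simp
  · push Not at h
    rw [c.reg.card_EE c.mem c.ne (j - i).toNat (by omega) (by omega)]
    congr 1; omega

theorem decomp_left (c : Ctx M y s x0) {m j : ℤ} (hmj : m ≤ j) (hjs : j + 2 ≤ m + s) {a : G}
    (ha : a ∈ EE y x0 m j) (ha' : a ∉ EE y x0 (m + 1) j) : xx y x0 m * a ∈ EE y x0 (m + 1) j := by
  apply mul_mem_of_not_mem (B := EE y x0 m j) (EE_mono (by omega) le_rfl) _
    (xx_mem_EE le_rfl hmj) ha _ ha'
  · rw [card_EE' c (by omega) hjs, card_EE' c (by omega) (by omega)]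
    have e : (j - m + 1).toNat = (j - (m + 1) + 1).toNat + 1 := by omega
    rw [e, pow_succ]; ring
  · intro hin
    have h1 := EE_le_Sg (M := M) (s := s) c.mem (m + 1) j hin
    have e : m + 1 + (s:ℤ) - 1 = m + (s:ℤ) := by ring
    rw [e] at h1
    exact c.reg.xx_not_mem_succ c.mem c.ne m (Sg_le_Mc (by omega) le_rfl h1)

theorem decomp_right (c : Ctx M y s x0) {i m : ℤ} (him : i ≤ m) (hms : m + 2 ≤ i + s) {a : G}
    (ha : a ∈ EE y x0 i m) (ha' : a ∉ EE y x0 i (m - 1)) : a * xx y x0 m ∈ EE y x0 i (m - 1) := by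
  apply mul_mem_of_not_mem (B := EE y x0 i m) (EE_mono le_rfl (by omega)) _
    ha (xx_mem_EE him le_rfl) ha' _
  · rw [card_EE' c (by omega) hms, card_EE' c (by omega) (by omega)]
    have e : (m - i + 1).toNat = (m - 1 - i + 1).toNat + 1 := by omega
    rw [e, pow_succ]; ring
  · intro hin
    have h1 := EE_le_Sg (M := M) (s := s) c.mem i (m - 1) hin
    exact c.reg.xx_not_mem_pred c.mem c.ne m (Sg_le_Mc le_rfl (by omega) h1)

theorem claim1 (c : Ctx M y s x0) {lam : ℕ} (hl : IsLam y x0 lam) {μ : ℤ} (hμ1 : 1 ≤ μ)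
    (hμ2 : μ + 1 ≤ lam) {c' : G} (hc' : c' ∈ EE y x0 (μ + 1) ((lam:ℤ) - 1))
    (hcc : ⁅xx y x0 0, xx y x0 lam⁆ = xx y x0 μ * c') : (s:ℤ) ≤ μ + lam + 1 := by
  by_contra hlt
  push Not at hlt
  have hw : ⁅xx y x0 0, xx y x0 (μ + lam)⁆ ∈ EE y x0 1 (μ + lam - 1) := by
    have := c.reg.comm_mem_EE c.mem c.ne (i := 0) (j := μ + lam) (by omega) (by omega)
    rwa [zero_add] at this
  rw [comm_eq c] at hw hcc
  have h1 : Commute (xx y x0 (μ + lam)) (xx y x0 lam) := hl.commute' (by omega) (by omega)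
  have h2 : Commute (xx y x0 (μ + lam)) c' :=
    commute_of_mem_EE (fun k hk1 hk2 => hl.commute' (by omega) (by omega)) hc'
  have h3 : Commute (xx y x0 lam)
      (xx y x0 0 * xx y x0 (μ + lam) * xx y x0 0 * xx y x0 (μ + lam)) :=
    commute_of_mem_EE (fun k hk1 hk2 => hl.commute' (by omega) (by omega)) hw
  have := claim_alg1 (c.sq 0) (c.sq lam) (c.sq (μ + lam)) h1 h2 h3 hcc
  exact hl.not_commute μ this.symm

theorem claim2 (c : Ctx M y s x0) {lam : ℕ} (hl : IsLam y x0 lam) {ν : ℤ} (hν1 : 1 ≤ ν)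
    (hν2 : ν + 1 ≤ lam) {c'' : G} (hc'' : c'' ∈ EE y x0 1 (ν - 1))
    (hcc : ⁅xx y x0 0, xx y x0 lam⁆ = c'' * xx y x0 ν) : (s:ℤ) ≤ 2 * lam - ν + 1 := by
  by_contra hlt
  push Not at hlt
  have hw : ⁅xx y x0 (ν - lam), xx y x0 lam⁆ ∈ EE y x0 (ν - lam + 1) ((lam:ℤ) - 1) :=
    c.reg.comm_mem_EE c.mem c.ne (i := ν - lam) (j := lam) (by omega) (by omega)
  rw [comm_eq c] at hw hcc
  have h1 : Commute (xx y x0 (ν - lam)) (xx y x0 0) := hl.commute' (by omega) (by omega)
  have h2 : Commute (xx y x0 (ν - lam)) c'' :=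
    commute_of_mem_EE (fun k hk1 hk2 => hl.commute' (by omega) (by omega)) hc''
  have h3 : Commute (xx y x0 0)
      (xx y x0 (ν - lam) * xx y x0 lam * xx y x0 (ν - lam) * xx y x0 lam) :=
    commute_of_mem_EE (fun k hk1 hk2 => hl.commute' (by omega) (by omega)) hw
  have := claim_alg2 (c.sq 0) (c.sq lam) (c.sq (ν - lam)) h1 h2 h3 hcc
  have h4 := hl.not_commute (ν - lam)
  have e : ν - (lam:ℤ) + lam = ν := by ring
  rw [e] at h4
  exact h4 this

/-- The combined lower bound data when `lam ≤ s - 2`. -/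
theorem lam_data (c : Ctx M y s x0) {lam : ℕ} (hl : IsLam y x0 lam) (hls : lam + 2 ≤ s) :
    ∃ μ ν : ℤ, 1 ≤ μ ∧ μ ≤ ν ∧ ν + 1 ≤ lam ∧ (s:ℤ) ≤ μ + lam + 1 ∧ (s:ℤ) ≤ 2 * lam - ν + 1 ∧
      ⁅xx y x0 0, xx y x0 lam⁆ ∈ EE y x0 μ ((lam:ℤ) - 1) ∧
      ⁅xx y x0 0, xx y x0 lam⁆ ∈ EE y x0 1 ν := by
  have hpos := hl.pos
  have hs3 : 3 ≤ s := by omega
  have hlam2 : 2 ≤ lam := by
    by_contra h
    have h1 : lam = 1 := by omega
    have := hl.not_commute 0
    rw [h1] at this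
    apply this
    have := c.reg.commute_succ c.mem hs3 0
    simpa using this
  set cc := ⁅xx y x0 0, xx y x0 lam⁆ with hcc
  have hcc1 : cc ≠ 1 := by
    intro h
    exact hl.nc (commutatorElement_eq_one_iff_commute.mp h)
  have hccE : cc ∈ EE y x0 1 ((lam:ℤ) - 1) := by
    have := c.reg.comm_mem_EE c.mem c.ne (i := 0) (j := lam) (by omega) (by omega)
    rwa [zero_add] at this
  -- μ
  obtain ⟨k, hk, hPk, hPk'⟩ := exists_last (P := fun k : ℕ => cc ∈ EE y x0 (1 + k) ((lam:ℤ) - 1))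
    (by simpa using hccE) (n := lam - 1) (by
      intro h
      rw [EE_empty (by omega), Subgroup.mem_bot] at h
      exact hcc1 h)
  -- ν
  obtain ⟨k', hk', hQk, hQk'⟩ := exists_last
    (P := fun k : ℕ => cc ∈ EE y x0 1 ((lam:ℤ) - 1 - k))
    (by simpa using hccE) (n := lam - 1) (by
      intro h
      rw [EE_empty (by omega), Subgroup.mem_bot] at h
      exact hcc1 h)
  set μ : ℤ := 1 + k with hμ
  set ν : ℤ := (lam:ℤ) - 1 - k' with hν
  have hPk'' : cc ∉ EE y x0 (μ + 1) ((lam:ℤ) - 1) := by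
    intro h; apply hPk'
    have e : (1:ℤ) + ((k + 1 : ℕ) : ℤ) = μ + 1 := by rw [hμ]; push_cast; ring
    show cc ∈ EE y x0 (1 + ((k + 1 : ℕ) : ℤ)) ((lam:ℤ) - 1)
    rw [e]; exact h
  have hQk'' : cc ∉ EE y x0 1 (ν - 1) := by
    intro h; apply hQk'
    have e : (lam:ℤ) - 1 - ((k' + 1 : ℕ) : ℤ) = ν - 1 := by rw [hν]; push_cast; ring
    show cc ∈ EE y x0 1 ((lam:ℤ) - 1 - ((k' + 1 : ℕ) : ℤ))
    rw [e]; exact h
  have hd1 := decomp_left c (m := μ) (j := (lam:ℤ) - 1) (by omega) (by omega) hPk hPk''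
  have hd2 := decomp_right c (i := 1) (m := ν) (by omega) (by omega) hQk hQk''
  have e1 : cc = xx y x0 μ * (xx y x0 μ * cc) := by
    rw [← mul_assoc, c.sq μ, one_mul]
  have e2 : cc = (cc * xx y x0 ν) * xx y x0 ν := by
    rw [mul_assoc, c.sq ν, mul_one]
  have hb1 := claim1 c hl (μ := μ) (by omega) (by omega) hd1 e1
  have hb2 := claim2 c hl (ν := ν) (by omega) (by omega) hd2 e2
  refine ⟨μ, ν, by omega, ?_, by omega, hb1, hb2, hPk, hQk⟩
  by_contra hlt
  push Not at hlt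
  have h1 := EE_le_Sg (M := M) (s := s) c.mem 1 ν hQk
  have h2 := EE_le_Sg (M := M) (s := s) c.mem μ ((lam:ℤ) - 1) hPk
  have h3 : cc ∈ Sg M y ν (1 + (s:ℤ) - 1) ⊓ Sg M y ((lam:ℤ) - 1) (μ + (s:ℤ) - 1) :=
    Subgroup.mem_inf.2 ⟨h1, h2⟩
  rw [Sg_inf_Sg (by omega) (by omega) (by omega), c.reg.Sg_bot (by omega), Subgroup.mem_bot] at h3
  exact hcc1 h3

/-- numeric consequence -/
theorem lam_bound (c : Ctx M y s x0) {lam : ℕ} (hl : IsLam y x0 lam) (hls : lam + 2 ≤ s) :
    2 * s ≤ 3 * lam + 2 := by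
  obtain ⟨μ, ν, h1, h2, h3, h4, h5, _, _⟩ := lam_data c hl hls
  omega

end Cfsg.Agent.Helper61.TutteBound
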