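import Mathlib
import Cfsg.Agent.Lib.Helper61.TutteBound

/-!
# Exclusion of `s = 7` and the final bound `s ≤ 5`
-/

set_option autoImplicit false
set_option linter.unusedSectionVars false
set_option linter.unusedVariables false

namespace Cfsg.Agent.Helper61.TutteSeven

open Cfsg.Agent.Helper61.TutteBase Cfsg.Agent.Helper61.TutteX Cfsg.Agent.Helper61.TutteLam
  Cfsg.Agent.Helper61.TutteBound
open scoped commutatorElement

variable {G : Type*} [Group G] {M : Subgroup G} {y : G} {s : ℕ} {x0 : G}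

theorem comm_shift (k a b : ℤ) :
    ⁅xx y x0 (a + k), xx y x0 (b + k)⁆ = y ^ k * ⁅xx y x0 a, xx y x0 b⁆ * (y ^ k)⁻¹ := by
  rw [← conj_xx k a, ← conj_xx k b, commutatorElement_def, commutatorElement_def]
  group

theorem conj_eq_comm_mul (a b : G) : a * b * a⁻¹ = ⁅a, b⁆ * b := by
  rw [commutatorElement_def]; group

theorem comm_swap (a b : G) : ⁅a, b⁆ = ⁅b, a⁆⁻¹ := by
  rw [commutatorElement_def, commutatorElement_def]; group

variable [Finite G]

/-- elements of an abelian window are involutions -/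
theorem EE_sq (c : Ctx M y s x0) {lam : ℕ} (hl : IsLam y x0 lam) {i j : ℤ} (hij : j < i + lam)
    {a : G} (ha : a ∈ EE y x0 i j) : a * a = 1 := by
  have hcomm : ∀ a b : G, a ∈ EE y x0 i j → b ∈ EE y x0 i j → Commute a b := fun a b ha hb =>
    commute_EE_EE (fun k k' h1 h2 h3 h4 => hl.commute' (by omega) (by omega)) ha hb
  unfold EE at ha
  induction ha using Subgroup.closure_induction with
  | mem g hg =>
    obtain ⟨k, _, _, rfl⟩ := hg
    exact c.sq k
  | one => simp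
  | mul a b ha hb iha ihb =>
    have := hcomm a b ha hb
    calc a * b * (a * b) = a * (b * a) * b := by group
      _ = a * (a * b) * b := by rw [this.eq]
      _ = (a * a) * (b * b) := by group
      _ = 1 := by rw [iha, ihb, mul_one]
  | inv a ha iha =>
    have : a⁻¹ = a := inv_eq_of_mul_eq_one_left iha
    rw [this]; exact iha

theorem EE_inv (c : Ctx M y s x0) {lam : ℕ} (hl : IsLam y x0 lam) {i j : ℤ} (hij : j < i + lam)
    {a : G} (ha : a ∈ EE y x0 i j) : a⁻¹ = a := inv_eq_of_mul_eq_one_left (EE_sq c hl hij ha)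

/-- a window normalizes another one if all generator commutators fall into it -/
theorem le_normalizer_EE (c : Ctx M y s x0) {i j i' j' : ℤ}
    (h : ∀ k m, i ≤ k → k ≤ j → i' ≤ m → m ≤ j' → ⁅xx y x0 k, xx y x0 m⁆ ∈ EE y x0 i' j') :
    EE y x0 i j ≤ Subgroup.normalizer (EE y x0 i' j' : Set G) := by
  apply EE_le
  intro k hk1 hk2
  have hconj : ∀ a ∈ EE y x0 i' j', xx y x0 k * a * (xx y x0 k)⁻¹ ∈ EE y x0 i' j' := by
    intro a ha
    unfold EE at ha
    induction ha using Subgroup.closure_induction with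
    | mem g hg =>
      obtain ⟨m, hm1, hm2, rfl⟩ := hg
      rw [conj_eq_comm_mul]
      exact (EE y x0 i' j').mul_mem (h k m hk1 hk2 hm1 hm2) (xx_mem_EE hm1 hm2)
    | one => simp
    | mul a b _ _ iha ihb =>
      have e : xx y x0 k * (a * b) * (xx y x0 k)⁻¹ =
          (xx y x0 k * a * (xx y x0 k)⁻¹) * (xx y x0 k * b * (xx y x0 k)⁻¹) := by group
      rw [e]; exact (EE y x0 i' j').mul_mem iha ihb
    | inv a _ iha =>
      have e : xx y x0 k * a⁻¹ * (xx y x0 k)⁻¹ = (xx y x0 k * a * (xx y x0 k)⁻¹)⁻¹ := by group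
      rw [e]; exact (EE y x0 i' j').inv_mem iha
  rw [Subgroup.mem_normalizer_iff]
  intro a
  constructor
  · exact hconj a
  · intro ha
    have := hconj _ ha
    rw [c.inv k] at this
    have e : xx y x0 k * (xx y x0 k * a * xx y x0 k) * xx y x0 k = a := by
      calc xx y x0 k * (xx y x0 k * a * xx y x0 k) * xx y x0 k
          = (xx y x0 k * xx y x0 k) * a * (xx y x0 k * xx y x0 k) := by group
        _ = a := by rw [c.sq k, one_mul, mul_one]
    rw [e] at this
    exact this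

/-- the case `s = 7`, `lam = 4` is impossible -/
theorem seven_false (c : Ctx M y 7 x0) (hl : IsLam y x0 4) : False := by
  obtain ⟨μ, ν, h1, h2, h3, h4, h5, h6, h7⟩ := lam_data c hl (by norm_num)
  have hμ : μ = 2 := by push_cast at h3 h4 h5; omega
  have hν : ν = 2 := by push_cast at h3 h4 h5; omega
  subst hμ hν
  have hcc1 : ⁅xx y x0 0, xx y x0 ((4:ℕ):ℤ)⁆ ≠ 1 := fun h =>
    hl.nc (commutatorElement_eq_one_iff_commute.mp h)
  -- cc = x 2
  have hcc : ⁅xx y x0 0, xx y x0 4⁆ = xx y x0 2 := by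
    have e4 : ((4:ℕ):ℤ) = 4 := by norm_num
    rw [e4] at h6 h7 hcc1
    have a1 := EE_le_Sg (M := M) (s := 7) c.mem 1 2 h7
    have a2 := EE_le_Sg (M := M) (s := 7) c.mem 2 (4 - 1) h6
    have a3 : ⁅xx y x0 0, xx y x0 4⁆ ∈ Sg M y 2 (1 + ((7:ℕ):ℤ) - 1) ⊓ Sg M y (4 - 1) (2 + ((7:ℕ):ℤ) - 1) :=
      Subgroup.mem_inf.2 ⟨a1, a2⟩
    rw [Sg_inf_Sg (by norm_num) (by norm_num) (by norm_num)] at a3
    rcases c.reg.eq_one_or_eq_xx c.mem c.ne (i := 2) a3 with h | h
    · exact absurd h hcc1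
    · exact h
  have hcci : ∀ i : ℤ, ⁅xx y x0 i, xx y x0 (i + 4)⁆ = xx y x0 (i + 2) := by
    intro i
    have := comm_shift (y := y) (x0 := x0) i 0 4
    rw [hcc, conj_xx] at this
    have e1 : (0:ℤ) + i = i := by ring
    have e2 : (4:ℤ) + i = i + 4 := by ring
    have e3 : (2:ℤ) + i = i + 2 := by ring
    rw [e1, e2, e3] at this
    exact this
  have hl' : ∀ i j : ℤ, j < i + 4 → i < j + 4 → Commute (xx y x0 i) (xx y x0 j) := by
    intro i j h1 h2
    exact hl.commute' (by push_cast; omega) (by push_cast; omega)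
  have hc1 : ∀ i j : ℤ, j < i + 4 → i < j + 4 → ⁅xx y x0 i, xx y x0 j⁆ = 1 := fun i j h1 h2 =>
    commutatorElement_eq_one_iff_commute.mpr (hl' i j h1 h2)
  -- (I) ⁅x 1, x 6⁆ ∈ EE 2 4
  have hI : ⁅xx y x0 1, xx y x0 6⁆ ∈ EE y x0 2 4 := by
    have hw : ⁅xx y x0 1, xx y x0 6⁆ ∈ EE y x0 2 5 := by
      have := c.reg.comm_mem_EE c.mem c.ne (i := 1) (j := 6) (by norm_num) (by norm_num)
      norm_num at this
      exact this
    by_contra hnot
    have hd := decomp_right c (i := 2) (m := 5) (by norm_num) (by norm_num) hw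
      (by norm_num; exact hnot)
    norm_num at hd
    set w := ⁅xx y x0 1, xx y x0 6⁆ with hwdef
    set w0 := w * xx y x0 5 with hw0
    have hww : w = w0 * xx y x0 5 := by rw [hw0, mul_assoc, c.sq 5, mul_one]
    have hwinv : w⁻¹ = w := EE_inv c hl (by norm_num) hw
    -- x1 w x1 = w⁻¹
    have h8 : xx y x0 1 * w * xx y x0 1 = w⁻¹ := by
      rw [hwdef, comm_eq c, eq_inv_iff_mul_eq_one]
      calc xx y x0 1 * (xx y x0 1 * xx y x0 6 * xx y x0 1 * xx y x0 6) * xx y x0 1 *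
            (xx y x0 1 * xx y x0 6 * xx y x0 1 * xx y x0 6)
          = (xx y x0 1 * xx y x0 1) * xx y x0 6 * xx y x0 1 * xx y x0 6 * (xx y x0 1 * xx y x0 1) *
            xx y x0 6 * xx y x0 1 * xx y x0 6 := by group
        _ = xx y x0 6 * xx y x0 1 * (xx y x0 6 * xx y x0 6) * xx y x0 1 * xx y x0 6 := by
            rw [c.sq 1]; group
        _ = xx y x0 6 * (xx y x0 1 * xx y x0 1) * xx y x0 6 := by rw [c.sq 6]; group
        _ = 1 := by rw [c.sq 1, mul_one, c.sq 6]
    have h9 : xx y x0 1 * w0 * xx y x0 1 = w0 := by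
      have : Commute (xx y x0 1) w0 :=
        commute_of_mem_EE (fun k hk1 hk2 => hl' 1 k (by omega) (by omega)) hd
      calc xx y x0 1 * w0 * xx y x0 1 = w0 * (xx y x0 1 * xx y x0 1) := by rw [this.eq]; group
        _ = w0 := by rw [c.sq 1, mul_one]
    have h10 : xx y x0 1 * xx y x0 5 * xx y x0 1 = xx y x0 3 * xx y x0 5 := by
      have := conj_eq_comm_mul (xx y x0 1) (xx y x0 5)
      rw [c.inv 1] at this
      rw [this]
      have e := hcci 1
      norm_num at e
      rw [e]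
    have h11 : xx y x0 1 * w * xx y x0 1 = w0 * xx y x0 3 * xx y x0 5 := by
      rw [hww]
      calc xx y x0 1 * (w0 * xx y x0 5) * xx y x0 1
          = (xx y x0 1 * w0 * xx y x0 1) * (xx y x0 1 * xx y x0 1)⁻¹ *
            (xx y x0 1 * xx y x0 5 * xx y x0 1) := by group
        _ = w0 * xx y x0 3 * xx y x0 5 := by rw [h9, h10, c.sq 1]; group
    rw [h8, hwinv, hww] at h11
    -- w0 * x5 = w0 * x3 * x5
    have : xx y x0 3 = 1 := by
      have h12 : w0 * xx y x0 5 = w0 * (xx y x0 3 * xx y x0 5) := by rw [h11]; group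
      have h13 := mul_left_cancel h12
      have h14 : (1:G) * xx y x0 5 = xx y x0 3 * xx y x0 5 := by rw [one_mul]; exact h13
      exact (mul_right_cancel h14).symm
    exact c.ne_one 3 this
  -- (II) ⁅x (-1), x 4⁆ ∈ EE 1 3
  have hII : ⁅xx y x0 (-1), xx y x0 4⁆ ∈ EE y x0 1 3 := by
    have hw : ⁅xx y x0 (-1), xx y x0 4⁆ ∈ EE y x0 0 3 := by
      have := c.reg.comm_mem_EE c.mem c.ne (i := -1) (j := 4) (by norm_num) (by norm_num)
      norm_num at this
      exact this
    by_contra hnot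
    have hd := decomp_left c (m := 0) (j := 3) (by norm_num) (by norm_num) hw
      (by norm_num; exact hnot)
    norm_num at hd
    set w := ⁅xx y x0 (-1), xx y x0 4⁆ with hwdef
    obtain ⟨w0, hw0⟩ : ∃ w0, w0 = xx y x0 0 * w := ⟨_, rfl⟩
    rw [← hw0] at hd
    have hww : w = xx y x0 0 * w0 := by rw [hw0, ← mul_assoc, c.sq 0, one_mul]
    have hwinv : w⁻¹ = w := EE_inv c hl (by norm_num) hw
    -- x4 w x4 = w⁻¹
    have h8 : xx y x0 4 * w * xx y x0 4 = w⁻¹ := by
      rw [hwdef, comm_eq c, eq_inv_iff_mul_eq_one]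
      calc xx y x0 4 * (xx y x0 (-1) * xx y x0 4 * xx y x0 (-1) * xx y x0 4) * xx y x0 4 *
            (xx y x0 (-1) * xx y x0 4 * xx y x0 (-1) * xx y x0 4)
          = xx y x0 4 * xx y x0 (-1) * xx y x0 4 * xx y x0 (-1) * (xx y x0 4 * xx y x0 4) *
            xx y x0 (-1) * xx y x0 4 * xx y x0 (-1) * xx y x0 4 := by group
        _ = xx y x0 4 * xx y x0 (-1) * xx y x0 4 * (xx y x0 (-1) * xx y x0 (-1)) * xx y x0 4 *
            xx y x0 (-1) * xx y x0 4 := by rw [c.sq 4]; group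
        _ = xx y x0 4 * xx y x0 (-1) * (xx y x0 4 * xx y x0 4) * xx y x0 (-1) * xx y x0 4 := by
            rw [c.sq (-1)]; group
        _ = xx y x0 4 * (xx y x0 (-1) * xx y x0 (-1)) * xx y x0 4 := by rw [c.sq 4]; group
        _ = 1 := by rw [c.sq (-1), mul_one, c.sq 4]
    have h9 : xx y x0 4 * w0 * xx y x0 4 = w0 := by
      have : Commute (xx y x0 4) w0 :=
        commute_of_mem_EE (fun k hk1 hk2 => hl' 4 k (by omega) (by omega)) hd
      calc xx y x0 4 * w0 * xx y x0 4 = w0 * (xx y x0 4 * xx y x0 4) := by rw [this.eq]; group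
        _ = w0 := by rw [c.sq 4, mul_one]
    have h10 : xx y x0 4 * xx y x0 0 * xx y x0 4 = xx y x0 2 * xx y x0 0 := by
      have := conj_eq_comm_mul (xx y x0 4) (xx y x0 0)
      rw [c.inv 4] at this
      rw [this, comm_swap, hcc, c.inv 2]
    have h11 : xx y x0 4 * w * xx y x0 4 = xx y x0 2 * xx y x0 0 * w0 := by
      rw [hww]
      calc xx y x0 4 * (xx y x0 0 * w0) * xx y x0 4
          = (xx y x0 4 * xx y x0 0 * xx y x0 4) * (xx y x0 4 * xx y x0 4)⁻¹ *
            (xx y x0 4 * w0 * xx y x0 4) := by group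
        _ = xx y x0 2 * xx y x0 0 * w0 := by rw [h9, h10, c.sq 4]; group
    rw [h8, hwinv, hww] at h11
    have : xx y x0 2 = 1 := by
      have h12 : (1:G) * (xx y x0 0 * w0) = xx y x0 2 * (xx y x0 0 * w0) := by
        rw [one_mul, ← mul_assoc]; exact h11
      exact (mul_right_cancel h12).symm
    exact c.ne_one 2 this
  -- normality of N = EE 1 4
  have hN1 : ∀ k m : ℤ, 0 ≤ k → k ≤ 6 → 1 ≤ m → m ≤ 4 →
      ⁅xx y x0 k, xx y x0 m⁆ ∈ EE y x0 1 4 := by
    intro k m hk1 hk2 hm1 hm2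
    by_cases hg : m < k + 4 ∧ k < m + 4
    · rw [hc1 k m hg.1 hg.2]; exact Subgroup.one_mem _
    · have hcases : (k = 0 ∧ m = 4) ∨ (k = 5 ∧ m = 1) ∨ (k = 6 ∧ m = 2) ∨ (k = 6 ∧ m = 1) := by
        omega
      rcases hcases with ⟨rfl, rfl⟩ | ⟨rfl, rfl⟩ | ⟨rfl, rfl⟩ | ⟨rfl, rfl⟩
      · rw [hcc]; exact xx_mem_EE (by norm_num) (by norm_num)
      · rw [comm_swap]
        have := hcci 1
        norm_num at this
        rw [this]
        exact Subgroup.inv_mem _ (xx_mem_EE (by norm_num) (by norm_num))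
      · rw [comm_swap]
        have := hcci 2
        norm_num at this
        rw [this]
        exact Subgroup.inv_mem _ (xx_mem_EE (by norm_num) (by norm_num))
      · rw [comm_swap]
        exact Subgroup.inv_mem _ (EE_mono (by norm_num) (by norm_num) hI)
  have hN2 : ∀ k m : ℤ, -1 ≤ k → k ≤ 5 → 1 ≤ m → m ≤ 4 →
      ⁅xx y x0 k, xx y x0 m⁆ ∈ EE y x0 1 4 := by
    intro k m hk1 hk2 hm1 hm2
    by_cases hg : m < k + 4 ∧ k < m + 4
    · rw [hc1 k m hg.1 hg.2]; exact Subgroup.one_mem _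
    · have hcases : (k = 0 ∧ m = 4) ∨ (k = 5 ∧ m = 1) ∨ (k = -1 ∧ m = 3) ∨ (k = -1 ∧ m = 4) := by
        omega
      rcases hcases with ⟨rfl, rfl⟩ | ⟨rfl, rfl⟩ | ⟨rfl, rfl⟩ | ⟨rfl, rfl⟩
      · rw [hcc]; exact xx_mem_EE (by norm_num) (by norm_num)
      · rw [comm_swap]
        have := hcci 1
        norm_num at this
        rw [this]
        exact Subgroup.inv_mem _ (xx_mem_EE (by norm_num) (by norm_num))
      · have := hcci (-1)
        norm_num at this
        rw [this]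
        exact xx_mem_EE (by norm_num) (by norm_num)
      · exact EE_mono (by norm_num) (by norm_num) hII
  have e6 := c.reg.EE_eq_Mc c.mem c.ne 0
  have e5 := c.reg.EE_eq_Mc c.mem c.ne (-1)
  norm_num at e6 e5
  have hn5 : Mc M y 5 ≤ Subgroup.normalizer (EE y x0 1 4 : Set G) := by
    rw [← e5]; exact le_normalizer_EE c hN2
  have hn6 : Mc M y (5 + 1) ≤ Subgroup.normalizer (EE y x0 1 4 : Set G) := by
    have : (5:ℤ) + 1 = 6 := by norm_num
    rw [this, ← e6]; exact le_normalizer_EE c hN1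
  have hle : EE y x0 1 4 ≤ Mc M y 5 := by
    rw [← e5]; exact EE_mono (by norm_num) (by norm_num)
  have hbot := reg_eq_bot_of_normalized c.reg 5 hle hn5 hn6
  have : xx y x0 1 ∈ (⊥ : Subgroup G) := by
    rw [← hbot]; exact xx_mem_EE (by norm_num) (by norm_num)
  rw [Subgroup.mem_bot] at this
  exact c.ne_one 1 this


/-- Tutte's bound: `s ≤ 5`. -/
theorem ctx_le_five (c : Ctx M y s x0) : s ≤ 5 := by
  obtain ⟨lam, hls, hl⟩ := c.exists_lam
  have hs := c.reg.hs
  have h1 := c.two_lam_le hl hls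
  by_cases h2 : lam + 2 ≤ s
  · have h3 := lam_bound c hl h2
    by_contra hgt
    push Not at hgt
    have hs7 : s = 7 := by omega
    have hl4 : lam = 4 := by omega
    subst hs7 hl4
    exact seven_false c hl
  · omega

theorem reg_le_five (h : Reg M y s) : s ≤ 5 := by
  obtain ⟨x0, hx0, hx01⟩ := h.exists_x0
  exact ctx_le_five ⟨h, hx0, hx01⟩

/-- **Abstract Tutte–Sims theorem.** -/
theorem tutte_sims (hM : IsCoatom M)
    (hcore : ∀ H : Subgroup G, H.Normal → H ≤ M → H = ⊥)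
    (h1 : Nat.card M = 3 * Nat.card (Sg M y 0 1))
    (h2 : Nat.card (Sg M y 0 1) = 2 * Nat.card (Sg M y 0 2)) :
    ∃ s : ℕ, 2 ≤ s ∧ s ≤ 5 ∧ Reg M y s := by
  obtain ⟨s, hs2, hc, hS⟩ := regularity hM hcore h1 h2
  have hreg : Reg M y s := ⟨hM, hcore, hs2, hc, hS⟩
  exact ⟨s, hs2, reg_le_five hreg, hreg⟩

end Cfsg.Agent.Helper61.TutteSeven
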