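import Mathlib
import Cfsg.Agent.Lib.Helper61.TutteSeven

/-!
# Sims' theorem, abstract form

`M` a core-free coatom of a finite group `G`, `N = g M g⁻¹`, `|M : M ⊓ N| = 3`.
Then `|M| = 2^k * 3` with `k ≤ 4`.
-/

set_option autoImplicit false
set_option linter.unusedSectionVars false
set_option linter.unusedVariables false

namespace Cfsg.Agent.Helper61.SimsAbs

open Cfsg.Agent.Helper61.TutteBase Cfsg.Agent.Helper61.TutteX Cfsg.Agent.Helper61.TutteLam
  Cfsg.Agent.Helper61.TutteSeven

/-- In a group with a subgroup `D` of index three, squares of elements of `D` lie in every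
conjugate of `D`. -/
theorem sq_mem_conj_of_index_three {H : Type*} [Group H] (D : Subgroup H) (h3 : D.index = 3)
    {d : H} (hd : d ∈ D) (c : H) : c⁻¹ * (d * d) * c ∈ D := by
  classical
  by_contra hne
  have hfin : Finite (H ⧸ D) := by
    apply Nat.finite_of_card_ne_zero
    rw [← Subgroup.index_eq_card, h3]; norm_num
  have : Fintype (H ⧸ D) := Fintype.ofFinite _
  have hcard : Fintype.card (H ⧸ D) = 3 := by
    rw [← Nat.card_eq_fintype_card, ← Subgroup.index_eq_card, h3]
  have hc : c ∉ D := by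
    intro hc
    exact hne (D.mul_mem (D.mul_mem (D.inv_mem hc) (D.mul_mem hd hd)) hc)
  have hcdc : c⁻¹ * d * c ∉ D := by
    intro h
    apply hne
    have : c⁻¹ * (d * d) * c = (c⁻¹ * d * c) * (c⁻¹ * d * c) := by group
    rw [this]; exact D.mul_mem h h
  let q : H → H ⧸ D := fun a => (a : H ⧸ D)
  have hq : ∀ a b : H, q a = q b ↔ a⁻¹ * b ∈ D := fun a b => QuotientGroup.eq
  have n01 : q 1 ≠ q c := by
    rw [Ne, hq]; simpa using hc
  have n02 : q 1 ≠ q (d * c) := by
    rw [Ne, hq]
    intro h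
    apply hc
    have : c = d⁻¹ * (1⁻¹ * (d * c)) := by group
    rw [this]; exact D.mul_mem (D.inv_mem hd) h
  have n03 : q 1 ≠ q (d * d * c) := by
    rw [Ne, hq]
    intro h
    apply hc
    have : c = (d * d)⁻¹ * (1⁻¹ * (d * d * c)) := by group
    rw [this]; exact D.mul_mem (D.inv_mem (D.mul_mem hd hd)) h
  have n12 : q c ≠ q (d * c) := by
    rw [Ne, hq]
    intro h
    apply hcdc
    have : c⁻¹ * d * c = c⁻¹ * (d * c) := by group
    rw [this]; exact h
  have n23 : q (d * c) ≠ q (d * d * c) := by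
    rw [Ne, hq]
    intro h
    apply hcdc
    have : c⁻¹ * d * c = (d * c)⁻¹ * (d * d * c) := by group
    rw [this]; exact h
  have n13 : q c ≠ q (d * d * c) := by
    rw [Ne, hq]
    intro h
    apply hne
    have : c⁻¹ * (d * d) * c = c⁻¹ * (d * d * c) := by group
    rw [this]; exact h
  have h4 : ({q 1, q c, q (d * c), q (d * d * c)} : Finset (H ⧸ D)).card = 4 := by
    rw [Finset.card_insert_of_notMem, Finset.card_insert_of_notMem,
      Finset.card_insert_of_notMem, Finset.card_singleton]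
    · simp only [Finset.mem_singleton]; exact n23
    · simp only [Finset.mem_insert, Finset.mem_singleton, not_or]; exact ⟨n12, n13⟩
    · simp only [Finset.mem_insert, Finset.mem_singleton, not_or]; exact ⟨n01, n02, n03⟩
  have := Finset.card_le_univ ({q 1, q c, q (d * c), q (d * d * c)} : Finset (H ⧸ D))
  rw [h4, hcard] at this
  omega

variable {G : Type*} [Group G] [Finite G]

/-- relative version inside a finite group -/
theorem conj_mem_of_odd {M D : Subgroup G} (hDM : D ≤ M) (h3 : Nat.card M = 3 * Nat.card D)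
    {d : G} (hd : d ∈ D) (hodd : Odd (orderOf d)) {m : G} (hm : m ∈ M) : m * d * m⁻¹ ∈ D := by
  have hidx : (D.subgroupOf M).index = 3 := by
    have h1 : Nat.card M = D.relIndex M * Nat.card D := card_eq_relIndex_mul hDM
    have hpos : 0 < Nat.card D := Nat.card_pos
    have : D.relIndex M * Nat.card D = 3 * Nat.card D := by rw [← h1, h3]
    exact Nat.eq_of_mul_eq_mul_right hpos this
  have hsq : m * (d * d) * m⁻¹ ∈ D := by
    have h := sq_mem_conj_of_index_three (D.subgroupOf M) hidx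
      (d := (⟨d, hDM hd⟩ : M)) (Subgroup.mem_subgroupOf.mpr hd) (⟨m⁻¹, M.inv_mem hm⟩ : M)
    rw [Subgroup.mem_subgroupOf] at h
    simpa using h
  obtain ⟨j, hj⟩ := hodd
  have hdpow : d = (d * d) ^ (j + 1) := by
    have : (d * d) ^ (j + 1) = d ^ (2 * j + 1) * d := by
      rw [← pow_two, ← pow_mul, ← pow_succ]; congr 1
    rw [this, ← hj, pow_orderOf_eq_one, one_mul]
  have : m * d * m⁻¹ = (m * (d * d) * m⁻¹) ^ (j + 1) := by
    rw [conj_pow, ← hdpow]
  rw [this]
  exact D.pow_mem hsq _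

theorem mem_normalizer_closure_of_conj {S : Set G} {g : G}
    (h1 : ∀ a ∈ S, g * a * g⁻¹ ∈ S) (h2 : ∀ a ∈ S, g⁻¹ * a * g ∈ S) :
    g ∈ Subgroup.normalizer (Subgroup.closure S : Set G) := by
  have key : ∀ (k : G), (∀ a ∈ S, k * a * k⁻¹ ∈ S) →
      ∀ a ∈ Subgroup.closure S, k * a * k⁻¹ ∈ Subgroup.closure S := by
    intro k hk a ha
    induction ha using Subgroup.closure_induction with
    | mem x hx => exact Subgroup.subset_closure (hk x hx)
    | one => simp
    | mul a b _ _ iha ihb =>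
      have e : k * (a * b) * k⁻¹ = (k * a * k⁻¹) * (k * b * k⁻¹) := by group
      rw [e]; exact Subgroup.mul_mem _ iha ihb
    | inv a _ iha =>
      have e : k * a⁻¹ * k⁻¹ = (k * a * k⁻¹)⁻¹ := by group
      rw [e]; exact Subgroup.inv_mem _ iha
  rw [Subgroup.mem_normalizer_iff]
  intro a
  constructor
  · exact key g h1 a
  · intro ha
    have := key g⁻¹ (by simpa using h2) _ ha
    have e : g⁻¹ * (g * a * g⁻¹) * g⁻¹⁻¹ = a := by group
    rwa [e] at this

/-- the common part of two conjugate core-free coatoms meeting in index three is a 2-group -/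
theorem card_two_pow {M N D : Subgroup G} (hM : IsCoatom M)
    (hcore : ∀ H : Subgroup G, H.Normal → H ≤ M → H = ⊥) (hMN : M ≠ N) (hD : D = M ⊓ N)
    (h3M : Nat.card M = 3 * Nat.card D) (h3N : Nat.card N = 3 * Nat.card D) :
    ∃ a : ℕ, Nat.card D = 2 ^ a := by
  have hDM : D ≤ M := hD ▸ inf_le_left
  have hDN : D ≤ N := hD ▸ inf_le_right
  set S : Set G := {d | d ∈ D ∧ Odd (orderOf d)} with hS
  have hconj : ∀ (X : Subgroup G), D ≤ X → Nat.card X = 3 * Nat.card D →
      X ≤ Subgroup.normalizer (Subgroup.closure S : Set G) := by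
    intro X hDX hcX m hm
    apply mem_normalizer_closure_of_conj
    · rintro a ⟨ha, hodd⟩
      refine ⟨conj_mem_of_odd hDX hcX ha hodd hm, ?_⟩
      have : orderOf (m * a * m⁻¹) = orderOf a := by
        have := orderOf_injective (MulAut.conj m).toMonoidHom (MulAut.conj m).injective a
        simpa [MulAut.conj_apply] using this
      rw [this]; exact hodd
    · rintro a ⟨ha, hodd⟩
      have h := conj_mem_of_odd hDX hcX ha hodd (X.inv_mem hm)
      rw [inv_inv] at h
      refine ⟨h, ?_⟩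
      have : orderOf (m⁻¹ * a * m) = orderOf a := by
        have := orderOf_injective (MulAut.conj m⁻¹).toMonoidHom (MulAut.conj m⁻¹).injective a
        simpa [MulAut.conj_apply] using this
      rw [this]; exact hodd
  have hn1 := hconj M hDM h3M
  have hn2 := hconj N hDN h3N
  have hsup : M ⊔ N = ⊤ := by
    by_contra hne
    have h1 : M ⊔ N = M := by
      by_contra h2
      exact hne (hM.2 _ (lt_of_le_of_ne le_sup_left (Ne.symm h2)))
    have h3 : N ≤ M := by rw [← h1]; exact le_sup_right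
    exact hMN (Subgroup.eq_of_le_of_card_ge h3 (by rw [h3M, h3N])).symm
  have htop : Subgroup.normalizer (Subgroup.closure S : Set G) = ⊤ := by
    rw [eq_top_iff, ← hsup]; exact sup_le hn1 hn2
  have hEle : Subgroup.closure S ≤ M := by
    rw [Subgroup.closure_le]
    rintro a ⟨ha, _⟩
    exact hDM ha
  have hbot := hcore _ (Subgroup.normalizer_eq_top_iff.mp htop) hEle
  have hprime : ∀ {p : ℕ}, p.Prime → p ∣ Nat.card D → p = 2 := by
    intro p hp hpd
    by_contra hp2
    have := Fact.mk hp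
    obtain ⟨d, hd⟩ := exists_prime_orderOf_dvd_card' (G := D) p hpd
    have hodd : Odd (orderOf (d : G)) := by
      rw [Subgroup.orderOf_coe, hd]
      exact hp.odd_of_ne_two hp2
    have hmem : (d : G) ∈ Subgroup.closure S := Subgroup.subset_closure ⟨d.2, hodd⟩
    rw [hbot, Subgroup.mem_bot] at hmem
    have : d = 1 := Subtype.ext hmem
    rw [this, orderOf_one] at hd
    exact hp.one_lt.ne hd
  exact ⟨_, Nat.eq_prime_pow_of_unique_prime_dvd (Nat.card_pos (α := D)).ne' hprime⟩

/-- two distinct 2-subgroups of index three meet in index two -/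
theorem card_eq_two_mul_inf {A B N : Subgroup G} (hA : A ≤ N) (hB : B ≤ N)
    (hcN : Nat.card N = 3 * Nat.card A) (hcAB : Nat.card A = Nat.card B) (hne : A ≠ B)
    (h2 : ∃ a : ℕ, Nat.card A = 2 ^ a) : Nat.card A = 2 * Nat.card ↥(A ⊓ B) := by
  obtain ⟨a, ha⟩ := h2
  have h1 := card_mul_le hA hB
  have hdvd : Nat.card ↥(A ⊓ B) ∣ Nat.card A := Subgroup.card_dvd_of_le inf_le_left
  rw [ha] at hdvd
  obtain ⟨b, hb, hbe⟩ := (Nat.dvd_prime_pow Nat.prime_two).mp hdvd
  rw [← hcAB, hcN, ha, hbe] at h1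
  have hab : a ≠ b := by
    intro h
    apply hne
    have h3 : A ⊓ B = A := by
      apply Subgroup.eq_of_le_of_card_ge inf_le_left
      rw [ha, hbe, h]
    have h4 : A ≤ B := by rw [← h3]; exact inf_le_right
    exact Subgroup.eq_of_le_of_card_ge h4 (by rw [hcAB])
  have hlt : b < a := lt_of_le_of_ne hb (Ne.symm hab)
  have h5 : a = b + 1 := by
    by_contra h6
    have h7 : b + 2 ≤ a := by omega
    have h8 : 2 ^ (b + 2) ≤ 2 ^ a := Nat.pow_le_pow_right (by norm_num) h7
    have hpos : 0 < 2 ^ a := by positivity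
    have hposb : 0 < 2 ^ b := by positivity
    -- 2^a * 2^a ≤ 2^b * (3 * 2^a)  ⇒ 2^a ≤ 3 * 2^b
    have h9 : 2 ^ a ≤ 3 * 2 ^ b := by
      have : 2 ^ a * 2 ^ a ≤ (3 * 2 ^ b) * 2 ^ a := by nlinarith
      exact Nat.le_of_mul_le_mul_right this hpos
    rw [pow_add] at h8
    omega
  rw [ha, hbe, h5, pow_succ]; ring

/-- **Sims' theorem, abstract form.** -/
theorem sims_abstract {M N : Subgroup G} (hM : IsCoatom M)
    (hcore : ∀ H : Subgroup G, H.Normal → H ≤ M → H = ⊥) (g : G) (hN : N = cj g M)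
    (h3 : Nat.card M = 3 * Nat.card ↥(M ⊓ N)) :
    ∃ k : ℕ, k ≤ 4 ∧ Nat.card M = 2 ^ k * 3 := by
  set D := M ⊓ N with hD
  have hDM : D ≤ M := inf_le_left
  have hDN : D ≤ N := inf_le_right
  have hcN : Nat.card N = Nat.card M := by rw [hN, card_cj]
  have hposD : 0 < Nat.card D := Nat.card_pos
  have hMN : M ≠ N := by
    intro h
    have : D = M := by rw [hD, ← h, inf_idem]
    rw [this] at h3
    have : 0 < Nat.card M := Nat.card_pos
    omega
  have h2pow := card_two_pow hM hcore hMN hD h3 (by rw [hcN, h3])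
  have hsup : M ⊔ N = ⊤ := by
    by_contra hne
    have h1 : M ⊔ N = M := by
      by_contra h2
      exact hne (hM.2 _ (lt_of_le_of_ne le_sup_left (Ne.symm h2)))
    have h4 : N ≤ M := by rw [← h1]; exact le_sup_right
    exact hMN (Subgroup.eq_of_le_of_card_ge h4 (by rw [hcN])).symm
  set D₁ := cj g D with hD₁
  have hD₁N : D₁ ≤ N := by rw [hD₁, hN]; exact cj_mono hDM
  have hcD₁ : Nat.card D₁ = Nat.card D := by rw [hD₁, card_cj]
  by_cases hnorm : M ≤ Subgroup.normalizer (D : Set G)
  · -- D normal in M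
    refine ⟨0, by norm_num, ?_⟩
    have hnN : N ≤ Subgroup.normalizer (D₁ : Set G) := by
      intro n hn
      rw [hN, mem_cj] at hn
      have h1 := hnorm hn
      rw [cj_eq_iff_mem_normalizer] at h1 ⊢
      have e : n = g * (g⁻¹ * n * g) * g⁻¹ := by group
      rw [e, hD₁, cj_mul, cj_mul, cj_inv_cj, h1]
    have hp2 : IsPGroup 2 D := by
      obtain ⟨a, ha⟩ := h2pow
      exact IsPGroup.of_card ha
    have hp2' : IsPGroup 2 D₁ := by
      obtain ⟨a, ha⟩ := h2pow
      exact IsPGroup.of_card (hcD₁.trans ha)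
    have hsupp : IsPGroup 2 ↥(D ⊔ D₁) :=
      IsPGroup.to_sup_of_normal_right' hp2 hp2' (hDN.trans hnN)
    obtain ⟨a, ha⟩ := h2pow
    obtain ⟨m, hm⟩ := IsPGroup.iff_card.mp hsupp
    have hle : D ⊔ D₁ ≤ N := sup_le hDN hD₁N
    have hdvd : Nat.card ↥(D ⊔ D₁) ∣ Nat.card N := Subgroup.card_dvd_of_le hle
    have hdvd2 : Nat.card D ∣ Nat.card ↥(D ⊔ D₁) := Subgroup.card_dvd_of_le le_sup_left
    rw [hm, hcN, h3, ha] at hdvd
    rw [ha, hm] at hdvd2
    have hma : m = a := by
      have h5 : a ≤ m := (Nat.pow_dvd_pow_iff_le_right (by norm_num)).mp hdvd2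
      have h6 : m ≤ a := by
        have hcop : Nat.Coprime (2 ^ m) 3 := Nat.Coprime.pow_left m (by norm_num)
        have := hcop.dvd_of_dvd_mul_left hdvd
        exact (Nat.pow_dvd_pow_iff_le_right (by norm_num)).mp this
      omega
    have hsupD : D ⊔ D₁ = D :=
      (Subgroup.eq_of_le_of_card_ge le_sup_left (by rw [hm, ha, hma])).symm
    have hD₁D : D₁ = D := by
      have : D₁ ≤ D := by rw [← hsupD]; exact le_sup_right
      exact Subgroup.eq_of_le_of_card_ge this (by rw [hcD₁])
    rw [hD₁D] at hnN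
    have htop : Subgroup.normalizer (D : Set G) = ⊤ := by
      rw [eq_top_iff, ← hsup]; exact sup_le hnorm hnN
    have hbot := hcore _ (Subgroup.normalizer_eq_top_iff.mp htop) hDM
    rw [h3, hbot]; simp
  · -- D not normal in M
    obtain ⟨m, hmM, hmn⟩ := SetLike.not_le_iff_exists.mp hnorm
    have hmD : cj m D ≠ D := fun h => hmn (cj_eq_iff_mem_normalizer.mpr h)
    -- choose n ∈ N with cj n D₁ ≠ D
    obtain ⟨n, hnN, hn⟩ : ∃ n ∈ N, cj n D₁ ≠ D := by
      by_cases h : D₁ = D
      · refine ⟨g * m * g⁻¹, ?_, ?_⟩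
        · rw [hN]; exact conj_mem_cj hmM
        · rw [hD₁, ← cj_mul]
          have e : g * m * g⁻¹ * g = g * m := by group
          rw [e, cj_mul]
          intro h'
          have h'' : cj g (cj m D) = cj g D := h'.trans (h.symm.trans hD₁)
          apply hmD
          have := congrArg (cj g⁻¹) h''
          rwa [cj_inv_cj, cj_inv_cj] at this
      · exact ⟨1, N.one_mem, by rw [cj_one]; exact h⟩
    set y := n * g with hy
    have hMc1 : Mc M y 1 = N := by
      unfold Mc
      rw [zpow_one, hy, cj_mul, ← hN, cj_eq_of_mem hnN]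
    have hS01 : Sg M y 0 1 = D := by
      rw [← Sg_inf_Sg (i := 0) (j := 0) (i' := 1) (j' := 1) (by norm_num) (by norm_num)
        (by norm_num), Sg_self, Sg_self, Mc_zero, hMc1]
    have hS12 : Sg M y 1 2 = cj n D₁ := by
      have := cj_Sg (M := M) (y := y) 1 0 1
      rw [zpow_one, hS01] at this
      norm_num at this
      rw [← this, hy, cj_mul]
    have hS02 : Sg M y 0 2 = D ⊓ cj n D₁ := by
      rw [← Sg_inf_Sg (i := 0) (j := 1) (i' := 1) (j' := 2) (by norm_num) (by norm_num)
        (by norm_num), hS01, hS12]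
    have hD₂N : cj n D₁ ≤ N := by
      have := cj_mono (g := n) hD₁N
      rwa [cj_eq_of_mem hnN] at this
    have h2 : Nat.card (Sg M y 0 1) = 2 * Nat.card (Sg M y 0 2) := by
      rw [hS01, hS02]
      exact card_eq_two_mul_inf hDN hD₂N (by rw [hcN, h3]) (by rw [card_cj, hcD₁])
        (Ne.symm hn) h2pow
    have h1 : Nat.card M = 3 * Nat.card (Sg M y 0 1) := by rw [hS01]; exact h3
    obtain ⟨s, hs2, hs5, hreg⟩ := tutte_sims hM hcore h1 h2
    refine ⟨s - 1, by omega, ?_⟩
    rw [hreg.cardM]; ring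

end Cfsg.Agent.Helper61.SimsAbs
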