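import Mathlib

/-!
# Small group-theoretic tools for the structure of the point stabiliser (Sims, Wong)
-/

set_option autoImplicit false
set_option linter.unusedSectionVars false
set_option linter.unusedVariables false

namespace Cfsg.Agent.Helper61.SimsTools

open Equiv

/-- In a group of order six the product of two involutions has cube one. -/
theorem cube_eq_one_of_card_six {Q : Type*} [Group Q] [Finite Q] (h6 : Nat.card Q = 6)
    {u v : Q} (hu : u * u = 1) (hv : v * v = 1) (hu1 : u ≠ 1) (hv1 : v ≠ 1) :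
    (u * v) ^ 3 = 1 := by
  have : Fact (Nat.Prime 3) := ⟨by norm_num⟩
  obtain ⟨t, ht⟩ := exists_prime_orderOf_dvd_card' (G := Q) 3 (by rw [h6]; norm_num)
  set T := Subgroup.zpowers t with hT
  have hcT : Nat.card T = 3 := by rw [hT, Nat.card_zpowers, ht]
  have hidx : T.index = 2 := by
    have := Subgroup.card_mul_index T
    rw [hcT, h6] at this
    omega
  have hnot : ∀ w : Q, w * w = 1 → w ≠ 1 → w ∉ T := by
    intro w hw hw1 hwT
    have h1 : orderOf w ∣ 3 := by
      have := Subgroup.orderOf_dvd_natCard T hwT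
      rwa [hcT] at this
    have h2 : orderOf w ∣ 2 := orderOf_dvd_of_pow_eq_one (by rw [pow_two]; exact hw)
    have h3 : orderOf w ∣ 1 := by
      have := Nat.dvd_gcd h1 h2
      simpa using this
    exact hw1 (orderOf_eq_one_iff.mp (Nat.dvd_one.mp h3))
  have huv : u * v ∈ T := by
    rw [Subgroup.mul_mem_iff_of_index_two hidx]
    exact ⟨fun h => absurd h (hnot u hu hu1), fun h => absurd h (hnot v hv hv1)⟩
  have : (⟨u * v, huv⟩ : T) ^ 3 = 1 := by
    rw [← hcT]; exact pow_card_eq_one'
  have := congrArg Subtype.val this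
  simpa using this

variable {G : Type*} [Group G]

/-- In a subgroup `P` with a normal subgroup `K` of index six, the product of two involutions
modulo `K` has its cube in `K`. -/
theorem cube_mem [Finite G] {P K : Subgroup G} (hKP : K ≤ P)
    (hn : P ≤ Subgroup.normalizer (K : Set G)) (hidx : Nat.card P = 6 * Nat.card K)
    {u v : G} (hu : u ∈ P) (hv : v ∈ P) (hu2 : u * u ∈ K) (hv2 : v * v ∈ K)
    (huK : u ∉ K) (hvK : v ∉ K) : (u * v) ^ 3 ∈ K := by
  have hN : (K.subgroupOf P).Normal := (Subgroup.normal_subgroupOf_iff_le_normalizer hKP).mpr hn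
  have h6 : Nat.card (↥P ⧸ K.subgroupOf P) = 6 := by
    rw [← Subgroup.index_eq_card]
    have h1 := Subgroup.card_mul_index (K.subgroupOf P)
    have h2 : Nat.card (K.subgroupOf P) = Nat.card K :=
      Nat.card_congr (Subgroup.subgroupOfEquivOfLe hKP).toEquiv
    rw [h2, hidx] at h1
    have hpos : 0 < Nat.card K := Nat.card_pos
    have : Nat.card K * (K.subgroupOf P).index = Nat.card K * 6 := by rw [h1]; ring
    exact Nat.eq_of_mul_eq_mul_left hpos this
  set u' : ↥P ⧸ K.subgroupOf P := QuotientGroup.mk ⟨u, hu⟩ with hu'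
  set v' : ↥P ⧸ K.subgroupOf P := QuotientGroup.mk ⟨v, hv⟩ with hv'
  have e1 : u' * u' = 1 := by
    rw [hu', ← QuotientGroup.mk_mul, QuotientGroup.eq_one_iff, Subgroup.mem_subgroupOf]
    exact hu2
  have e2 : v' * v' = 1 := by
    rw [hv', ← QuotientGroup.mk_mul, QuotientGroup.eq_one_iff, Subgroup.mem_subgroupOf]
    exact hv2
  have e3 : u' ≠ 1 := by
    rw [hu', Ne, QuotientGroup.eq_one_iff, Subgroup.mem_subgroupOf]
    exact huK
  have e4 : v' ≠ 1 := by
    rw [hv', Ne, QuotientGroup.eq_one_iff, Subgroup.mem_subgroupOf]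
    exact hvK
  have := cube_eq_one_of_card_six h6 e1 e2 e3 e4
  rw [hu', hv', ← QuotientGroup.mk_mul, ← QuotientGroup.mk_pow, QuotientGroup.eq_one_iff,
    Subgroup.mem_subgroupOf] at this
  simpa using this

/-- an element of `K` fixed by an element whose cube... : if `w ^ 3 ∈ K` and `w` has only the
trivial fixed point on `K`, then `w ^ 3 = 1`. -/
theorem cube_eq_one_of_fpf {K : Subgroup G} {w : G} (h3 : w ^ 3 ∈ K)
    (hf : ∀ k ∈ K, w * k * w⁻¹ = k → k = 1) : w ^ 3 = 1 := by
  apply hf _ h3
  group

/-- braid relation from cube one, for involutions -/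
theorem braid_of_cube {a b : G} (ha : a * a = 1) (hb : b * b = 1) (h : (a * b) ^ 3 = 1) :
    b * (a * b) = a * (b * a) := by
  have h1 : a * b * (a * b) * (a * b) = 1 := by rw [← h, pow_succ, pow_two]
  have ha' : a⁻¹ = a := inv_eq_of_mul_eq_one_left ha
  have hb' : b⁻¹ = b := inv_eq_of_mul_eq_one_left hb
  have h2 : b * (a * b) = (a * b * a)⁻¹ := by
    rw [eq_inv_iff_mul_eq_one]
    have : b * (a * b) * (a * b * a) = b * (a * b * (a * b) * (a * b)) * b⁻¹ := by
      group
    rw [this, h1]; group
  rw [h2, mul_inv_rev, mul_inv_rev, ha', hb']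

/-- A homomorphism from `S₄` maps into a subgroup as soon as the three Coxeter generators do. -/
theorem perm_four_map_mem {P : Subgroup G} (φ : Perm (Fin 4) →* G)
    (h0 : φ (swap 0 1) ∈ P) (h1 : φ (swap 1 2) ∈ P) (h2 : φ (swap 2 3) ∈ P) (σ : Perm (Fin 4)) :
    φ σ ∈ P := by
  have hcl := Equiv.Perm.mclosure_swap_castSucc_succ 3
  have hmem : σ ∈ Submonoid.closure
      (Set.range fun i : Fin 3 => swap (i.castSucc : Fin 4) i.succ) := by
    rw [hcl]; trivial
  induction hmem using Submonoid.closure_induction with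
  | mem x hx =>
    obtain ⟨i, rfl⟩ := hx
    fin_cases i
    · exact h0
    · exact h1
    · exact h2
  | one => rw [map_one]; exact P.one_mem
  | mul a b _ _ iha ihb => rw [map_mul]; exact P.mul_mem iha ihb

/-- an injective homomorphism into a subgroup of the same order is an isomorphism -/
theorem nonempty_mulEquiv_of_injective [Finite G] {A : Type*} [Group A] {P : Subgroup G}
    (φ : A →* G) (hinj : Function.Injective φ) (hmem : ∀ a, φ a ∈ P)
    (hcard : Nat.card A = Nat.card P) : Nonempty (↥P ≃* A) := by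
  have hle : φ.range ≤ P := by
    rintro _ ⟨a, rfl⟩
    exact hmem a
  have e := MonoidHom.ofInjective hinj
  have hc : Nat.card φ.range = Nat.card P := by
    rw [← hcard]; exact (Nat.card_congr e.toEquiv).symm
  have heq : φ.range = P := Subgroup.eq_of_le_of_card_ge hle (by rw [hc])
  exact ⟨(MulEquiv.subgroupCongr heq.symm).trans e.symm⟩

theorem perm_four_central : ∀ σ : Perm (Fin 4), σ * swap 0 1 = swap 0 1 * σ →
    σ * swap 1 2 = swap 1 2 * σ → σ * swap 2 3 = swap 2 3 * σ → σ = 1 := by
  decide

/-- a group of order three -/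
theorem nonempty_mulEquiv_zmod_three {A : Type*} [Group A] (h : Nat.card A = 3) :
    Nonempty (A ≃* Multiplicative (ZMod 3)) := by
  have : Fact (Nat.Prime 3) := ⟨by norm_num⟩
  have hc : IsCyclic A := isCyclic_of_prime_card h
  have e := zmodCyclicMulEquiv hc
  rw [h] at e
  exact ⟨e.symm⟩

end Cfsg.Agent.Helper61.SimsTools
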