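import Mathlib
import Cfsg.Agent.Lib.Helper61.SimsTools
import Cfsg.Agent.S5344
import Cfsg.Agent.S1349
import Cfsg.Agent.Lib.Helper66.OrdersFour

/-!
# Recognition of `S₃`, `D₁₂`, `S₄` from generator data
-/

set_option autoImplicit false
set_option linter.unusedSectionVars false
set_option linter.unusedVariables false

namespace Cfsg.Agent.Helper61.SimsDataA

open Equiv Cfsg.Agent.Helper61.SimsTools

variable {G : Type*} [Group G] [Finite G]

/-- order six, non-abelian -/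
theorem s3_of_data {P : Subgroup G} {a0 a1 : G} (hP : Nat.card P = 6) (h0 : a0 ∈ P) (h1 : a1 ∈ P)
    (nc : a0 * a1 ≠ a1 * a0) : Nonempty (↥P ≃* Perm (Fin 3)) := by
  apply Cfsg.Agent.Helper66.nonempty_mulEquiv_perm_fin_three hP
  intro q hq
  have hcyc : IsCyclic P := isCyclic_of_orderOf_eq_card q (by rw [hq, hP])
  have hcomm : ∀ a b : P, a * b = b * a := fun a b => by
    letI := hcyc.commGroup
    exact mul_comm a b
  apply nc
  have := hcomm ⟨a0, h0⟩ ⟨a1, h1⟩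
  exact congrArg Subtype.val this

/-- order twelve -/
theorem d12_of_data {P : Subgroup G} {a0 a1 a2 : G} (hP : Nat.card P = 12)
    (h0 : a0 ∈ P) (h1 : a1 ∈ P) (h2 : a2 ∈ P)
    (s0 : a0 * a0 = 1) (s1 : a1 * a1 = 1) (s2 : a2 * a2 = 1)
    (c01 : a0 * a1 = a1 * a0) (c12 : a1 * a2 = a2 * a1) (nc : a0 * a2 ≠ a2 * a0)
    (n1 : a1 ≠ 1) : Nonempty (↥P ≃* DihedralGroup 6) := by
  have i0 : a0⁻¹ = a0 := inv_eq_of_mul_eq_one_left s0
  have i1 : a1⁻¹ = a1 := inv_eq_of_mul_eq_one_left s1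
  have i2 : a2⁻¹ = a2 := inv_eq_of_mul_eq_one_left s2
  obtain ⟨ρ, hρ⟩ : ∃ ρ, ρ = a0 * a2 := ⟨_, rfl⟩
  have hρ2 : ρ ^ 2 ≠ 1 := by
    intro h
    apply nc
    have h' : a0 * a2 * (a0 * a2) = 1 := by rw [← pow_two, ← hρ]; exact h
    have : a0 * a2 = (a0 * a2)⁻¹ := eq_inv_of_mul_eq_one_left h'
    rw [this, mul_inv_rev, i0, i2]
  have hρinv : a0 * ρ * a0⁻¹ = ρ⁻¹ := by
    rw [hρ, mul_inv_rev, i0, i2]
    have : a0 * (a0 * a2) * a0 = (a0 * a0) * a2 * a0 := by group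
    rw [this, s0, one_mul]
  have hρP : ρ ∈ P := by rw [hρ]; exact P.mul_mem h0 h2
  -- find l of order 6 inverted by a0
  obtain ⟨l, hlP, hl6, hlinv⟩ : ∃ l ∈ P, orderOf l = 6 ∧ a0 * l * a0⁻¹ = l⁻¹ := by
    have key : ∀ l ∈ P, l ^ 2 ≠ 1 → l ^ 3 ≠ 1 → a0 * l * a0⁻¹ = l⁻¹ → orderOf l = 6 := by
      intro l hlP hl2 hl3 hlinv
      have hb : a0 ^ 2 = 1 := by rw [pow_two]; exact s0
      obtain ⟨e⟩ := Cfsg.Agent.S1349.dihedral_of_inverts hb hl2 hlinv
      have hle : Subgroup.zpowers a0 ⊔ Subgroup.zpowers l ≤ P := by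
        apply sup_le <;> rw [Subgroup.zpowers_le] <;> assumption
      have hc : Nat.card ↥(Subgroup.zpowers a0 ⊔ Subgroup.zpowers l) = 2 * orderOf l := by
        rw [Nat.card_congr e.toEquiv, DihedralGroup.nat_card]
      have hdvd := Subgroup.card_dvd_of_le hle
      rw [hc, hP] at hdvd
      have hd6 : orderOf l ∣ 6 := by
        have : 2 * orderOf l ∣ 2 * 6 := by simpa using hdvd
        exact Nat.dvd_of_mul_dvd_mul_left (by norm_num) this
      have hn2 : ¬ orderOf l ∣ 2 := fun h => hl2 (orderOf_dvd_iff_pow_eq_one.mp h)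
      have hn3 : ¬ orderOf l ∣ 3 := fun h => hl3 (orderOf_dvd_iff_pow_eq_one.mp h)
      have hle6 : orderOf l ≤ 6 := Nat.le_of_dvd (by norm_num) hd6
      interval_cases h : orderOf l <;> simp_all
    by_cases h3 : ρ ^ 3 = 1
    · have hcomm : Commute ρ a1 := by
        have e1 : Commute a0 a1 := c01
        have e2 : Commute a2 a1 := c12.symm
        rw [hρ]
        exact e1.mul_left e2
      have hinv' : a0 * (ρ * a1) * a0⁻¹ = (ρ * a1)⁻¹ := by
        calc a0 * (ρ * a1) * a0⁻¹ = (a0 * ρ * a0⁻¹) * (a0 * a1 * a0⁻¹) := by group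
          _ = ρ⁻¹ * a1 := by rw [hρinv, c01]; group
          _ = (ρ * a1)⁻¹ := by rw [mul_inv_rev, i1]; exact hcomm.inv_left.eq
      refine ⟨ρ * a1, P.mul_mem hρP h1, ?_, hinv'⟩
      apply key _ (P.mul_mem hρP h1) _ _ hinv'
      · rw [hcomm.mul_pow, pow_two a1, s1, mul_one]; exact hρ2
      · rw [hcomm.mul_pow, h3, one_mul]
        have : a1 ^ 3 = a1 * a1 * a1 := by rw [pow_succ, pow_two]
        rw [this, s1, one_mul]; exact n1
    · exact ⟨ρ, hρP, key ρ hρP hρ2 h3 hρinv, hρinv⟩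
  have hb : a0 ^ 2 = 1 := by rw [pow_two]; exact s0
  have hl2 : l ^ 2 ≠ 1 := by
    intro h
    have := orderOf_dvd_of_pow_eq_one h
    rw [hl6] at this
    norm_num at this
  obtain ⟨e⟩ := Cfsg.Agent.S1349.dihedral_of_inverts hb hl2 hlinv
  rw [hl6] at e
  have hle : Subgroup.zpowers a0 ⊔ Subgroup.zpowers l ≤ P := by
    apply sup_le <;> rw [Subgroup.zpowers_le] <;> assumption
  have hc : Nat.card ↥(Subgroup.zpowers a0 ⊔ Subgroup.zpowers l) = 12 := by
    rw [Nat.card_congr e.toEquiv, DihedralGroup.nat_card]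
  have heq : Subgroup.zpowers a0 ⊔ Subgroup.zpowers l = P :=
    Subgroup.eq_of_le_of_card_ge hle (by rw [hc, hP])
  exact ⟨(MulEquiv.subgroupCongr heq.symm).trans e⟩

/-- order twenty-four -/
theorem s4_of_data {P K : Subgroup G} {a0 a1 a2 a3 : G}
    (hP : Nat.card P = 24) (hKP : K ≤ P) (hn : P ≤ Subgroup.normalizer (K : Set G))
    (hK : Nat.card K = 4)
    (hKenum : ∀ k ∈ K, k = 1 ∨ k = a1 ∨ k = a2 ∨ k = a1 * a2)
    (h0P : a0 ∈ P) (h3P : a3 ∈ P) (h1K : a1 ∈ K) (h2K : a2 ∈ K) (h0K : a0 ∉ K) (h3K : a3 ∉ K)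
    (s0 : a0 * a0 = 1) (s1 : a1 * a1 = 1) (s2 : a2 * a2 = 1) (s3 : a3 * a3 = 1)
    (c01 : a0 * a1 = a1 * a0) (c12 : a1 * a2 = a2 * a1) (c23 : a2 * a3 = a3 * a2)
    (c02 : a0 * a2 * a0 * a2 = a1) (c13 : a1 * a3 * a1 * a3 = a2)
    (n1 : a1 ≠ 1) (n2 : a2 ≠ 1) (n12 : a1 ≠ a2) : Nonempty (↥P ≃* Perm (Fin 4)) := by
  have i0 : a0⁻¹ = a0 := inv_eq_of_mul_eq_one_left s0
  have i1 : a1⁻¹ = a1 := inv_eq_of_mul_eq_one_left s1
  have i2 : a2⁻¹ = a2 := inv_eq_of_mul_eq_one_left s2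
  have i3 : a3⁻¹ = a3 := inv_eq_of_mul_eq_one_left s3
  have hidx : Nat.card P = 6 * Nat.card K := by rw [hP, hK]
  -- conjugation rules
  have r02 : a0 * a2 * a0 = a1 * a2 := by
    have : a0 * a2 * a0 = (a0 * a2 * a0 * a2) * a2⁻¹ := by group
    rw [this, c02, i2]
  have r31 : a3 * a1 * a3 = a1 * a2 := by
    have : a3 * a1 * a3 = a1⁻¹ * (a1 * a3 * a1 * a3) := by group
    rw [this, c13, i1]
  set g := a0 * a3 with hg
  have hginv : g⁻¹ = a3 * a0 := by rw [hg, mul_inv_rev, i0, i3]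
  have g1 : g * a1 * g⁻¹ = a2 := by
    rw [hginv, hg]
    have : a0 * a3 * a1 * (a3 * a0) = a0 * (a3 * a1 * a3) * a0 := by group
    rw [this, r31]
    have : a0 * (a1 * a2) * a0 = (a0 * a1) * a2 * a0 := by group
    rw [this, c01]
    have : a1 * a0 * a2 * a0 = a1 * (a0 * a2 * a0) := by group
    rw [this, r02, ← mul_assoc, s1, one_mul]
  have g2 : g * a2 * g⁻¹ = a1 * a2 := by
    rw [hginv, hg]
    have : a0 * a3 * a2 * (a3 * a0) = a0 * (a3 * a2) * a3 * a0 := by group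
    rw [this, ← c23]
    have : a0 * (a2 * a3) * a3 * a0 = a0 * a2 * (a3 * a3) * a0 := by group
    rw [this, s3, mul_one, r02]
  have conj_mul : ∀ w k k' : G, w * (k * k') * w⁻¹ = (w * k * w⁻¹) * (w * k' * w⁻¹) := by
    intro w k k'; group
  have fpf : ∀ k ∈ K, g * k * g⁻¹ = k → k = 1 := by
    intro k hk hfix
    rcases hKenum k hk with h | h | h | h
    · exact h
    · rw [h, g1] at hfix; exact absurd hfix.symm n12
    · rw [h, g2] at hfix
      exfalso; apply n1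
      have : a1 * a2 * a2⁻¹ = a2 * a2⁻¹ := by rw [hfix]
      simpa using this
    · rw [h, conj_mul, g1, g2] at hfix
      exfalso; apply n2
      have h' : a2 * (a1 * a2) = a1 := by rw [c12, ← mul_assoc, s2, one_mul]
      rw [h'] at hfix
      have : a1⁻¹ * a1 = a1⁻¹ * (a1 * a2) := by rw [← hfix]
      simpa using this.symm
  have hg3K : g ^ 3 ∈ K :=
    cube_mem hKP hn hidx h0P h3P (by rw [s0]; exact K.one_mem) (by rw [s3]; exact K.one_mem)
      h0K h3K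
  have hg3 : g ^ 3 = 1 := cube_eq_one_of_fpf hg3K fpf
  -- second relation
  have h1P : a1 ∈ P := hKP h1K
  have s01 : (a0 * a1) * (a0 * a1) = 1 := by
    have : a0 * a1 * (a0 * a1) = a0 * (a1 * a0) * a1 := by group
    rw [this, ← c01]
    have : a0 * (a0 * a1) * a1 = (a0 * a0) * (a1 * a1) := by group
    rw [this, s0, s1, one_mul]
  have h01K : a0 * a1 ∉ K := by
    intro h
    apply h0K
    have := K.mul_mem h (K.inv_mem h1K)
    simpa using this
  set h := a3 * (a0 * a1) with hh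
  have hh3K : h ^ 3 ∈ K :=
    cube_mem hKP hn hidx h3P (P.mul_mem h0P h1P) (by rw [s3]; exact K.one_mem)
      (by rw [s01]; exact K.one_mem) h3K h01K
  have comm1 : ∀ k ∈ K, a1 * k * a1⁻¹ = k := by
    intro k hk
    rcases hKenum k hk with h | h | h | h
    · rw [h]; group
    · rw [h]; group
    · rw [h, c12]; group
    · rw [h, i1]
      have : a1 * (a1 * a2) * a1 = a1 * a1 * (a2 * a1) := by group
      rw [this, s1, one_mul, c12]
  have fpf' : ∀ k ∈ K, h * k * h⁻¹ = k → k = 1 := by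
    intro k hk hfix
    apply fpf k hk
    have e : h * k * h⁻¹ = g⁻¹ * (a1 * k * a1⁻¹) * g := by
      rw [hh, hginv, hg]
      simp only [mul_inv_rev, i0, i1, i3]
      group
    rw [e, comm1 k hk] at hfix
    calc g * k * g⁻¹ = g * (g⁻¹ * k * g) * g⁻¹ := by rw [hfix]
      _ = k := by group
  have hh3 : h ^ 3 = 1 := cube_eq_one_of_fpf hh3K fpf'
  -- Coxeter relations
  have rel : Cfsg.Agent.S5344.Rel a0 a3 (a0 * a1) := by
    refine ⟨s0, s3, s01, ?_, ?_, ?_⟩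
    · rw [mul_assoc, ← c01]
    · exact braid_of_cube s0 s3 hg3
    · exact braid_of_cube s3 s01 hh3
  have hac : a0 ≠ a0 * a1 := by
    intro h'
    apply n1
    have : a0⁻¹ * a0 = a0⁻¹ * (a0 * a1) := by rw [← h']
    simpa using this.symm
  obtain ⟨φ, hinj, hφ0, hφ1, hφ2⟩ := Cfsg.Agent.S5344.main rel hac
  have hmem : ∀ σ, φ σ ∈ P :=
    perm_four_map_mem φ (by rw [hφ0]; exact h0P) (by rw [hφ1]; exact h3P)
      (by rw [hφ2]; exact P.mul_mem h0P h1P)
  have hcard : Nat.card (Perm (Fin 4)) = Nat.card P := by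
    rw [hP, Nat.card_perm, Nat.card_fin]; rfl
  exact nonempty_mulEquiv_of_injective φ hinj hmem hcard

end Cfsg.Agent.Helper61.SimsDataA
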