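import Mathlib
import Cfsg.Agent.Lib.Helper61.SimsTools
import Cfsg.Agent.S5344

/-!
# Recognition of `S₄ × Z₂` from generator data
-/

set_option autoImplicit false
set_option linter.unusedSectionVars false
set_option linter.unusedVariables false
set_option linter.unusedSimpArgs false
set_option maxHeartbeats 1000000

namespace Cfsg.Agent.Helper61.SimsDataB

open Equiv Cfsg.Agent.Helper61.SimsTools

variable {G : Type*} [Group G] [Finite G]

/-- order forty-eight -/
theorem s4z2_of_data {P K : Subgroup G} {a0 a1 a2 a3 a4 : G}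
    (hP : Nat.card P = 48) (hKP : K ≤ P) (hn : P ≤ Subgroup.normalizer (K : Set G))
    (hK : Nat.card K = 8)
    (hKenum : ∀ k ∈ K, k = 1 ∨ k = a1 ∨ k = a2 ∨ k = a1 * a2 ∨ k = a3 ∨ k = a1 * a3 ∨
      k = a2 * a3 ∨ k = a1 * (a2 * a3))
    (h0P : a0 ∈ P) (h4P : a4 ∈ P) (h1K : a1 ∈ K) (h2K : a2 ∈ K) (h3K : a3 ∈ K)
    (h0K : a0 ∉ K) (h4K : a4 ∉ K)
    (s0 : a0 * a0 = 1) (s1 : a1 * a1 = 1) (s2 : a2 * a2 = 1) (s3 : a3 * a3 = 1)
    (s4 : a4 * a4 = 1)
    (c01 : a0 * a1 = a1 * a0) (c02 : a0 * a2 = a2 * a0) (c12 : a1 * a2 = a2 * a1)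
    (c13 : a1 * a3 = a3 * a1) (c23 : a2 * a3 = a3 * a2) (c24 : a2 * a4 = a4 * a2)
    (c34 : a3 * a4 = a4 * a3)
    (hc : (a0 * a3 * a0 * a3 = a1 ∧ a1 * a4 * a1 * a4 = a2) ∨
      (a0 * a3 * a0 * a3 = a2 ∧ a1 * a4 * a1 * a4 = a3) ∨
      (a0 * a3 * a0 * a3 = a1 * a2 ∧ a1 * a4 * a1 * a4 = a2 * a3))
    (n1 : a1 ≠ 1) (n2 : a2 ≠ 1) (n3 : a3 ≠ 1) (n12 : a1 ≠ a2) (n13 : a1 ≠ a3) (n23 : a2 ≠ a3) :
    Nonempty (↥P ≃* Perm (Fin 4) × Multiplicative (ZMod 2)) := by
  have i0 : a0⁻¹ = a0 := inv_eq_of_mul_eq_one_left s0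
  have i1 : a1⁻¹ = a1 := inv_eq_of_mul_eq_one_left s1
  have i2 : a2⁻¹ = a2 := inv_eq_of_mul_eq_one_left s2
  have i3 : a3⁻¹ = a3 := inv_eq_of_mul_eq_one_left s3
  have i4 : a4⁻¹ = a4 := inv_eq_of_mul_eq_one_left s4
  have hidx : Nat.card P = 6 * Nat.card K := by rw [hP, hK]
  -- normalisation rules in `K`
  have sw21 : a2 * a1 = a1 * a2 := c12.symm
  have sw31 : a3 * a1 = a1 * a3 := c13.symm
  have sw32 : a3 * a2 = a2 * a3 := c23.symm
  have sw21' : ∀ w, a2 * (a1 * w) = a1 * (a2 * w) := fun w => by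
    rw [← mul_assoc, sw21, mul_assoc]
  have sw31' : ∀ w, a3 * (a1 * w) = a1 * (a3 * w) := fun w => by
    rw [← mul_assoc, sw31, mul_assoc]
  have sw32' : ∀ w, a3 * (a2 * w) = a2 * (a3 * w) := fun w => by
    rw [← mul_assoc, sw32, mul_assoc]
  have q1' : ∀ w, a1 * (a1 * w) = w := fun w => by rw [← mul_assoc, s1, one_mul]
  have q2' : ∀ w, a2 * (a2 * w) = w := fun w => by rw [← mul_assoc, s2, one_mul]
  have q3' : ∀ w, a3 * (a3 * w) = w := fun w => by rw [← mul_assoc, s3, one_mul]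
  have conj_mul : ∀ w k k' : G, w * (k * k') * w⁻¹ = (w * k * w⁻¹) * (w * k' * w⁻¹) := by
    intro w k k'; group
  -- the two outer involutions acting on `K`
  have A1 : a0 * a1 * a0⁻¹ = a1 := by rw [c01]; group
  have A2 : a0 * a2 * a0⁻¹ = a2 := by rw [c02]; group
  have A3 : a0 * a3 * a0⁻¹ = (a0 * a3 * a0 * a3) * a3 := by
    rw [i0]
    have : a0 * a3 * a0 * a3 * a3 = a0 * a3 * a0 * (a3 * a3) := by group
    rw [this, s3, mul_one]
  have B1 : a4 * a1 * a4⁻¹ = a1 * (a1 * a4 * a1 * a4) := by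
    rw [i4]
    have : a1 * (a1 * a4 * a1 * a4) = (a1 * a1) * a4 * a1 * a4 := by group
    rw [this, s1, one_mul]
  have B2 : a4 * a2 * a4⁻¹ = a2 := by rw [← c24]; group
  have B3 : a4 * a3 * a4⁻¹ = a3 := by rw [← c34]; group
  obtain ⟨g, hg⟩ : ∃ g, g = a0 * a4 := ⟨_, rfl⟩
  have hgconj : ∀ k, g * k * g⁻¹ = a0 * (a4 * k * a4⁻¹) * a0⁻¹ := by
    intro k; rw [hg]; group
  have hgP : g ∈ P := by rw [hg]; exact P.mul_mem h0P h4P
  have G2 : g * a2 * g⁻¹ = a2 := by rw [hgconj, B2, A2]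
  have hg3K : g ^ 3 ∈ K := by
    rw [hg]
    exact cube_mem hKP hn hidx h0P h4P (by rw [s0]; exact K.one_mem)
      (by rw [s4]; exact K.one_mem) h0K h4K
  have hconj3 : ∀ k, g ^ 3 * k * (g ^ 3)⁻¹ = g * (g * (g * k * g⁻¹) * g⁻¹) * g⁻¹ := by
    intro k
    have : g ^ 3 = g * g * g := by rw [pow_succ, pow_two]
    rw [this]; group
  -- `K` is abelian; in particular `a1` commutes with `g ^ 3`
  have comm1 : ∀ k ∈ K, k * a1 * k⁻¹ = a1 := by
    intro k hk
    rcases hKenum k hk with h | h | h | h | h | h | h | h <;> rw [h] <;>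
      simp only [mul_inv_rev, i1, i2, i3, inv_one, mul_assoc, one_mul, mul_one, sw21, sw31,
        sw32, sw21', sw31', sw32', s1, s2, s3, q1', q2', q3']
  have hfix1 : g * (g * (g * a1 * g⁻¹) * g⁻¹) * g⁻¹ = a1 := by
    rw [← hconj3]; exact comm1 _ hg3K
  -- the commutator is `a1 * a2`
  have hc3 : a0 * a3 * a0 * a3 = a1 * a2 ∧ a1 * a4 * a1 * a4 = a2 * a3 := by
    rcases hc with ⟨h03, h14⟩ | ⟨h03, h14⟩ | h
    · exfalso
      have G1 : g * a1 * g⁻¹ = a1 * a2 := by
        rw [hgconj, B1, h14, conj_mul, A1, A2]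
      have G12 : g * (a1 * a2) * g⁻¹ = a1 := by
        rw [conj_mul, G1, G2]
        simp only [mul_assoc, s2, mul_one]
      rw [G1, G12, G1] at hfix1
      apply n2
      have : a1⁻¹ * (a1 * a2) = a1⁻¹ * a1 := by rw [hfix1]
      simpa using this
    · exfalso
      have G1 : g * a1 * g⁻¹ = a1 * (a2 * a3) := by
        rw [hgconj, B1, h14, conj_mul, A1, A3, h03]
      have G3 : g * a3 * g⁻¹ = a2 * a3 := by
        rw [hgconj, B3, A3, h03]
      have G123 : g * (a1 * (a2 * a3)) * g⁻¹ = a1 * a2 := by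
        rw [conj_mul, conj_mul, G1, G2, G3]
        simp only [mul_assoc, sw21, sw31, sw32, sw21', sw31', sw32', s1, s2, s3, q1', q2', q3',
          mul_one]
      have G12 : g * (a1 * a2) * g⁻¹ = a1 * a3 := by
        rw [conj_mul, G1, G2]
        simp only [mul_assoc, sw21, sw31, sw32, sw21', sw31', sw32', s1, s2, s3, q1', q2', q3',
          mul_one]
      rw [G1, G123, G12] at hfix1
      apply n3
      have : a1⁻¹ * (a1 * a3) = a1⁻¹ * a1 := by rw [hfix1]
      simpa using this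
    · exact h
  obtain ⟨h03, h14⟩ := hc3
  have G1 : g * a1 * g⁻¹ = a3 := by
    rw [hgconj, B1, h14, conj_mul, conj_mul, A1, A2, A3, h03]
    simp only [mul_assoc, sw21, sw31, sw32, sw21', sw31', sw32', s1, s2, s3, q1', q2', q3',
      mul_one]
  have G3 : g * a3 * g⁻¹ = a1 * (a2 * a3) := by
    rw [hgconj, B3, A3, h03, mul_assoc]
  -- fixed points of `g` on `K`
  have hfixK : ∀ k ∈ K, g * k * g⁻¹ = k → k = 1 ∨ k = a2 := by
    intro k hk hfix
    rcases hKenum k hk with h | h | h | h | h | h | h | h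
    · exact Or.inl h
    · exfalso; rw [h, G1] at hfix; exact n13 hfix.symm
    · exact Or.inr h
    · exfalso
      rw [h, conj_mul, G1, G2, sw32] at hfix
      apply n13
      have : a2 * (a2 * a3) = a2 * (a1 * a2) := by rw [hfix]
      rw [q2', sw21', s2, mul_one] at this
      exact this.symm
    · exfalso
      rw [h, G3] at hfix
      apply n12
      have : a1 * (a2 * a3) * a3 = a3 * a3 := by rw [hfix]
      rw [s3, mul_assoc, mul_assoc, s3, mul_one] at this
      have h' : a1 = a2⁻¹ := eq_inv_of_mul_eq_one_left this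
      rw [h', i2]
    · exfalso
      rw [h, conj_mul, G1, G3] at hfix
      rw [sw31', sw32', s3, mul_one] at hfix
      apply n23
      have : a1 * (a1 * a2) = a1 * (a1 * a3) := by rw [hfix]
      rwa [q1', q1'] at this
    · exfalso
      rw [h, conj_mul, G2, G3] at hfix
      rw [sw21', q2'] at hfix
      apply n12
      have : a1 * a3 * a3 = a2 * a3 * a3 := by rw [hfix]
      rwa [mul_assoc, s3, mul_one, mul_assoc, s3, mul_one] at this
    · exfalso
      rw [h, conj_mul, conj_mul, G1, G2, G3] at hfix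
      rw [sw21', q2', sw31', s3, mul_one] at hfix
      apply n23
      have : a1 * a1 = a1 * (a1 * (a2 * a3)) := by rw [← hfix]
      rw [s1, q1'] at this
      have h' : a2 = a3⁻¹ := eq_inv_of_mul_eq_one_left this.symm
      rw [h', i3]
  have he : g ^ 3 = 1 ∨ g ^ 3 = a2 := by
    apply hfixK _ hg3K
    group
  have c2g : Commute g a2 := by
    rw [hg]
    have e1 : Commute a0 a2 := c02
    have e2 : Commute a4 a2 := c24.symm
    exact e1.mul_left e2
  -- the second Coxeter generator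
  obtain ⟨b, hbP, hbK, hbb, hab3, hb1, hb2, hb3, hb2c⟩ : ∃ b ∈ P, b ∉ K ∧ b * b = 1 ∧
      (a0 * b) ^ 3 = 1 ∧ b * a1 * b⁻¹ = a1 * (a2 * a3) ∧ b * a2 * b⁻¹ = a2 ∧
      b * a3 * b⁻¹ = a3 ∧ Commute a2 b := by
    rcases he with he | he
    · refine ⟨a4, h4P, h4K, s4, ?_, ?_, B2, B3, c24⟩
      · rw [← hg]; exact he
      · rw [B1, h14]
    · have h2P : a2 ∈ P := hKP h2K
      refine ⟨a4 * a2, P.mul_mem h4P h2P, ?_, ?_, ?_, ?_, ?_, ?_, ?_⟩
      · intro h
        apply h4K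
        have := K.mul_mem h (K.inv_mem h2K)
        simpa using this
      · have : a4 * a2 * (a4 * a2) = a4 * (a2 * a4) * a2 := by group
        rw [this, c24]
        have : a4 * (a4 * a2) * a2 = (a4 * a4) * (a2 * a2) := by group
        rw [this, s4, s2, one_mul]
      · have : a0 * (a4 * a2) = g * a2 := by rw [hg]; group
        rw [this, c2g.mul_pow, he]
        have : a2 * a2 ^ 3 = (a2 * a2) * (a2 * a2) := by rw [pow_succ, pow_two]; group
        rw [this, s2, one_mul]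
      · have : a4 * a2 * a1 * (a4 * a2)⁻¹ = a4 * (a2 * a1 * a2⁻¹) * a4⁻¹ := by group
        rw [this, sw21]
        have : a1 * a2 * a2⁻¹ = a1 := by group
        rw [this, B1, h14]
      · have : a4 * a2 * a2 * (a4 * a2)⁻¹ = a4 * a2 * a4⁻¹ := by group
        rw [this, B2]
      · have : a4 * a2 * a3 * (a4 * a2)⁻¹ = a4 * (a2 * a3 * a2⁻¹) * a4⁻¹ := by group
        rw [this, c23]
        have : a3 * a2 * a2⁻¹ = a3 := by group
        rw [this, B3]
      · have e1 : Commute a2 a4 := c24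
        exact e1.mul_right (Commute.refl a2)
  have ib : b⁻¹ = b := inv_eq_of_mul_eq_one_left hbb
  obtain ⟨ρ, hρ⟩ : ∃ ρ, ρ = b * a0 := ⟨_, rfl⟩
  have hρ3 : ρ ^ 3 = 1 := by
    have : ρ = (a0 * b)⁻¹ := by rw [hρ, mul_inv_rev, i0, ib]
    rw [this, inv_pow, hab3, inv_one]
  have hρconj : ∀ k, ρ * k * ρ⁻¹ = b * (a0 * k * a0⁻¹) * b⁻¹ := by
    intro k; rw [hρ]; group
  have R1 : ρ * a1 * ρ⁻¹ = a1 * (a2 * a3) := by rw [hρconj, A1, hb1]
  have R2 : ρ * a2 * ρ⁻¹ = a2 := by rw [hρconj, A2, hb2]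
  have R3 : ρ * a3 * ρ⁻¹ = a1 := by
    rw [hρconj, A3, h03, conj_mul, conj_mul, hb1, hb2, hb3]
    simp only [mul_assoc, sw21, sw31, sw32, sw21', sw31', sw32', s1, s2, s3, q1', q2', q3',
      mul_one]
  obtain ⟨v, hv⟩ : ∃ v, v = a1 * a2 := ⟨_, rfl⟩
  have V1 : ρ * v * ρ⁻¹ = a1 * a3 := by
    rw [hv, conj_mul, R1, R2]
    simp only [mul_assoc, sw21, sw31, sw32, sw21', sw31', sw32', s1, s2, s3, q1', q2', q3',
      mul_one]
  have V2 : ρ * (a1 * a3) * ρ⁻¹ = a2 * a3 := by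
    rw [conj_mul, R1, R3]
    simp only [mul_assoc, sw21, sw31, sw32, sw21', sw31', sw32', s1, s2, s3, q1', q2', q3',
      mul_one]
  have hρv3 : (ρ * v) ^ 3 = 1 := by
    have hρ3' : ρ * ρ * ρ = 1 := by rw [← hρ3, pow_succ, pow_two]
    have e : (ρ * v) ^ 3 = (ρ * v * ρ⁻¹) * (ρ * (ρ * v * ρ⁻¹) * ρ⁻¹) *
        (ρ * ρ * ρ * v * (ρ * ρ * ρ)⁻¹) * (ρ * ρ * ρ) := by
      rw [pow_succ, pow_two]; group
    rw [e, hρ3', V1, V2, hv]
    simp only [mul_assoc, sw21, sw31, sw32, sw21', sw31', sw32', s1, s2, s3, q1', q2', q3',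
      mul_one, one_mul, inv_one]
  -- the third generator
  obtain ⟨c, hcdef⟩ : ∃ c, c = a0 * v := ⟨_, rfl⟩
  have c0v : a0 * v = v * a0 := by
    rw [hv]
    have e1 : Commute a0 a1 := c01
    have e2 : Commute a0 a2 := c02
    exact (e1.mul_right e2).eq
  have hvv : v * v = 1 := by
    rw [hv]
    simp only [mul_assoc, sw21, sw31, sw32, sw21', sw31', sw32', s1, s2, s3, q1', q2', q3',
      mul_one]
  have hcc : c * c = 1 := by
    rw [hcdef]
    have : a0 * v * (a0 * v) = a0 * (v * a0) * v := by group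
    rw [this, ← c0v]
    have : a0 * (a0 * v) * v = (a0 * a0) * (v * v) := by group
    rw [this, s0, hvv, one_mul]
  have hbc : b * c = ρ * v := by rw [hcdef, hρ]; group
  have h1P : a1 ∈ P := hKP h1K
  have h2P : a2 ∈ P := hKP h2K
  have hcP : c ∈ P := by rw [hcdef, hv]; exact P.mul_mem h0P (P.mul_mem h1P h2P)
  have rel : Cfsg.Agent.S5344.Rel a0 b c := by
    refine ⟨s0, hbb, hcc, ?_, ?_, ?_⟩
    · rw [hcdef, c0v, mul_assoc, ← mul_assoc a0 v a0, c0v, mul_assoc]
    · exact braid_of_cube s0 hbb hab3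
    · exact braid_of_cube hbb hcc (by rw [hbc]; exact hρv3)
  have hac : a0 ≠ c := by
    intro h'
    apply n12
    have : a0⁻¹ * a0 = a0⁻¹ * (a0 * v) := by rw [← hcdef, ← h']
    rw [inv_mul_cancel, inv_mul_cancel_left, hv] at this
    have h' : a1 = a2⁻¹ := eq_inv_of_mul_eq_one_left this.symm
    rw [h', i2]
  obtain ⟨φ, hinj, hφ0, hφ1, hφ2⟩ := Cfsg.Agent.S5344.main rel hac
  have hmem : ∀ σ, φ σ ∈ P :=
    perm_four_map_mem φ (by rw [hφ0]; exact h0P) (by rw [hφ1]; exact hbP)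
      (by rw [hφ2]; exact hcP)
  -- the central involution
  have c2c : Commute a2 c := by
    rw [hcdef, hv]
    have e1 : Commute a2 a0 := c02.symm
    have e2 : Commute a2 a1 := c12.symm
    exact e1.mul_right (e2.mul_right (Commute.refl a2))
  have hcent : ∀ σ, φ σ ∈ Subgroup.centralizer ({a2} : Set G) := by
    apply perm_four_map_mem φ
    · rw [hφ0, Subgroup.mem_centralizer_iff]
      intro h hh; rw [Set.mem_singleton_iff] at hh; rw [hh]; exact c02.symm
    · rw [hφ1, Subgroup.mem_centralizer_iff]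
      intro h hh; rw [Set.mem_singleton_iff] at hh; rw [hh]; exact hb2c.eq
    · rw [hφ2, Subgroup.mem_centralizer_iff]
      intro h hh; rw [Set.mem_singleton_iff] at hh; rw [hh]; exact c2c.eq
  have hcomm : ∀ σ, Commute (φ σ) a2 := by
    intro σ
    have := hcent σ
    rw [Subgroup.mem_centralizer_iff] at this
    exact (this a2 rfl).symm
  have ho2 : orderOf a2 = 2 := orderOf_eq_prime (by rw [pow_two]; exact s2) n2
  have hcZ : Nat.card (Subgroup.zpowers a2) = 2 := by rw [Nat.card_zpowers, ho2]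
  have e2 := zmodCyclicMulEquiv (inferInstance : IsCyclic (Subgroup.zpowers a2))
  rw [hcZ] at e2
  set ζ : Multiplicative (ZMod 2) →* G := (Subgroup.zpowers a2).subtype.comp e2.toMonoidHom
    with hζ
  have hζinj : Function.Injective ζ := by
    rw [hζ]
    exact (Subgroup.subtype_injective _).comp e2.injective
  have hζmem : ∀ ε, ζ ε ∈ Subgroup.zpowers a2 := by
    intro ε
    rw [hζ]
    exact (e2 ε).2
  have hcommζ : ∀ σ ε, Commute (φ σ) (ζ ε) := by
    intro σ ε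
    obtain ⟨n, hn⟩ := Subgroup.mem_zpowers_iff.mp (hζmem ε)
    rw [← hn]
    exact (hcomm σ).zpow_right n
  set ψ : Perm (Fin 4) × Multiplicative (ZMod 2) →* G := MonoidHom.noncommCoprod φ ζ hcommζ
    with hψ
  have hψapp : ∀ x, ψ x = φ x.1 * ζ x.2 := fun x => by
    rw [hψ, MonoidHom.noncommCoprod_apply]
  have hinter : ∀ σ ε, φ σ = ζ ε → σ = 1 := by
    intro σ ε h
    have hz : ∀ w : G, Commute a2 w → Commute (φ σ) w := by
      intro w hw
      obtain ⟨n, hn⟩ := Subgroup.mem_zpowers_iff.mp (hζmem ε)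
      rw [h, ← hn]
      exact hw.zpow_left n
    apply perm_four_central
    · apply hinj
      rw [map_mul, map_mul, hφ0]
      exact (hz a0 c02.symm).eq
    · apply hinj
      rw [map_mul, map_mul, hφ1]
      exact (hz b hb2c).eq
    · apply hinj
      rw [map_mul, map_mul, hφ2]
      exact (hz c c2c).eq
  have hψinj : Function.Injective ψ := by
    rw [injective_iff_map_eq_one]
    intro x hx
    rw [hψapp] at hx
    have h1 : φ x.1⁻¹ = ζ x.2 := by
      rw [map_inv]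
      exact (eq_inv_of_mul_eq_one_left hx).symm ▸ (by rw [inv_inv])
    have h2 : x.1⁻¹ = 1 := hinter _ _ h1
    have h3 : x.1 = 1 := inv_eq_one.mp h2
    rw [h3, map_one, one_mul] at hx
    have h4 : x.2 = 1 := hζinj (by rw [hx, map_one])
    exact Prod.ext h3 h4
  have hψmem : ∀ x, ψ x ∈ P := by
    intro x
    rw [hψapp]
    apply P.mul_mem (hmem _)
    have : Subgroup.zpowers a2 ≤ P := by rw [Subgroup.zpowers_le]; exact h2P
    exact this (hζmem _)
  have hcard : Nat.card (Perm (Fin 4) × Multiplicative (ZMod 2)) = Nat.card P := by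
    rw [hP, Nat.card_prod, Nat.card_perm, Nat.card_fin,
      Nat.card_congr (Multiplicative.toAdd : Multiplicative (ZMod 2) ≃ ZMod 2), Nat.card_zmod]
    rfl
  exact nonempty_mulEquiv_of_injective ψ hψinj hψmem hcard

end Cfsg.Agent.Helper61.SimsDataB
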