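import Mathlib
import Cfsg.Agent.Lib.Helper61.SimsAbs

/-!
# Sims' theorem, abstract form, returning the regular chain
-/

set_option autoImplicit false
set_option linter.unusedSectionVars false
set_option linter.unusedVariables false

namespace Cfsg.Agent.Helper61.SimsReg

open Cfsg.Agent.Helper61.TutteBase Cfsg.Agent.Helper61.TutteX Cfsg.Agent.Helper61.TutteLam
  Cfsg.Agent.Helper61.TutteSeven Cfsg.Agent.Helper61.SimsAbs

variable {G : Type*} [Group G] [Finite G]

/-- Sims' theorem, abstract form with the regular chain as output. -/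
theorem sims_reg {M N : Subgroup G} (hM : IsCoatom M)
    (hcore : ∀ H : Subgroup G, H.Normal → H ≤ M → H = ⊥) (g : G) (hN : N = cj g M)
    (h3 : Nat.card M = 3 * Nat.card ↥(M ⊓ N)) :
    Nat.card M = 3 ∨ ∃ (y : G) (s : ℕ), 2 ≤ s ∧ s ≤ 5 ∧ Reg M y s := by
  set D := M ⊓ N with hD
  have hDM : D ≤ M := inf_le_left
  have hDN : D ≤ N := inf_le_right
  have hcN : Nat.card N = Nat.card M := by rw [hN, card_cj]
  have hposD : 0 < Nat.card D := Nat.card_pos
  have hMN : M ≠ N := by
    intro h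
    have : D = M := by rw [hD, ← h, inf_idem]
    rw [this] at h3
    have : 0 < Nat.card M := Nat.card_pos
    omega
  have h2pow := card_two_pow hM hcore hMN hD h3 (by rw [hcN, h3])
  have hsup : M ⊔ N = ⊤ := by
    by_contra hne
    have h1 : M ⊔ N = M := by
      by_contra h2
      exact hne (hM.2 _ (lt_of_le_of_ne le_sup_left (Ne.symm h2)))
    have h4 : N ≤ M := by rw [← h1]; exact le_sup_right
    exact hMN (Subgroup.eq_of_le_of_card_ge h4 (by rw [hcN])).symm
  set D₁ := cj g D with hD₁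
  have hD₁N : D₁ ≤ N := by rw [hD₁, hN]; exact cj_mono hDM
  have hcD₁ : Nat.card D₁ = Nat.card D := by rw [hD₁, card_cj]
  by_cases hnorm : M ≤ Subgroup.normalizer (D : Set G)
  · -- D normal in M
    left
    have hnN : N ≤ Subgroup.normalizer (D₁ : Set G) := by
      intro n hn
      rw [hN, mem_cj] at hn
      have h1 := hnorm hn
      rw [cj_eq_iff_mem_normalizer] at h1 ⊢
      have e : n = g * (g⁻¹ * n * g) * g⁻¹ := by group
      rw [e, hD₁, cj_mul, cj_mul, cj_inv_cj, h1]
    have hp2 : IsPGroup 2 D := by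
      obtain ⟨a, ha⟩ := h2pow
      exact IsPGroup.of_card ha
    have hp2' : IsPGroup 2 D₁ := by
      obtain ⟨a, ha⟩ := h2pow
      exact IsPGroup.of_card (hcD₁.trans ha)
    have hsupp : IsPGroup 2 ↥(D ⊔ D₁) :=
      IsPGroup.to_sup_of_normal_right' hp2 hp2' (hDN.trans hnN)
    obtain ⟨a, ha⟩ := h2pow
    obtain ⟨m, hm⟩ := IsPGroup.iff_card.mp hsupp
    have hle : D ⊔ D₁ ≤ N := sup_le hDN hD₁N
    have hdvd : Nat.card ↥(D ⊔ D₁) ∣ Nat.card N := Subgroup.card_dvd_of_le hle
    have hdvd2 : Nat.card D ∣ Nat.card ↥(D ⊔ D₁) := Subgroup.card_dvd_of_le le_sup_left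
    rw [hm, hcN, h3, ha] at hdvd
    rw [ha, hm] at hdvd2
    have hma : m = a := by
      have h5 : a ≤ m := (Nat.pow_dvd_pow_iff_le_right (by norm_num)).mp hdvd2
      have h6 : m ≤ a := by
        have hcop : Nat.Coprime (2 ^ m) 3 := Nat.Coprime.pow_left m (by norm_num)
        have := hcop.dvd_of_dvd_mul_left hdvd
        exact (Nat.pow_dvd_pow_iff_le_right (by norm_num)).mp this
      omega
    have hsupD : D ⊔ D₁ = D :=
      (Subgroup.eq_of_le_of_card_ge le_sup_left (by rw [hm, ha, hma])).symm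
    have hD₁D : D₁ = D := by
      have : D₁ ≤ D := by rw [← hsupD]; exact le_sup_right
      exact Subgroup.eq_of_le_of_card_ge this (by rw [hcD₁])
    rw [hD₁D] at hnN
    have htop : Subgroup.normalizer (D : Set G) = ⊤ := by
      rw [eq_top_iff, ← hsup]; exact sup_le hnorm hnN
    have hbot := hcore _ (Subgroup.normalizer_eq_top_iff.mp htop) hDM
    rw [h3, hbot]; simp
  · -- D not normal in M
    obtain ⟨m, hmM, hmn⟩ := SetLike.not_le_iff_exists.mp hnorm
    have hmD : cj m D ≠ D := fun h => hmn (cj_eq_iff_mem_normalizer.mpr h)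
    -- choose n ∈ N with cj n D₁ ≠ D
    obtain ⟨n, hnN, hn⟩ : ∃ n ∈ N, cj n D₁ ≠ D := by
      by_cases h : D₁ = D
      · refine ⟨g * m * g⁻¹, ?_, ?_⟩
        · rw [hN]; exact conj_mem_cj hmM
        · rw [hD₁, ← cj_mul]
          have e : g * m * g⁻¹ * g = g * m := by group
          rw [e, cj_mul]
          intro h'
          have h'' : cj g (cj m D) = cj g D := h'.trans (h.symm.trans hD₁)
          apply hmD
          have := congrArg (cj g⁻¹) h''
          rwa [cj_inv_cj, cj_inv_cj] at this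
      · exact ⟨1, N.one_mem, by rw [cj_one]; exact h⟩
    set y := n * g with hy
    have hMc1 : Mc M y 1 = N := by
      unfold Mc
      rw [zpow_one, hy, cj_mul, ← hN, cj_eq_of_mem hnN]
    have hS01 : Sg M y 0 1 = D := by
      rw [← Sg_inf_Sg (i := 0) (j := 0) (i' := 1) (j' := 1) (by norm_num) (by norm_num)
        (by norm_num), Sg_self, Sg_self, Mc_zero, hMc1]
    have hS12 : Sg M y 1 2 = cj n D₁ := by
      have := cj_Sg (M := M) (y := y) 1 0 1
      rw [zpow_one, hS01] at this
      norm_num at this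
      rw [← this, hy, cj_mul]
    have hS02 : Sg M y 0 2 = D ⊓ cj n D₁ := by
      rw [← Sg_inf_Sg (i := 0) (j := 1) (i' := 1) (j' := 2) (by norm_num) (by norm_num)
        (by norm_num), hS01, hS12]
    have hD₂N : cj n D₁ ≤ N := by
      have := cj_mono (g := n) hD₁N
      rwa [cj_eq_of_mem hnN] at this
    have h2 : Nat.card (Sg M y 0 1) = 2 * Nat.card (Sg M y 0 2) := by
      rw [hS01, hS02]
      exact card_eq_two_mul_inf hDN hD₂N (by rw [hcN, h3]) (by rw [card_cj, hcD₁])
        (Ne.symm hn) h2pow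
    have h1 : Nat.card M = 3 * Nat.card (Sg M y 0 1) := by rw [hS01]; exact h3
    obtain ⟨s, hs2, hs5, hreg⟩ := tutte_sims hM hcore h1 h2
    exact Or.inr ⟨y, s, hs2, hs5, hreg⟩

end Cfsg.Agent.Helper61.SimsReg
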