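import Mathlib
import Cfsg.Agent.Lib.Helper61.SimsReg
import Cfsg.Agent.Lib.Helper61.SimsDataA
import Cfsg.Agent.Lib.Helper61.SimsDataB

/-!
# Structure of the point stabiliser in the cubic case (Sims / Wong)
-/

set_option autoImplicit false
set_option linter.unusedSectionVars false
set_option linter.unusedVariables false
set_option maxHeartbeats 1000000

namespace Cfsg.Agent.Helper61.SimsStruct

open Equiv Cfsg.Agent.Helper61.TutteBase Cfsg.Agent.Helper61.TutteX Cfsg.Agent.Helper61.TutteLam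
  Cfsg.Agent.Helper61.TutteBound Cfsg.Agent.Helper61.TutteSeven
  Cfsg.Agent.Helper61.SimsDataA Cfsg.Agent.Helper61.SimsDataB
open scoped commutatorElement

variable {G : Type*} [Group G] [Finite G] {M : Subgroup G} {y : G} {s : ℕ} {x0 : G}

theorem xx_ne_of_lt (c : Ctx M y s x0) {i j : ℤ} (hij : i < j) (hjs : j ≤ i + s) :
    xx y x0 i ≠ xx y x0 j := by
  intro h
  have h1 : xx y x0 i ∈ Mc M y (j - 1) := Sg_le_Mc (by omega) (by omega) (xx_mem c.mem i)
  rw [h] at h1
  exact c.reg.xx_not_mem_pred c.mem c.ne j h1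

theorem enum_one (c : Ctx M y s x0) (i : ℤ) {a : G} (ha : a ∈ EE y x0 i i) :
    a = 1 ∨ a = xx y x0 i := by
  have hs := c.reg.hs
  rw [c.reg.EE_eq_Sg' c.mem c.ne (le_refl i) (by omega)] at ha
  exact c.reg.eq_one_or_eq_xx c.mem c.ne ha

theorem enum_step (c : Ctx M y s x0) {i m : ℤ} (him : i ≤ m) (hms : m + 2 ≤ i + s) {a : G}
    (ha : a ∈ EE y x0 i m) :
    a ∈ EE y x0 i (m - 1) ∨ ∃ b ∈ EE y x0 i (m - 1), a = b * xx y x0 m := by
  by_cases h : a ∈ EE y x0 i (m - 1)
  · exact Or.inl h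
  · right
    refine ⟨a * xx y x0 m, decomp_right c him hms ha h, ?_⟩
    rw [mul_assoc, c.sq m, mul_one]

theorem xx_not_mem_EE_right (c : Ctx M y s x0) {i j : ℤ} (hj : j ≤ i + s) :
    xx y x0 j ∉ EE y x0 i (j - 1) := by
  intro h
  have h1 := EE_le_Sg (M := M) (s := s) c.mem i (j - 1) h
  exact c.reg.xx_not_mem_pred c.mem c.ne j (Sg_le_Mc le_rfl (by omega) h1)

theorem xx_not_mem_EE_left (c : Ctx M y s x0) {i j : ℤ} (hj : j ≤ i + s) :
    xx y x0 i ∉ EE y x0 (i + 1) j := by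
  intro h
  have h1 := EE_le_Sg (M := M) (s := s) c.mem (i + 1) j h
  exact c.reg.xx_not_mem_succ c.mem c.ne i (Sg_le_Mc (by omega) (by omega) h1)

theorem nonempty_mulEquiv_Mc (M : Subgroup G) (y : G) (i : ℤ) : Nonempty (↥M ≃* ↥(Mc M y i)) := by
  unfold Mc cj
  exact ⟨Subgroup.equivMapOfInjective M _ (MulAut.conj (y ^ i)).injective⟩

theorem comm_mem_of_mem {K : Subgroup G} {a b : G} (ha : a ∈ K) (hb : b ∈ K) : ⁅a, b⁆ ∈ K := by
  rw [commutatorElement_def]
  exact K.mul_mem (K.mul_mem (K.mul_mem ha hb) (K.inv_mem ha)) (K.inv_mem hb)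

/-! ### `s = 2` -/

theorem case_two (h : Reg M y 2) : Nonempty (↥M ≃* Perm (Fin 3)) := by
  obtain ⟨x0, hx0, hx01⟩ := h.exists_x0
  have c : Ctx M y 2 x0 := ⟨h, hx0, hx01⟩
  obtain ⟨lam, hls, hl⟩ := c.exists_lam
  have hpos := hl.pos
  obtain rfl : lam = 1 := by omega
  have hPeq : EE y x0 0 1 = Mc M y 1 := by
    have := c.reg.EE_eq_Mc c.mem c.ne 0
    norm_num at this
    exact this
  obtain ⟨e⟩ := nonempty_mulEquiv_Mc M y 1
  suffices Nonempty (↥(Mc M y 1) ≃* Perm (Fin 3)) by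
    obtain ⟨e'⟩ := this; exact ⟨e.trans e'⟩
  rw [← hPeq]
  have hcardP : Nat.card (EE y x0 0 1) = 6 := by rw [hPeq, c.reg.card_Mc]; norm_num
  have nc : ¬ Commute (xx y x0 0) (xx y x0 1) := by
    have := hl.nc
    norm_num at this
    exact this
  exact s3_of_data hcardP (xx_mem_EE (k := 0) (by norm_num) (by norm_num))
    (xx_mem_EE (k := 1) (by norm_num) (by norm_num)) nc

/-! ### `s = 3` -/

theorem case_three (h : Reg M y 3) : Nonempty (↥M ≃* DihedralGroup 6) := by
  obtain ⟨x0, hx0, hx01⟩ := h.exists_x0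
  have c : Ctx M y 3 x0 := ⟨h, hx0, hx01⟩
  obtain ⟨lam, hls, hl⟩ := c.exists_lam
  have hpos := hl.pos
  have h2l := c.two_lam_le hl hls
  obtain rfl : lam = 2 := by
    by_cases h2 : lam + 2 ≤ 3
    · have := lam_bound c hl h2; omega
    · omega
  have hPeq : EE y x0 0 2 = Mc M y 2 := by
    have := c.reg.EE_eq_Mc c.mem c.ne 0
    norm_num at this
    exact this
  obtain ⟨e⟩ := nonempty_mulEquiv_Mc M y 2
  suffices Nonempty (↥(Mc M y 2) ≃* DihedralGroup 6) by
    obtain ⟨e'⟩ := this; exact ⟨e.trans e'⟩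
  rw [← hPeq]
  have hcardP : Nat.card (EE y x0 0 2) = 12 := by rw [hPeq, c.reg.card_Mc]; norm_num
  have nc : ¬ Commute (xx y x0 0) (xx y x0 2) := by
    have := hl.nc
    norm_num at this
    exact this
  have c01 : Commute (xx y x0 0) (xx y x0 1) := hl.commute (by norm_num) (by norm_num)
  have c12 : Commute (xx y x0 1) (xx y x0 2) := hl.commute (by norm_num) (by norm_num)
  exact d12_of_data hcardP (xx_mem_EE (k := 0) (by norm_num) (by norm_num))
    (xx_mem_EE (k := 1) (by norm_num) (by norm_num))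
    (xx_mem_EE (k := 2) (by norm_num) (by norm_num)) (c.sq 0) (c.sq 1) (c.sq 2)
    c01.eq c12.eq nc (c.ne_one 1)

/-! ### `s = 4` -/

theorem case_four (h : Reg M y 4) : Nonempty (↥M ≃* Perm (Fin 4)) := by
  obtain ⟨x0, hx0, hx01⟩ := h.exists_x0
  have c : Ctx M y 4 x0 := ⟨h, hx0, hx01⟩
  obtain ⟨lam, hls, hl⟩ := c.exists_lam
  have hpos := hl.pos
  have h2l := c.two_lam_le hl hls
  obtain rfl : lam = 2 := by
    by_cases h2 : lam + 2 ≤ 4
    · have := lam_bound c hl h2; omega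
    · omega
  have hPeq : EE y x0 0 3 = Mc M y 3 := by
    have := c.reg.EE_eq_Mc c.mem c.ne 0
    norm_num at this
    exact this
  obtain ⟨e⟩ := nonempty_mulEquiv_Mc M y 3
  suffices Nonempty (↥(Mc M y 3) ≃* Perm (Fin 4)) by
    obtain ⟨e'⟩ := this; exact ⟨e.trans e'⟩
  rw [← hPeq]
  have hcardP : Nat.card (EE y x0 0 3) = 24 := by rw [hPeq, c.reg.card_Mc]; norm_num
  have hKP : EE y x0 1 2 ≤ EE y x0 0 3 := EE_mono (by norm_num) (by norm_num)
  have hcardK : Nat.card (EE y x0 1 2) = 4 := by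
    rw [card_EE' c (by norm_num) (by norm_num)]; rfl
  have nc02 : ¬ Commute (xx y x0 0) (xx y x0 2) := by
    have := hl.nc
    norm_num at this
    exact this
  have nc13 : ¬ Commute (xx y x0 1) (xx y x0 3) := by
    have := hl.not_commute 1
    norm_num at this
    exact this
  have c01 : Commute (xx y x0 0) (xx y x0 1) := hl.commute (by norm_num) (by norm_num)
  have c12 : Commute (xx y x0 1) (xx y x0 2) := hl.commute (by norm_num) (by norm_num)
  have c23 : Commute (xx y x0 2) (xx y x0 3) := hl.commute (by norm_num) (by norm_num)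
  have h1K : xx y x0 1 ∈ EE y x0 1 2 := xx_mem_EE (by norm_num) (by norm_num)
  have h2K : xx y x0 2 ∈ EE y x0 1 2 := xx_mem_EE (by norm_num) (by norm_num)
  have k02 : ⁅xx y x0 0, xx y x0 2⁆ = xx y x0 1 := by
    have hmem := c.reg.comm_mem_EE c.mem c.ne (i := 0) (j := 2) (by norm_num) (by norm_num)
    norm_num at hmem
    rcases enum_one c 1 hmem with h1 | h1
    · exact absurd (commutatorElement_eq_one_iff_commute.mp h1) nc02
    · exact h1
  have k13 : ⁅xx y x0 1, xx y x0 3⁆ = xx y x0 2 := by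
    have hmem := c.reg.comm_mem_EE c.mem c.ne (i := 1) (j := 3) (by norm_num) (by norm_num)
    norm_num at hmem
    rcases enum_one c 2 hmem with h1 | h1
    · exact absurd (commutatorElement_eq_one_iff_commute.mp h1) nc13
    · exact h1
  have hn : EE y x0 0 3 ≤ Subgroup.normalizer (EE y x0 1 2 : Set G) := by
    apply le_normalizer_EE c
    intro k m hk1 hk2 hm1 hm2
    by_cases hkK : 1 ≤ k ∧ k ≤ 2
    · exact comm_mem_of_mem (xx_mem_EE hkK.1 hkK.2) (xx_mem_EE hm1 hm2)
    · obtain rfl | rfl : k = 0 ∨ k = 3 := by omega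
      · obtain rfl | rfl : m = 1 ∨ m = 2 := by omega
        · rw [commutatorElement_eq_one_iff_commute.mpr c01]; exact Subgroup.one_mem _
        · rw [k02]; exact h1K
      · obtain rfl | rfl : m = 1 ∨ m = 2 := by omega
        · rw [comm_swap, k13]; exact Subgroup.inv_mem _ h2K
        · rw [commutatorElement_eq_one_iff_commute.mpr c23.symm]; exact Subgroup.one_mem _
  have hKenum : ∀ k ∈ EE y x0 1 2, k = 1 ∨ k = xx y x0 1 ∨ k = xx y x0 2 ∨
      k = xx y x0 1 * xx y x0 2 := by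
    intro k hk
    rcases enum_step c (by norm_num) (by norm_num) hk with h1 | ⟨b, hb, rfl⟩
    · norm_num at h1
      rcases enum_one c 1 h1 with h2 | h2
      · exact Or.inl h2
      · exact Or.inr (Or.inl h2)
    · norm_num at hb
      rcases enum_one c 1 hb with h2 | h2
      · right; right; left; rw [h2, one_mul]
      · right; right; right; rw [h2]
  have h0K : xx y x0 0 ∉ EE y x0 1 2 := by
    have := xx_not_mem_EE_left c (i := 0) (j := 2) (by norm_num)
    norm_num at this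
    exact this
  have h3K : xx y x0 3 ∉ EE y x0 1 2 := by
    have := xx_not_mem_EE_right c (i := 1) (j := 3) (by norm_num)
    norm_num at this
    exact this
  have n12 : xx y x0 1 ≠ xx y x0 2 := xx_ne_of_lt c (by norm_num) (by norm_num)
  rw [comm_eq c] at k02 k13
  exact s4_of_data hcardP hKP hn hcardK hKenum (xx_mem_EE (by norm_num) (by norm_num))
    (xx_mem_EE (by norm_num) (by norm_num)) h1K h2K h0K h3K (c.sq 0) (c.sq 1) (c.sq 2) (c.sq 3)
    c01.eq c12.eq c23.eq k02 k13 (c.ne_one 1) (c.ne_one 2) n12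

/-! ### `s = 5` -/

theorem case_five (h : Reg M y 5) :
    Nonempty (↥M ≃* Perm (Fin 4) × Multiplicative (ZMod 2)) := by
  obtain ⟨x0, hx0, hx01⟩ := h.exists_x0
  have c : Ctx M y 5 x0 := ⟨h, hx0, hx01⟩
  obtain ⟨lam, hls, hl⟩ := c.exists_lam
  have hpos := hl.pos
  have h2l := c.two_lam_le hl hls
  obtain rfl : lam = 3 := by
    by_cases h2 : lam + 2 ≤ 5
    · have := lam_bound c hl h2; omega
    · omega
  have hPeq : EE y x0 0 4 = Mc M y 4 := by
    have := c.reg.EE_eq_Mc c.mem c.ne 0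
    norm_num at this
    exact this
  obtain ⟨e⟩ := nonempty_mulEquiv_Mc M y 4
  suffices Nonempty (↥(Mc M y 4) ≃* Perm (Fin 4) × Multiplicative (ZMod 2)) by
    obtain ⟨e'⟩ := this; exact ⟨e.trans e'⟩
  rw [← hPeq]
  have hcardP : Nat.card (EE y x0 0 4) = 48 := by rw [hPeq, c.reg.card_Mc]; norm_num
  have hKP : EE y x0 1 3 ≤ EE y x0 0 4 := EE_mono (by norm_num) (by norm_num)
  have hcardK : Nat.card (EE y x0 1 3) = 8 := by
    rw [card_EE' c (by norm_num) (by norm_num)]; rfl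
  have nc03 : ¬ Commute (xx y x0 0) (xx y x0 3) := by
    have := hl.nc
    norm_num at this
    exact this
  have c01 : Commute (xx y x0 0) (xx y x0 1) := hl.commute (by norm_num) (by norm_num)
  have c02 : Commute (xx y x0 0) (xx y x0 2) := hl.commute (by norm_num) (by norm_num)
  have c12 : Commute (xx y x0 1) (xx y x0 2) := hl.commute (by norm_num) (by norm_num)
  have c13 : Commute (xx y x0 1) (xx y x0 3) := hl.commute (by norm_num) (by norm_num)
  have c23 : Commute (xx y x0 2) (xx y x0 3) := hl.commute (by norm_num) (by norm_num)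
  have c24 : Commute (xx y x0 2) (xx y x0 4) := hl.commute (by norm_num) (by norm_num)
  have c34 : Commute (xx y x0 3) (xx y x0 4) := hl.commute (by norm_num) (by norm_num)
  have h1K : xx y x0 1 ∈ EE y x0 1 3 := xx_mem_EE (by norm_num) (by norm_num)
  have h2K : xx y x0 2 ∈ EE y x0 1 3 := xx_mem_EE (by norm_num) (by norm_num)
  have h3K : xx y x0 3 ∈ EE y x0 1 3 := xx_mem_EE (by norm_num) (by norm_num)
  -- enumeration of `E[1,2]`
  have enum12 : ∀ k ∈ EE y x0 1 2, k = 1 ∨ k = xx y x0 1 ∨ k = xx y x0 2 ∨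
      k = xx y x0 1 * xx y x0 2 := by
    intro k hk
    rcases enum_step c (by norm_num) (by norm_num) hk with h1 | ⟨b, hb, rfl⟩
    · norm_num at h1
      rcases enum_one c 1 h1 with h2 | h2
      · exact Or.inl h2
      · exact Or.inr (Or.inl h2)
    · norm_num at hb
      rcases enum_one c 1 hb with h2 | h2
      · right; right; left; rw [h2, one_mul]
      · right; right; right; rw [h2]
  have hKenum : ∀ k ∈ EE y x0 1 3, k = 1 ∨ k = xx y x0 1 ∨ k = xx y x0 2 ∨
      k = xx y x0 1 * xx y x0 2 ∨ k = xx y x0 3 ∨ k = xx y x0 1 * xx y x0 3 ∨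
      k = xx y x0 2 * xx y x0 3 ∨ k = xx y x0 1 * (xx y x0 2 * xx y x0 3) := by
    intro k hk
    rcases enum_step c (by norm_num) (by norm_num) hk with h1 | ⟨b, hb, rfl⟩
    · norm_num at h1
      rcases enum12 k h1 with h2 | h2 | h2 | h2
      · exact Or.inl h2
      · exact Or.inr (Or.inl h2)
      · exact Or.inr (Or.inr (Or.inl h2))
      · exact Or.inr (Or.inr (Or.inr (Or.inl h2)))
    · norm_num at hb
      rcases enum12 b hb with h2 | h2 | h2 | h2
      · right; right; right; right; left; rw [h2, one_mul]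
      · right; right; right; right; right; left; rw [h2]
      · right; right; right; right; right; right; left; rw [h2]
      · right; right; right; right; right; right; right; rw [h2, mul_assoc]
  have m03 : ⁅xx y x0 0, xx y x0 3⁆ ∈ EE y x0 1 2 := by
    have hmem := c.reg.comm_mem_EE c.mem c.ne (i := 0) (j := 3) (by norm_num) (by norm_num)
    norm_num at hmem
    exact hmem
  have k14 : ⁅xx y x0 1, xx y x0 4⁆ = y ^ (1:ℤ) * ⁅xx y x0 0, xx y x0 3⁆ * (y ^ (1:ℤ))⁻¹ := by
    have := comm_shift (y := y) (x0 := x0) 1 0 3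
    norm_num at this
    rw [this]; norm_num
  have cj1 : y ^ (1:ℤ) * xx y x0 1 * (y ^ (1:ℤ))⁻¹ = xx y x0 2 := by
    have := conj_xx (y := y) (x0 := x0) 1 1
    norm_num at this
    rw [← this]; norm_num
  have cj2 : y ^ (1:ℤ) * xx y x0 2 * (y ^ (1:ℤ))⁻¹ = xx y x0 3 := by
    have := conj_xx (y := y) (x0 := x0) 1 2
    norm_num at this
    rw [← this]; norm_num
  have hc : (⁅xx y x0 0, xx y x0 3⁆ = xx y x0 1 ∧ ⁅xx y x0 1, xx y x0 4⁆ = xx y x0 2) ∨
      (⁅xx y x0 0, xx y x0 3⁆ = xx y x0 2 ∧ ⁅xx y x0 1, xx y x0 4⁆ = xx y x0 3) ∨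
      (⁅xx y x0 0, xx y x0 3⁆ = xx y x0 1 * xx y x0 2 ∧
        ⁅xx y x0 1, xx y x0 4⁆ = xx y x0 2 * xx y x0 3) := by
    rcases enum12 _ m03 with h1 | h1 | h1 | h1
    · exact absurd (commutatorElement_eq_one_iff_commute.mp h1) nc03
    · left; refine ⟨h1, ?_⟩; rw [k14, h1, cj1]
    · right; left; refine ⟨h1, ?_⟩; rw [k14, h1, cj2]
    · right; right; refine ⟨h1, ?_⟩
      have e : y ^ (1:ℤ) * (xx y x0 1 * xx y x0 2) * (y ^ (1:ℤ))⁻¹ =
          (y ^ (1:ℤ) * xx y x0 1 * (y ^ (1:ℤ))⁻¹) * (y ^ (1:ℤ) * xx y x0 2 * (y ^ (1:ℤ))⁻¹) := by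
        group
      rw [k14, h1, e, cj1, cj2]
  have m14 : ⁅xx y x0 1, xx y x0 4⁆ ∈ EE y x0 1 3 := by
    rcases hc with ⟨_, h2⟩ | ⟨_, h2⟩ | ⟨_, h2⟩
    · rw [h2]; exact h2K
    · rw [h2]; exact h3K
    · rw [h2]; exact Subgroup.mul_mem _ h2K h3K
  have hn : EE y x0 0 4 ≤ Subgroup.normalizer (EE y x0 1 3 : Set G) := by
    apply le_normalizer_EE c
    intro k m hk1 hk2 hm1 hm2
    by_cases hkK : 1 ≤ k ∧ k ≤ 3
    · exact comm_mem_of_mem (xx_mem_EE hkK.1 hkK.2) (xx_mem_EE hm1 hm2)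
    · obtain rfl | rfl : k = 0 ∨ k = 4 := by omega
      · obtain rfl | rfl | rfl : m = 1 ∨ m = 2 ∨ m = 3 := by omega
        · rw [commutatorElement_eq_one_iff_commute.mpr c01]; exact Subgroup.one_mem _
        · rw [commutatorElement_eq_one_iff_commute.mpr c02]; exact Subgroup.one_mem _
        · exact EE_mono (le_refl _) (by norm_num) m03
      · obtain rfl | rfl | rfl : m = 1 ∨ m = 2 ∨ m = 3 := by omega
        · rw [comm_swap]; exact Subgroup.inv_mem _ m14
        · rw [commutatorElement_eq_one_iff_commute.mpr c24.symm]; exact Subgroup.one_mem _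
        · rw [commutatorElement_eq_one_iff_commute.mpr c34.symm]; exact Subgroup.one_mem _
  have h0K : xx y x0 0 ∉ EE y x0 1 3 := by
    have := xx_not_mem_EE_left c (i := 0) (j := 3) (by norm_num)
    norm_num at this
    exact this
  have h4K : xx y x0 4 ∉ EE y x0 1 3 := by
    have := xx_not_mem_EE_right c (i := 1) (j := 4) (by norm_num)
    norm_num at this
    exact this
  have n12 : xx y x0 1 ≠ xx y x0 2 := xx_ne_of_lt c (by norm_num) (by norm_num)
  have n13 : xx y x0 1 ≠ xx y x0 3 := xx_ne_of_lt c (by norm_num) (by norm_num)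
  have n23 : xx y x0 2 ≠ xx y x0 3 := xx_ne_of_lt c (by norm_num) (by norm_num)
  rw [comm_eq c, comm_eq c] at hc
  exact s4z2_of_data hcardP hKP hn hcardK hKenum (xx_mem_EE (by norm_num) (by norm_num))
    (xx_mem_EE (by norm_num) (by norm_num)) h1K h2K h3K h0K h4K (c.sq 0) (c.sq 1) (c.sq 2)
    (c.sq 3) (c.sq 4) c01.eq c02.eq c12.eq c13.eq c23.eq c24.eq c34.eq hc
    (c.ne_one 1) (c.ne_one 2) (c.ne_one 3) n12 n13 n23

end Cfsg.Agent.Helper61.SimsStruct
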