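import Mathlib
import Cfsg.Prelude.Def_Local
import Cfsg.Agent.Lib.Helper22.Radical
import Cfsg.Agent.Lib.Helper22.Components
import Cfsg.Agent.Lib.Helper22.Fitting
import Cfsg.Agent.Lib.Helper22.Bender

/-!
# Thompson–Wielandt: basic tools (helper61)

Internal (ambient-group) versions of normal cores and `O_p`, a one-directional
"normalizes" predicate, transfer of components between subgroups, and the
criterion `F*(X) = O_p(X)`.
-/

set_option autoImplicit false
set_option linter.style.haveILetI false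

namespace Cfsg.Agent.Helper61.TWBasic

open Subgroup

variable {G : Type*} [Group G]

/-- `A` normalizes `X` (one-directional, elementwise form). -/
def Nz (A X : Subgroup G) : Prop := ∀ a ∈ A, ∀ x ∈ X, a * x * a⁻¹ ∈ X

theorem Nz.le_normalizer {A X : Subgroup G} (h : Nz A X) : A ≤ normalizer (X : Set G) := by
  intro a ha
  rw [mem_normalizer_iff]
  intro x
  constructor
  · intro hx; exact h a ha x hx
  · intro hx
    have := h a⁻¹ (inv_mem ha) _ hx
    simpa [mul_assoc] using this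

theorem nz_of_le_normalizer {A X : Subgroup G} (h : A ≤ normalizer (X : Set G)) : Nz A X := by
  intro a ha x hx
  exact (mem_normalizer_iff.1 (h ha) x).1 hx

theorem Nz.mono {A B X : Subgroup G} (h : Nz A X) (hBA : B ≤ A) : Nz B X :=
  fun b hb x hx => h b (hBA hb) x hx

theorem nz_self_of_le {A X : Subgroup G} (h : A ≤ X) : Nz A X :=
  fun a ha x hx => mul_mem (mul_mem (h ha) hx) (inv_mem (h ha))

theorem Nz.inf {A X Y : Subgroup G} (h1 : Nz A X) (h2 : Nz A Y) : Nz A (X ⊓ Y) :=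
  fun a ha x hx => ⟨h1 a ha x hx.1, h2 a ha x hx.2⟩

theorem Nz.sup {A X Y : Subgroup G} (h1 : Nz A X) (h2 : Nz A Y) : Nz A (X ⊔ Y) := by
  intro a ha x hx
  have hmap : (X ⊔ Y).map (MulAut.conj a).toMonoidHom ≤ X ⊔ Y := by
    rw [Subgroup.map_sup]
    apply sup_le_sup
    · rintro _ ⟨y, hy, rfl⟩; exact h1 a ha y hy
    · rintro _ ⟨y, hy, rfl⟩; exact h2 a ha y hy
  exact hmap ⟨x, hx, rfl⟩

theorem nz_closure {A : Subgroup G} {S : Set G} (hS : ∀ a ∈ A, ∀ s ∈ S, a * s * a⁻¹ ∈ S) :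
    Nz A (closure S) := by
  intro a ha x hx
  have hmap : (closure S).map (MulAut.conj a).toMonoidHom ≤ closure S := by
    rw [MonoidHom.map_closure]
    apply Subgroup.closure_mono
    rintro _ ⟨s, hs, rfl⟩
    exact hS a ha s hs
  exact hmap ⟨x, hx, rfl⟩

/-! ### internal normal core -/

/-- The normal core of `H` in `A`, as a subgroup of the ambient group. -/
def coreIn (A H : Subgroup G) : Subgroup G := ((H.subgroupOf A).normalCore).map A.subtype

theorem mem_coreIn {A H : Subgroup G} {x : G} :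
    x ∈ coreIn A H ↔ x ∈ A ∧ ∀ a ∈ A, a * x * a⁻¹ ∈ H := by
  constructor
  · rintro ⟨y, hy, rfl⟩
    refine ⟨y.2, fun a ha => ?_⟩
    have := hy ⟨a, ha⟩
    exact this
  · rintro ⟨hxA, hx⟩
    refine ⟨⟨x, hxA⟩, ?_, rfl⟩
    intro b
    exact hx b b.2

theorem coreIn_le_left (A H : Subgroup G) : coreIn A H ≤ A := fun _ hx => (mem_coreIn.1 hx).1

theorem coreIn_le_right (A H : Subgroup G) : coreIn A H ≤ H := by
  intro x hx
  have := (mem_coreIn.1 hx).2 1 (one_mem A)
  simpa using this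

theorem nz_coreIn (A H : Subgroup G) : Nz A (coreIn A H) := by
  intro a ha x hx
  obtain ⟨hxA, hx⟩ := mem_coreIn.1 hx
  refine mem_coreIn.2 ⟨mul_mem (mul_mem ha hxA) (inv_mem ha), fun b hb => ?_⟩
  have := hx (b * a) (mul_mem hb ha)
  simpa [mul_assoc] using this

theorem le_coreIn {A H X : Subgroup G} (hXA : X ≤ A) (hXH : X ≤ H) (hn : Nz A X) :
    X ≤ coreIn A H :=
  fun x hx => mem_coreIn.2 ⟨hXA hx, fun a ha => hXH (hn a ha x hx)⟩

/-! ### internal `O_p` -/

/-- `O_p(A)` as a subgroup of the ambient group. -/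
def opOf (p : ℕ) (A : Subgroup G) : Subgroup G := (Cfsg.pCore p ↥A).map A.subtype

theorem pCore_normal (p : ℕ) (X : Type*) [Group X] : (Cfsg.pCore p X).Normal :=
  Subgroup.sSup_normal _ (fun _ hH => hH.1)

theorem opOf_le (p : ℕ) (A : Subgroup G) : opOf p A ≤ A := by
  rintro _ ⟨x, -, rfl⟩
  exact x.2

theorem isPGroup_opOf [Finite G] (p : ℕ) [Fact p.Prime] (A : Subgroup G) :
    IsPGroup p (opOf p A) :=
  (Cfsg.Agent.Helper22.isPGroup_pCore (G := ↥A) p).map A.subtype

theorem nz_opOf (p : ℕ) (A : Subgroup G) : Nz A (opOf p A) := by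
  rintro a ha _ ⟨y, hy, rfl⟩
  have hn := pCore_normal p ↥A
  exact ⟨⟨a, ha⟩ * y * ⟨a, ha⟩⁻¹, hn.conj_mem y hy ⟨a, ha⟩, rfl⟩

theorem le_opOf {p : ℕ} {A X : Subgroup G} (hXA : X ≤ A) (hX : IsPGroup p X) (hn : Nz A X) :
    X ≤ opOf p A := by
  have hnorm : (X.subgroupOf A).Normal :=
    (Subgroup.normal_subgroupOf_iff_le_normalizer hXA).2 hn.le_normalizer
  have hp : IsPGroup p (X.subgroupOf A) := hX.comap_subtype
  have hle : X.subgroupOf A ≤ Cfsg.pCore p ↥A := Cfsg.Agent.Helper22.le_pCore hnorm hp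
  have := Subgroup.map_mono (f := A.subtype) hle
  rwa [Subgroup.map_subgroupOf_eq_of_le hXA] at this

theorem opOf_eq_bot_iff {p : ℕ} {A : Subgroup G} : opOf p A = ⊥ ↔ Cfsg.pCore p ↥A = ⊥ :=
  (Subgroup.map_eq_bot_iff_of_injective _ A.subtype_injective)

/-- the normalizer of `A` normalizes `O_p(A)`. -/
theorem nz_normalizer_opOf [Finite G] (p : ℕ) [Fact p.Prime] (A : Subgroup G) :
    Nz (normalizer (A : Set G)) (opOf p A) := by
  intro g hg x hx
  have hgA : Nz (normalizer (A : Set G)) A := nz_of_le_normalizer le_rfl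
  -- the conjugate of `O_p(A)` by `g`
  have hle : (opOf p A).map (MulAut.conj g).toMonoidHom ≤ opOf p A := by
    apply le_opOf
    · rintro _ ⟨y, hy, rfl⟩
      exact hgA g hg y (opOf_le p A hy)
    · exact (isPGroup_opOf p A).map _
    · rintro a ha _ ⟨y, hy, rfl⟩
      have ha' : g⁻¹ * a * g ∈ A := by
        have := hgA g⁻¹ (inv_mem hg) a ha
        simpa using this
      refine ⟨(g⁻¹ * a * g) * y * (g⁻¹ * a * g)⁻¹, nz_opOf p A _ ha' y hy, ?_⟩
      simp [MulAut.conj_apply, mul_assoc]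
  exact hle ⟨x, hx, rfl⟩

/-! ### p-groups: normalizers grow -/

theorem exists_normalizer_mem [Finite G] {p : ℕ} [Fact p.Prime] {T S : Subgroup G}
    (hS : IsPGroup p S) (hlt : T < S) : ∃ t ∈ S, t ∉ T ∧ t ∈ normalizer (T : Set G) := by
  have hnil : Group.IsNilpotent ↥S := hS.isNilpotent
  have hlt' : T.subgroupOf S < ⊤ := by
    rw [lt_top_iff_ne_top]
    intro h
    rw [Subgroup.subgroupOf_eq_top] at h
    exact hlt.not_ge h
  have hnc := Group.normalizerCondition_of_isNilpotent (G := ↥S) _ hlt'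
  obtain ⟨t, htn, htnot⟩ := SetLike.exists_of_lt hnc
  refine ⟨t, t.2, ?_, ?_⟩
  · intro h
    exact htnot (Subgroup.mem_subgroupOf.2 h)
  · rw [← Subgroup.subgroupOf_normalizer_eq hlt.le] at htn
    exact Subgroup.mem_subgroupOf.1 htn

end Cfsg.Agent.Helper61.TWBasic
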