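import Mathlib
import Cfsg.Prelude.Def_Local
import Cfsg.Agent.Lib.Helper22.Radical
import Cfsg.Agent.Lib.Helper22.Components
import Cfsg.Agent.Lib.Helper22.Fitting
import Cfsg.Agent.Lib.Helper22.Bender
import Cfsg.Agent.Lib.Helper61.TWBasic

/-!
# Thompson–Wielandt: components and `F*` tools (helper61)
-/

set_option autoImplicit false
set_option linter.style.haveILetI false

namespace Cfsg.Agent.Helper61.TWComp

open Subgroup Cfsg.Agent.Helper61.TWBasic

variable {G : Type*} [Group G]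

/-- Transfer of a component of `A` lying in a subgroup `L ≤ A ⊓ B` normalized by `B` to a
component of `B`. -/
theorem comp_transfer {A B L : Subgroup G} (hLA : L ≤ A) (hLB : L ≤ B) (hBL : Nz B L)
    (C : Subgroup ↥A) (hC : Cfsg.IsComponent C) (hCL : C.map A.subtype ≤ L) :
    Cfsg.IsComponent ((C.map A.subtype).subgroupOf B) := by
  have hCB : C.map A.subtype ≤ B := hCL.trans hLB
  refine ⟨?_, ?_⟩
  · -- subnormality
    have hLn : (L.subgroupOf B).Normal :=
      (Subgroup.normal_subgroupOf_iff_le_normalizer hLB).2 hBL.le_normalizer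
    let f : ↥(L.subgroupOf B) →* ↥A :=
      (Subgroup.inclusion hLA).comp (Subgroup.subgroupOfEquivOfLe hLB).toMonoidHom
    have h1 : (C.comap f).IsSubnormal := hC.1.comap f
    have h2 : ((C.map A.subtype).subgroupOf B).subgroupOf (L.subgroupOf B) = C.comap f := by
      ext x
      rw [Subgroup.mem_subgroupOf, Subgroup.mem_subgroupOf, Subgroup.mem_comap, Subgroup.mem_map]
      constructor
      · rintro ⟨c, hc, hcx⟩
        have : f x = c := by
          apply Subtype.ext
          exact hcx.symm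
        rw [this]; exact hc
      · intro hx
        exact ⟨f x, hx, rfl⟩
    have h3 : (C.map A.subtype).subgroupOf B ≤ L.subgroupOf B := by
      intro x hx
      exact hCL hx
    exact Subgroup.IsSubnormal.trans h3 (h2 ▸ h1) hLn.isSubnormal
  · -- quasisimplicity
    have e1 : ↥C ≃* ↥(C.map A.subtype) :=
      Subgroup.equivMapOfInjective C A.subtype A.subtype_injective
    have e2 : ↥((C.map A.subtype).subgroupOf B) ≃* ↥(C.map A.subtype) :=
      Subgroup.subgroupOfEquivOfLe hCB
    exact Cfsg.Agent.Helper22.IsQuasisimple.of_mulEquiv (e1.trans e2.symm) hC.2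

/-- If `E(X) = 1` and `O_q(X) = 1` for all primes `q ≠ p` then `F*(X) = O_p(X)`. -/
theorem fstar_eq_pCore (X : Type*) [Group X] [Finite X] (p : ℕ) (hp : p.Prime)
    (hE : Cfsg.layer X = ⊥) (hq : ∀ q : ℕ, q.Prime → q ≠ p → Cfsg.pCore q X = ⊥) :
    Cfsg.generalizedFittingSubgroup X = Cfsg.pCore p X := by
  unfold Cfsg.generalizedFittingSubgroup
  rw [hE, bot_sup_eq, Cfsg.Agent.Helper22.fittingSubgroup_eq_iSup_pCore]
  apply le_antisymm
  · apply iSup_le
    rintro ⟨q, hq'⟩
    by_cases h : q = p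
    · subst h; exact le_rfl
    · show Cfsg.pCore q X ≤ _
      rw [hq q hq' h]; exact bot_le
  · exact le_iSup (fun q : {q : ℕ // q.Prime} => Cfsg.pCore (q : ℕ) X) ⟨p, hp⟩

/-- A nontrivial finite group with trivial layer has a nontrivial `O_p`. -/
theorem exists_prime_pCore_ne_bot (X : Type*) [Group X] [Finite X] [Nontrivial X]
    (hE : Cfsg.layer X = ⊥) : ∃ p : ℕ, p.Prime ∧ Cfsg.pCore p X ≠ ⊥ := by
  by_contra hcon
  push Not at hcon
  have hF : Cfsg.fittingSubgroup X = ⊥ := by
    rw [Cfsg.Agent.Helper22.fittingSubgroup_eq_iSup_pCore]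
    apply le_antisymm _ bot_le
    apply iSup_le
    rintro ⟨q, hq'⟩
    show Cfsg.pCore q X ≤ _
    rw [hcon q hq']
  have hFs : Cfsg.generalizedFittingSubgroup X = ⊥ := by
    unfold Cfsg.generalizedFittingSubgroup
    rw [hE, hF, bot_sup_eq]
  have hc := Cfsg.Agent.Helper22.centralizer_generalizedFittingSubgroup_le (G := X)
  rw [hFs] at hc
  have htop : (⊤ : Subgroup X) ≤ ⊥ := by
    refine le_trans ?_ hc
    intro x _
    rw [Subgroup.mem_centralizer_iff]
    intro y hy
    rw [Subgroup.coe_bot, Set.mem_singleton_iff] at hy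
    subst hy; simp
  obtain ⟨x, hx⟩ := exists_ne (1 : X)
  exact hx (Subgroup.mem_bot.1 (htop (Subgroup.mem_top x)))

/-- A subgroup that is not a `p`-group contains an element of prime order `q ≠ p`. -/
theorem exists_prime_order_of_not_isPGroup [Finite G] {p : ℕ} [hp : Fact p.Prime] {P : Subgroup G}
    (hP : ¬ IsPGroup p P) : ∃ x ∈ P, x ≠ 1 ∧ (orderOf x).Coprime p := by
  have hcard : ¬ ∃ n : ℕ, Nat.card P = p ^ n := fun h => hP (IsPGroup.iff_card.2 h)
  have hex : ∃ q : ℕ, q.Prime ∧ q ∣ Nat.card P ∧ q ≠ p := by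
    by_contra hcon
    push Not at hcon
    apply hcard
    refine ⟨_, Nat.eq_prime_pow_of_unique_prime_dvd Nat.card_pos.ne' ?_⟩
    intro d hd hdvd
    exact hcon d hd hdvd
  obtain ⟨q, hq, hqd, hqp⟩ := hex
  haveI : Fact q.Prime := ⟨hq⟩
  obtain ⟨x, hx⟩ := exists_prime_orderOf_dvd_card' q hqd
  refine ⟨x, x.2, ?_, ?_⟩
  · intro h1
    have : orderOf x = 1 := by
      rw [orderOf_eq_one_iff]; exact Subtype.ext h1
    rw [this] at hx; exact hq.one_lt.ne hx
  · rw [Subgroup.orderOf_coe, hx]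
    exact (Nat.coprime_primes hq hp.out).2 hqp

/-- if `r` normalizes `P`, `r` is a `p`-element, `x ∈ P` and `r * x` has order prime to `p`,
then `r * x ∈ P`. -/
theorem mul_mem_of_coprime {p : ℕ} (hp : p.Prime) {P : Subgroup G} {r x : G} (e : ℕ)
    (hr : r ^ (p ^ e) = 1) (hrP : ∀ y ∈ P, r⁻¹ * y * r ∈ P) (hx : x ∈ P)
    (hco : (orderOf (r * x)).Coprime p) : r * x ∈ P := by
  have key : ∀ k : ℕ, ∃ x' ∈ P, (r * x) ^ k = r ^ k * x' := by
    intro k
    induction k with
    | zero => exact ⟨1, one_mem P, by simp⟩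
    | succ k ih =>
      obtain ⟨x', hx', hk⟩ := ih
      refine ⟨(r⁻¹ * x' * r) * x, mul_mem (hrP x' hx') hx, ?_⟩
      rw [pow_succ, hk, pow_succ]
      group
  obtain ⟨x', hx', hk⟩ := key (p ^ e)
  have hpow : (r * x) ^ (p ^ e) ∈ P := by rw [hk, hr, one_mul]; exact hx'
  have hco' : (p ^ e).Coprime (orderOf (r * x)) := (Nat.Coprime.pow_right e hco).symm
  obtain ⟨m, hm⟩ := exists_pow_eq_self_of_coprime hco'
  rw [← hm]
  exact pow_mem hpow m

end Cfsg.Agent.Helper61.TWComp
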