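import Mathlib
import Cfsg.Prelude.Def_Local
import Cfsg.Agent.Lib.Helper21.Components
import Cfsg.Agent.Lib.Helper22.Radical
import Cfsg.Agent.Lib.Helper22.Components
import Cfsg.Agent.Lib.Helper22.Bender
import Cfsg.Agent.Lib.Helper61.TWBasic
import Cfsg.Agent.Lib.Helper61.TWComp

/-!
# Thompson–Wielandt for a pair of conjugate core-free maximal subgroups (helper61)

`M ≠ N` conjugate core-free maximal subgroups of a finite group, `D = M ⊓ N`,
`K = core_M D`, `L = core_N D`, `P = core_M (K ⊓ L)`, `Q = core_N (K ⊓ L)`.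
If `P ≠ 1 ≠ Q` then `P`, `Q` are `p`-groups for one prime `p`, and `F*(M) = O_p(M)`,
`F*(N) = O_p(N)`.  (The key `Y`-trick for the non-symmetric case is due to helper11.)
-/

set_option autoImplicit false
set_option linter.style.haveILetI false

namespace Cfsg.Agent.Helper61.TWPair

open Subgroup Cfsg.Agent.Helper61.TWBasic Cfsg.Agent.Helper61.TWComp

variable {G : Type*} [Group G]

/-- two distinct core-free maximal subgroups whose `O_p`'s have equal orders. -/
structure Pair (M N : Subgroup G) : Prop where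
  coM : IsCoatom M
  coN : IsCoatom N
  ne : M ≠ N
  coreM : M.normalCore = ⊥
  coreN : N.normalCore = ⊥
  cardOp : ∀ p : ℕ, p.Prime → Nat.card (opOf p M) = Nat.card (opOf p N)

variable {M N : Subgroup G}

theorem Pair.symm (h : Pair M N) : Pair N M :=
  ⟨h.coN, h.coM, h.ne.symm, h.coreN, h.coreM, fun p hp => (h.cardOp p hp).symm⟩

theorem Pair.sup_eq_top (h : Pair M N) : M ⊔ N = ⊤ := by
  rcases h.coM.le_iff.1 (le_sup_left : M ≤ M ⊔ N) with h1 | h1
  · exact h1
  · exfalso
    have hNM : N ≤ M := by rw [← h1]; exact le_sup_right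
    rcases h.coN.le_iff.1 hNM with h2 | h2
    · exact h.coM.1 h2
    · exact h.ne h2

theorem Pair.eq_bot_of_normal (h : Pair M N) {X : Subgroup G} (hXM : X ≤ M) (hn : X.Normal) :
    X = ⊥ := by
  have : X ≤ M.normalCore := (Subgroup.normal_le_normalCore).2 hXM
  rw [h.coreM] at this
  exact le_bot_iff.1 this

theorem Pair.mem_of_normalizes (h : Pair M N) {X : Subgroup G} (hX : X ≠ ⊥) (hXM : X ≤ M)
    (hn : Nz M X) {y : G} (hy : y ∈ normalizer (X : Set G)) : y ∈ M := by
  rcases h.coM.le_iff.1 hn.le_normalizer with h1 | h1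
  · exfalso
    exact hX (h.eq_bot_of_normal hXM (Subgroup.normalizer_eq_top_iff.1 h1))
  · rw [h1] at hy; exact hy

theorem Pair.eq_bot_of_nz (h : Pair M N) {X : Subgroup G} (hXM : X ≤ M) (h1 : Nz M X)
    (h2 : Nz N X) : X = ⊥ := by
  apply h.eq_bot_of_normal hXM
  rw [← Subgroup.normalizer_eq_top_iff, eq_top_iff, ← h.sup_eq_top]
  exact sup_le h1.le_normalizer h2.le_normalizer

/-- `K = core_M (M ⊓ N)`. -/
def KK (M N : Subgroup G) : Subgroup G := coreIn M (M ⊓ N)

/-- `P = core_M (K ⊓ L)`. -/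
def PP (M N : Subgroup G) : Subgroup G := coreIn M (KK M N ⊓ KK N M)

theorem KK_le_left (M N : Subgroup G) : KK M N ≤ M := coreIn_le_left _ _
theorem KK_le_right (M N : Subgroup G) : KK M N ≤ N := (coreIn_le_right _ _).trans inf_le_right
theorem nz_KK (M N : Subgroup G) : Nz M (KK M N) := nz_coreIn _ _
theorem PP_le_KK (M N : Subgroup G) : PP M N ≤ KK M N := (coreIn_le_right _ _).trans inf_le_left
theorem PP_le_KK' (M N : Subgroup G) : PP M N ≤ KK N M :=
  (coreIn_le_right _ _).trans inf_le_right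
theorem nz_PP (M N : Subgroup G) : Nz M (PP M N) := nz_coreIn _ _
theorem PP_le_left (M N : Subgroup G) : PP M N ≤ M := coreIn_le_left _ _

/-- The centralizer in `N` of `L / R`. -/
def YY (N L R : Subgroup G) (hNR : Nz N R) : Subgroup G where
  carrier := {y | y ∈ N ∧ ∀ l ∈ L, y * l * y⁻¹ * l⁻¹ ∈ R}
  one_mem' := ⟨one_mem N, fun l _ => by simp⟩
  mul_mem' := by
    rintro a b ⟨haN, ha⟩ ⟨hbN, hb⟩
    refine ⟨mul_mem haN hbN, fun l hl => ?_⟩
    have h1 := hNR a haN _ (hb l hl)
    have h2 := ha l hl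
    have := mul_mem h1 h2
    convert this using 1
    group
  inv_mem' := by
    rintro a ⟨haN, ha⟩
    refine ⟨inv_mem haN, fun l hl => ?_⟩
    have h1 := inv_mem (ha l hl)
    have h2 := hNR a⁻¹ (inv_mem haN) _ h1
    convert h2 using 1
    group

theorem mem_YY {N L R : Subgroup G} {hNR : Nz N R} {y : G} :
    y ∈ YY N L R hNR ↔ y ∈ N ∧ ∀ l ∈ L, y * l * y⁻¹ * l⁻¹ ∈ R := Iff.rfl

theorem nz_YY {N L R : Subgroup G} (hNR : Nz N R) (hNL : Nz N L) : Nz N (YY N L R hNR) := by
  intro n hn y hy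
  obtain ⟨hyN, hy⟩ := mem_YY.1 hy
  refine mem_YY.2 ⟨mul_mem (mul_mem hn hyN) (inv_mem hn), fun l hl => ?_⟩
  have hl' : n⁻¹ * l * n ∈ L := by
    have := hNL n⁻¹ (inv_mem hn) l hl
    simpa using this
  have h1 := hNR n hn _ (hy _ hl')
  convert h1 using 1
  group

section YLemma

variable [Finite G]

/-- Helper11's `Y`-lemma: if `P` is not a `p`-group then `O_p(M) = 1`. -/
theorem opOf_eq_bot_of_not_isPGroup (h : Pair M N) (p : ℕ) [hp : Fact p.Prime]
    (hP : ¬ IsPGroup p (PP M N)) : opOf p M = ⊥ := by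
  -- notation
  set K := KK M N with hK
  set L := KK N M with hL
  set P := PP M N with hPdef
  set R := opOf p L with hR
  set D := M ⊓ N with hD
  have hLN : L ≤ N := KK_le_left N M
  have hLM : L ≤ M := KK_le_right N M
  have hLD : L ≤ D := le_inf hLM hLN
  have hNL : Nz N L := nz_KK N M
  have hPL : P ≤ L := PP_le_KK' M N
  have hPM : P ≤ M := PP_le_left M N
  have hMP : Nz M P := nz_PP M N
  have hRL : R ≤ L := opOf_le p L
  have hRp : IsPGroup p R := isPGroup_opOf p L
  have hNR : Nz N R := (nz_normalizer_opOf p L).mono hNL.le_normalizer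
  -- the subgroup generated by the `p'`-elements of `P`
  set X := closure {x : G | x ∈ P ∧ (orderOf x).Coprime p} with hX
  have hXP : X ≤ P := by
    rw [hX, closure_le]; intro x hx; exact hx.1
  have hconj_order : ∀ a x : G, orderOf (a * x * a⁻¹) = orderOf x := by
    intro a x
    have := (MulAut.conj a).orderOf_eq x
    simpa [MulAut.conj_apply] using this
  have hMX : Nz M X := by
    apply nz_closure
    intro a ha s hs
    exact ⟨hMP a ha s hs.1, by rw [hconj_order]; exact hs.2⟩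
  have hX1 : X ≠ ⊥ := by
    obtain ⟨x, hxP, hx1, hxo⟩ := exists_prime_order_of_not_isPGroup hP
    intro hbot
    have : x ∈ X := subset_closure ⟨hxP, hxo⟩
    rw [hbot] at this
    exact hx1 (Subgroup.mem_bot.1 this)
  -- the subgroup `Y`
  set Y := YY N L R hNR with hY
  have hYN : Y ≤ N := fun y hy => (mem_YY.1 hy).1
  have hNY : Nz N Y := nz_YY hNR hNL
  obtain ⟨e, he⟩ := IsPGroup.iff_card.1 hRp
  have hYX : Nz Y X := by
    apply nz_closure
    intro y hy s hs
    obtain ⟨hyN, hyc⟩ := mem_YY.1 hy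
    have hr : y * s * y⁻¹ * s⁻¹ ∈ R := hyc s (hPL hs.1)
    have hrM : y * s * y⁻¹ * s⁻¹ ∈ M := hLM (hRL hr)
    have hord : orderOf (y * s * y⁻¹) = orderOf s := hconj_order y s
    have heq : y * s * y⁻¹ = (y * s * y⁻¹ * s⁻¹) * s := by group
    refine ⟨?_, by rw [hord]; exact hs.2⟩
    rw [heq]
    apply mul_mem_of_coprime hp.out e
    · have : (⟨_, hr⟩ : R) ^ (p ^ e) = 1 := by
        rw [← he]; exact pow_card_eq_one'
      have := congrArg Subtype.val this
      simpa using this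
    · intro z hz
      have := hMP _ (inv_mem hrM) z hz
      simpa using this
    · exact hs.1
    · rw [← heq, hord]; exact hs.2
  have hYM : Y ≤ M := by
    intro y hy
    exact h.mem_of_normalizes hX1 (hXP.trans hPM) hMX (hYX.le_normalizer hy)
  have hYL : Y ≤ L := by
    apply le_coreIn hYN (le_inf hYN hYM) hNY
  -- `O_p(N) ≤ Y` and `O_p(D) ≤ Y`
  have hON : opOf p N ≤ Y := by
    intro v hv
    have hvN : v ∈ N := opOf_le p N hv
    refine mem_YY.2 ⟨hvN, fun l hl => ?_⟩
    have hI : opOf p N ⊓ L ≤ R := by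
      apply le_opOf inf_le_right ((isPGroup_opOf p N).to_le inf_le_left)
      exact ((nz_opOf p N).mono hLN).inf (nz_self_of_le le_rfl)
    apply hI
    refine Subgroup.mem_inf.2 ⟨?_, ?_⟩
    · have h1 : l * v⁻¹ * l⁻¹ ∈ opOf p N := nz_opOf p N l (hLN hl) _ (inv_mem hv)
      have h2 := mul_mem hv h1
      have heq : v * l * v⁻¹ * l⁻¹ = v * (l * v⁻¹ * l⁻¹) := by group
      rw [heq]; exact h2
    · have h1 : v * l * v⁻¹ ∈ L := hNL v hvN l hl
      exact mul_mem h1 (inv_mem hl)
  have hOD : opOf p D ≤ Y := by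
    intro w hw
    have hwD : w ∈ D := opOf_le p D hw
    refine mem_YY.2 ⟨hwD.2, fun l hl => ?_⟩
    have hI : opOf p D ⊓ L ≤ R := by
      apply le_opOf inf_le_right ((isPGroup_opOf p D).to_le inf_le_left)
      exact ((nz_opOf p D).mono hLD).inf (nz_self_of_le le_rfl)
    apply hI
    refine Subgroup.mem_inf.2 ⟨?_, ?_⟩
    · have h1 : l * w⁻¹ * l⁻¹ ∈ opOf p D := nz_opOf p D l (hLD hl) _ (inv_mem hw)
      have h2 := mul_mem hw h1
      have heq : w * l * w⁻¹ * l⁻¹ = w * (l * w⁻¹ * l⁻¹) := by group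
      rw [heq]; exact h2
    · have h1 : w * l * w⁻¹ ∈ L := hNL w hwD.2 l hl
      exact mul_mem h1 (inv_mem hl)
  -- hence `O_p(N) = R` and `O_p(D) ≤ R`
  have hONR : opOf p N ≤ R :=
    le_opOf (hON.trans hYL) (isPGroup_opOf p N) ((nz_opOf p N).mono hLN)
  have hRON : R ≤ opOf p N := le_opOf (hRL.trans hLN) hRp hNR
  have hODR : opOf p D ≤ R :=
    le_opOf (hOD.trans hYL) (isPGroup_opOf p D) ((nz_opOf p D).mono hLD)
  have hReq : opOf p N = R := le_antisymm hONR hRON
  -- the normalizer trick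
  set V := opOf p M with hV
  have hVM : V ≤ M := opOf_le p M
  have hVp : IsPGroup p V := isPGroup_opOf p M
  have hMV : Nz M V := nz_opOf p M
  have hcard : Nat.card V = Nat.card R := by rw [← hReq]; exact h.cardOp p hp.out
  by_cases hR1 : R = ⊥
  · have : Nat.card V = 1 := by rw [hcard, hR1]; simp
    exact (Subgroup.card_eq_one).1 this
  · have hRM : R ≤ M := hRL.trans hLM
    have hSp : IsPGroup p (V ⊔ R : Subgroup G) := by
      have := IsPGroup.to_sup_of_normal_right' hRp hVp (hMV.mono hRM).le_normalizer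
      rwa [sup_comm] at this
    have hDS : Nz D (V ⊔ R) := (hMV.mono inf_le_left).sup (hNR.mono inf_le_right)
    have hSR : V ⊔ R ≤ R := by
      by_contra hcon
      have hlt : R < V ⊔ R := lt_of_le_of_ne le_sup_right (fun heq => hcon (heq ▸ le_rfl))
      obtain ⟨t, htS, htR, htn⟩ := exists_normalizer_mem hSp hlt
      have htN : t ∈ N := h.symm.mem_of_normalizes hR1 (hRL.trans hLN) hNR htn
      have htM : t ∈ M := (sup_le hVM hRM) htS
      have hSD : (V ⊔ R) ⊓ D ≤ opOf p D := by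
        apply le_opOf inf_le_right (hSp.to_le inf_le_left)
        exact hDS.inf (nz_self_of_le le_rfl)
      exact htR (hODR (hSD ⟨htS, htM, htN⟩))
    have hVR : V ≤ R := le_sup_left.trans hSR
    have hVeq : V = R := Subgroup.eq_of_le_of_card_ge hVR hcard.symm.le
    apply h.eq_bot_of_nz hVM hMV
    rw [hVeq]; exact hNR

end YLemma

section ELemma

variable [Finite G]

/-- Components of `M` lie in `K ⊓ L` (when `P ≠ 1 ≠ Q`). -/
theorem comp_le (h : Pair M N) (hP : PP M N ≠ ⊥) (hQ : PP N M ≠ ⊥) (C : Subgroup ↥M)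
    (hC : Cfsg.IsComponent C) : C.map M.subtype ≤ KK M N ⊓ KK N M := by
  have hC'M : C.map M.subtype ≤ M := by
    rintro _ ⟨c, -, rfl⟩; exact c.2
  have hab : ⁅C, C⁆ ≠ ⊥ := Cfsg.Agent.Helper21.component_not_le_of_commutative C hC
  have hnoncomm : ∀ X : Subgroup G, C.map M.subtype ≤ X →
      (∀ x ∈ C.map M.subtype, ∀ k ∈ X, x * k = k * x) → False := by
    intro X hX hcomm
    apply hab
    rw [Subgroup.commutator_eq_bot_iff_le_centralizer]
    intro c hc
    rw [Subgroup.mem_centralizer_iff]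
    intro d hd
    apply Subtype.ext
    have := hcomm c ⟨c, hc, rfl⟩ d (hX ⟨d, hd, rfl⟩)
    simpa using this.symm
  -- a conjugation computation
  have hconjcomm : ∀ (m x q : G), x * (m⁻¹ * q * m) = m⁻¹ * q * m * x →
      q * (m * x * m⁻¹) = m * x * m⁻¹ * q := by
    intro m x q hc
    calc q * (m * x * m⁻¹) = m * ((m⁻¹ * q * m) * x) * m⁻¹ := by group
      _ = m * (x * (m⁻¹ * q * m)) * m⁻¹ := by rw [hc]
      _ = m * x * m⁻¹ * q := by group
  -- Step 1: `C ≤ K`
  have hKn : ((KK M N).subgroupOf M).Normal :=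
    (Subgroup.normal_subgroupOf_iff_le_normalizer (KK_le_left M N)).2 (nz_KK M N).le_normalizer
  have h1 : C.map M.subtype ≤ KK M N := by
    rcases Cfsg.Agent.Helper21.component_le_or_commutator_eq_bot C ((KK M N).subgroupOf M) hC
      hKn.isSubnormal with hle | hcomm
    · rintro _ ⟨c, hc, rfl⟩; exact hle hc
    · exfalso
      have hcen : ∀ x ∈ C.map M.subtype, ∀ k ∈ KK M N, x * k = k * x := by
        rintro _ ⟨c, hc, rfl⟩ k hk
        have hkM : k ∈ M := KK_le_left M N hk
        have hcc := (Subgroup.commutator_eq_bot_iff_le_centralizer.1 hcomm) hc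
        have h2 := (Subgroup.mem_centralizer_iff.1 hcc) ⟨k, hkM⟩ (by exact hk)
        have := congrArg Subtype.val h2
        simpa using this.symm
      have hC'K : C.map M.subtype ≤ KK M N := by
        intro x hx
        refine mem_coreIn.2 ⟨hC'M hx, fun m hm =>
          Subgroup.mem_inf.2 ⟨mul_mem (mul_mem hm (hC'M hx)) (inv_mem hm), ?_⟩⟩
        apply h.symm.mem_of_normalizes hQ (PP_le_left N M) (nz_PP N M)
        apply Subgroup.centralizer_le_normalizer
        rw [Subgroup.mem_centralizer_iff]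
        intro q hq
        have hqK : q ∈ KK M N := PP_le_KK' N M hq
        have hqK' : m⁻¹ * q * m ∈ KK M N := by
          have := nz_KK M N m⁻¹ (inv_mem hm) q hqK
          simpa using this
        exact hconjcomm m x q (hcen x hx _ hqK')
      exact hnoncomm _ hC'K hcen
  -- Step 2: `C ≤ L`
  have hNL : Nz N (KK N M) := nz_KK N M
  have hLM : KK N M ≤ M := KK_le_right N M
  have hnL : Nz C ((KK N M).subgroupOf M) := by
    intro c hc y hy
    have hcN : (c : G) ∈ N := KK_le_right M N (h1 ⟨c, hc, rfl⟩)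
    have := hNL (c : G) hcN (y : G) hy
    exact this
  have h2 : C.map M.subtype ≤ KK N M := by
    rcases Cfsg.Agent.Helper21.component_le_or_commutator_eq_bot_of_le_normalizer C
      ((KK N M).subgroupOf M) hC hnL.le_normalizer with hle | hcomm
    · rintro _ ⟨c, hc, rfl⟩; exact hle hc
    · exfalso
      have hcen : ∀ x ∈ C.map M.subtype, ∀ k ∈ KK N M, x * k = k * x := by
        rintro _ ⟨c, hc, rfl⟩ k hk
        have hkM : k ∈ M := hLM hk
        have hcc := (Subgroup.commutator_eq_bot_iff_le_centralizer.1 hcomm) hc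
        have h2 := (Subgroup.mem_centralizer_iff.1 hcc) ⟨k, hkM⟩ (by exact hk)
        have := congrArg Subtype.val h2
        simpa using this.symm
      have hC'L : C.map M.subtype ≤ KK N M := by
        intro x hx
        have hxN : x ∈ N := KK_le_right M N (h1 hx)
        refine mem_coreIn.2 ⟨hxN, fun n hn =>
          Subgroup.mem_inf.2 ⟨mul_mem (mul_mem hn hxN) (inv_mem hn), ?_⟩⟩
        apply h.mem_of_normalizes hP (PP_le_left M N) (nz_PP M N)
        apply Subgroup.centralizer_le_normalizer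
        rw [Subgroup.mem_centralizer_iff]
        intro q hq
        have hqL : q ∈ KK N M := PP_le_KK' M N hq
        have hqL' : n⁻¹ * q * n ∈ KK N M := by
          have := hNL n⁻¹ (inv_mem hn) q hqL
          simpa using this
        exact hconjcomm n x q (hcen x hx _ hqL')
      exact hnoncomm _ hC'L hcen
  exact le_inf h1 h2

theorem layerOf_le (h : Pair M N) (hP : PP M N ≠ ⊥) (hQ : PP N M ≠ ⊥) :
    (Cfsg.layer ↥M).map M.subtype ≤ (Cfsg.layer ↥N).map N.subtype := by
  rw [Subgroup.map_le_iff_le_comap]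
  unfold Cfsg.layer
  apply sSup_le
  intro C hC
  rw [← Subgroup.map_le_iff_le_comap]
  have hle := comp_le h hP hQ C hC
  have hT : Cfsg.IsComponent ((C.map M.subtype).subgroupOf N) :=
    comp_transfer (A := M) (B := N) (L := KK N M) (KK_le_right N M) (KK_le_left N M)
      (nz_KK N M) C hC (hle.trans inf_le_right)
  have hCN : C.map M.subtype ≤ N := (hle.trans inf_le_right).trans (KK_le_left N M)
  calc C.map M.subtype = ((C.map M.subtype).subgroupOf N).map N.subtype :=
        (Subgroup.map_subgroupOf_eq_of_le hCN).symm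
    _ ≤ (sSup {K : Subgroup ↥N | Cfsg.IsComponent K}).map N.subtype :=
        Subgroup.map_mono (le_sSup hT)

theorem layer_eq_bot (h : Pair M N) (hP : PP M N ≠ ⊥) (hQ : PP N M ≠ ⊥) :
    Cfsg.layer ↥M = ⊥ := by
  have h1 := layerOf_le h hP hQ
  have h2 := layerOf_le h.symm hQ hP
  have heq : (Cfsg.layer ↥M).map M.subtype = (Cfsg.layer ↥N).map N.subtype := le_antisymm h1 h2
  have hnz : ∀ A : Subgroup G, Nz A ((Cfsg.layer ↥A).map A.subtype) := by
    rintro A a ha _ ⟨y, hy, rfl⟩
    have hn : (Cfsg.layer ↥A).Normal := inferInstance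
    exact ⟨⟨a, ha⟩ * y * ⟨a, ha⟩⁻¹, hn.conj_mem y hy ⟨a, ha⟩, rfl⟩
  have hbot : (Cfsg.layer ↥M).map M.subtype = ⊥ := by
    apply h.eq_bot_of_nz _ (hnz M)
    · rw [heq]; exact hnz N
    · rintro _ ⟨y, -, rfl⟩; exact y.2
  exact (Subgroup.map_eq_bot_iff_of_injective _ M.subtype_injective).1 hbot

/-- The abstract Thompson–Wielandt theorem for a pair. -/
theorem main (h : Pair M N) (hP : PP M N ≠ ⊥) (hQ : PP N M ≠ ⊥) :
    ∃ p : ℕ, p.Prime ∧ IsPGroup p (PP M N) ∧ IsPGroup p (PP N M) ∧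
      Cfsg.layer ↥M = ⊥ ∧ Cfsg.layer ↥N = ⊥ ∧
      (∀ q : ℕ, q.Prime → q ≠ p → opOf q M = ⊥) ∧ (∀ q : ℕ, q.Prime → q ≠ p → opOf q N = ⊥) := by
  have hEM := layer_eq_bot h hP hQ
  have hEN := layer_eq_bot h.symm hQ hP
  haveI : Nontrivial ↥M := by
    obtain ⟨x, hx1⟩ := (Subgroup.ne_bot_iff_exists_ne_one).1 hP
    refine ⟨⟨⟨x.1, PP_le_left M N x.2⟩, 1, ?_⟩⟩
    intro heq
    apply hx1
    apply Subtype.ext
    have := congrArg Subtype.val heq
    simpa using this
  obtain ⟨p, hp, hpc⟩ := exists_prime_pCore_ne_bot ↥M hEM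
  haveI : Fact p.Prime := ⟨hp⟩
  have hOM : opOf p M ≠ ⊥ := fun h0 => hpc (opOf_eq_bot_iff.1 h0)
  have hON : opOf p N ≠ ⊥ := by
    intro h0
    apply hOM
    have hc := h.cardOp p hp
    rw [h0] at hc
    have : Nat.card (opOf p M) = 1 := by rw [hc]; simp
    exact (Subgroup.card_eq_one).1 this
  have hPp : IsPGroup p (PP M N) := by
    by_contra hcon
    exact hOM (opOf_eq_bot_of_not_isPGroup h p hcon)
  have hQp : IsPGroup p (PP N M) := by
    by_contra hcon
    exact hON (opOf_eq_bot_of_not_isPGroup h.symm p hcon)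
  refine ⟨p, hp, hPp, hQp, hEM, hEN, ?_, ?_⟩
  · intro q hq hne
    haveI : Fact q.Prime := ⟨hq⟩
    apply opOf_eq_bot_of_not_isPGroup h q
    intro hPq
    have := IsPGroup.disjoint_of_ne p q hne.symm (PP M N) (PP M N) hPp hPq
    exact hP (disjoint_self.1 this)
  · intro q hq hne
    haveI : Fact q.Prime := ⟨hq⟩
    apply opOf_eq_bot_of_not_isPGroup h.symm q
    intro hQq
    have := IsPGroup.disjoint_of_ne p q hne.symm (PP N M) (PP N M) hQp hQq
    exact hQ (disjoint_self.1 this)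

end ELemma

section Final

variable [Finite G]

/-- `F*(A) = O_p(A)` for a subgroup `A` normalized by `B`, given the data for `B`. -/
theorem fstar_of_nz {A B : Subgroup G} (hAB : A ≤ B) (hn : Nz B A) (p : ℕ) (hp : p.Prime)
    (hE : Cfsg.layer ↥B = ⊥) (hq : ∀ q : ℕ, q.Prime → q ≠ p → opOf q B = ⊥) :
    Cfsg.generalizedFittingSubgroup ↥A = Cfsg.pCore p ↥A := by
  apply fstar_eq_pCore ↥A p hp
  · rw [Cfsg.Agent.Helper22.layer_eq_bot_iff]
    intro C hC
    have hCA : C.map A.subtype ≤ A := by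
      rintro _ ⟨c, -, rfl⟩; exact c.2
    have := comp_transfer (A := A) (B := B) (L := A) le_rfl hAB hn C hC hCA
    exact (Cfsg.Agent.Helper22.layer_eq_bot_iff.1 hE) _ this
  · intro q hq' hne
    haveI : Fact q.Prime := ⟨hq'⟩
    rw [← opOf_eq_bot_iff, eq_bot_iff, ← hq q hq' hne]
    exact le_opOf ((opOf_le q A).trans hAB) (isPGroup_opOf q A)
      ((nz_normalizer_opOf q A).mono hn.le_normalizer)

/-- Thompson–Wielandt, final form. -/
theorem main' (h : Pair M N) (hP : PP M N ≠ ⊥) (hQ : PP N M ≠ ⊥) :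
    ∃ p : ℕ, p.Prime ∧ IsPGroup p (PP M N) ∧ IsPGroup p (PP N M) ∧
      Cfsg.generalizedFittingSubgroup ↥M = Cfsg.pCore p ↥M ∧
      Cfsg.generalizedFittingSubgroup ↥(KK M N) = Cfsg.pCore p ↥(KK M N) ∧
      Cfsg.generalizedFittingSubgroup ↥N = Cfsg.pCore p ↥N ∧
      Cfsg.generalizedFittingSubgroup ↥(KK N M) = Cfsg.pCore p ↥(KK N M) := by
  obtain ⟨p, hp, hPp, hQp, hEM, hEN, hqM, hqN⟩ := main h hP hQ
  refine ⟨p, hp, hPp, hQp, ?_, ?_, ?_, ?_⟩
  · exact fstar_of_nz le_rfl (nz_self_of_le le_rfl) p hp hEM hqM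
  · exact fstar_of_nz (KK_le_left M N) (nz_KK M N) p hp hEM hqM
  · exact fstar_of_nz le_rfl (nz_self_of_le le_rfl) p hp hEN hqN
  · exact fstar_of_nz (KK_le_left N M) (nz_KK N M) p hp hEN hqN

theorem card_opOf_map_le (p : ℕ) [Fact p.Prime] (φ : G ≃* G) (A : Subgroup G) :
    Nat.card (opOf p A) ≤ Nat.card (opOf p (A.map φ.toMonoidHom)) := by
  have hle : (opOf p A).map φ.toMonoidHom ≤ opOf p (A.map φ.toMonoidHom) := by
    apply le_opOf (Subgroup.map_mono (opOf_le p A)) ((isPGroup_opOf p A).map _)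
    rintro _ ⟨a, ha, rfl⟩ _ ⟨y, hy, rfl⟩
    refine ⟨a * y * a⁻¹, nz_opOf p A a ha y hy, ?_⟩
    simp
  calc Nat.card (opOf p A) = Nat.card ((opOf p A).map φ.toMonoidHom) :=
        (Subgroup.card_map_of_injective φ.injective).symm
    _ ≤ _ := Subgroup.card_le_of_le hle

/-- A core-free maximal subgroup and a distinct conjugate form a `Pair`. -/
theorem pair_of_conj {M₁ M₂ : Subgroup G} (hmax : IsCoatom M₁) (g : G)
    (hconj : M₂ = M₁.map (MulAut.conj g).toMonoidHom) (hne : M₁ ≠ M₂)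
    (hcore : M₁.normalCore = ⊥) : Pair M₁ M₂ := by
  have hco2 : IsCoatom M₂ := by
    rw [hconj]
    exact ((MulEquiv.mapSubgroup (MulAut.conj g)).isCoatom_iff M₁).2 hmax
  have hcore2 : M₂.normalCore = ⊥ := by
    rw [eq_bot_iff, ← hcore]
    intro x hx b
    have h1 := hx (g * b)
    rw [hconj] at h1
    obtain ⟨y, hy, hyx⟩ := h1
    have h' : g * y * g⁻¹ = g * b * x * (g * b)⁻¹ := by
      simpa [MulAut.conj_apply] using hyx
    have : y = b * x * b⁻¹ := by
      calc y = g⁻¹ * (g * y * g⁻¹) * g := by group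
        _ = g⁻¹ * (g * b * x * (g * b)⁻¹) * g := by rw [h']
        _ = b * x * b⁻¹ := by group
    rw [← this]; exact hy
  refine ⟨hmax, hco2, hne, hcore, hcore2, ?_⟩
  intro p hp
  haveI : Fact p.Prime := ⟨hp⟩
  apply le_antisymm
  · have := card_opOf_map_le p (MulAut.conj g) M₁
    rw [hconj]; exact this
  · have := card_opOf_map_le p (MulAut.conj g).symm M₂
    have hback : M₂.map ((MulAut.conj g).symm).toMonoidHom = M₁ := by
      rw [hconj, Subgroup.map_map]
      have : ((MulAut.conj g).symm).toMonoidHom.comp (MulAut.conj g).toMonoidHom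
          = MonoidHom.id G := by
        ext x; simp
      rw [this, Subgroup.map_id]
    rw [hback] at this
    exact this

end Final

end Cfsg.Agent.Helper61.TWPair
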