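import Mathlib
import Cfsg.Prelude.Def_Solvable
import Cfsg.Agent.S0042
import Cfsg.Agent.S0035
import Cfsg.Agent.Lib.Helper96.FrobCompl
import Cfsg.Agent.Lib.Helper96.FrobeniusAct

set_option autoImplicit false

/-! Generic facts on Frobenius groups (complement `C`, kernel given as a subgroup `N`),
and some element-order tools, used for the structure of 2-Frobenius groups. -/

namespace Cfsg.Agent.Helper61.TwoFrob

open Cfsg

section generic

variable {L : Type*} [Group L] [Finite L] {C N : Subgroup L}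

theorem isComplement' (hC : IsFrobeniusComplement C) (hN : frobeniusKernel C = (N : Set L)) :
    N.IsComplement' C := by
  obtain ⟨N', h1, _, h3⟩ := Cfsg.Agent.S0035.result C hC
  have : N' = N := SetLike.coe_injective (h1.trans hN)
  rw [← this]; exact h3

theorem normal (hC : IsFrobeniusComplement C) (hN : frobeniusKernel C = (N : Set L)) :
    N.Normal := by
  obtain ⟨N', h1, h2, _⟩ := Cfsg.Agent.S0035.result C hC
  have : N' = N := SetLike.coe_injective (h1.trans hN)
  rw [← this]; exact h2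

theorem nilpotent (hC : IsFrobeniusComplement C) (hN : frobeniusKernel C = (N : Set L)) :
    Group.IsNilpotent N := by
  obtain ⟨N', h1, _, h3⟩ := Cfsg.Agent.S0042.result C hC
  have : N' = N := SetLike.coe_injective (h1.trans hN)
  rw [← this]; exact h3

theorem coprime (hC : IsFrobeniusComplement C) (hN : frobeniusKernel C = (N : Set L)) :
    (Nat.card N).Coprime (Nat.card C) := by
  have := Helper96.coprime_index_card hC
  rwa [(isComplement' hC hN).index_eq_card] at this

theorem card_mul (hC : IsFrobeniusComplement C) (hN : frobeniusKernel C = (N : Set L)) :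
    Nat.card N * Nat.card C = Nat.card L :=
  (isComplement' hC hN).card_mul_card

theorem fpf (hC : IsFrobeniusComplement C) (hN : frobeniusKernel C = (N : Set L))
    {c n : L} (hc : c ∈ C) (hc1 : c ≠ 1) (hn : n ∈ N) (h : c * n = n * c) : n = 1 :=
  Helper96.frob_kernel_fixed_eq_one hC hc hc1 (by rw [hN]; exact hn) (by rw [h]; group)

theorem exists_conj_mem (hN : frobeniusKernel C = (N : Set L))
    {x : L} (hx : x ∉ N) : ∃ g, g⁻¹ * x * g ∈ C := by
  have : x ∉ frobeniusKernel C := by rw [hN]; exact hx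
  exact ((Helper96.not_mem_frobeniusKernel_iff C x).mp this).2

theorem ne_bot (hC : IsFrobeniusComplement C) (hN : frobeniusKernel C = (N : Set L)) :
    N ≠ ⊥ := by
  obtain ⟨y, hy, hy1⟩ := Helper96.exists_ne_one_mem_frobeniusKernel hC
  intro h
  rw [hN, h] at hy
  exact hy1 (Subgroup.mem_bot.mp hy)

/-- An involution acting without nontrivial fixed points on a finite normal subgroup inverts it. -/
theorem invol_inverts (N : Subgroup L) [N.Normal] (t : L) (ht : t * t = 1)
    (hfpf : ∀ n ∈ N, t * n = n * t → n = 1) : ∀ n ∈ N, t * n * t⁻¹ = n⁻¹ := by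
  have htinv : t⁻¹ = t := inv_eq_of_mul_eq_one_right ht
  let φ : N → N := fun n => ⟨(n : L)⁻¹ * (t * n * t⁻¹),
    N.mul_mem (N.inv_mem n.2) (Subgroup.Normal.conj_mem inferInstance _ n.2 t)⟩
  have hinj : Function.Injective φ := by
    intro a b hab
    have h1 : (a : L)⁻¹ * (t * a * t⁻¹) = (b : L)⁻¹ * (t * b * t⁻¹) := congrArg Subtype.val hab
    have h2 : t * ((b : L) * (a : L)⁻¹) = ((b : L) * (a : L)⁻¹) * t := by
      have h3 : (b : L) * (a : L)⁻¹ * (t * a * t⁻¹) = t * b * t⁻¹ := by
        rw [mul_assoc (b : L), h1]; group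
      have h4 : (b : L) * (a : L)⁻¹ * t = t * b * t⁻¹ * (t * (a : L)⁻¹) := by
        rw [← h3]; group
      rw [h4]; group
    have h5 := hfpf _ (N.mul_mem b.2 (N.inv_mem a.2)) h2
    have : (b : L) = a := by
      have := mul_inv_eq_one.mp h5
      exact this
    exact Subtype.ext this.symm
  have hsurj : Function.Surjective φ := Finite.injective_iff_surjective.mp hinj
  intro m hm
  obtain ⟨n, hn⟩ := hsurj ⟨m, hm⟩
  have hm' : m = (n : L)⁻¹ * (t * n * t⁻¹) := (congrArg Subtype.val hn).symm
  have e1 : t * m * t⁻¹ = (t * (n : L)⁻¹ * t⁻¹) * ((t * t) * n * (t * t)⁻¹) := by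
    rw [hm']; group
  have e2 : m⁻¹ = (t * (n : L)⁻¹ * t⁻¹) * n := by
    rw [hm']; group
  rw [e1, e2, ht]
  simp

end generic

section orders

variable {L : Type*} [Group L] [Finite L]

theorem exists_pow_orderOf_eq_of_dvd {y : L} {n : ℕ} (h : n ∣ orderOf y) :
    ∃ m : ℕ, orderOf (y ^ m) = n := by
  obtain ⟨m, hm⟩ := h
  have hpos : 0 < orderOf y := orderOf_pos y
  have hm0 : m ≠ 0 := by
    rintro rfl
    rw [mul_zero] at hm
    omega
  refine ⟨m, ?_⟩
  rw [orderOf_pow_of_dvd hm0 ⟨n, by rw [hm, mul_comm]⟩, hm]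
  exact Nat.mul_div_cancel _ (Nat.pos_of_ne_zero hm0)

theorem exists_orderOf_eq_of_dvd {y : L} {n : ℕ} (h : n ∣ orderOf y) :
    ∃ z : L, orderOf z = n := by
  obtain ⟨m, hm⟩ := exists_pow_orderOf_eq_of_dvd h
  exact ⟨_, hm⟩

theorem mem_normalizer_of_forall_conj_mem (B : Subgroup L) (u : L)
    (hu : ∀ b ∈ B, u * b * u⁻¹ ∈ B) : u ∈ Subgroup.normalizer (B : Set L) := by
  rw [Subgroup.mem_normalizer_iff]
  intro b
  refine ⟨hu b, fun hb => ?_⟩
  let φ : B → B := fun x => ⟨u * x * u⁻¹, hu x x.2⟩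
  have hinj : Function.Injective φ := by
    intro a c hac
    have h1 : u * (a : L) * u⁻¹ = u * (c : L) * u⁻¹ := congrArg Subtype.val hac
    have h2 : (a : L) = c := by
      have := mul_right_cancel h1
      exact mul_left_cancel this
    exact Subtype.ext h2
  have hsurj : Function.Surjective φ := Finite.injective_iff_surjective.mp hinj
  obtain ⟨a, ha⟩ := hsurj ⟨u * b * u⁻¹, hb⟩
  have h1 : u * (a : L) * u⁻¹ = u * b * u⁻¹ := congrArg Subtype.val ha
  have h2 : (a : L) = b := mul_left_cancel (mul_right_cancel h1)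
  rw [← h2]; exact a.2

end orders

section nilp

variable {L : Type*} [Group L] [Finite L]

theorem exists_orderOf_mul_of_nilpotent [hnil : Group.IsNilpotent L] {p q : ℕ} (hp : p.Prime)
    (hq : q.Prime) (hpq : p ≠ q) (hpd : p ∣ Nat.card L) (hqd : q ∣ Nat.card L) :
    ∃ x : L, orderOf x = p * q := by
  have := Fact.mk hp
  have := Fact.mk hq
  obtain ⟨P⟩ : Nonempty (Sylow p L) := inferInstance
  obtain ⟨Q⟩ : Nonempty (Sylow q L) := inferInstance
  have htfae : Group.IsNilpotent L ↔
      ∀ (p : ℕ), Fact (Nat.Prime p) → ∀ (P : Sylow p L), (P : Subgroup L).Normal :=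
    (Group.isNilpotent_of_finite_tfae (G := L)).out 0 3
  have hPn : (P : Subgroup L).Normal := htfae.mp hnil p inferInstance P
  have hQn : (Q : Subgroup L).Normal := htfae.mp hnil q inferInstance Q
  obtain ⟨x, hx⟩ := exists_prime_orderOf_dvd_card' (G := P) p (P.dvd_card_of_dvd_card hpd)
  obtain ⟨y, hy⟩ := exists_prime_orderOf_dvd_card' (G := Q) q (Q.dvd_card_of_dvd_card hqd)
  have hx' : orderOf (x : L) = p := by rw [Subgroup.orderOf_coe, hx]
  have hy' : orderOf (y : L) = q := by rw [Subgroup.orderOf_coe, hy]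
  have hdisj : Disjoint (P : Subgroup L) (Q : Subgroup L) :=
    IsPGroup.disjoint_of_ne p q hpq _ _ P.2 Q.2
  have hcomm : Commute (x : L) (y : L) :=
    Subgroup.commute_of_normal_of_disjoint _ _ hPn hQn hdisj _ _ x.2 y.2
  refine ⟨(x : L) * y, ?_⟩
  rw [hcomm.orderOf_mul_eq_mul_orderOf_of_coprime, hx', hy']
  rw [hx', hy']
  exact (Nat.coprime_primes hp hq).mpr hpq

theorem exists_orderOf_of_surjective {M : Type*} [Group M] (f : L →* M)
    (hf : Function.Surjective f) {n : ℕ} (y : M) (hy : orderOf y = n) :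
    ∃ z : L, orderOf z = n := by
  obtain ⟨x, rfl⟩ := hf y
  exact exists_orderOf_eq_of_dvd (hy ▸ orderOf_map_dvd f x)

end nilp

end Cfsg.Agent.Helper61.TwoFrob
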