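import Mathlib
import Cfsg.Prelude.Def_Solvable
import Cfsg.Agent.Lib.Helper61.TwoFrob
import Cfsg.Agent.S0666
import Cfsg.Agent.Lib.Helper24.SZConj
import Cfsg.Agent.Lib.Helper60.GKA
import Cfsg.Agent.Lib.Helper71.FrobConj

set_option autoImplicit false
set_option linter.unusedSectionVars false
set_option linter.style.haveILetI false

/-! Structure of 2-Frobenius groups. -/

namespace Cfsg.Agent.Helper61.TwoFrob

open Cfsg

variable {G : Type*} [Group G] [Finite G]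

/-- hypotheses of a 2-Frobenius group -/
structure Hyp (H K : Subgroup G) [H.Normal] (C₁ : Subgroup ↥K) (C₂ : Subgroup (G ⧸ H)) : Prop where
  hle : H ≤ K
  hC₁ : IsFrobeniusComplement C₁
  hK₁ : frobeniusKernel C₁ = (H.subgroupOf K : Set ↥K)
  hC₂ : IsFrobeniusComplement C₂
  hK₂ : frobeniusKernel C₂ = (K.map (QuotientGroup.mk' H) : Set (G ⧸ H))

/-- the complement of `H` in `K`, as a subgroup of `G` -/
def Bsub {K : Subgroup G} (C₁ : Subgroup ↥K) : Subgroup G := C₁.map K.subtype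

variable {H K : Subgroup G} [H.Normal] [K.Normal] {C₁ : Subgroup ↥K} {C₂ : Subgroup (G ⧸ H)}

omit [Finite G] [K.Normal] in
theorem B_le : Bsub C₁ ≤ K := Subgroup.map_subtype_le C₁

omit [Finite G] [K.Normal] in
theorem mem_B_iff {x : G} : x ∈ Bsub C₁ ↔ ∃ hx : x ∈ K, (⟨x, hx⟩ : ↥K) ∈ C₁ := by
  unfold Bsub
  constructor
  · rintro ⟨y, hy, rfl⟩
    exact ⟨y.2, hy⟩
  · rintro ⟨hx, h⟩
    exact ⟨⟨x, hx⟩, h, rfl⟩

omit [Finite G] [K.Normal] in
theorem card_B : Nat.card (Bsub C₁) = Nat.card C₁ :=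
  Nat.card_congr (Subgroup.equivMapOfInjective C₁ K.subtype K.subtype_injective).toEquiv.symm

/-- the `p`-torsion of the centre of `K/H`, as a subgroup of `G/H` -/
def OmegaBar (H K : Subgroup G) [H.Normal] (p : ℕ) : Subgroup (G ⧸ H) where
  carrier := {w | w ∈ K.map (QuotientGroup.mk' H) ∧
    (∀ k ∈ K.map (QuotientGroup.mk' H), k * w = w * k) ∧ w ^ p = 1}
  one_mem' := ⟨one_mem _, fun k _ => by simp, one_pow _⟩
  mul_mem' := by
    rintro a b ⟨ha, hac, hap⟩ ⟨hb, hbc, hbp⟩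
    refine ⟨mul_mem ha hb, fun k hk => ?_, ?_⟩
    · rw [← mul_assoc, hac k hk, mul_assoc, hbc k hk, mul_assoc]
    · have hc : Commute a b := (hac b hb).symm
      rw [hc.mul_pow, hap, hbp, one_mul]
  inv_mem' := by
    rintro a ⟨ha, hac, hap⟩
    refine ⟨inv_mem ha, fun k hk => ?_, by rw [inv_pow, hap, inv_one]⟩
    have := hac k hk
    calc k * a⁻¹ = a⁻¹ * (a * k) * a⁻¹ := by group
      _ = a⁻¹ * (k * a) * a⁻¹ := by rw [this]
      _ = a⁻¹ * k := by group

omit [Finite G] in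
theorem OmegaBar_normal (p : ℕ) : (OmegaBar H K p).Normal := by
  have hKb : (K.map (QuotientGroup.mk' H)).Normal :=
    Subgroup.Normal.map inferInstance _ (QuotientGroup.mk'_surjective H)
  constructor
  rintro w ⟨hw, hwc, hwp⟩ g
  refine ⟨hKb.conj_mem w hw g, fun k hk => ?_, ?_⟩
  · have hk' : g⁻¹ * k * g ∈ K.map (QuotientGroup.mk' H) := by
      simpa using hKb.conj_mem k hk g⁻¹
    have := hwc _ hk'
    calc k * (g * w * g⁻¹) = g * ((g⁻¹ * k * g) * w) * g⁻¹ := by group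
      _ = g * (w * (g⁻¹ * k * g)) * g⁻¹ := by rw [this]
      _ = (g * w * g⁻¹) * k := by group
  · rw [conj_pow, hwp]; simp

namespace Hyp

variable (h : Hyp H K C₁ C₂)
include h

theorem B_inf_H {x : G} (hx : x ∈ Bsub C₁) (hxH : x ∈ H) : x = 1 := by
  obtain ⟨hxK, hxC⟩ := mem_B_iff.mp hx
  have hd := (isComplement' h.hC₁ h.hK₁).disjoint.eq_bot
  have : (⟨x, hxK⟩ : ↥K) ∈ H.subgroupOf K ⊓ C₁ := ⟨Subgroup.mem_subgroupOf.mpr hxH, hxC⟩
  rw [hd, Subgroup.mem_bot] at this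
  exact congrArg Subtype.val this

theorem B_fpf {b n : G} (hb : b ∈ Bsub C₁) (hb1 : b ≠ 1) (hn : n ∈ H) (hc : b * n = n * b) :
    n = 1 := by
  obtain ⟨hbK, hbC⟩ := mem_B_iff.mp hb
  have := fpf h.hC₁ h.hK₁ (c := ⟨b, hbK⟩) (n := ⟨n, h.hle hn⟩) hbC
    (fun e => hb1 (congrArg Subtype.val e)) (Subgroup.mem_subgroupOf.mpr hn) (Subtype.ext hc)
  exact congrArg Subtype.val this

theorem B_ti {k b : G} (hk : k ∈ K) (hb : b ∈ Bsub C₁) (hb1 : b ≠ 1)
    (hc : k⁻¹ * b * k ∈ Bsub C₁) : k ∈ Bsub C₁ := by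
  obtain ⟨hbK, hbC⟩ := mem_B_iff.mp hb
  obtain ⟨hcK, hcC⟩ := mem_B_iff.mp hc
  have := Helper96.frob_mem_of_conj_mem h.hC₁ (h := ⟨b, hbK⟩) (g := ⟨k, hk⟩) hbC
    (fun e => hb1 (congrArg Subtype.val e)) hcC
  exact mem_B_iff.mpr ⟨hk, this⟩

theorem B_conj {x : G} (hx : x ∈ K) (hxH : x ∉ H) : ∃ k ∈ K, k⁻¹ * x * k ∈ Bsub C₁ := by
  have : (⟨x, hx⟩ : ↥K) ∉ H.subgroupOf K := fun e => hxH (Subgroup.mem_subgroupOf.mp e)
  obtain ⟨g, hg⟩ := exists_conj_mem h.hK₁ this
  exact ⟨g, g.2, mem_B_iff.mpr ⟨K.mul_mem (K.mul_mem (K.inv_mem g.2) hx) g.2, hg⟩⟩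

theorem B_ne_bot : Bsub C₁ ≠ ⊥ := by
  intro hB
  apply h.hC₁.1
  rw [Subgroup.eq_bot_iff_forall]
  intro x hx
  have : (x : G) ∈ Bsub C₁ := mem_B_iff.mpr ⟨x.2, hx⟩
  rw [hB, Subgroup.mem_bot] at this
  exact Subtype.ext this

theorem exists_B_ne_one : ∃ b ∈ Bsub C₁, b ≠ 1 := by
  by_contra hcon
  push Not at hcon
  exact h.B_ne_bot ((Subgroup.eq_bot_iff_forall _).mpr hcon)

theorem card_subgroupOf : Nat.card (H.subgroupOf K) = Nat.card H :=
  Nat.card_congr (Subgroup.subgroupOfEquivOfLe h.hle).toEquiv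

theorem card_quot : Nat.card (↥K ⧸ H.subgroupOf K) = Nat.card C₁ := by
  have := (isComplement' h.hC₁ h.hK₁).symm.index_eq_card
  rw [← this]; rfl

theorem card_K : Nat.card K = Nat.card H * Nat.card C₁ := by
  rw [← card_mul h.hC₁ h.hK₁, h.card_subgroupOf]

theorem coprime_H : (Nat.card H).Coprime (Nat.card C₁) := by
  have := coprime h.hC₁ h.hK₁
  rwa [h.card_subgroupOf] at this

theorem H_nilpotent : Group.IsNilpotent H := by
  haveI := nilpotent h.hC₁ h.hK₁
  exact Group.nilpotent_of_mulEquiv (Subgroup.subgroupOfEquivOfLe h.hle)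

theorem H_ne_bot : H ≠ ⊥ := by
  intro hH
  apply ne_bot h.hC₁ h.hK₁
  rw [hH]
  simp

/-! the quotient side -/

theorem Kb_compl : (K.map (QuotientGroup.mk' H)).IsComplement' C₂ := isComplement' h.hC₂ h.hK₂

theorem Kb_nilpotent : Group.IsNilpotent (K.map (QuotientGroup.mk' H)) := nilpotent h.hC₂ h.hK₂

theorem card_GH : Nat.card (G ⧸ H) = Nat.card C₁ * K.index := by
  have h1 : Nat.card H * Nat.card (G ⧸ H) = Nat.card G := by
    rw [mul_comm]; exact (Subgroup.card_eq_card_quotient_mul_card_subgroup H).symm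
  have h2 : Nat.card K * K.index = Nat.card G := Subgroup.card_mul_index K
  rw [h.card_K, mul_assoc] at h2
  have hpos : 0 < Nat.card H := Nat.card_pos
  exact Nat.eq_of_mul_eq_mul_left hpos (h1.trans h2.symm)

theorem card_C₂ : Nat.card C₂ = K.index := by
  have h1 := h.Kb_compl.symm.index_eq_card
  rw [← h1]
  exact Subgroup.index_map_eq _ (QuotientGroup.mk'_surjective H) (by rw [QuotientGroup.ker_mk']; exact h.hle)

theorem card_Kb : Nat.card (K.map (QuotientGroup.mk' H)) = Nat.card C₁ := by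
  have h1 := card_mul h.hC₂ h.hK₂
  rw [h.card_GH, h.card_C₂] at h1
  have hpos : 0 < K.index := Nat.pos_of_ne_zero Subgroup.index_ne_zero_of_finite
  exact Nat.eq_of_mul_eq_mul_right hpos h1

theorem coprime_idx : (Nat.card C₁).Coprime K.index := by
  have := coprime h.hC₂ h.hK₂
  rwa [h.card_Kb, h.card_C₂] at this

theorem card_G : Nat.card G = Nat.card H * (Nat.card C₁ * K.index) := by
  rw [← h.card_GH, mul_comm]
  exact Subgroup.card_eq_card_quotient_mul_card_subgroup H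

/-! ### the quotient side: elementwise facts -/

theorem mk_mem_Kb_iff {x : G} : (QuotientGroup.mk' H x) ∈ K.map (QuotientGroup.mk' H) ↔ x ∈ K := by
  constructor
  · rintro ⟨y, hy, hxy⟩
    have : y⁻¹ * x ∈ H := by
      rw [← QuotientGroup.eq_one_iff, ← QuotientGroup.mk'_apply, map_mul, map_inv, hxy]; simp
    have := K.mul_mem hy (h.hle this)
    simpa using this
  · intro hx
    exact ⟨x, hx, rfl⟩

theorem Q_fpf {c n : G ⧸ H} (hc : c ∈ C₂) (hc1 : c ≠ 1) (hn : n ∈ K.map (QuotientGroup.mk' H))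
    (hcn : c * n = n * c) : n = 1 := fpf h.hC₂ h.hK₂ hc hc1 hn hcn

theorem exists_C₂_ne_one : ∃ c ∈ C₂, c ≠ 1 := by
  by_contra hcon
  push Not at hcon
  exact h.hC₂.1 ((Subgroup.eq_bot_iff_forall _).mpr hcon)

/-- an element of `K` centralizing `H` lies in `H` -/
theorem mem_H_of_centralizes {x : G} (hx : x ∈ K) (hcen : ∀ n ∈ H, x * n = n * x) : x ∈ H := by
  by_contra hxH
  obtain ⟨k, hk, hkB⟩ := h.B_conj hx hxH
  obtain ⟨n, hn, hn1⟩ : ∃ n ∈ H, n ≠ 1 := by
    by_contra hcon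
    push Not at hcon
    exact h.H_ne_bot ((Subgroup.eq_bot_iff_forall _).mpr hcon)
  have hb1 : k⁻¹ * x * k ≠ 1 := by
    intro e
    apply hxH
    have : x = k * (k⁻¹ * x * k) * k⁻¹ := by group
    rw [this, e]; simp
  have hn' : k⁻¹ * n * k ∈ H := by
    have := Subgroup.Normal.conj_mem (inferInstance : H.Normal) n hn k⁻¹
    simpa using this
  have hcomm : (k⁻¹ * x * k) * (k⁻¹ * n * k) = (k⁻¹ * n * k) * (k⁻¹ * x * k) := by
    have e1 : (k⁻¹ * x * k) * (k⁻¹ * n * k) = k⁻¹ * (x * n) * k := by group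
    have e2 : (k⁻¹ * n * k) * (k⁻¹ * x * k) = k⁻¹ * (n * x) * k := by group
    rw [e1, e2, hcen n hn]
  have := h.B_fpf hkB hb1 hn' hcomm
  apply hn1
  have e : n = k * (k⁻¹ * n * k) * k⁻¹ := by group
  rw [e, this]; simp

theorem odd_card : Odd (Nat.card C₁) := by
  by_contra hodd
  rw [Nat.not_odd_iff_even] at hodd
  have h2 : 2 ∣ Nat.card (Bsub C₁) := by rw [card_B]; exact hodd.two_dvd
  haveI : Fact (Nat.Prime 2) := ⟨Nat.prime_two⟩
  obtain ⟨t₀, ht₀⟩ := exists_prime_orderOf_dvd_card' (G := Bsub C₁) 2 h2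
  have ht : orderOf (t₀ : G) = 2 := by rw [Subgroup.orderOf_coe, ht₀]
  obtain ⟨t, htB, htdef⟩ : ∃ t : G, t ∈ Bsub C₁ ∧ t = (t₀ : G) := ⟨_, t₀.2, rfl⟩
  rw [← htdef] at ht
  have htt : t * t = 1 := by
    have := pow_orderOf_eq_one t
    rwa [ht, pow_two] at this
  have ht1 : t ≠ 1 := by
    intro e
    rw [e, orderOf_one] at ht
    omega
  have htK : t ∈ K := B_le htB
  have hinv : ∀ n ∈ H, t * n * t⁻¹ = n⁻¹ :=
    invol_inverts H t htt (fun n hn hc => h.B_fpf htB ht1 hn hc)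
  obtain ⟨c, hc, hc1⟩ := h.exists_C₂_ne_one
  obtain ⟨g, rfl⟩ := QuotientGroup.mk'_surjective H c
  -- s = g t g⁻¹
  have hsK : g * t * g⁻¹ ∈ K := Subgroup.Normal.conj_mem inferInstance t htK g
  have hsinv : ∀ n ∈ H, (g * t * g⁻¹) * n * (g * t * g⁻¹)⁻¹ = n⁻¹ := by
    intro n hn
    have hn' : g⁻¹ * n * g ∈ H := by
      have := Subgroup.Normal.conj_mem (inferInstance : H.Normal) n hn g⁻¹
      simpa using this
    have e : (g * t * g⁻¹) * n * (g * t * g⁻¹)⁻¹ = g * (t * (g⁻¹ * n * g) * t⁻¹) * g⁻¹ := by group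
    rw [e, hinv _ hn']; group
  have hcen : ∀ n ∈ H, (t * (g * t * g⁻¹)) * n = n * (t * (g * t * g⁻¹)) := by
    intro n hn
    have e1 := hsinv n hn
    have e2 := hinv n⁻¹ (H.inv_mem hn)
    rw [inv_inv] at e2
    have : (t * (g * t * g⁻¹)) * n * (t * (g * t * g⁻¹))⁻¹ = n := by
      have e : (t * (g * t * g⁻¹)) * n * (t * (g * t * g⁻¹))⁻¹
          = t * ((g * t * g⁻¹) * n * (g * t * g⁻¹)⁻¹) * t⁻¹ := by group
      rw [e, e1, e2]
    calc (t * (g * t * g⁻¹)) * n = ((t * (g * t * g⁻¹)) * n * (t * (g * t * g⁻¹))⁻¹) * (t * (g * t * g⁻¹)) := by group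
      _ = n * (t * (g * t * g⁻¹)) := by rw [this]
  have hmem : t * (g * t * g⁻¹) ∈ H := h.mem_H_of_centralizes (K.mul_mem htK hsK) hcen
  have hq : (QuotientGroup.mk' H t) * ((QuotientGroup.mk' H g) * (QuotientGroup.mk' H t) * (QuotientGroup.mk' H g)⁻¹) = 1 := by
    rw [← map_inv, ← map_mul, ← map_mul, ← map_mul]
    exact (QuotientGroup.eq_one_iff _).mpr hmem
  have hqt : (QuotientGroup.mk' H t) * (QuotientGroup.mk' H t) = 1 := by
    rw [← map_mul, htt, map_one]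
  have hcomm : (QuotientGroup.mk' H g) * (QuotientGroup.mk' H t) = (QuotientGroup.mk' H t) * (QuotientGroup.mk' H g) := by
    have e1 : (QuotientGroup.mk' H g) * (QuotientGroup.mk' H t) * (QuotientGroup.mk' H g)⁻¹ = (QuotientGroup.mk' H t)⁻¹ :=
      (eq_inv_of_mul_eq_one_right hq)
    have e2 : (QuotientGroup.mk' H t)⁻¹ = QuotientGroup.mk' H t := inv_eq_of_mul_eq_one_right hqt
    rw [e2] at e1
    calc (QuotientGroup.mk' H g) * (QuotientGroup.mk' H t)
        = ((QuotientGroup.mk' H g) * (QuotientGroup.mk' H t) * (QuotientGroup.mk' H g)⁻¹) * (QuotientGroup.mk' H g) := by group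
      _ = _ := by rw [e1]
  have := h.Q_fpf hc hc1 (h.mk_mem_Kb_iff.mpr htK) hcomm
  have htH : t ∈ H := (QuotientGroup.eq_one_iff _).mp this
  exact ht1 (h.B_inf_H htB htH)

theorem K_eq_mul {k : G} (hk : k ∈ K) : ∃ n ∈ H, ∃ b ∈ Bsub C₁, k = n * b := by
  obtain ⟨⟨n, c⟩, hnc⟩ := (isComplement' h.hC₁ h.hK₁).2 ⟨k, hk⟩
  refine ⟨((n : ↥K) : G), Subgroup.mem_subgroupOf.mp n.2, ((c : ↥K) : G),
    mem_B_iff.mpr ⟨(c : ↥K).2, c.2⟩, ?_⟩
  have := congrArg Subtype.val hnc
  simpa using this.symm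

theorem Kb_rep {w : G ⧸ H} (hw : w ∈ K.map (QuotientGroup.mk' H)) :
    ∃ b ∈ Bsub C₁, QuotientGroup.mk' H b = w := by
  obtain ⟨k, hk, rfl⟩ := hw
  obtain ⟨n, hn, b, hb, rfl⟩ := h.K_eq_mul hk
  refine ⟨b, hb, ?_⟩
  have hn1 : QuotientGroup.mk' H n = 1 := (QuotientGroup.eq_one_iff n).mpr hn
  rw [map_mul, hn1, one_mul]

theorem exists_prime_central : ∃ p : ℕ, p.Prime ∧ p ∣ Nat.card C₁ ∧
    ∃ w ∈ OmegaBar H K p, orderOf w = p := by
  haveI := h.Kb_nilpotent
  haveI : Nontrivial (K.map (QuotientGroup.mk' H)) := by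
    rw [← Finite.one_lt_card_iff_nontrivial, h.card_Kb]
    have h1 : Nat.card C₁ ≠ 1 := fun e => h.hC₁.1 (Subgroup.card_eq_one.mp e)
    have h0 : 0 < Nat.card C₁ := Nat.card_pos
    omega
  have hcen := Group.IsNilpotent.center_ne_bot (G := K.map (QuotientGroup.mk' H))
  have h1 : Nat.card (Subgroup.center (K.map (QuotientGroup.mk' H))) ≠ 1 :=
    fun e => hcen (Subgroup.card_eq_one.mp e)
  obtain ⟨p, hp, hpd⟩ := Nat.exists_prime_and_dvd h1
  haveI := Fact.mk hp
  obtain ⟨z, hz⟩ := exists_prime_orderOf_dvd_card' p hpd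
  refine ⟨p, hp, ?_, ((z : K.map (QuotientGroup.mk' H)) : G ⧸ H), ⟨(z : K.map (QuotientGroup.mk' H)).2, ?_, ?_⟩, ?_⟩
  · rw [← h.card_Kb]
    exact hpd.trans (Subgroup.card_subgroup_dvd_card _)
  · intro k hk
    have := Subgroup.mem_center_iff.mp z.2 ⟨k, hk⟩
    exact congrArg Subtype.val this
  · have := pow_orderOf_eq_one z
    rw [hz] at this
    have := congrArg Subtype.val (congrArg Subtype.val this)
    simpa using this
  · rw [Subgroup.orderOf_coe, Subgroup.orderOf_coe, hz]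

theorem OmegaBar_eq_zpowers {p : ℕ} (hp : p.Prime) (hpd : p ∣ Nat.card C₁) {w : G ⧸ H}
    (hw : w ∈ OmegaBar H K p) (hwo : orderOf w = p) : OmegaBar H K p = Subgroup.zpowers w := by
  haveI := Fact.mk hp
  -- pull back to `B`
  set ΩB : Subgroup G := Bsub C₁ ⊓ (OmegaBar H K p).comap (QuotientGroup.mk' H) with hΩB
  have hpow : ∀ x ∈ ΩB, x ^ p = 1 := by
    intro x hx
    have h1 : (QuotientGroup.mk' H x) ^ p = 1 := hx.2.2.2
    rw [← map_pow] at h1
    exact h.B_inf_H ((Bsub C₁).pow_mem hx.1 p) ((QuotientGroup.eq_one_iff _).mp h1)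
  have hP : IsPGroup p ΩB := by
    intro x
    refine ⟨1, ?_⟩
    rw [pow_one]
    exact Subtype.ext (by simpa using hpow x x.2)
  have hcop : (Nat.card H).Coprime p := Nat.Coprime.coprime_dvd_right hpd h.coprime_H
  haveI : Nontrivial H := (Subgroup.nontrivial_iff_ne_bot H).mpr h.H_ne_bot
  let ρ : ΩB →* MulAut H := (MulAut.conjNormal (H := H)).comp ΩB.subtype
  have hfpf : ∀ g : ΩB, g ≠ 1 → ∀ x : H, ρ g x = x → x = 1 := by
    intro g hg x hx
    have hx' : (g : G) * x * (g : G)⁻¹ = x := by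
      have := congrArg Subtype.val hx
      simpa [ρ, MulAut.conjNormal_apply] using this
    have hc : (g : G) * x = x * g := by
      calc (g : G) * x = ((g : G) * x * (g : G)⁻¹) * g := by group
        _ = x * g := by rw [hx']
    have := h.B_fpf g.2.1 (fun e => hg (Subtype.ext e)) x.2 hc
    exact Subtype.ext this
  have huniq := Helper71.unique_subgroup_order_p_of_fpf p hP hcop ρ hfpf
  have hzp : ∀ x : ΩB, x ≠ 1 → Nat.card (Subgroup.zpowers x) = p := by
    intro x hx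
    rw [Nat.card_zpowers]
    have h1 : orderOf x ∣ p := orderOf_dvd_of_pow_eq_one (Subtype.ext (by simpa using hpow x x.2))
    rcases (Nat.dvd_prime hp).mp h1 with h2 | h2
    · exact (hx (orderOf_eq_one_iff.mp h2)).elim
    · exact h2
  -- representative of `w`
  obtain ⟨x, hxB, hxw⟩ := h.Kb_rep hw.1
  have hxΩ : x ∈ ΩB := ⟨hxB, by show QuotientGroup.mk' H x ∈ OmegaBar H K p; rw [hxw]; exact hw⟩
  have hw1 : w ≠ 1 := by
    intro e
    rw [e, orderOf_one] at hwo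
    exact hp.one_lt.ne hwo
  have hx1 : (⟨x, hxΩ⟩ : ΩB) ≠ 1 := by
    intro e
    apply hw1
    rw [← hxw]
    have : x = 1 := congrArg Subtype.val e
    rw [this, map_one]
  apply le_antisymm
  · intro w' hw'
    by_cases hw'1 : w' = 1
    · rw [hw'1]; exact one_mem _
    obtain ⟨y, hyB, hyw⟩ := h.Kb_rep hw'.1
    have hyΩ : y ∈ ΩB := ⟨hyB, by show QuotientGroup.mk' H y ∈ OmegaBar H K p; rw [hyw]; exact hw'⟩
    have hy1 : (⟨y, hyΩ⟩ : ΩB) ≠ 1 := by
      intro e
      apply hw'1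
      rw [← hyw]
      have : y = 1 := congrArg Subtype.val e
      rw [this, map_one]
    have heq := huniq _ _ (hzp _ hy1) (hzp _ hx1)
    have hmem : (⟨y, hyΩ⟩ : ΩB) ∈ Subgroup.zpowers (⟨x, hxΩ⟩ : ΩB) := by
      rw [← heq]; exact Subgroup.mem_zpowers _
    obtain ⟨n, hn⟩ := Subgroup.mem_zpowers_iff.mp hmem
    have hn' : x ^ n = y := by
      have := congrArg Subtype.val hn
      simpa using this
    rw [Subgroup.mem_zpowers_iff]
    refine ⟨n, ?_⟩
    rw [← hxw, ← hyw, ← map_zpow, hn']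
  · rw [Subgroup.zpowers_le]
    exact hw

theorem C₂_cyclic : IsCyclic C₂ := by
  obtain ⟨p, hp, hpd, w, hw, hwo⟩ := h.exists_prime_central
  have hΩ := h.OmegaBar_eq_zpowers hp hpd hw hwo
  haveI hΩn : (OmegaBar H K p).Normal := OmegaBar_normal p
  have hcard : Nat.card (OmegaBar H K p) = p := by rw [hΩ, Nat.card_zpowers, hwo]
  haveI := Fact.mk hp
  haveI hcyc : IsCyclic (OmegaBar H K p) := isCyclic_of_prime_card hcard
  haveI : Fact (Nat.card (OmegaBar H K p)).Prime := ⟨by rw [hcard]; exact hp⟩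
  haveI : IsCyclic (MulAut (OmegaBar H K p)) :=
    isCyclic_of_injective (IsCyclic.mulAutMulEquiv _).toMonoidHom (MulEquiv.injective _)
  let ρ : C₂ →* MulAut (OmegaBar H K p) :=
    (MulAut.conjNormal (H := OmegaBar H K p)).comp C₂.subtype
  apply isCyclic_of_injective ρ
  rw [injective_iff_map_eq_one]
  intro c hc
  by_contra hc1
  have hw1 : w ≠ 1 := by
    intro e
    rw [e, orderOf_one] at hwo
    exact hp.one_lt.ne hwo
  have h1 : ρ c ⟨w, hw⟩ = ⟨w, hw⟩ := by rw [hc]; rfl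
  have hcw : (c : G ⧸ H) * w * (c : G ⧸ H)⁻¹ = w := by
    have := congrArg Subtype.val h1
    simpa [ρ, MulAut.conjNormal_apply] using this
  have hcomm : (c : G ⧸ H) * w = w * c := by
    calc (c : G ⧸ H) * w = ((c : G ⧸ H) * w * (c : G ⧸ H)⁻¹) * c := by group
      _ = w * c := by rw [hcw]
  exact hw1 (h.Q_fpf c.2 (fun e => hc1 (Subtype.ext e)) hw.1 hcomm)

/-- the natural map `G/H → G/K` -/
def psi (H K : Subgroup G) [H.Normal] [K.Normal] (hle : H ≤ K) : G ⧸ H →* G ⧸ K :=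
  QuotientGroup.map H K (MonoidHom.id G) hle

theorem psi_mk (g : G) : psi H K h.hle (QuotientGroup.mk' H g) = QuotientGroup.mk' K g := rfl

theorem psi_ker : (psi H K h.hle).ker = K.map (QuotientGroup.mk' H) := by
  ext x
  obtain ⟨g, rfl⟩ := QuotientGroup.mk'_surjective H x
  rw [MonoidHom.mem_ker, h.psi_mk, h.mk_mem_Kb_iff]
  exact QuotientGroup.eq_one_iff g

theorem quot_cyclic : IsCyclic (G ⧸ K) := by
  haveI := h.C₂_cyclic
  apply isCyclic_of_surjective ((psi H K h.hle).comp C₂.subtype)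
  intro y
  obtain ⟨g, rfl⟩ := QuotientGroup.mk'_surjective K y
  obtain ⟨⟨k, c⟩, hkc⟩ := h.Kb_compl.2 (QuotientGroup.mk' H g)
  refine ⟨c, ?_⟩
  have hk1 : psi H K h.hle (k : G ⧸ H) = 1 := by
    rw [← MonoidHom.mem_ker, h.psi_ker]; exact k.2
  have hkc' : (k : G ⧸ H) * (c : G ⧸ H) = QuotientGroup.mk' H g := hkc
  rw [← h.psi_mk, ← hkc', map_mul, hk1, one_mul]
  rfl

theorem solvable : Group.IsSolvable G := by
  haveI := h.quot_cyclic
  haveI : Group.IsSolvable (G ⧸ K) := isSolvable_of_comm (fun a b => (IsCyclic.commutative (α := G ⧸ K)).is_comm.comm a b)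
  haveI := h.Kb_nilpotent
  haveI : Group.IsSolvable (K.map (QuotientGroup.mk' H)) := IsNilpotent.to_isSolvable
  haveI : Group.IsSolvable (G ⧸ H) :=
    Group.isSolvable_of_ker_le_range (K.map (QuotientGroup.mk' H)).subtype (psi H K h.hle)
      (by rw [h.psi_ker, Subgroup.range_subtype])
  haveI := h.H_nilpotent
  haveI : Group.IsSolvable H := IsNilpotent.to_isSolvable
  exact Group.isSolvable_of_ker_le_range H.subtype (QuotientGroup.mk' H)
    (by rw [QuotientGroup.ker_mk', Subgroup.range_subtype])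

/-- the centralizer of a nontrivial element of `B` lies in `B` -/
theorem mem_B_of_commute {x y : G} (hx : x ∈ Bsub C₁) (hx1 : x ≠ 1) (hxy : x * y = y * x) :
    y ∈ Bsub C₁ := by
  have hxH : x ∉ H := fun e => hx1 (h.B_inf_H hx e)
  have hKb : (K.map (QuotientGroup.mk' H)).Normal :=
    Subgroup.Normal.map inferInstance _ (QuotientGroup.mk'_surjective H)
  have hyK : y ∈ K := by
    by_contra hyK
    have hy' : QuotientGroup.mk' H y ∉ K.map (QuotientGroup.mk' H) := fun e => hyK (h.mk_mem_Kb_iff.mp e)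
    obtain ⟨g, hg⟩ := exists_conj_mem h.hK₂ hy'
    have hc1 : g⁻¹ * QuotientGroup.mk' H y * g ≠ 1 := by
      intro e
      apply hy'
      have : QuotientGroup.mk' H y = g * (g⁻¹ * QuotientGroup.mk' H y * g) * g⁻¹ := by group
      rw [this, e]; simp
    have hn : g⁻¹ * QuotientGroup.mk' H x * g ∈ K.map (QuotientGroup.mk' H) := by
      have := hKb.conj_mem _ (h.mk_mem_Kb_iff.mpr (B_le hx)) g⁻¹
      simpa using this
    have hcomm : (g⁻¹ * QuotientGroup.mk' H y * g) * (g⁻¹ * QuotientGroup.mk' H x * g)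
        = (g⁻¹ * QuotientGroup.mk' H x * g) * (g⁻¹ * QuotientGroup.mk' H y * g) := by
      have e1 : (g⁻¹ * QuotientGroup.mk' H y * g) * (g⁻¹ * QuotientGroup.mk' H x * g)
          = g⁻¹ * (QuotientGroup.mk' H (y * x)) * g := by rw [map_mul]; group
      have e2 : (g⁻¹ * QuotientGroup.mk' H x * g) * (g⁻¹ * QuotientGroup.mk' H y * g)
          = g⁻¹ * (QuotientGroup.mk' H (x * y)) * g := by rw [map_mul]; group
      rw [e1, e2, hxy]
    have h1 := h.Q_fpf hg hc1 hn hcomm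
    have h2 : QuotientGroup.mk' H x = 1 := by
      have : QuotientGroup.mk' H x = g * (g⁻¹ * QuotientGroup.mk' H x * g) * g⁻¹ := by group
      rw [this, h1]; simp
    exact hxH ((QuotientGroup.eq_one_iff _).mp h2)
  apply h.B_ti hyK hx hx1
  have : y⁻¹ * x * y = x := by
    rw [mul_assoc, hxy]; group
  rw [this]; exact hx

theorem dvd_of_orderOf {p q : ℕ} (hp : p.Prime) (hq : q.Prime) {g : G}
    (hg : orderOf g = p * q) (hpd : p ∣ Nat.card C₁) : q ∣ Nat.card C₁ := by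
  have hxo : orderOf (g ^ q) = p := by
    rw [orderOf_pow_of_dvd hq.ne_zero (hg ▸ dvd_mul_left q p), hg]
    exact Nat.mul_div_cancel _ hq.pos
  have hyo : orderOf (g ^ p) = q := by
    rw [orderOf_pow_of_dvd hp.ne_zero (hg ▸ dvd_mul_right p q), hg]
    exact Nat.mul_div_cancel_left _ hp.pos
  have hcomm : (g ^ q) * (g ^ p) = (g ^ p) * (g ^ q) := by
    rw [← pow_add, ← pow_add, add_comm]
  have hx1 : g ^ q ≠ 1 := by
    intro e
    rw [e, orderOf_one] at hxo
    exact hp.one_lt.ne hxo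
  -- `x ∈ K`
  have hxK : g ^ q ∈ K := by
    rw [← QuotientGroup.eq_one_iff, ← QuotientGroup.mk'_apply]
    have h1 : orderOf (QuotientGroup.mk' K (g ^ q)) ∣ p := by
      apply orderOf_dvd_of_pow_eq_one
      rw [← map_pow, ← hxo, pow_orderOf_eq_one, map_one]
    have h2 : orderOf (QuotientGroup.mk' K (g ^ q)) ∣ K.index := by
      rw [Subgroup.index_eq_card]; exact orderOf_dvd_natCard _
    have hcop : Nat.Coprime p K.index := Nat.Coprime.coprime_dvd_left hpd h.coprime_idx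
    exact orderOf_eq_one_iff.mp (Nat.eq_one_of_dvd_coprimes hcop h1 h2)
  have hxH : g ^ q ∉ H := by
    intro e
    have h1 : p ∣ Nat.card H := by
      have := orderOf_dvd_natCard (⟨g ^ q, e⟩ : H)
      rwa [Subgroup.orderOf_mk, hxo] at this
    have := Nat.eq_one_of_dvd_coprimes h.coprime_H h1 hpd
    exact hp.one_lt.ne this.symm
  obtain ⟨k, hk, hkB⟩ := h.B_conj hxK hxH
  have hx'1 : k⁻¹ * g ^ q * k ≠ 1 := by
    intro e
    apply hx1
    have : g ^ q = k * (k⁻¹ * g ^ q * k) * k⁻¹ := by group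
    rw [this, e]; simp
  have hc' : (k⁻¹ * g ^ q * k) * (k⁻¹ * g ^ p * k) = (k⁻¹ * g ^ p * k) * (k⁻¹ * g ^ q * k) := by
    have e1 : (k⁻¹ * g ^ q * k) * (k⁻¹ * g ^ p * k) = k⁻¹ * (g ^ q * g ^ p) * k := by group
    have e2 : (k⁻¹ * g ^ p * k) * (k⁻¹ * g ^ q * k) = k⁻¹ * (g ^ p * g ^ q) * k := by group
    rw [e1, e2, hcomm]
  have hyB := h.mem_B_of_commute hkB hx'1 hc'
  have hy'o : orderOf (k⁻¹ * g ^ p * k) = q := by
    have := orderOf_injective (MulAut.conj k⁻¹).toMonoidHom (MulAut.conj k⁻¹).injective (g ^ p)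
    simp only [MulEquiv.toMonoidHom_eq_coe, MonoidHom.coe_coe, MulAut.conj_apply, inv_inv] at this
    rw [this, hyo]
  rw [← card_B (C₁ := C₁), ← hy'o]
  have := orderOf_dvd_natCard (⟨_, hyB⟩ : Bsub C₁)
  rwa [Subgroup.orderOf_mk] at this

theorem exists_order_B {p q : ℕ} (hp : p.Prime) (hq : q.Prime) (hpq : p ≠ q)
    (hpd : p ∣ Nat.card C₁) (hqd : q ∣ Nat.card C₁) : ∃ g : G, orderOf g = p * q := by
  haveI := h.Kb_nilpotent
  rw [← h.card_Kb] at hpd hqd
  obtain ⟨w, hw⟩ := exists_orderOf_mul_of_nilpotent hp hq hpq hpd hqd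
  exact exists_orderOf_of_surjective (QuotientGroup.mk' H) (QuotientGroup.mk'_surjective H)
    (w : G ⧸ H) (by rw [Subgroup.orderOf_coe, hw])

theorem exists_order_H {p q : ℕ} (hp : p.Prime) (hq : q.Prime) (hpq : p ≠ q)
    (hpd : p ∣ Nat.card H) (hqd : q ∣ Nat.card H) : ∃ g : G, orderOf g = p * q := by
  haveI := h.H_nilpotent
  obtain ⟨w, hw⟩ := exists_orderOf_mul_of_nilpotent hp hq hpq hpd hqd
  exact ⟨(w : G), by rw [Subgroup.orderOf_coe, hw]⟩

theorem exists_order_idx {p q : ℕ} (hp : p.Prime) (hq : q.Prime) (hpq : p ≠ q)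
    (hpd : p ∣ K.index) (hqd : q ∣ K.index) : ∃ g : G, orderOf g = p * q := by
  haveI := h.quot_cyclic
  obtain ⟨y, hy⟩ := IsCyclic.exists_ofOrder_eq_natCard (α := G ⧸ K)
  have hdvd : p * q ∣ orderOf y := by
    rw [hy, ← Subgroup.index_eq_card]
    exact Nat.Coprime.mul_dvd_of_dvd_of_dvd ((Nat.coprime_primes hp hq).mpr hpq) hpd hqd
  obtain ⟨z, hz⟩ := exists_orderOf_eq_of_dvd hdvd
  exact exists_orderOf_of_surjective (QuotientGroup.mk' K) (QuotientGroup.mk'_surjective K) z hz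

/-! ### the normalizer of `B` is a complement of `H` -/

theorem F_inf_H {x : G} (hx : x ∈ Subgroup.normalizer (Bsub C₁ : Set G)) (hxH : x ∈ H) : x = 1 := by
  obtain ⟨b, hb, hb1⟩ := h.exists_B_ne_one
  have h1 : x * b * x⁻¹ ∈ Bsub C₁ := (Subgroup.mem_normalizer_iff.mp hx b).mp hb
  have h2 : x * b * x⁻¹ * b⁻¹ ∈ Bsub C₁ := (Bsub C₁).mul_mem h1 ((Bsub C₁).inv_mem hb)
  have h3 : x * b * x⁻¹ * b⁻¹ ∈ H := by
    have : b * x⁻¹ * b⁻¹ ∈ H := Subgroup.Normal.conj_mem inferInstance _ (H.inv_mem hxH) b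
    have e : x * b * x⁻¹ * b⁻¹ = x * (b * x⁻¹ * b⁻¹) := by group
    rw [e]; exact H.mul_mem hxH this
  have h4 := h.B_inf_H h2 h3
  have h5 : b * x = x * b := by
    have : x * b = (x * b * x⁻¹ * b⁻¹) * (b * x) := by group
    rw [this, h4, one_mul]
  exact h.B_fpf hb hb1 hxH h5

theorem frattini (g : G) : ∃ k ∈ K, k⁻¹ * g ∈ Subgroup.normalizer (Bsub C₁ : Set G) := by
  set B' : Subgroup G := (Bsub C₁).map (MulAut.conj g).toMonoidHom with hB'
  have hB'K : B' ≤ K := by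
    rintro _ ⟨b, hb, rfl⟩
    exact Subgroup.Normal.conj_mem inferInstance b (B_le hb) g
  have hcardB' : Nat.card B' = Nat.card C₁ := by
    rw [← card_B (C₁ := C₁)]
    exact Nat.card_congr (Subgroup.equivMapOfInjective _ _ (MulAut.conj g).injective).toEquiv.symm
  have hcardK₂ : Nat.card (B'.subgroupOf K) = Nat.card C₁ := by
    rw [← hcardB']
    exact Nat.card_congr (Subgroup.subgroupOfEquivOfLe hB'K).toEquiv
  haveI : Group.IsNilpotent (H.subgroupOf K) := nilpotent h.hC₁ h.hK₁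
  have hsolv : Group.IsSolvable (H.subgroupOf K) := IsNilpotent.to_isSolvable
  have h₁ : (H.subgroupOf K).IsComplement' C₁ := isComplement' h.hC₁ h.hK₁
  have hidx : (H.subgroupOf K).index = Nat.card C₁ := h₁.symm.index_eq_card
  have hcop : (Nat.card (H.subgroupOf K)).Coprime (H.subgroupOf K).index := by
    rw [hidx]; exact coprime h.hC₁ h.hK₁
  have h₂ : (H.subgroupOf K).IsComplement' (B'.subgroupOf K) := by
    apply Subgroup.isComplement'_of_coprime
    · rw [hcardK₂]; exact card_mul h.hC₁ h.hK₁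
    · rw [hcardK₂]; exact coprime h.hC₁ h.hK₁
  obtain ⟨k, hk⟩ := Helper24.sz_conj (H.subgroupOf K) hsolv hcop C₁ (B'.subgroupOf K) h₁ h₂
  refine ⟨(k : G), k.2, ?_⟩
  apply mem_normalizer_of_forall_conj_mem
  intro b hb
  have hgb : g * b * g⁻¹ ∈ B' := ⟨b, hb, rfl⟩
  have hmem : (⟨g * b * g⁻¹, hB'K hgb⟩ : ↥K) ∈ B'.subgroupOf K := Subgroup.mem_subgroupOf.mpr hgb
  rw [hk] at hmem
  obtain ⟨c, hc, hc'⟩ := hmem
  have hc'' : (k : G) * c * (k : G)⁻¹ = g * b * g⁻¹ := by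
    have := congrArg Subtype.val hc'
    simpa using this
  have e : ((k : G)⁻¹ * g) * b * ((k : G)⁻¹ * g)⁻¹ = (k : G)⁻¹ * (g * b * g⁻¹) * k := by group
  rw [e, ← hc'']
  have e2 : (k : G)⁻¹ * ((k : G) * c * (k : G)⁻¹) * k = c := by group
  rw [e2]
  exact mem_B_iff.mpr ⟨c.2, hc⟩

/-- the isomorphism `N_G(B) ≅ G/H` -/
def fF (H : Subgroup G) [H.Normal] {K : Subgroup G} (C₁ : Subgroup ↥K) :
    ↥(Subgroup.normalizer (Bsub C₁ : Set G)) →* G ⧸ H :=
  (QuotientGroup.mk' H).comp (Subgroup.normalizer (Bsub C₁ : Set G)).subtype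

theorem fF_injective : Function.Injective (fF H C₁) := by
  rw [injective_iff_map_eq_one]
  intro x hx
  have : (x : G) ∈ H := (QuotientGroup.eq_one_iff _).mp hx
  exact Subtype.ext (h.F_inf_H x.2 this)

theorem fF_surjective : Function.Surjective (fF H C₁) := by
  intro y
  obtain ⟨g, rfl⟩ := QuotientGroup.mk'_surjective H y
  obtain ⟨k, hk, hkg⟩ := h.frattini g
  obtain ⟨n, hn, b, hb, rfl⟩ := h.K_eq_mul hk
  have hbF : b ∈ Subgroup.normalizer (Bsub C₁ : Set G) := Subgroup.le_normalizer hb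
  refine ⟨⟨b * ((n * b)⁻¹ * g), Subgroup.mul_mem _ hbF hkg⟩, ?_⟩
  show QuotientGroup.mk' H (b * ((n * b)⁻¹ * g)) = QuotientGroup.mk' H g
  have e : g = n * (b * ((n * b)⁻¹ * g)) := by group
  have hn1 : QuotientGroup.mk' H n = 1 := (QuotientGroup.eq_one_iff n).mpr hn
  conv_rhs => rw [e, map_mul, hn1, one_mul]

theorem card_F : Nat.card (Subgroup.normalizer (Bsub C₁ : Set G)) = Nat.card C₁ * K.index := by
  rw [← h.card_GH]
  exact Nat.card_congr (Equiv.ofBijective _ ⟨h.fF_injective, h.fF_surjective⟩)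

theorem card_Hc : Nat.card (C₂.comap (fF H C₁)) = K.index := by
  rw [← h.card_C₂]
  refine Nat.card_congr (Equiv.ofBijective (fun x => (⟨fF H C₁ x, x.2⟩ : C₂)) ⟨?_, ?_⟩)
  · intro a b hab
    have : fF H C₁ a = fF H C₁ b := congrArg Subtype.val hab
    exact Subtype.ext (h.fF_injective this)
  · intro c
    obtain ⟨x, hx⟩ := h.fF_surjective c
    exact ⟨⟨x, by rw [Subgroup.mem_comap, hx]; exact c.2⟩, Subtype.ext hx⟩

theorem card_BF : Nat.card ((Bsub C₁).subgroupOf (Subgroup.normalizer (Bsub C₁ : Set G))) = Nat.card C₁ := by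
  rw [← card_B (C₁ := C₁)]
  exact Nat.card_congr (Subgroup.subgroupOfEquivOfLe Subgroup.le_normalizer).toEquiv

theorem F_frobenius : IsFrobeniusComplement (C₂.comap (fF H C₁)) ∧
    frobeniusKernel (C₂.comap (fF H C₁)) =
      (((Bsub C₁).subgroupOf (Subgroup.normalizer (Bsub C₁ : Set G)) :
        Subgroup ↥(Subgroup.normalizer (Bsub C₁ : Set G))) : Set ↥(Subgroup.normalizer (Bsub C₁ : Set G))) := by
  haveI : ((Bsub C₁).subgroupOf (Subgroup.normalizer (Bsub C₁ : Set G))).Normal :=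
    Subgroup.normal_in_normalizer
  apply Helper60.frobenius_of_fpf
  · apply Subgroup.isComplement'_of_coprime
    · rw [h.card_BF, h.card_Hc, h.card_F]
    · rw [h.card_BF, h.card_Hc]; exact h.coprime_idx
  · intro e
    have := h.card_BF
    rw [e, Subgroup.card_bot] at this
    exact h.hC₁.1 (Subgroup.card_eq_one.mp this.symm)
  · intro e
    have := h.card_Hc
    rw [e, Subgroup.card_bot, ← h.card_C₂] at this
    exact h.hC₂.1 (Subgroup.card_eq_one.mp this.symm)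
  · intro c hc hc1 k hk hck
    have hc' : fF H C₁ c ∈ C₂ := hc
    have hc1' : fF H C₁ c ≠ 1 := by
      intro e
      apply hc1
      apply h.fF_injective
      rw [e, map_one]
    have hk' : fF H C₁ k ∈ K.map (QuotientGroup.mk' H) :=
      h.mk_mem_Kb_iff.mpr (B_le (Subgroup.mem_subgroupOf.mp hk))
    have hcomm : fF H C₁ c * fF H C₁ k = fF H C₁ k * fF H C₁ c := by
      rw [← map_mul, ← map_mul, hck]
    have := h.Q_fpf hc' hc1' hk' hcomm
    apply h.fF_injective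
    rw [this, map_one]

/-- a nontrivial abelian normal `p`-subgroup of `G` inside `H` -/
theorem exists_V {p : ℕ} (hp : p.Prime) (hpd : p ∣ Nat.card H) :
    ∃ V : Subgroup G, V.Normal ∧ V ≤ H ∧ V ≠ ⊥ ∧ IsPGroup p V ∧ IsMulCommutative V := by
  haveI := Fact.mk hp
  haveI hnil := h.H_nilpotent
  obtain ⟨P⟩ : Nonempty (Sylow p H) := inferInstance
  have htfae : Group.IsNilpotent H ↔
      ∀ (p : ℕ), Fact (Nat.Prime p) → ∀ (P : Sylow p H), (P : Subgroup H).Normal :=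
    (Group.isNilpotent_of_finite_tfae (G := H)).out 0 3
  have hPn : (P : Subgroup H).Normal := htfae.mp hnil p inferInstance P
  haveI hPc : (P : Subgroup H).Characteristic := P.characteristic_of_normal hPn
  set PG : Subgroup G := (P : Subgroup H).map H.subtype with hPG
  haveI hPGn : PG.Normal := ConjAct.normal_of_characteristic_of_normal
  have hPGp : IsPGroup p PG := P.2.map H.subtype
  have hPGH : PG ≤ H := Subgroup.map_subtype_le _
  have hcardPG : Nat.card PG = Nat.card P :=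
    Nat.card_congr (Subgroup.equivMapOfInjective _ _ H.subtype_injective).toEquiv.symm
  haveI : Nontrivial PG := by
    rw [← Finite.one_lt_card_iff_nontrivial, hcardPG]
    have := Nat.le_of_dvd Nat.card_pos (P.dvd_card_of_dvd_card hpd)
    have := hp.one_lt
    omega
  have hcen := hPGp.center_nontrivial
  obtain ⟨z, hz1⟩ := exists_ne (1 : Subgroup.center PG)
  refine ⟨PG ⊓ Subgroup.centralizer (PG : Set G), inferInstance, inf_le_left.trans hPGH, ?_,
    hPGp.to_le inf_le_left, ?_⟩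
  · intro e
    have hmem : ((z : PG) : G) ∈ PG ⊓ Subgroup.centralizer (PG : Set G) := by
      refine ⟨(z : PG).2, ?_⟩
      show ((z : PG) : G) ∈ Subgroup.centralizer (PG : Set G)
      rw [Subgroup.mem_centralizer_iff]
      intro y hy
      have := Subgroup.mem_center_iff.mp z.2 ⟨y, hy⟩
      exact congrArg Subtype.val this
    rw [e, Subgroup.mem_bot] at hmem
    apply hz1
    exact Subtype.ext (Subtype.ext hmem)
  · refine ⟨⟨fun a b => ?_⟩⟩
    have := Subgroup.mem_centralizer_iff.mp b.2.2 a a.2.1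
    exact Subtype.ext this

theorem exists_order_mixed {p q : ℕ} (hp : p.Prime) (hq : q.Prime) (hpq : p ≠ q)
    (hpd : p ∣ Nat.card H) (hqd : q ∣ K.index) : ∃ g : G, orderOf g = p * q := by
  haveI := Fact.mk hp
  haveI := Fact.mk hq
  obtain ⟨V, hVn, hVH, hV1, hVp, hVab⟩ := h.exists_V hp hpd
  obtain ⟨hHc, hker⟩ := h.F_frobenius
  have hFV : Subgroup.normalizer (Bsub C₁ : Set G) ≤ Subgroup.normalizer (V : Set G) := by
    rw [Subgroup.normalizer_eq_top V]; exact le_top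
  have hcardV : Nat.card V ∣ Nat.card H := Subgroup.card_dvd_of_le hVH
  have hcop : (Nat.card V).Coprime (Nat.card (frobeniusKernel (C₂.comap (fF H C₁)))) := by
    rw [hker]
    have e : Nat.card ((((Bsub C₁).subgroupOf (Subgroup.normalizer (Bsub C₁ : Set G)) :
        Subgroup ↥(Subgroup.normalizer (Bsub C₁ : Set G))) : Set ↥(Subgroup.normalizer (Bsub C₁ : Set G))))
        = Nat.card C₁ := h.card_BF
    rw [e]
    exact Nat.Coprime.coprime_dvd_left hcardV h.coprime_H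
  have hCK : V ⊓ Subgroup.centralizer (Subtype.val '' frobeniusKernel (C₂.comap (fF H C₁)) : Set G) = ⊥ := by
    rw [Subgroup.eq_bot_iff_forall]
    intro x hx
    obtain ⟨b, hb, hb1⟩ := h.exists_B_ne_one
    have hbmem : b ∈ (Subtype.val '' frobeniusKernel (C₂.comap (fF H C₁)) : Set G) := by
      rw [hker]
      exact ⟨⟨b, Subgroup.le_normalizer hb⟩, Subgroup.mem_subgroupOf.mpr hb, rfl⟩
    have hcomm := Subgroup.mem_centralizer_iff.mp hx.2 b hbmem
    exact h.B_fpf hb hb1 (hVH hx.1) hcomm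
  have hres := Cfsg.Agent.S0666.result V (Subgroup.normalizer (Bsub C₁ : Set G)) hVab hV1 hFV
    (C₂.comap (fF H C₁)) hHc hcop hCK
  obtain ⟨v, hv, hv1⟩ : ∃ v ∈ V ⊓ Subgroup.centralizer
      (((C₂.comap (fF H C₁)).map (Subgroup.normalizer (Bsub C₁ : Set G)).subtype : Subgroup G) : Set G), v ≠ 1 := by
    by_contra hcon
    push Not at hcon
    exact hres ((Subgroup.eq_bot_iff_forall _).mpr hcon)
  -- element of order `q` in the complement
  have hcardC' : Nat.card ((C₂.comap (fF H C₁)).map (Subgroup.normalizer (Bsub C₁ : Set G)).subtype) = K.index := by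
    rw [← h.card_Hc]
    exact Nat.card_congr (Subgroup.equivMapOfInjective _ _ (Subgroup.subtype_injective _)).toEquiv.symm
  obtain ⟨c, hc⟩ := exists_prime_orderOf_dvd_card' (G := (C₂.comap (fF H C₁)).map (Subgroup.normalizer (Bsub C₁ : Set G)).subtype) q (by rw [hcardC']; exact hqd)
  have hco : orderOf (c : G) = q := by rw [Subgroup.orderOf_coe, hc]
  -- a power of `v` of order `p`
  obtain ⟨k, hk⟩ := (IsPGroup.iff_orderOf.mp hVp) ⟨v, hv.1⟩
  rw [Subgroup.orderOf_mk] at hk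
  have hk0 : k ≠ 0 := by
    rintro rfl
    rw [pow_zero] at hk
    exact hv1 (orderOf_eq_one_iff.mp hk)
  have hpv : p ∣ orderOf v := by rw [hk]; exact dvd_pow_self p hk0
  obtain ⟨m, hm⟩ := exists_pow_orderOf_eq_of_dvd hpv
  have hcomm : Commute (v ^ m) (c : G) := by
    have : (c : G) * v = v * c := Subgroup.mem_centralizer_iff.mp hv.2 c c.2
    exact (Commute.pow_left (show Commute v (c : G) from this.symm) m)
  refine ⟨v ^ m * c, ?_⟩
  rw [hcomm.orderOf_mul_eq_mul_orderOf_of_coprime, hm, hco]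
  rw [hm, hco]
  exact (Nat.coprime_primes hp hq).mpr hpq

end Hyp

end Cfsg.Agent.Helper61.TwoFrob
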