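import Mathlib
import Cfsg.Agent.Lib.Helper98.UT1
import Cfsg.Agent.Lib.Helper66.UTE1a
import Cfsg.Agent.Lib.Helper42.UTD1

/-!
# UT pieces (V2a) `yEl_inv`, (V2b) `lEl_inv`, (V2c) `dEl_inv` (helper98 server, S2283)
-/

set_option autoImplicit false
set_option quotPrecheck false
set_option linter.unusedSectionVars false
set_option linter.unusedVariables false

namespace Cfsg.Agent.Helper61.UT

open Matrix Cfsg Cfsg.Agent.Helper13 Cfsg.Agent.Helper87.PsuA Cfsg.Agent.Helper87.PsuB0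
  Cfsg.Agent.Helper98.UT

variable {F : Type*} [Field F] [Fintype F] {q : ℕ}

local notation "G" => ↥(Cfsg.SU 3 F q)
local notation "H" => Cfsg.hermForm 3 F q

variable (hF : Fintype.card F = q ^ 2) {b : Fin 3 → Fin 3 → F}

theorem h61_H22 (hb : HB q b) : H (b 2) (b 2) = 0 := by
  rw [hb 2 2]
  simp [Fin.rev]

theorem h61_H21 (hb : HB q b) : H (b 2) (b 1) = 0 := by
  rw [hb 2 1]
  simp [Fin.rev]

theorem h61_H2w (hb : HB q b) (c : F) : H (b 2) (c • b 1) = 0 := by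
  rw [hermForm_smul_right, h61_H21 hb, mul_zero]

/-- (V2a) `eich_inv` -/
theorem yEl_inv (hb : HB q b) (a β : F) (hab : β + β ^ q + a * a ^ q = 0) :
    (yEl hF b a β)⁻¹ = yEl hF b (-a) (β ^ q) :=
  Cfsg.Agent.Helper66.UT.h66_yEl_inv hF hb a β hab

/-- (V2b) -/
theorem lEl_inv (hb : HB q b) (a β : F) (hab : β + β ^ q + a * a ^ q = 0) :
    (lEl hF b a β)⁻¹ = lEl hF b (-a) (β ^ q) := by
  unfold lEl
  rw [eich_inv hF (h61_H22 hb) (h61_H2w hb _) (Cfsg.Agent.Helper66.UT.h66_cond hF hb a β hab),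
    frob_neg hF, neg_neg, neg_smul, neg_neg]

/-- (V2c) (`ext_b` + `dEl_act`) -/
theorem dEl_inv (hb : HB q b) (d0 d1 d2 : F) (h02 : d0 * d2 ^ q = 1) (h11 : d1 * d1 ^ q = 1)
    (hdet : d0 * d1 * d2 = 1) :
    (dEl hF b d0 d1 d2)⁻¹ = dEl hF b d0⁻¹ d1⁻¹ d2⁻¹ := by
  have hd0 : d0 ≠ 0 := by
    rintro rfl
    rw [zero_mul] at h02
    exact zero_ne_one h02
  have hd1 : d1 ≠ 0 := by
    rintro rfl
    rw [zero_mul] at h11
    exact zero_ne_one h11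
  have hd2 : d2 ≠ 0 := by
    rintro rfl
    rw [mul_zero] at hdet
    exact zero_ne_one hdet
  have h02' : d0⁻¹ * d2⁻¹ ^ q = 1 := by
    rw [inv_pow, ← mul_inv, h02, inv_one]
  have h11' : d1⁻¹ * d1⁻¹ ^ q = 1 := by
    rw [inv_pow, ← mul_inv, h11, inv_one]
  have hdet' : d0⁻¹ * d1⁻¹ * d2⁻¹ = 1 := by
    rw [← mul_inv, ← mul_inv, hdet, inv_one]
  obtain ⟨e0, e1, e2⟩ := Cfsg.Agent.Helper42.UT.dEl_act hF hb d0 d1 d2 h02 h11 hdet
  obtain ⟨f0, f1, f2⟩ := Cfsg.Agent.Helper42.UT.dEl_act hF hb d0⁻¹ d1⁻¹ d2⁻¹ h02' h11' hdet'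
  have key : ∀ (g : G) (d : F) (v : Fin 3 → F), d ≠ 0 → actv g v = d • v →
      actv g⁻¹ v = d⁻¹ • v := by
    intro g d v hd hg
    have h1 := actv_inv g v (d • v) hg
    rw [actv_smul] at h1
    rw [← h1, smul_smul, inv_mul_cancel₀ hd, one_smul]
    rw [h1]
  apply ext_b hb
  intro i
  fin_cases i
  · exact (key _ d0 _ hd0 e0).trans f0.symm
  · exact (key _ d1 _ hd1 e1).trans f1.symm
  · exact (key _ d2 _ hd2 e2).trans f2.symm

end Cfsg.Agent.Helper61.UT
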