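import Mathlib
import Cfsg.Agent.Lib.Helper98.UT1
import Cfsg.Agent.Lib.Helper66.UTE1a
import Cfsg.Agent.Lib.Helper42.UTD1
import Cfsg.Agent.Lib.Helper61.UTV2

/-!
# UT pieces (V1a) `yEl_vec`, (V1b) `lEl_vec`, (V1c) `dEl_vec` (helper98 server, S2283)
-/

set_option autoImplicit false
set_option quotPrecheck false
set_option linter.unusedSectionVars false
set_option linter.unusedVariables false

namespace Cfsg.Agent.Helper61.UT

open Matrix Cfsg Cfsg.Agent.Helper13 Cfsg.Agent.Helper87.PsuA Cfsg.Agent.Helper87.PsuB0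
  Cfsg.Agent.Helper98.UT

variable {F : Type*} [Field F] [Fintype F] {q : ℕ}

local notation "G" => ↥(Cfsg.SU 3 F q)
local notation "H" => Cfsg.hermForm 3 F q

variable (hF : Fintype.card F = q ^ 2) {b : Fin 3 → Fin 3 → F}

theorem h61_H_vec_b0 (hb : HB q b) (x y z : F) : H (vec b x y z) (b 0) = z := by
  unfold Cfsg.Agent.Helper98.UT.vec
  rw [hermForm_add_left, hermForm_add_left, hermForm_smul_left, hermForm_smul_left,
    hermForm_smul_left, hb 0 0, hb 1 0, hb 2 0]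
  simp [Fin.rev]

theorem h61_H_vec_b1 (hb : HB q b) (x y z : F) : H (vec b x y z) (b 1) = y := by
  unfold Cfsg.Agent.Helper98.UT.vec
  rw [hermForm_add_left, hermForm_add_left, hermForm_smul_left, hermForm_smul_left,
    hermForm_smul_left, hb 0 1, hb 1 1, hb 2 1]
  simp [Fin.rev]

theorem h61_H_vec_b2 (hb : HB q b) (x y z : F) : H (vec b x y z) (b 2) = x := by
  unfold Cfsg.Agent.Helper98.UT.vec
  rw [hermForm_add_left, hermForm_add_left, hermForm_smul_left, hermForm_smul_left,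
    hermForm_smul_left, hb 0 2, hb 1 2, hb 2 2]
  simp [Fin.rev]

/-- (V1a) -/
theorem yEl_vec (hb : HB q b) (a β : F) (hab : β + β ^ q + a * a ^ q = 0) (x y z : F) :
    actv (yEl hF b a β) (vec b x y z) = vec b (x + a * y + β * z) (y - a ^ q * z) z := by
  unfold yEl
  rw [eich_act hF (Cfsg.Agent.Helper66.UT.h66_H00 hb) (Cfsg.Agent.Helper66.UT.h66_H0w hb _)
    (Cfsg.Agent.Helper66.UT.h66_cond hF hb a β hab), hermForm_smul_right, h61_H_vec_b0 hb,
    h61_H_vec_b1 hb, frob_neg hF, frob_frob hF]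
  unfold Cfsg.Agent.Helper98.UT.vec
  module

/-- (V1b) -/
theorem lEl_vec (hb : HB q b) (a β : F) (hab : β + β ^ q + a * a ^ q = 0) (x y z : F) :
    actv (lEl hF b a β) (vec b x y z) = vec b x (y - a ^ q * x) (z + a * y + β * x) := by
  unfold lEl
  rw [eich_act hF (h61_H22 hb) (h61_H2w hb _)
    (Cfsg.Agent.Helper66.UT.h66_cond hF hb a β hab), hermForm_smul_right, h61_H_vec_b2 hb,
    h61_H_vec_b1 hb, frob_neg hF, frob_frob hF]
  unfold Cfsg.Agent.Helper98.UT.vec
  module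

/-- (V1c) -/
theorem dEl_vec (hb : HB q b) (d0 d1 d2 : F) (h02 : d0 * d2 ^ q = 1) (h11 : d1 * d1 ^ q = 1)
    (hdet : d0 * d1 * d2 = 1) (x y z : F) :
    actv (dEl hF b d0 d1 d2) (vec b x y z) = vec b (d0 * x) (d1 * y) (d2 * z) := by
  obtain ⟨e0, e1, e2⟩ := Cfsg.Agent.Helper42.UT.dEl_act hF hb d0 d1 d2 h02 h11 hdet
  unfold Cfsg.Agent.Helper98.UT.vec
  rw [actv_add, actv_add, actv_smul, actv_smul, actv_smul, e0, e1, e2]
  module

end Cfsg.Agent.Helper61.UT
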